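import Mathlib

universe u
open Topology

namespace Groth.Agent.Lib.helper21.ConstrTop

variable {X : Type*} [TopologicalSpace X]

/-- constructible sets are clopen in the constructible topology (compact ambient space) -/
lemma isOpen_constructibleTopology_and_compl [CompactSpace X] {A : Set X}
    (hA : IsConstructible A) :
    IsOpen[constructibleTopology X] A ∧ IsOpen[constructibleTopology X] Aᶜ := by
  induction hA using IsConstructible.empty_union_induction with
  | open_retrocompact U hUopen hUcomp =>
    have hc : IsCompact U := hUcomp.isCompact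
    refine ⟨hc.isOpen_constructibleTopology_of_isOpen hUopen, ?_⟩
    exact IsCompact.isOpen_constructibleTopology_of_isClosed (by rwa [compl_compl])
      hUopen.isClosed_compl
  | union s hs t ht hs' ht' =>
    refine ⟨@IsOpen.union _ _ _ (constructibleTopology X) hs'.1 ht'.1, ?_⟩
    rw [Set.compl_union]
    exact @IsOpen.inter _ (constructibleTopology X) _ _ hs'.2 ht'.2
  | compl s hs hs' =>
    refine ⟨hs'.2, ?_⟩
    rw [compl_compl]
    exact hs'.1

/-- the constructible topology is finer than the original one (prespectral spaces) -/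
lemma isOpen_constructibleTopology_of_isOpen [PrespectralSpace X] {U : Set X} (hU : IsOpen U) :
    IsOpen[constructibleTopology X] U := by
  obtain ⟨S, hS, rfl⟩ := (PrespectralSpace.isTopologicalBasis (X := X)).open_eq_sUnion hU
  refine @isOpen_sUnion _ (constructibleTopology X) _ fun s hs => ?_
  obtain ⟨h1, h2⟩ := hS hs
  exact h2.isOpen_constructibleTopology_of_isOpen h1

lemma continuous_ofTopology [PrespectralSpace X] :
    Continuous (WithTopology.ofTopology : WithConstructibleTopology X → X) := by
  refine ⟨fun U hU => ?_⟩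
  rw [WithConstructibleTopology.isOpen_iff]
  exact isOpen_constructibleTopology_of_isOpen hU

/-- constructible subsets of a spectral space are compact -/
lemma isCompact_of_isConstructible [CompactSpace X] [QuasiSober X] [PrespectralSpace X]
    [QuasiSeparatedSpace X] {A : Set X} (hA : IsConstructible A) : IsCompact A := by
  have h1 : IsClosed ((WithTopology.ofTopology : WithConstructibleTopology X → X) ⁻¹' A) := by
    rw [← isOpen_compl_iff, WithConstructibleTopology.isOpen_iff]
    exact (isOpen_constructibleTopology_and_compl hA).2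
  have h2 := h1.isCompact.image continuous_ofTopology
  rwa [Set.image_preimage_eq _ (WithTopology.ofTopology_surjective _)] at h2

/-- a cover by constructible sets has a finite subcover -/
lemma exists_finite_subcover_of_isConstructible [CompactSpace X] [QuasiSober X]
    [PrespectralSpace X] [QuasiSeparatedSpace X] {ι : Type*} (A : ι → Set X)
    (hA : ∀ i, IsConstructible (A i)) (hcov : (⋃ i, A i) = Set.univ) :
    ∃ t : Finset ι, (⋃ i ∈ t, A i) = Set.univ := by
  obtain ⟨t, ht⟩ := isCompact_univ.elim_finite_subcover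
    (fun i => (WithTopology.ofTopology : WithConstructibleTopology X → X) ⁻¹' A i)
    (fun i => by
      rw [WithConstructibleTopology.isOpen_iff]
      exact (isOpen_constructibleTopology_and_compl (hA i)).1)
    (fun y _ => by
      have : WithTopology.ofTopology y ∈ ⋃ i, A i := by rw [hcov]; trivial
      obtain ⟨i, hi⟩ := Set.mem_iUnion.1 this
      exact Set.mem_iUnion.2 ⟨i, hi⟩)
  refine ⟨t, Set.eq_univ_of_forall fun x => ?_⟩
  have := ht (Set.mem_univ (WithTopology.toTopology _ x))
  simpa using this

/-- a locally closed constructible subset of a spectral space is `U \ V` for compact opens -/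
lemma exists_compact_opens_of_isLocallyClosed [CompactSpace X] [QuasiSober X]
    [PrespectralSpace X] [QuasiSeparatedSpace X] {Z : Set X} (hZ : IsLocallyClosed Z)
    (hc : IsConstructible Z) :
    ∃ U V : Set X, IsOpen U ∧ IsCompact U ∧ IsOpen V ∧ IsCompact V ∧ V ⊆ U ∧ Z = U \ V := by
  obtain ⟨O, C, hO, hC, rfl⟩ := hZ
  have hZc : IsCompact (O ∩ C) := isCompact_of_isConstructible hc
  have hbasis := PrespectralSpace.isTopologicalBasis (X := X)
  have hB : ∀ z ∈ O ∩ C, ∃ B : Set X, (IsOpen B ∧ IsCompact B) ∧ z ∈ B ∧ B ⊆ O := fun z hz =>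
    hbasis.exists_subset_of_mem_open hz.1 hO
  choose! B hBoc hzB hBO using hB
  obtain ⟨t, ht⟩ := hZc.elim_finite_subcover (fun z : ↥(O ∩ C) => B z.1)
    (fun z => (hBoc z.1 z.2).1) (fun z hz => Set.mem_iUnion.2 ⟨⟨z, hz⟩, hzB z hz⟩)
  let U : Set X := ⋃ z ∈ t, B z.1
  have hUo : IsOpen U := isOpen_biUnion fun z _ => (hBoc z.1 z.2).1
  have hUc : IsCompact U := t.isCompact_biUnion fun z _ => (hBoc z.1 z.2).2
  have hUO : U ⊆ O := Set.iUnion₂_subset fun z _ => hBO z.1 z.2
  have hZU : O ∩ C = U ∩ C := by
    apply Set.Subset.antisymm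
    · exact fun z hz => ⟨ht hz, hz.2⟩
    · exact fun z hz => ⟨hUO hz.1, hz.2⟩
  have hVo : IsOpen (U ∩ Cᶜ) := hUo.inter hC.isOpen_compl
  have hVcons : IsConstructible (U ∩ Cᶜ) := by
    have : U ∩ Cᶜ = U \ (O ∩ C) := by
      rw [hZU]
      ext z
      simp only [Set.mem_inter_iff, Set.mem_compl_iff, Set.mem_diff, not_and]
      exact ⟨fun h => ⟨h.1, fun _ => h.2⟩, fun h => ⟨h.1, h.2 h.1⟩⟩
    rw [this]
    exact (hUc.isConstructible hUo).sdiff hc
  refine ⟨U, U ∩ Cᶜ, hUo, hUc, hVo, isCompact_of_isConstructible hVcons, Set.inter_subset_left, ?_⟩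
  rw [hZU]
  ext z
  simp only [Set.mem_inter_iff, Set.mem_diff, Set.mem_compl_iff, not_and, not_not]
  exact ⟨fun h => ⟨h.1, fun _ => h.2⟩, fun h => ⟨h.1, h.2 h.1⟩⟩

/-- images of constructible sets under an embedding with locally closed constructible range -/
lemma isConstructible_image_of_isEmbedding [CompactSpace X] [QuasiSober X]
    [PrespectralSpace X] [QuasiSeparatedSpace X] {T : Type*} [TopologicalSpace T] (g : T → X)
    (hg : IsEmbedding g) (hZl : IsLocallyClosed (Set.range g))
    (hZc : IsConstructible (Set.range g)) {A : Set T} (hA : IsConstructible A) :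
    IsConstructible (g '' A) := by
  obtain ⟨U, V, hUo, hUc, hVo, hVc, hVU, hZ⟩ := exists_compact_opens_of_isLocallyClosed hZl hZc
  have hgU : ∀ t, g t ∈ U := fun t => by
    have : g t ∈ Set.range g := ⟨t, rfl⟩
    rw [hZ] at this
    exact this.1
  let c : T → ↥U := Set.codRestrict g U hgU
  have hce : IsEmbedding c := hg.codRestrict U hgU
  have hrange : Set.range c = ((Subtype.val : ↥U → X) ⁻¹' V)ᶜ := by
    ext ⟨x, hx⟩
    simp only [Set.mem_range, Set.mem_compl_iff, Set.mem_preimage]
    constructor
    · rintro ⟨t, ht⟩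
      have h1 : g t = x := congrArg Subtype.val ht
      have : g t ∈ Set.range g := ⟨t, rfl⟩
      rw [hZ, h1] at this
      exact this.2
    · intro hxV
      have : x ∈ Set.range g := by rw [hZ]; exact ⟨hx, hxV⟩
      obtain ⟨t, ht⟩ := this
      exact ⟨t, Subtype.ext ht⟩
  have hVo' : IsOpen ((Subtype.val : ↥U → X) ⁻¹' V) := hVo.preimage continuous_subtype_val
  have hcc : IsClosedEmbedding c := ⟨hce, by rw [hrange]; exact hVo'.isClosed_compl⟩
  haveI : QuasiSeparatedSpace ↥U :=
    QuasiSeparatedSpace.of_isOpenEmbedding hUo.isOpenEmbedding_subtypeVal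
  have hVc' : IsCompact ((Subtype.val : ↥U → X) ⁻¹' V) := by
    rw [IsInducing.subtypeVal.isCompact_preimage_iff]
    · exact hVc
    · rw [Subtype.range_coe]; exact hVU
  have h1 : IsConstructible (c '' A) := by
    refine hA.image_of_isClosedEmbedding hcc ?_
    rw [hrange, compl_compl]
    exact hVc'.isRetrocompact hVo'
  have h2 : IsConstructible ((Subtype.val : ↥U → X) '' (c '' A)) := by
    refine h1.image_of_isOpenEmbedding hUo.isOpenEmbedding_subtypeVal ?_
    rw [Subtype.range_coe]
    exact hUc.isRetrocompact hUo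
  rw [Set.image_image] at h2
  exact h2

end Groth.Agent.Lib.helper21.ConstrTop
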