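import Mathlib

/-!
# Constant sheaves on a site (arbitrary universes): units, local constancy, injectivity of units
-/

open CategoryTheory CategoryTheory.Limits Opposite

namespace Groth.Agent.Lib.Helper21.ConstGerm

universe w v₁ u₁

variable {C : Type u₁} [Category.{v₁} C] (J : GrothendieckTopology C)
  [HasSheafify J AddCommGrpCat.{w}] [J.WEqualsLocallyBijective AddCommGrpCat.{w}]

/-- the constant sheaf -/
noncomputable abbrev cst (A : AddCommGrpCat.{w}) : Sheaf J AddCommGrpCat.{w} :=
  (constantSheaf J AddCommGrpCat.{w}).obj A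

/-- the unit `A → A_X(T)` -/
noncomputable def eta (A : AddCommGrpCat.{w}) (T : Cᵒᵖ) : A ⟶ (cst J A).obj.obj T :=
  (toSheafify J ((Functor.const Cᵒᵖ).obj A)).app T

lemma eta_nat (A : AddCommGrpCat.{w}) {T T' : Cᵒᵖ} (f : T ⟶ T') (a : A) :
    (cst J A).obj.map f (eta J A T a) = eta J A T' a := by
  have h := ConcreteCategory.congr_hom
    ((toSheafify J ((Functor.const Cᵒᵖ).obj A)).naturality f) a
  rw [ConcreteCategory.comp_apply, ConcreteCategory.comp_apply] at h
  exact h.symm

lemma local_const (A : AddCommGrpCat.{w}) (V : C) (s : (cst J A).obj.obj (op V)) :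
    ∃ S ∈ J V, ∀ ⦃W : C⦄ (f : W ⟶ V), S f →
      ∃ a : A, (cst J A).obj.map f.op s = eta J A (op W) a := by
  refine ⟨_, Presheaf.imageSieve_mem J (toSheafify J ((Functor.const Cᵒᵖ).obj A)) s, ?_⟩
  rintro W f ⟨t, ht⟩
  exact ⟨t, ht.symm⟩

lemma eta_inj (A : AddCommGrpCat.{w}) (W : C) (a a' : A)
    (h : eta J A (op W) a = eta J A (op W) a') : a = a' ∨ ⊥ ∈ J W := by
  by_cases haa : a = a'
  · exact Or.inl haa
  · right
    have hm := Presheaf.equalizerSieve_mem J (toSheafify J ((Functor.const Cᵒᵖ).obj A)) a a' h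
    refine J.superset_covering ?_ hm
    intro Y f hf
    exact (haa hf).elim

end Groth.Agent.Lib.Helper21.ConstGerm
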