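import Mathlib
import Groth.Prelude.Def_EtBase
import Groth.Prelude.Def_EtCore

/-!
# Coproduct cofans in the small étale site are jointly surjective; Galois coverings
-/

set_option autoImplicit false

namespace Groth.Agent.Lib.Helper21.EtGalois

open CategoryTheory Limits Opposite AlgebraicGeometry

universe u w

variable {X : Scheme.{u}}

/-- morphisms of the small etale site are etale -/
theorem etale_left {U V : X.Etale} (g : V ⟶ U) : AlgebraicGeometry.Etale g.left := by
  have h1 : AlgebraicGeometry.Etale V.hom := V.prop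
  have h2 : AlgebraicGeometry.Etale U.hom := U.prop
  have e : g.left ≫ U.hom = V.hom := MorphismProperty.Over.w g
  have h3 : AlgebraicGeometry.Etale (g.left ≫ U.hom) := e ▸ h1
  exact MorphismProperty.of_postcomp (W := @AlgebraicGeometry.Etale)
    (W' := @AlgebraicGeometry.Etale) g.left U.hom h2 h3

/-- the open subscheme of an étale `X`-scheme, as an étale `X`-scheme -/
noncomputable def openObj (P : X.Etale) (W : P.left.Opens) : X.Etale :=
  MorphismProperty.Over.mk ⊤ (W.ι ≫ P.hom) (by
    haveI : AlgebraicGeometry.Etale P.hom := P.prop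
    show AlgebraicGeometry.Etale (W.ι ≫ P.hom)
    infer_instance)

/-- the inclusion of an open subscheme -/
noncomputable def openι (P : X.Etale) (W : P.left.Opens) : openObj P W ⟶ P :=
  MorphismProperty.Over.homMk W.ι rfl trivial

/-- a colimit cofan of the small étale site is jointly surjective -/
theorem jointly_surjective_of_isColimit {I : Type w} {Z : I → X.Etale} {P : X.Etale}
    (inc : ∀ i, Z i ⟶ P) (h : IsColimit (Cofan.mk P inc)) (z : P.left) :
    ∃ (i : I) (y : (Z i).left), (inc i).left.base y = z := by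
  have hopen : ∀ i, IsOpen (Set.range (inc i).left.base) := by
    intro i
    haveI := etale_left (inc i)
    exact (inc i).left.isOpenMap.isOpen_range
  let W : P.left.Opens := ⟨⋃ i, Set.range (inc i).left.base, isOpen_iUnion hopen⟩
  have hr : ∀ i, Set.range (inc i).left.base ⊆ Set.range W.ι.base := by
    intro i
    rw [Scheme.Opens.range_ι]
    exact Set.subset_iUnion (fun i => Set.range (inc i).left.base) i
  let l : ∀ i, (Z i).left ⟶ W.toScheme := fun i =>
    IsOpenImmersion.lift W.ι (inc i).left (hr i)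
  have hl : ∀ i, l i ≫ W.ι = (inc i).left := fun i => IsOpenImmersion.lift_fac _ _ _
  let k : ∀ i, Z i ⟶ openObj P W := fun i =>
    MorphismProperty.Over.homMk (l i) (by
      show l i ≫ W.ι ≫ P.hom = (Z i).hom
      rw [← Category.assoc, hl]
      exact MorphismProperty.Over.w (inc i)) trivial
  have hk : ∀ i, k i ≫ openι P W = inc i := by
    intro i
    apply MorphismProperty.Over.Hom.ext
    exact hl i
  let d : P ⟶ openObj P W := h.desc (Cofan.mk (openObj P W) k)
  have hd : ∀ i, inc i ≫ d = k i := fun i => h.fac (Cofan.mk (openObj P W) k) ⟨i⟩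
  have hid : d ≫ openι P W = 𝟙 P := by
    apply h.hom_ext
    rintro ⟨i⟩
    show inc i ≫ d ≫ openι P W = inc i ≫ 𝟙 P
    rw [← Category.assoc, hd, hk, Category.comp_id]
  have hz : W.ι.base (d.left.base z) = z := by
    have := congrArg (fun f : P ⟶ P => f.left.base z) hid
    exact this
  have hzW : z ∈ (W : Set P.left) := by
    rw [← hz]
    exact (d.left.base z).2
  obtain ⟨i, y, hy⟩ := Set.mem_iUnion.1 hzW
  exact ⟨i, y, hy⟩

end Groth.Agent.Lib.Helper21.EtGalois

namespace Groth.Agent.Lib.Helper21.EtGalois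

open CategoryTheory Limits Opposite AlgebraicGeometry

universe u w

variable {X : Scheme.{u}}

/-- gluing of sections of a sheaf of abelian groups along a jointly surjective family of arrows -/
lemma glue_arrows' (F : EtCoh.Ab X) {B : X.Etale} {I : Type w} (Y : I → X.Etale)
    (π : ∀ i, Y i ⟶ B) (h : ∀ b : B.left, ∃ (i : I) (y : (Y i).left), (π i).left.base y = b)
    (x : ∀ i, F.obj.obj (op (Y i)))
    (hx : ∀ (i j : I) (Z : X.Etale) (gi : Z ⟶ Y i) (gj : Z ⟶ Y j), gi ≫ π i = gj ≫ π j →
      F.obj.map gi.op (x i) = F.obj.map gj.op (x j)) :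
    ∃! t : F.obj.obj (op B), ∀ i, F.obj.map (π i).op t = x i := by
  have hmem : Sieve.ofArrows Y π ∈ X.smallEtaleTopology B := by
    rw [Scheme.ofArrows_mem_smallEtaleTopology_iff]
    ext b
    simp only [Set.mem_iUnion, Set.mem_range, Set.mem_univ, iff_true]
    obtain ⟨i, y, hy⟩ := h b
    exact ⟨i, y, hy⟩
  have h1 : Presieve.IsSheaf X.smallEtaleTopology (F.obj ⋙ forget AddCommGrpCat.{u + 1}) :=
    (isSheaf_iff_isSheaf_of_type X.smallEtaleTopology _).1
      ((Presheaf.isSheaf_iff_isSheaf_forget X.smallEtaleTopology F.obj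
        (forget AddCommGrpCat.{u + 1})).1 F.property)
  have h2 := h1 _ hmem
  rw [Sieve.ofArrows, ← Presieve.isSheafFor_iff_generate, Presieve.isSheafFor_arrows_iff] at h2
  exact h2 x hx

/-- sheaves are separated for jointly surjective families -/
lemma sep_arrows (F : EtCoh.Ab X) {B : X.Etale} {I : Type w} (Y : I → X.Etale)
    (π : ∀ i, Y i ⟶ B) (h : ∀ b : B.left, ∃ (i : I) (y : (Y i).left), (π i).left.base y = b)
    (s t : F.obj.obj (op B)) (hst : ∀ i, F.obj.map (π i).op s = F.obj.map (π i).op t) : s = t := by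
  obtain ⟨r, -, hr⟩ := glue_arrows' F Y π h (fun i => F.obj.map (π i).op t) (by
    intro i j Z gi gj hg
    show (F.obj.map (π i).op ≫ F.obj.map gi.op) t = (F.obj.map (π j).op ≫ F.obj.map gj.op) t
    rw [← Functor.map_comp, ← Functor.map_comp, ← op_comp, ← op_comp, hg])
  exact (hr s hst).trans (hr t (fun _ => rfl)).symm

lemma map_comp_apply (F : EtCoh.Ab X) {A B C : X.Etale} (f : A ⟶ B) (g : B ⟶ C)
    (s : F.obj.obj (op C)) :
    F.obj.map (f ≫ g).op s = F.obj.map f.op (F.obj.map g.op s) := by
  rw [op_comp, Functor.map_comp]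
  rfl

lemma map_id_apply (F : EtCoh.Ab X) {A : X.Etale} (s : F.obj.obj (op A)) :
    F.obj.map (𝟙 A).op s = s := by
  rw [op_id, CategoryTheory.Functor.map_id]
  rfl

/-- Sections over a Galois covering: `F(X) = F(Y)^G`. -/
theorem galois_main (Y : X.Etale) (hY : Function.Surjective Y.hom.base)
    {G : Type w} [Group G] (σ : G →* Aut Y) [HasBinaryProduct Y Y]
    (hgal : IsColimit (Cofan.mk (Y ⨯ Y) (fun g : G => prod.lift (𝟙 Y) (σ g).hom)))
    (F : EtCoh.Ab X) :
    Function.Injective (F.obj.map ((EtCore.topIsTerminal X).from Y).op) ∧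
      Set.range (F.obj.map ((EtCore.topIsTerminal X).from Y).op) =
        {s : EtCoh.sect F Y | ∀ g : G, F.obj.map (σ g).hom.op s = s} := by
  obtain ⟨f, hf⟩ : ∃ f : Y ⟶ EtCoh.top X, f = (EtCore.topIsTerminal X).from Y := ⟨_, rfl⟩
  rw [← hf]
  have hterm : ∀ {Z : X.Etale} (a b : Z ⟶ EtCoh.top X), a = b :=
    fun a b => (EtCore.topIsTerminal X).hom_ext a b
  have hfl : f.left = Y.hom := by
    have := MorphismProperty.Over.w f
    exact (Category.comp_id f.left).symm.trans this
  have hfs : ∀ b : (EtCoh.top X).left, ∃ (_ : PUnit.{1}) (y : Y.left), f.left.base y = b := by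
    intro b
    obtain ⟨y, hy⟩ := hY b
    exact ⟨⟨⟩, y, by rw [hfl]; exact hy⟩
  have hjs := jointly_surjective_of_isColimit (fun g : G => prod.lift (𝟙 Y) (σ g).hom) hgal
  refine ⟨?_, ?_⟩
  · intro s t hst
    exact sep_arrows F (fun _ : PUnit.{1} => Y) (fun _ => f) hfs s t (fun _ => hst)
  · ext s
    constructor
    · rintro ⟨y, rfl⟩ g
      show F.obj.map (σ g).hom.op (F.obj.map f.op y) = F.obj.map f.op y
      rw [← map_comp_apply, hterm ((σ g).hom ≫ f) f]
    · intro hs
      have hs' : ∀ g : G, F.obj.map (σ g).hom.op s = s := hs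
      have hfs2 : F.obj.map (prod.fst : Y ⨯ Y ⟶ Y).op s = F.obj.map (prod.snd : Y ⨯ Y ⟶ Y).op s := by
        apply sep_arrows F (fun _ : G => Y) (fun g => prod.lift (𝟙 Y) (σ g).hom) hjs
        intro g
        rw [← map_comp_apply, ← map_comp_apply, prod.lift_fst, prod.lift_snd, map_id_apply, hs' g]
      obtain ⟨t, ht, -⟩ := glue_arrows' F (fun _ : PUnit.{1} => Y) (fun _ => f) hfs (fun _ => s) (by
        intro _ _ Z p₁ p₂ _
        have h1 : F.obj.map p₁.op s = F.obj.map (prod.lift p₁ p₂).op (F.obj.map prod.fst.op s) := by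
          rw [← map_comp_apply, prod.lift_fst]
        have h2 : F.obj.map p₂.op s = F.obj.map (prod.lift p₁ p₂).op (F.obj.map prod.snd.op s) := by
          rw [← map_comp_apply, prod.lift_snd]
        rw [h1, h2, hfs2])
      exact ⟨t, ht ⟨⟩⟩

end Groth.Agent.Lib.Helper21.EtGalois
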