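import Mathlib
import Groth.Prelude.Def_EtBase
import Groth.Agent.Lib.Helper21.ConstGerm
import Groth.Agent.Lib.Helper21.EtGalois

/-!
# Finite locally constant étale sheaves on a connected scheme have a single value group
-/

set_option autoImplicit false

open CategoryTheory CategoryTheory.Limits Opposite AlgebraicGeometry

namespace Groth.Agent.Lib.Helper21.FlcConn

open Groth.Agent.Lib.Helper21.ConstGerm Groth.Agent.Lib.Helper21.EtGalois

universe u

variable {X : Scheme.{u}}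

/-- common refinement of two pointed étale schemes over a third -/
lemma exists_common {A B T : X.Etale} (f : A ⟶ T) (g : B ⟶ T) (a : A.left) (b : B.left)
    (hab : f.left.base a = g.left.base b) :
    ∃ (P : X.Etale) (k : P ⟶ A) (k' : P ⟶ B) (z : P.left),
      k ≫ f = k' ≫ g ∧ k.left.base z = a ∧ k'.left.base z = b := by
  haveI : AlgebraicGeometry.Etale g.left := etale_left g
  haveI : AlgebraicGeometry.Etale A.hom := A.prop
  have hfw : f.left ≫ T.hom = A.hom := MorphismProperty.Over.w f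
  have hgw : g.left ≫ T.hom = B.hom := MorphismProperty.Over.w g
  let P : X.Etale := MorphismProperty.Over.mk ⊤ (pullback.fst f.left g.left ≫ A.hom) (by
    show AlgebraicGeometry.Etale (pullback.fst f.left g.left ≫ A.hom)
    infer_instance)
  let k : P ⟶ A := MorphismProperty.Over.homMk (pullback.fst f.left g.left) rfl trivial
  let k' : P ⟶ B := MorphismProperty.Over.homMk (pullback.snd f.left g.left) (by
    show pullback.snd f.left g.left ≫ B.hom = pullback.fst f.left g.left ≫ A.hom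
    rw [← hgw, ← hfw, ← Category.assoc, ← Category.assoc, pullback.condition]) trivial
  obtain ⟨z, hz1, hz2⟩ := Scheme.Pullback.exists_preimage_pullback (f := f.left) (g := g.left) a b hab
  refine ⟨P, k, k', z, ?_, hz1, hz2⟩
  apply MorphismProperty.Over.Hom.ext
  exact pullback.condition

/-- the empty sieve does not cover an object of the localized site with a point -/
lemma not_bot_mem_over (U : X.Etale) (T : Over U) (t : T.left.left) :
    ⊥ ∉ (X.smallEtaleTopology.over U) T := by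
  intro h
  rw [GrothendieckTopology.mem_over_iff] at h
  have eX : X.smallEtaleTopology =
      (X.smallPretopology (P := EtCoh.etaleMP) (Q := EtCoh.etaleMP)).toGrothendieck :=
    Scheme.smallGrothendieckTopology_eq_toGrothendieck_smallPretopology X le_rfl
  rw [eX] at h
  obtain ⟨Y, f, y, hf, -, -⟩ := (Scheme.mem_toGrothendieck_smallPretopology T.left _).1 h t
  rw [Sieve.overEquiv_iff] at hf
  exact hf

/-- a section of a constant sheaf on a localized site is constant near any point -/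
lemma local_const_at (U : X.Etale) (M : AddCommGrpCat.{u + 1}) (T : Over U)
    (s : (cst (X.smallEtaleTopology.over U) M).obj.obj (op T)) (t : T.left.left) :
    ∃ (V : X.Etale) (g : V ⟶ T.left) (v : V.left), g.left.base v = t ∧
      ∃ b : M, (cst (X.smallEtaleTopology.over U) M).obj.map
        (Over.homMk g : Over.mk (g ≫ T.hom) ⟶ T).op s =
          eta (X.smallEtaleTopology.over U) M (op (Over.mk (g ≫ T.hom))) b := by
  obtain ⟨S, hS, hb⟩ := local_const (X.smallEtaleTopology.over U) M T s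
  rw [GrothendieckTopology.mem_over_iff] at hS
  have eX : X.smallEtaleTopology =
      (X.smallPretopology (P := EtCoh.etaleMP) (Q := EtCoh.etaleMP)).toGrothendieck :=
    Scheme.smallGrothendieckTopology_eq_toGrothendieck_smallPretopology X le_rfl
  rw [eX] at hS
  obtain ⟨Y, f, y, hf, -, hy⟩ := (Scheme.mem_toGrothendieck_smallPretopology T.left _).1 hS t
  rw [Sieve.overEquiv_iff] at hf
  exact ⟨Y, f, y, hy, hb _ hf⟩

section Sec

variable (F : EtCoh.Ab X) {U : X.Etale} {M : AddCommGrpCat.{u + 1}}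
  (e : EtCoh.restr F U ≅ cst.{u + 1, u, u + 1} (X.smallEtaleTopology.over U) M)

/-- the section of `F` over `V` corresponding to the constant `a` -/
noncomputable def sec0 {V : X.Etale} (q : V ⟶ U) (a : M) : F.obj.obj (op V) :=
  (e.inv.hom.app (op (Over.mk q)) : _ ⟶ _)
    (eta.{u + 1, u, u + 1} (X.smallEtaleTopology.over U) M (op (Over.mk q)) a)

lemma sec0_nat {V V' : X.Etale} (q : V ⟶ U) (k : V' ⟶ V) (a : M) :
    F.obj.map k.op (sec0 F e q a) = sec0 F e (k ≫ q) a := by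
  have h := ConcreteCategory.congr_hom
    (e.inv.hom.naturality (Over.homMk k : Over.mk (k ≫ q) ⟶ Over.mk q).op)
    (eta.{u + 1, u, u + 1} (X.smallEtaleTopology.over U) M (op (Over.mk q)) a)
  rw [ConcreteCategory.comp_apply, ConcreteCategory.comp_apply] at h
  rw [eta_nat] at h
  exact h.symm

lemma sec0_add {V : X.Etale} (q : V ⟶ U) (a a' : M) :
    sec0 F e q (a + a') = sec0 F e q a + sec0 F e q a' := by
  unfold sec0
  rw [map_add, map_add]
  rfl

lemma sec0_inj {V : X.Etale} (q : V ⟶ U) (v : V.left) (a a' : M)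
    (h : sec0 F e q a = sec0 F e q a') : a = a' := by
  have h1 : eta.{u + 1, u, u + 1} (X.smallEtaleTopology.over U) M (op (Over.mk q)) a =
      eta.{u + 1, u, u + 1} (X.smallEtaleTopology.over U) M (op (Over.mk q)) a' := by
    have h2 := congrArg (fun t => (e.hom.hom.app (op (Over.mk q)) : _ ⟶ _) t) h
    have h3 : ∀ x, (e.hom.hom.app (op (Over.mk q)) : _ ⟶ _)
        ((e.inv.hom.app (op (Over.mk q)) : _ ⟶ _) x) = x := by
      intro x
      have h4 := congrArg (fun t : cst.{u + 1, u, u + 1} (X.smallEtaleTopology.over U) M ⟶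
        cst.{u + 1, u, u + 1} (X.smallEtaleTopology.over U) M => t.hom.app (op (Over.mk q)) x) e.inv_hom_id
      exact h4
    unfold sec0 at h2
    simp only [h3] at h2
    exact h2
  rcases eta_inj.{u + 1, u, u + 1} (X.smallEtaleTopology.over U) M (Over.mk q) a a' h1 with h5 | h5
  · exact h5
  · exact (not_bot_mem_over U (Over.mk q) v h5).elim

lemma hom_nat {V V' : X.Etale} (q : V ⟶ U) (k : V' ⟶ V) (s : F.obj.obj (op V)) :
    (e.hom.hom.app (op (Over.mk (k ≫ q))) : _ ⟶ _) (F.obj.map k.op s) =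
      (cst.{u + 1, u, u + 1} (X.smallEtaleTopology.over U) M).obj.map
        (Over.homMk k : Over.mk (k ≫ q) ⟶ Over.mk q).op
        ((e.hom.hom.app (op (Over.mk q)) : _ ⟶ _) s) := by
  have h := ConcreteCategory.congr_hom
    (e.hom.hom.naturality (Over.homMk k : Over.mk (k ≫ q) ⟶ Over.mk q).op) s
  rw [ConcreteCategory.comp_apply, ConcreteCategory.comp_apply] at h
  exact h

lemma inv_hom_app {V : X.Etale} (q : V ⟶ U) (s : F.obj.obj (op V)) :
    (e.inv.hom.app (op (Over.mk q)) : _ ⟶ _)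
      ((e.hom.hom.app (op (Over.mk q)) : _ ⟶ _) s) = s := by
  have h4 := congrArg (fun t : EtCoh.restr F U ⟶ EtCoh.restr F U =>
    t.hom.app (op (Over.mk q)) s) e.hom_inv_id
  exact h4

lemma eq_sec0_of_eta {V : X.Etale} (q : V ⟶ U) (s : F.obj.obj (op V)) (b : M)
    (h : (e.hom.hom.app (op (Over.mk q)) : _ ⟶ _) s =
      eta.{u + 1, u, u + 1} (X.smallEtaleTopology.over U) M (op (Over.mk q)) b) :
    s = sec0 F e q b := by
  unfold sec0
  rw [← h, inv_hom_app]

/-- every section of `F` over a pointed `W → U` is locally `sec0` of a constant -/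
lemma exists_sec0 {W : X.Etale} (q : W ⟶ U) (s : F.obj.obj (op W)) (w : W.left) :
    ∃ (V : X.Etale) (g : V ⟶ W) (v : V.left), g.left.base v = w ∧
      ∃ b : M, F.obj.map g.op s = sec0 F e (g ≫ q) b := by
  obtain ⟨V, g, v, hv, b, hb⟩ := local_const_at U M (Over.mk q)
    ((e.hom.hom.app (op (Over.mk q)) : _ ⟶ _) s) w
  refine ⟨V, g, v, hv, b, ?_⟩
  apply eq_sec0_of_eta
  rw [hom_nat]
  exact hb

end Sec

section Germ

variable (F : EtCoh.Ab X) {U₁ U₂ W : X.Etale} {M₁ M₂ : AddCommGrpCat.{u + 1}}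
  (e₁ : EtCoh.restr F U₁ ≅ cst.{u + 1, u, u + 1} (X.smallEtaleTopology.over U₁) M₁)
  (e₂ : EtCoh.restr F U₂ ≅ cst.{u + 1, u, u + 1} (X.smallEtaleTopology.over U₂) M₂)
  (p₁ : W ⟶ U₁) (p₂ : W ⟶ U₂) (w : W.left)

/-- the germ relation at the point `w` -/
def Rel (a : M₁) (b : M₂) : Prop :=
  ∃ (V : X.Etale) (h : V ⟶ W) (v : V.left), h.left.base v = w ∧
    sec0 F e₁ (h ≫ p₁) a = sec0 F e₂ (h ≫ p₂) b

lemma Rel.symm {a : M₁} {b : M₂} (h : Rel F e₁ e₂ p₁ p₂ w a b) : Rel F e₂ e₁ p₂ p₁ w b a := by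
  obtain ⟨V, k, v, hv, hs⟩ := h
  exact ⟨V, k, v, hv, hs.symm⟩

lemma sec0_refine {V V' : X.Etale} (h : V ⟶ W) (k : V' ⟶ V) {a : M₁} {b : M₂}
    (hs : sec0 F e₁ (h ≫ p₁) a = sec0 F e₂ (h ≫ p₂) b) :
    sec0 F e₁ ((k ≫ h) ≫ p₁) a = sec0 F e₂ ((k ≫ h) ≫ p₂) b := by
  rw [Category.assoc, Category.assoc, ← sec0_nat F e₁ (h ≫ p₁) k, ← sec0_nat F e₂ (h ≫ p₂) k, hs]

lemma Rel.total (a : M₁) : ∃ b : M₂, Rel F e₁ e₂ p₁ p₂ w a b := by
  obtain ⟨V, g, v, hv, b, hb⟩ := exists_sec0 F e₂ p₂ (sec0 F e₁ p₁ a) w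
  refine ⟨b, V, g, v, hv, ?_⟩
  rw [← hb, sec0_nat]

lemma Rel.unique {a : M₁} {b b' : M₂} (h : Rel F e₁ e₂ p₁ p₂ w a b)
    (h' : Rel F e₁ e₂ p₁ p₂ w a b') : b = b' := by
  obtain ⟨V, k, v, hv, hs⟩ := h
  obtain ⟨V', k', v', hv', hs'⟩ := h'
  obtain ⟨P, l, l', z, hl, hz, hz'⟩ := exists_common k k' v v' (hv.trans hv'.symm)
  have h1 := sec0_refine F e₁ e₂ p₁ p₂ k l hs
  have h2 := sec0_refine F e₁ e₂ p₁ p₂ k' l' hs'
  rw [← hl] at h2
  exact sec0_inj F e₂ _ z b b' (h1.symm.trans h2)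

lemma Rel.add {a a' : M₁} {b b' : M₂} (h : Rel F e₁ e₂ p₁ p₂ w a b)
    (h' : Rel F e₁ e₂ p₁ p₂ w a' b') : Rel F e₁ e₂ p₁ p₂ w (a + a') (b + b') := by
  obtain ⟨V, k, v, hv, hs⟩ := h
  obtain ⟨V', k', v', hv', hs'⟩ := h'
  obtain ⟨P, l, l', z, hl, hz, hz'⟩ := exists_common k k' v v' (hv.trans hv'.symm)
  have h1 := sec0_refine F e₁ e₂ p₁ p₂ k l hs
  have h2 := sec0_refine F e₁ e₂ p₁ p₂ k' l' hs'
  rw [← hl] at h2
  refine ⟨P, l ≫ k, z, ?_, ?_⟩
  · show k.left.base (l.left.base z) = w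
    rw [hz, hv]
  · rw [sec0_add, sec0_add, h1, h2]

include F e₁ e₂ p₁ p₂ w in
/-- the value groups at a common point agree -/
theorem nonempty_addEquiv : Nonempty (M₁ ≃+ M₂) := by
  classical
  have t1 := Rel.total F e₁ e₂ p₁ p₂ w
  have t2 := Rel.total F e₂ e₁ p₂ p₁ w
  choose f hf using t1
  choose g hg using t2
  refine ⟨{ toFun := f, invFun := g, left_inv := ?_, right_inv := ?_, map_add' := ?_ }⟩
  · intro a
    exact Rel.unique F e₂ e₁ p₂ p₁ w (hg (f a)) (hf a).symm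
  · intro b
    exact Rel.unique F e₁ e₂ p₁ p₂ w (hf (g b)) (hg b).symm
  · intro a a'
    exact Rel.unique F e₁ e₂ p₁ p₂ w (hf (a + a')) (Rel.add F e₁ e₂ p₁ p₂ w (hf a) (hf a'))

end Germ

section Main

/-- value groups of two constant trivializations at a common point of `X` agree -/
theorem nonempty_addEquiv_of_point (F : EtCoh.Ab X) {U₁ U₂ : X.Etale}
    {M₁ M₂ : AddCommGrpCat.{u + 1}}
    (e₁ : EtCoh.restr F U₁ ≅ cst.{u + 1, u, u + 1} (X.smallEtaleTopology.over U₁) M₁)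
    (e₂ : EtCoh.restr F U₂ ≅ cst.{u + 1, u, u + 1} (X.smallEtaleTopology.over U₂) M₂)
    (y₁ : U₁.left) (y₂ : U₂.left) (h : U₁.hom.base y₁ = U₂.hom.base y₂) :
    Nonempty (M₁ ≃+ M₂) := by
  let f₁ : U₁ ⟶ EtCoh.top X := MorphismProperty.Over.homMk U₁.hom (Category.comp_id _) trivial
  let f₂ : U₂ ⟶ EtCoh.top X := MorphismProperty.Over.homMk U₂.hom (Category.comp_id _) trivial
  obtain ⟨P, k, k', z, -, -, -⟩ := exists_common f₁ f₂ y₁ y₂ h
  exact nonempty_addEquiv F e₁ e₂ k k' z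

theorem single_group [ConnectedSpace X] (F : EtCoh.Ab X)
    (h : EtCoh.IsFiniteLocallyConstant F) :
    ∃ (M : Type) (_ : AddCommGroup M) (_ : Finite M) (ι : Type u) (U : ι → X.Etale),
      EtCoh.Covers U ∧
      ∀ i, Nonempty (EtCoh.restr F (U i) ≅
        (constantSheaf (X.smallEtaleTopology.over (U i)) AddCommGrpCat.{u + 1}).obj
          (AddCommGrpCat.of (ULift.{u + 1} M))) := by
  classical
  obtain ⟨ι, U, hU, hM⟩ := h
  choose M inst fin hiso using hM
  letI : ∀ i, AddCommGroup (M i) := inst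
  -- the key comparison
  have key : ∀ (i j : ι) (yi : (U i).left) (yj : (U j).left),
      (U i).hom.base yi = (U j).hom.base yj → Nonempty (M i ≃+ M j) := by
    intro i j yi yj hij
    obtain ⟨e⟩ := nonempty_addEquiv_of_point F (hiso i).some (hiso j).some yi yj hij
    exact ⟨(AddEquiv.ulift.symm.trans e).trans AddEquiv.ulift⟩
  obtain ⟨i₀, y₀, hy₀⟩ := hU (Classical.arbitrary X)
  let good : ι → Prop := fun i => Nonempty (M i ≃+ M i₀)
  let A : Set X := {x | ∃ i, good i ∧ x ∈ Set.range (U i).hom.base}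
  have hopen : ∀ i, IsOpen (Set.range (U i).hom.base) := by
    intro i
    haveI : AlgebraicGeometry.Etale (U i).hom := (U i).prop
    exact (U i).hom.isOpenMap.isOpen_range
  have hA : IsOpen A := by
    rw [isOpen_iff_forall_mem_open]
    rintro x ⟨i, hi, hx⟩
    exact ⟨Set.range (U i).hom.base, fun x' hx' => ⟨i, hi, hx'⟩, hopen i, hx⟩
  have hAc : IsOpen Aᶜ := by
    rw [isOpen_iff_forall_mem_open]
    intro x hx
    obtain ⟨j, yj, hyj⟩ := hU x
    refine ⟨Set.range (U j).hom.base, ?_, hopen j, ⟨yj, hyj⟩⟩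
    rintro x' ⟨yj', rfl⟩ ⟨i, ⟨ei⟩, ⟨yi, hyi⟩⟩
    apply hx
    obtain ⟨eji⟩ := key j i yj' yi hyi.symm
    exact ⟨j, ⟨eji.trans ei⟩, ⟨yj, hyj⟩⟩
  have hclopen : IsClopen A := ⟨by rw [← isOpen_compl_iff]; exact hAc, hA⟩
  have hAuniv : A = Set.univ := by
    rcases isClopen_iff.1 hclopen with h0 | h1
    · exfalso
      have : Classical.arbitrary X ∈ A := ⟨i₀, ⟨AddEquiv.refl _⟩, ⟨y₀, hy₀⟩⟩
      rw [h0] at this
      exact this
    · exact h1
  refine ⟨M i₀, inst i₀, fin i₀, {i // good i}, fun i => U i.1, ?_, ?_⟩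
  · intro x
    have hx : x ∈ A := by rw [hAuniv]; trivial
    obtain ⟨i, hi, y, hy⟩ := hx
    exact ⟨⟨i, hi⟩, y, hy⟩
  · rintro ⟨i, ⟨ei⟩⟩
    refine ⟨(hiso i).some ≪≫ (constantSheaf (X.smallEtaleTopology.over (U i))
      AddCommGrpCat.{u + 1}).mapIso (AddEquiv.toAddCommGrpIso ?_)⟩
    exact (AddEquiv.ulift.trans ei).trans AddEquiv.ulift.symm

end Main

end Groth.Agent.Lib.Helper21.FlcConn
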