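import Mathlib
import Groth.Prelude.Def_EtBase
import Groth.Agent.Lib.Helper21.ConstGerm
import Groth.Agent.Lib.Helper21.FlcConn

/-!
# Restricting a constant trivialization of an étale sheaf to a finer étale object
-/

set_option autoImplicit false

open CategoryTheory CategoryTheory.Limits Opposite AlgebraicGeometry

namespace Groth.Agent.Lib.Helper21.FlcRestr

open Groth.Agent.Lib.Helper21.ConstGerm Groth.Agent.Lib.Helper21.FlcConn

universe u

variable {X : Scheme.{u}}

/-- restriction of sheaves on `Over U` to `Over W` along `k : W ⟶ U` -/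
noncomputable abbrev resk {U W : X.Etale} (k : W ⟶ U) :
    Sheaf (X.smallEtaleTopology.over U) AddCommGrpCat.{u + 1} ⥤
      Sheaf (X.smallEtaleTopology.over W) AddCommGrpCat.{u + 1} :=
  X.smallEtaleTopology.overMapPullback AddCommGrpCat.{u + 1} k

/-- restricting `F|_U` further to `W` gives `F|_W` -/
noncomputable def restrIso (F : EtCoh.Ab X) {U W : X.Etale} (k : W ⟶ U) :
    (resk k).obj (EtCoh.restr F U) ≅ EtCoh.restr F W :=
  (fullyFaithfulSheafToPresheaf _ _).preimageIso
    (NatIso.ofComponents (fun T => Iso.refl _) (by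
      intro T T' f
      exact (Category.comp_id _).trans (Category.id_comp _).symm))

lemma restrIso_hom_app (F : EtCoh.Ab X) {U W : X.Etale} (k : W ⟶ U) (T : Over W)
    (s : F.obj.obj (op T.left)) :
    ((restrIso F k).hom.hom.app (op T) : _ ⟶ _) s = s := rfl

/-- the constant presheaf restricted along `Over.map k` is the constant presheaf -/
noncomputable def cstIso {U W : X.Etale} (k : W ⟶ U) (M : AddCommGrpCat.{u + 1}) :
    (resk k).obj (cst.{u + 1, u, u + 1} (X.smallEtaleTopology.over U) M) ≅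
      cst.{u + 1, u, u + 1} (X.smallEtaleTopology.over W) M :=
  (((Over.map k).pushforwardContinuousSheafificationCompatibility AddCommGrpCat.{u + 1}
      (X.smallEtaleTopology.over W) (X.smallEtaleTopology.over U)).app
        ((Functor.const (Over U)ᵒᵖ).obj M)).symm ≪≫
    (presheafToSheaf (X.smallEtaleTopology.over W) AddCommGrpCat.{u + 1}).mapIso
      ((Functor.constCompWhiskeringLeftIso (Over W)ᵒᵖ (C := AddCommGrpCat.{u + 1}) (Over.map k).op).app M)

/-- the presheaf-level description of `cstIso.inv` on units -/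
lemma toSheafify_cstIso_inv {U W : X.Etale} (k : W ⟶ U) (M : AddCommGrpCat.{u + 1}) :
    toSheafify (X.smallEtaleTopology.over W) ((Functor.const (Over W)ᵒᵖ).obj M) ≫
      (cstIso k M).inv.hom =
    ((Functor.constCompWhiskeringLeftIso (Over W)ᵒᵖ (C := AddCommGrpCat.{u + 1})
        (Over.map k).op).app M).inv ≫
      Functor.whiskerLeft (Over.map k).op
        (toSheafify (X.smallEtaleTopology.over U) ((Functor.const (Over U)ᵒᵖ).obj M)) := by
  have h1 := Functor.toSheafify_pullbackSheafificationCompatibility (Over.map k)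
    AddCommGrpCat.{u + 1} (X.smallEtaleTopology.over W) (X.smallEtaleTopology.over U)
    ((Functor.const (Over U)ᵒᵖ).obj M)
  have h2 := toSheafify_naturality (X.smallEtaleTopology.over W)
    ((Functor.constCompWhiskeringLeftIso (Over W)ᵒᵖ (C := AddCommGrpCat.{u + 1})
        (Over.map k).op).app M).inv
  refine Eq.trans ?_ (congrArg (fun t => ((Functor.constCompWhiskeringLeftIso (Over W)ᵒᵖ
    (C := AddCommGrpCat.{u + 1}) (Over.map k).op).app M).inv ≫ t) h1)
  refine Eq.trans ?_ (Category.assoc _ _ _)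
  refine Eq.trans ?_ (congrArg (fun t => t ≫ (((Over.map k).pushforwardContinuousSheafificationCompatibility
    AddCommGrpCat.{u + 1} (X.smallEtaleTopology.over W) (X.smallEtaleTopology.over U)).hom.app
      ((Functor.const (Over U)ᵒᵖ).obj M)).hom) h2.symm)
  refine Eq.trans ?_ (Category.assoc _ _ _).symm
  rfl

lemma cstIso_inv_eta {U W : X.Etale} (k : W ⟶ U) (M : AddCommGrpCat.{u + 1}) (T : Over W)
    (a : M) :
    ((cstIso k M).inv.hom.app (op T) : _ ⟶ _)
        (eta.{u + 1, u, u + 1} (X.smallEtaleTopology.over W) M (op T) a) =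
      eta.{u + 1, u, u + 1} (X.smallEtaleTopology.over U) M (op ((Over.map k).obj T)) a := by
  have h := congrArg (fun t : (Functor.const (Over W)ᵒᵖ).obj M ⟶
      ((resk k).obj (cst.{u + 1, u, u + 1} (X.smallEtaleTopology.over U) M)).obj =>
      (t.app (op T) : _ ⟶ _) a) (toSheafify_cstIso_inv k M)
  exact h

/-- a constant trivialization of `F` over `U` restricts to one over `W → U` -/
noncomputable def restrTriv (F : EtCoh.Ab X) {U W : X.Etale} (k : W ⟶ U)
    {M : AddCommGrpCat.{u + 1}}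
    (e : EtCoh.restr F U ≅ cst.{u + 1, u, u + 1} (X.smallEtaleTopology.over U) M) :
    EtCoh.restr F W ≅ cst.{u + 1, u, u + 1} (X.smallEtaleTopology.over W) M :=
  (restrIso F k).symm ≪≫ (resk k).mapIso e ≪≫ cstIso k M

lemma sec0_restrTriv (F : EtCoh.Ab X) {U W V : X.Etale} (k : W ⟶ U)
    {M : AddCommGrpCat.{u + 1}}
    (e : EtCoh.restr F U ≅ cst.{u + 1, u, u + 1} (X.smallEtaleTopology.over U) M)
    (q : V ⟶ W) (a : M) :
    sec0 F (restrTriv F k e) q a = sec0 F e (q ≫ k) a := by
  have h1 := cstIso_inv_eta k M (Over.mk q) a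
  show ((restrIso F k).hom.hom.app (op (Over.mk q)) : _ ⟶ _)
    ((e.inv.hom.app (op ((Over.map k).obj (Over.mk q))) : _ ⟶ _)
      (((cstIso k M).inv.hom.app (op (Over.mk q)) : _ ⟶ _)
        (eta.{u + 1, u, u + 1} (X.smallEtaleTopology.over W) M (op (Over.mk q)) a))) = _
  rw [h1]
  rfl

section Tools

/-- common pointed refinement of a finite family of pointed étale objects over a pointed one -/
lemma exists_common_finset {ι : Type*} {P : X.Etale} (z : P.left) (V : ι → X.Etale)
    (g : ∀ a, V a ⟶ P) (v : ∀ a, (V a).left) (hv : ∀ a, (g a).left.base (v a) = z)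
    (s : Finset ι) :
    ∃ (Q : X.Etale) (q : Q ⟶ P) (z' : Q.left), q.left.base z' = z ∧
      ∀ a ∈ s, ∃ r : Q ⟶ V a, r ≫ g a = q := by
  classical
  induction s using Finset.induction_on with
  | empty => exact ⟨P, 𝟙 P, z, rfl, fun a ha => (Finset.notMem_empty a ha).elim⟩
  | insert a s _ ih =>
    obtain ⟨Q, q, z', hz', hr⟩ := ih
    obtain ⟨Q', l, l', w, hl, hw, hw'⟩ := exists_common q (g a) z' (v a) (hz'.trans (hv a).symm)
    refine ⟨Q', l ≫ q, w, ?_, ?_⟩
    · show q.left.base (l.left.base w) = z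
      rw [hw, hz']
    · intro b hb
      rcases Finset.mem_insert.1 hb with rfl | hb
      · exact ⟨l', hl.symm⟩
      · obtain ⟨r, hr'⟩ := hr b hb
        exact ⟨l ≫ r, by rw [Category.assoc, hr']⟩

/-- the map of constant sheaves induced by a group hom, on units -/
lemma eta_map {U : X.Etale} {M N : AddCommGrpCat.{u + 1}} (h : M ⟶ N) (T : Over U) (a : M) :
    (((constantSheaf (X.smallEtaleTopology.over U) AddCommGrpCat.{u + 1}).map h).hom.app (op T) :
        _ ⟶ _) (eta.{u + 1, u, u + 1} (X.smallEtaleTopology.over U) M (op T) a) =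
      eta.{u + 1, u, u + 1} (X.smallEtaleTopology.over U) N (op T) (h a) := by
  have h2 := toSheafify_naturality (X.smallEtaleTopology.over U)
    ((Functor.const (Over U)ᵒᵖ).map h)
  have h3 := congrArg (fun t : (Functor.const (Over U)ᵒᵖ).obj M ⟶
      (cst.{u + 1, u, u + 1} (X.smallEtaleTopology.over U) N).obj =>
      (t.app (op T) : _ ⟶ _) a) h2
  exact h3.symm

variable (F : EtCoh.Ab X) {U : X.Etale} {M : AddCommGrpCat.{u + 1}}
  (e : EtCoh.restr F U ≅ cst.{u + 1, u, u + 1} (X.smallEtaleTopology.over U) M)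

lemma hom_sec0 {V : X.Etale} (q : V ⟶ U) (a : M) :
    (e.hom.hom.app (op (Over.mk q)) : _ ⟶ _) (sec0 F e q a) =
      eta.{u + 1, u, u + 1} (X.smallEtaleTopology.over U) M (op (Over.mk q)) a := by
  have h4 := congrArg (fun t : cst.{u + 1, u, u + 1} (X.smallEtaleTopology.over U) M ⟶
    cst.{u + 1, u, u + 1} (X.smallEtaleTopology.over U) M => (t.hom.app (op (Over.mk q)) : _ ⟶ _)
      (eta.{u + 1, u, u + 1} (X.smallEtaleTopology.over U) M (op (Over.mk q)) a)) e.inv_hom_id
  exact h4

end Tools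

section LocalHom

variable (F G : EtCoh.Ab X) (φ : F ⟶ G)

lemma phi_nat {V V' : X.Etale} (k : V' ⟶ V) (s : F.obj.obj (op V)) :
    G.obj.map k.op ((φ.hom.app (op V) : _ ⟶ _) s) =
      (φ.hom.app (op V') : _ ⟶ _) (F.obj.map k.op s) := by
  have h := ConcreteCategory.congr_hom (φ.hom.naturality k.op) s
  rw [ConcreteCategory.comp_apply, ConcreteCategory.comp_apply] at h
  exact h.symm

lemma map_comp_apply {V V' V'' : X.Etale} (k : V' ⟶ V) (l : V'' ⟶ V') (s : G.obj.obj (op V)) :
    G.obj.map (l ≫ k).op s = G.obj.map l.op (G.obj.map k.op s) := by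
  rw [op_comp, Functor.map_comp, ConcreteCategory.comp_apply]

variable {P : X.Etale} (z : P.left) {M N : AddCommGrpCat.{u + 1}} [Finite M]
  (eF : EtCoh.restr F P ≅ cst.{u + 1, u, u + 1} (X.smallEtaleTopology.over P) M)
  (eG : EtCoh.restr G P ≅ cst.{u + 1, u, u + 1} (X.smallEtaleTopology.over P) N)

include z in
/-- near a point, `φ` sends constant sections to constant sections -/
lemma exists_fun : ∃ (Q : X.Etale) (q : Q ⟶ P) (z' : Q.left), q.left.base z' = z ∧
    ∃ h : M → N, ∀ a : M, (φ.hom.app (op Q) : _ ⟶ _) (sec0 F eF q a) = sec0 G eG q (h a) := by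
  classical
  have key : ∀ a : M, ∃ (V : X.Etale) (g : V ⟶ P) (v : V.left), g.left.base v = z ∧
      ∃ b : N, G.obj.map g.op ((φ.hom.app (op P) : _ ⟶ _) (sec0 F eF (𝟙 P) a)) =
        sec0 G eG (g ≫ 𝟙 P) b :=
    fun a => exists_sec0 G eG (𝟙 P) ((φ.hom.app (op P) : _ ⟶ _) (sec0 F eF (𝟙 P) a)) z
  choose V g v hv b hb using key
  haveI : Fintype M := Fintype.ofFinite M
  obtain ⟨Q, q, z', hz', hr⟩ := exists_common_finset z V g v hv Finset.univ
  refine ⟨Q, q, z', hz', b, ?_⟩
  intro a
  obtain ⟨r, hrq⟩ := hr a (Finset.mem_univ a)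
  have e1 : sec0 F eF q a = F.obj.map q.op (sec0 F eF (𝟙 P) a) := by
    rw [sec0_nat, Category.comp_id]
  rw [e1, ← phi_nat, ← hrq, map_comp_apply, hb a, sec0_nat, Category.comp_id]

include z in
/-- near a point, a map from a finite constant sheaf to a constant sheaf comes from a group hom -/
theorem exists_local_hom : ∃ (Q : X.Etale) (q : Q ⟶ P) (z' : Q.left), q.left.base z' = z ∧
    ∃ h : M ⟶ N,
      (X.smallEtaleTopology.overPullback AddCommGrpCat.{u + 1} Q).map φ ≫
          (restrTriv G q eG).hom =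
        (restrTriv F q eF).hom ≫
          (constantSheaf (X.smallEtaleTopology.over Q) AddCommGrpCat.{u + 1}).map h := by
  obtain ⟨Q, q, z', hz', h, hh⟩ := exists_fun F G φ z eF eG
  -- generalized form of `hh`
  have hh' : ∀ {V : X.Etale} (r : V ⟶ Q) (a : M),
      (φ.hom.app (op V) : _ ⟶ _) (sec0 F eF (r ≫ q) a) = sec0 G eG (r ≫ q) (h a) := by
    intro V r a
    rw [← sec0_nat F eF q r, ← phi_nat, hh a, sec0_nat]
  have hadd : ∀ a a' : M, h (a + a') = h a + h a' := by
    intro a a'
    apply sec0_inj G eG q z'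
    rw [← hh, sec0_add, map_add, hh, hh, sec0_add]
  let hAdd : M →+ N := AddMonoidHom.mk' h hadd
  refine ⟨Q, q, z', hz', AddCommGrpCat.ofHom hAdd, ?_⟩
  rw [← Iso.inv_comp_eq]
  apply Sheaf.hom_ext
  apply sheafify_hom_ext _ _ _ (cst.{u + 1, u, u + 1} (X.smallEtaleTopology.over Q) N).property
  ext T a
  obtain ⟨V, ⟨⟨⟩⟩, r⟩ := T
  show ((restrTriv G q eG).hom.hom.app (op (Over.mk r)) : _ ⟶ _)
      ((φ.hom.app (op V) : _ ⟶ _) (sec0 F (restrTriv F q eF) r a)) =
    (((constantSheaf (X.smallEtaleTopology.over Q) AddCommGrpCat.{u + 1}).map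
      (AddCommGrpCat.ofHom hAdd)).hom.app (op (Over.mk r)) : _ ⟶ _)
        (eta.{u + 1, u, u + 1} (X.smallEtaleTopology.over Q) M (op (Over.mk r)) a)
  rw [eta_map, sec0_restrTriv, hh', ← sec0_restrTriv G q eG]
  exact hom_sec0 G (restrTriv G q eG) r (h a)

end LocalHom

end Groth.Agent.Lib.Helper21.FlcRestr
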