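import Mathlib
import Groth.Prelude.Def_EtBase
import Groth.Prelude.Def_PBC
import Groth.Agent.Lib.Helper21.ConstGerm
import Groth.Agent.Lib.Helper21.FlcConn
import Groth.Agent.Lib.Helper21.FlcRestr

/-!
# Finite locally constant étale sheaves: kernels and cokernels
-/

set_option autoImplicit false

open CategoryTheory CategoryTheory.Limits Opposite AlgebraicGeometry

namespace Groth.Agent.Lib.Helper21.FlcSerre

open Groth.Agent.Lib.Helper21.ConstGerm Groth.Agent.Lib.Helper21.FlcConn
  Groth.Agent.Lib.Helper21.FlcRestr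

universe u

/-- a finite abelian group in `Type (u+1)` has a model in `Type` -/
lemma exists_type0_model (A : AddCommGrpCat.{u + 1}) [Finite A] :
    ∃ (K : Type) (_ : AddCommGroup K) (_ : Finite K),
      Nonempty (A ≅ AddCommGrpCat.of (ULift.{u + 1} K)) := by
  haveI : Small.{0} A := inferInstance
  refine ⟨Shrink.{0} A, inferInstance, ?_, ⟨?_⟩⟩
  · exact Finite.of_equiv A (equivShrink.{0} A)
  · exact AddEquiv.toAddCommGrpIso ((AddEquiv.ulift.trans (Shrink.addEquiv (α := A))).symm)

variable {X : Scheme.{u}}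

/-- local form of a map between trivialized sheaves around a common point -/
theorem exists_local_hom_of_triv (F G : EtCoh.Ab X) (φ : F ⟶ G) {U₁ U₂ : X.Etale}
    (y₁ : U₁.left) (y₂ : U₂.left) (hy : U₁.hom.base y₁ = U₂.hom.base y₂)
    {M N : AddCommGrpCat.{u + 1}} [Finite M]
    (e₁ : EtCoh.restr F U₁ ≅ cst.{u + 1, u, u + 1} (X.smallEtaleTopology.over U₁) M)
    (e₂ : EtCoh.restr G U₂ ≅ cst.{u + 1, u, u + 1} (X.smallEtaleTopology.over U₂) N) :
    ∃ (Q : X.Etale) (z : Q.left), Q.hom.base z = U₁.hom.base y₁ ∧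
      ∃ (h : M ⟶ N)
      (α : EtCoh.restr F Q ≅ cst.{u + 1, u, u + 1} (X.smallEtaleTopology.over Q) M)
      (β : EtCoh.restr G Q ≅ cst.{u + 1, u, u + 1} (X.smallEtaleTopology.over Q) N),
      (X.smallEtaleTopology.overPullback AddCommGrpCat.{u + 1} Q).map φ ≫ β.hom =
        α.hom ≫ (constantSheaf (X.smallEtaleTopology.over Q) AddCommGrpCat.{u + 1}).map h := by
  let f₁ : U₁ ⟶ EtCoh.top X := MorphismProperty.Over.homMk U₁.hom (Category.comp_id _) trivial
  let f₂ : U₂ ⟶ EtCoh.top X := MorphismProperty.Over.homMk U₂.hom (Category.comp_id _) trivial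
  obtain ⟨P, k, k', z, -, hz, -⟩ := exists_common f₁ f₂ y₁ y₂ hy
  obtain ⟨Q, q, z', hz', h, hh⟩ := exists_local_hom F G φ z (restrTriv F k e₁) (restrTriv G k' e₂)
  refine ⟨Q, z', ?_, h, restrTriv F q (restrTriv F k e₁), restrTriv G q (restrTriv G k' e₂), hh⟩
  have h1 : q.left ≫ P.hom = Q.hom := MorphismProperty.Over.w q
  have h2 : k.left ≫ U₁.hom = P.hom := MorphismProperty.Over.w k
  rw [← h1, ← h2]
  show U₁.hom.base (k.left.base (q.left.base z')) = _
  rw [hz', hz]

section Exactness

variable (Q : X.Etale)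

instance overPullback_preservesFiniteLimits :
    PreservesFiniteLimits (X.smallEtaleTopology.overPullback AddCommGrpCat.{u + 1} Q) := by
  have := (EtPBC.extZeroAdj Q).rightAdjoint_preservesLimits
  infer_instance

instance overPullback_preservesFiniteColimits :
    PreservesFiniteColimits (X.smallEtaleTopology.overPullback AddCommGrpCat.{u + 1} Q) := by
  have := ((Over.forget Q).sheafAdjunctionCocontinuous AddCommGrpCat.{u + 1}
    (X.smallEtaleTopology.over Q) X.smallEtaleTopology).leftAdjoint_preservesColimits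
  infer_instance

instance constantSheaf_preservesFiniteLimits :
    PreservesFiniteLimits (constantSheaf (X.smallEtaleTopology.over Q) AddCommGrpCat.{u + 1}) := by
  unfold constantSheaf
  infer_instance

instance constantSheaf_preservesFiniteColimits :
    PreservesFiniteColimits (constantSheaf (X.smallEtaleTopology.over Q) AddCommGrpCat.{u + 1}) := by
  unfold constantSheaf
  infer_instance

instance overPullback_additive :
    (X.smallEtaleTopology.overPullback AddCommGrpCat.{u + 1} Q).Additive :=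
  Functor.additive_of_preserves_binary_products _

instance constantSheaf_additive :
    (constantSheaf (X.smallEtaleTopology.over Q) AddCommGrpCat.{u + 1}).Additive :=
  Functor.additive_of_preserves_binary_products _

end Exactness

section KerCoker

variable {F G : EtCoh.Ab X} (φ : F ⟶ G) {Q : X.Etale} {M N : AddCommGrpCat.{u + 1}} (h : M ⟶ N)
  (α : EtCoh.restr F Q ≅ cst.{u + 1, u, u + 1} (X.smallEtaleTopology.over Q) M)
  (β : EtCoh.restr G Q ≅ cst.{u + 1, u, u + 1} (X.smallEtaleTopology.over Q) N)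
  (hh : (X.smallEtaleTopology.overPullback AddCommGrpCat.{u + 1} Q).map φ ≫ β.hom =
    α.hom ≫ (constantSheaf (X.smallEtaleTopology.over Q) AddCommGrpCat.{u + 1}).map h)

/-- the kernel of a locally-trivialized map is trivialized by the kernel group -/
noncomputable def kernelTriv :
    EtCoh.restr (kernel φ) Q ≅
      cst.{u + 1, u, u + 1} (X.smallEtaleTopology.over Q) (kernel h) :=
  PreservesKernel.iso (X.smallEtaleTopology.overPullback AddCommGrpCat.{u + 1} Q) φ ≪≫
    kernel.mapIso _ _ α β hh ≪≫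
    (PreservesKernel.iso (constantSheaf (X.smallEtaleTopology.over Q) AddCommGrpCat.{u + 1}) h).symm

/-- the cokernel of a locally-trivialized map is trivialized by the cokernel group -/
noncomputable def cokernelTriv :
    EtCoh.restr (cokernel φ) Q ≅
      cst.{u + 1, u, u + 1} (X.smallEtaleTopology.over Q) (cokernel h) :=
  PreservesCokernel.iso (X.smallEtaleTopology.overPullback AddCommGrpCat.{u + 1} Q) φ ≪≫
    cokernel.mapIso _ _ α β hh ≪≫
    (PreservesCokernel.iso (constantSheaf (X.smallEtaleTopology.over Q) AddCommGrpCat.{u + 1}) h).symm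

end KerCoker

lemma finite_kernel {M N : AddCommGrpCat.{u + 1}} [Finite M] (h : M ⟶ N) :
    Finite (kernel h : AddCommGrpCat.{u + 1}) :=
  Finite.of_injective _ ((AddCommGrpCat.mono_iff_injective (kernel.ι h)).1 inferInstance)

lemma finite_cokernel {M N : AddCommGrpCat.{u + 1}} [Finite N] (h : M ⟶ N) :
    Finite (cokernel h : AddCommGrpCat.{u + 1}) :=
  Finite.of_surjective _ ((AddCommGrpCat.epi_iff_surjective (cokernel.π h)).1 inferInstance)

/-- kernels and cokernels of maps of finite locally constant sheaves are finite locally constant -/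
theorem flc_kernel_cokernel (F G : EtCoh.Ab X) (φ : F ⟶ G)
    (hF : EtCoh.IsFiniteLocallyConstant F) (hG : EtCoh.IsFiniteLocallyConstant G) :
    EtCoh.IsFiniteLocallyConstant (kernel φ) ∧ EtCoh.IsFiniteLocallyConstant (cokernel φ) := by
  have key : ∀ x : X, ∃ (Q : X.Etale) (z : Q.left), Q.hom.base z = x ∧
      (∃ (K : Type) (_ : AddCommGroup K) (_ : Finite K),
        Nonempty (EtCoh.restr (kernel φ) Q ≅
          (constantSheaf (X.smallEtaleTopology.over Q) AddCommGrpCat.{u + 1}).obj
            (AddCommGrpCat.of (ULift.{u + 1} K)))) ∧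
      (∃ (K : Type) (_ : AddCommGroup K) (_ : Finite K),
        Nonempty (EtCoh.restr (cokernel φ) Q ≅
          (constantSheaf (X.smallEtaleTopology.over Q) AddCommGrpCat.{u + 1}).obj
            (AddCommGrpCat.of (ULift.{u + 1} K)))) := by
    intro x
    obtain ⟨ι, U, hU, hM⟩ := hF
    obtain ⟨κ, V, hV, hN⟩ := hG
    obtain ⟨i, y, hy⟩ := hU x
    obtain ⟨j, y', hy'⟩ := hV x
    obtain ⟨M, instM, finM, ⟨e₁⟩⟩ := hM i
    obtain ⟨N, instN, finN, ⟨e₂⟩⟩ := hN j
    haveI : Finite (AddCommGrpCat.of (ULift.{u + 1} M)) :=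
      inferInstanceAs (Finite (ULift.{u + 1} M))
    haveI : Finite (AddCommGrpCat.of (ULift.{u + 1} N)) :=
      inferInstanceAs (Finite (ULift.{u + 1} N))
    obtain ⟨Q, z, hz, h, α, β, hh⟩ :=
      exists_local_hom_of_triv F G φ y y' (hy.trans hy'.symm) e₁ e₂
    refine ⟨Q, z, hz.trans hy, ?_, ?_⟩
    · haveI := finite_kernel h
      obtain ⟨K, i1, i2, ⟨e⟩⟩ := exists_type0_model (kernel h)
      exact ⟨K, i1, i2, ⟨kernelTriv φ h α β hh ≪≫
        (constantSheaf (X.smallEtaleTopology.over Q) AddCommGrpCat.{u + 1}).mapIso e⟩⟩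
    · haveI := finite_cokernel h
      obtain ⟨K, i1, i2, ⟨e⟩⟩ := exists_type0_model (cokernel h)
      exact ⟨K, i1, i2, ⟨cokernelTriv φ h α β hh ≪≫
        (constantSheaf (X.smallEtaleTopology.over Q) AddCommGrpCat.{u + 1}).mapIso e⟩⟩
  choose Q z hz hker hcoker using key
  exact ⟨⟨X, Q, fun x => ⟨x, z x, hz x⟩, hker⟩, ⟨X, Q, fun x => ⟨x, z x, hz x⟩, hcoker⟩⟩

end Groth.Agent.Lib.Helper21.FlcSerre
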