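import Mathlib
import Groth.Prelude.Def_EtBase
import Groth.Prelude.Def_PBC
import Groth.Agent.Lib.Helper21.ConstGerm
import Groth.Agent.Lib.Helper21.FlcConn
import Groth.Agent.Lib.Helper21.FlcRestr
import Groth.Agent.Lib.Helper21.FlcSerre

/-!
# Extensions of finite locally constant étale sheaves are finite locally constant
-/

set_option autoImplicit false

open CategoryTheory CategoryTheory.Limits Opposite AlgebraicGeometry

namespace Groth.Agent.Lib.Helper21.FlcExt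

open Groth.Agent.Lib.Helper21.ConstGerm Groth.Agent.Lib.Helper21.FlcConn
  Groth.Agent.Lib.Helper21.FlcRestr Groth.Agent.Lib.Helper21.FlcSerre

universe u

variable {X : Scheme.{u}}

section Sections

variable (S : ShortComplex (EtCoh.Ab X)) (hS : S.ShortExact)

/-- sections over `V` -/
noncomputable abbrev Γ (V : X.Etale) : EtCoh.Ab X ⥤ AddCommGrpCat.{u + 1} :=
  sheafToPresheaf _ _ ⋙ (evaluation _ _).obj (op V)

instance (V : X.Etale) : (Γ (X := X) V).Additive where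
  map_add := rfl

lemma pi_iota (V : X.Etale) (t : S.X₁.obj.obj (op V)) :
    (S.g.hom.app (op V) : _ ⟶ _) ((S.f.hom.app (op V) : _ ⟶ _) t) = 0 := by
  have h := congrArg (fun k : S.X₁ ⟶ S.X₃ => (k.hom.app (op V) : _ ⟶ _) t) S.zero
  exact h

include hS in
lemma iota_injective (V : X.Etale) :
    Function.Injective (S.f.hom.app (op V) : S.X₁.obj.obj (op V) ⟶ S.X₂.obj.obj (op V)) := by
  haveI := hS.mono_f
  haveI : Mono ((Γ V).map S.f) := inferInstance
  exact (AddCommGrpCat.mono_iff_injective ((Γ V).map S.f)).1 inferInstance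

include hS in
lemma exists_iota_eq (V : X.Etale) (t : S.X₂.obj.obj (op V))
    (ht : (S.g.hom.app (op V) : _ ⟶ _) t = 0) :
    ∃ t' : S.X₁.obj.obj (op V), (S.f.hom.app (op V) : _ ⟶ _) t' = t := by
  haveI := hS.mono_f
  have hex : (S.map (Γ V)).Exact :=
    hS.exact.map_of_mono_of_preservesKernel (Γ V) inferInstance inferInstance
  exact (ShortComplex.ab_exact_iff _).1 hex t ht

include hS in
/-- local surjectivity of `S.g` at a point -/
lemma exists_lift_at (V : X.Etale) (t : S.X₃.obj.obj (op V)) (v : V.left) :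
    ∃ (V' : X.Etale) (g : V' ⟶ V) (v' : V'.left), g.left.base v' = v ∧
      ∃ s : S.X₂.obj.obj (op V'), (S.g.hom.app (op V') : _ ⟶ _) s = S.X₃.obj.map g.op t := by
  haveI := hS.epi_g
  have hls : Sheaf.IsLocallySurjective S.g := (Sheaf.isLocallySurjective_iff_epi' (φ := S.g)).2 inferInstance
  have hm := Presheaf.imageSieve_mem X.smallEtaleTopology S.g.hom t
  have eX : X.smallEtaleTopology =
      (X.smallPretopology (P := EtCoh.etaleMP) (Q := EtCoh.etaleMP)).toGrothendieck :=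
    Scheme.smallGrothendieckTopology_eq_toGrothendieck_smallPretopology X le_rfl
  have hm' : Presheaf.imageSieve S.g.hom t ∈
      (X.smallPretopology (P := EtCoh.etaleMP) (Q := EtCoh.etaleMP)).toGrothendieck V := by
    rw [← eX]
    exact hm
  obtain ⟨Y, f, y, hf, -, hy⟩ := (Scheme.mem_toGrothendieck_smallPretopology V _).1 hm' v
  obtain ⟨s, hs⟩ := hf
  exact ⟨Y, f, y, hy, s, hs⟩

end Sections

section ExtData

variable (S : ShortComplex (EtCoh.Ab X)) (hS : S.ShortExact) {P : X.Etale} (z : P.left)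
  {M₁ M₃ : AddCommGrpCat.{u + 1}} [Finite M₃]
  (e₁ : EtCoh.restr S.X₁ P ≅ cst.{u + 1, u, u + 1} (X.smallEtaleTopology.over P) M₁)
  (e₃ : EtCoh.restr S.X₃ P ≅ cst.{u + 1, u, u + 1} (X.smallEtaleTopology.over P) M₃)

include hS z in
/-- stage A: all constant sections of `X₃` lift to `X₂` on a pointed refinement -/
lemma exists_lifts : ∃ (W : X.Etale) (w : W ⟶ P) (w₀ : W.left), w.left.base w₀ = z ∧
    ∃ s : M₃ → S.X₂.obj.obj (op W),
      ∀ m, (S.g.hom.app (op W) : _ ⟶ _) (s m) = sec0 S.X₃ e₃ w m := by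
  classical
  have key : ∀ m : M₃, ∃ (V : X.Etale) (g : V ⟶ P) (v : V.left), g.left.base v = z ∧
      ∃ s : S.X₂.obj.obj (op V), (S.g.hom.app (op V) : _ ⟶ _) s =
        S.X₃.obj.map g.op (sec0 S.X₃ e₃ (𝟙 P) m) :=
    fun m => exists_lift_at S hS P (sec0 S.X₃ e₃ (𝟙 P) m) z
  choose V g v hv s₀ hs₀ using key
  haveI : Fintype M₃ := Fintype.ofFinite M₃
  obtain ⟨W, q, z', hz', hr⟩ := exists_common_finset z V g v hv Finset.univ
  choose r hr' using (fun m => hr m (Finset.mem_univ m))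
  refine ⟨W, q, z', hz', fun m => S.X₂.obj.map (r m).op (s₀ m), ?_⟩
  intro m
  rw [← phi_nat S.X₂ S.X₃ S.g (r m) (s₀ m), hs₀ m, ← map_comp_apply, hr' m, sec0_nat,
    Category.comp_id]

include hS z in
/-- local extension data on a pointed refinement -/
theorem exists_ext_data : ∃ (W : X.Etale) (w : W ⟶ P) (w₀ : W.left), w.left.base w₀ = z ∧
    ∃ (s : M₃ → S.X₂.obj.obj (op W)) (γ : M₃ → M₃ → M₁),
      (∀ m, (S.g.hom.app (op W) : _ ⟶ _) (s m) = sec0 S.X₃ e₃ w m) ∧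
      (∀ a b, s (a + b) = s a + s b +
        (S.f.hom.app (op W) : _ ⟶ _) (sec0 S.X₁ e₁ w (γ a b))) := by
  classical
  obtain ⟨W₁, q₁, z₁, hz₁, sA, hsA⟩ := exists_lifts S hS z e₃
  have key : ∀ ab : M₃ × M₃, ∃ (V : X.Etale) (g : V ⟶ W₁) (v : V.left), g.left.base v = z₁ ∧
      ∃ c : M₁, S.X₂.obj.map g.op (sA (ab.1 + ab.2) - sA ab.1 - sA ab.2) =
        (S.f.hom.app (op V) : _ ⟶ _) (sec0 S.X₁ e₁ (g ≫ q₁) c) := by
    rintro ⟨a, b⟩
    have hπ : (S.g.hom.app (op W₁) : _ ⟶ _) (sA (a + b) - sA a - sA b) = 0 := by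
      rw [map_sub, map_sub, hsA, hsA, hsA, sec0_add]
      abel
    obtain ⟨d', hd'⟩ := exists_iota_eq S hS W₁ _ hπ
    obtain ⟨V, g, v, hv, c, hc⟩ := exists_sec0 S.X₁ e₁ q₁ d' z₁
    refine ⟨V, g, v, hv, c, ?_⟩
    show S.X₂.obj.map g.op (sA (a + b) - sA a - sA b) = _
    rw [← hd', phi_nat S.X₁ S.X₂ S.f g d', hc]
  choose V g v hv c hc using key
  haveI : Fintype M₃ := Fintype.ofFinite M₃
  obtain ⟨W, q, z', hz', hr⟩ := exists_common_finset z₁ V g v hv Finset.univ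
  refine ⟨W, q ≫ q₁, z', ?_, fun m => S.X₂.obj.map q.op (sA m), fun a b => c (a, b), ?_, ?_⟩
  · show q₁.left.base (q.left.base z') = z
    rw [hz', hz₁]
  · intro m
    rw [← phi_nat S.X₂ S.X₃ S.g q (sA m), hsA m, sec0_nat]
  · intro a b
    obtain ⟨r, hr'⟩ := hr (a, b) (Finset.mem_univ _)
    have h1 : S.X₂.obj.map q.op (sA (a + b) - sA a - sA b) =
        (S.f.hom.app (op W) : _ ⟶ _) (sec0 S.X₁ e₁ (q ≫ q₁) (c (a, b))) := by
      rw [← hr', map_comp_apply, hc (a, b), phi_nat S.X₁ S.X₂ S.f r, sec0_nat, Category.assoc]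
    rw [map_sub, map_sub] at h1
    rw [← h1]
    abel

end ExtData

section CstHom

/-- morphisms out of a constant sheaf are determined on units -/
lemma cst_hom_ext {U : X.Etale} {A : AddCommGrpCat.{u + 1}}
    {G : Sheaf (X.smallEtaleTopology.over U) AddCommGrpCat.{u + 1}}
    (f g : cst.{u + 1, u, u + 1} (X.smallEtaleTopology.over U) A ⟶ G)
    (h : ∀ (T : Over U) (a : A),
      (f.hom.app (op T) : _ ⟶ _) (eta.{u + 1, u, u + 1} (X.smallEtaleTopology.over U) A (op T) a) =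
      (g.hom.app (op T) : _ ⟶ _)
        (eta.{u + 1, u, u + 1} (X.smallEtaleTopology.over U) A (op T) a)) : f = g := by
  apply Sheaf.hom_ext
  apply sheafify_hom_ext _ _ _ G.property
  ext T a
  exact h T.unop a

variable {U : X.Etale} (F : EtCoh.Ab X) (E : AddSubgroup (F.obj.obj (op U)))

/-- the presheaf map from the constant presheaf on a subgroup of sections -/
noncomputable def psiPre :
    (Functor.const (Over U)ᵒᵖ).obj (AddCommGrpCat.of E) ⟶ (EtCoh.restr F U).obj where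
  app T := AddCommGrpCat.ofHom ((F.obj.map T.unop.hom.op).hom.comp E.subtype)
  naturality T T' f := by
    ext t
    show F.obj.map T'.unop.hom.op t.1 = F.obj.map f.unop.left.op (F.obj.map T.unop.hom.op t.1)
    rw [← map_comp_apply F T.unop.hom f.unop.left t.1, Over.w f.unop]

/-- the map from the constant sheaf on a subgroup of sections over `U` to `F|_U` -/
noncomputable def psi :
    cst.{u + 1, u, u + 1} (X.smallEtaleTopology.over U) (AddCommGrpCat.of E) ⟶ EtCoh.restr F U :=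
  ObjectProperty.homMk (sheafifyLift (X.smallEtaleTopology.over U) (psiPre F E)
    (EtCoh.restr F U).property)

lemma psi_eta (T : Over U) (t : E) :
    ((psi F E).hom.app (op T) : _ ⟶ _)
      (eta.{u + 1, u, u + 1} (X.smallEtaleTopology.over U) (AddCommGrpCat.of E) (op T) t) =
      F.obj.map T.hom.op t.1 := by
  have h := toSheafify_sheafifyLift (X.smallEtaleTopology.over U) (psiPre F E)
    (EtCoh.restr F U).property
  have h2 := congrArg (fun k : (Functor.const (Over U)ᵒᵖ).obj (AddCommGrpCat.of E) ⟶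
    (EtCoh.restr F U).obj => (k.app (op T) : _ ⟶ _) t) h
  exact h2

end CstHom

section Structure

variable (S : ShortComplex (EtCoh.Ab X)) (hS : S.ShortExact) {W : X.Etale} (w₀ : W.left)
  {M₁ M₃ : AddCommGrpCat.{u + 1}}
  (e₁ : EtCoh.restr S.X₁ W ≅ cst.{u + 1, u, u + 1} (X.smallEtaleTopology.over W) M₁)
  (e₃ : EtCoh.restr S.X₃ W ≅ cst.{u + 1, u, u + 1} (X.smallEtaleTopology.over W) M₃)
  (s : M₃ → S.X₂.obj.obj (op W)) (γ : M₃ → M₃ → M₁)

/-- constants of `X₁` as sections over `W` -/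
noncomputable def sig₁ : M₁ →+ S.X₁.obj.obj (op W) :=
  AddMonoidHom.mk' (sec0 S.X₁ e₁ (𝟙 W)) (sec0_add S.X₁ e₁ (𝟙 W))

/-- constants of `X₃` as sections over `W` -/
noncomputable def sig₃ : M₃ →+ S.X₃.obj.obj (op W) :=
  AddMonoidHom.mk' (sec0 S.X₃ e₃ (𝟙 W)) (sec0_add S.X₃ e₃ (𝟙 W))

/-- `ι` on sections over `W` -/
noncomputable def iotaW : S.X₁.obj.obj (op W) →+ S.X₂.obj.obj (op W) :=
  (S.f.hom.app (op W)).hom

/-- `π` on sections over `W` -/
noncomputable def piW : S.X₂.obj.obj (op W) →+ S.X₃.obj.obj (op W) :=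
  (S.g.hom.app (op W)).hom

/-- constants of `X₁` as sections of `X₂` over `W` -/
noncomputable def jj : M₁ →+ S.X₂.obj.obj (op W) := (iotaW S).comp (sig₁ S e₁)

include w₀ in
lemma sig₁_injective : Function.Injective (sig₁ S e₁) :=
  fun a a' h => sec0_inj S.X₁ e₁ (𝟙 W) w₀ a a' h

include w₀ in
lemma sig₃_injective : Function.Injective (sig₃ S e₃) :=
  fun a a' h => sec0_inj S.X₃ e₃ (𝟙 W) w₀ a a' h

include hS w₀ in
lemma jj_injective : Function.Injective (jj S e₁) :=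
  (iota_injective S hS W).comp (sig₁_injective S w₀ e₁)

lemma piW_jj (m : M₁) : piW S (jj S e₁ m) = 0 := pi_iota S W _

variable (hs : ∀ m, piW S (s m) = sig₃ S e₃ m)
  (hγ : ∀ a b, s (a + b) = s a + s b + jj S e₁ (γ a b))

include hγ in
lemma s_zero : s 0 + jj S e₁ (γ 0 0) = 0 := by
  have h := hγ 0 0
  rw [add_zero] at h
  have h2 : s 0 + (s 0 + jj S e₁ (γ 0 0)) = s 0 + 0 := by
    rw [add_zero, ← add_assoc]
    exact h.symm
  exact add_left_cancel h2

/-- the value group of the extension: a finite subgroup of sections of `X₂` over `W` -/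
noncomputable def EE : AddSubgroup (S.X₂.obj.obj (op W)) where
  carrier := {t | ∃ (m₁ : M₁) (m₃ : M₃), t = jj S e₁ m₁ + s m₃}
  zero_mem' := by
    refine ⟨γ 0 0, 0, ?_⟩
    rw [add_comm]
    exact (s_zero S e₁ s γ hγ).symm
  add_mem' := by
    rintro _ _ ⟨a₁, a₃, rfl⟩ ⟨b₁, b₃, rfl⟩
    refine ⟨a₁ + b₁ - γ a₃ b₃, a₃ + b₃, ?_⟩
    rw [hγ a₃ b₃, map_sub, map_add]
    abel
  neg_mem' := by
    rintro _ ⟨a₁, a₃, rfl⟩
    refine ⟨-a₁ + γ a₃ (-a₃) + γ 0 0, -a₃, ?_⟩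
    have h1 := hγ a₃ (-a₃)
    rw [add_neg_cancel] at h1
    have h0 := s_zero S e₁ s γ hγ
    have h2 : s 0 = -jj S e₁ (γ 0 0) := eq_neg_of_add_eq_zero_left h0
    rw [h2] at h1
    rw [map_add, map_add, map_neg]
    have h3 : s (-a₃) = -jj S e₁ (γ 0 0) - s a₃ - jj S e₁ (γ a₃ (-a₃)) := by
      rw [h1]
      abel
    rw [h3]
    abel

lemma mem_EE (m₁ : M₁) (m₃ : M₃) : jj S e₁ m₁ + s m₃ ∈ EE S e₁ s γ hγ := ⟨m₁, m₃, rfl⟩

include hγ in
lemma jj_mem_EE (m₁ : M₁) : jj S e₁ m₁ ∈ EE S e₁ s γ hγ := by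
  refine ⟨m₁ + γ 0 0, 0, ?_⟩
  rw [map_add, add_assoc, add_comm (jj S e₁ (γ 0 0)), s_zero S e₁ s γ hγ, add_zero]

lemma s_mem_EE (m₃ : M₃) : s m₃ ∈ EE S e₁ s γ hγ := by
  refine ⟨0, m₃, ?_⟩
  rw [map_zero, zero_add]

instance finite_EE [Finite M₁] [Finite M₃] : Finite (EE S e₁ s γ hγ) := by
  have hsurj : Function.Surjective (fun p : M₁ × M₃ =>
      (⟨jj S e₁ p.1 + s p.2, mem_EE S e₁ s γ hγ p.1 p.2⟩ : EE S e₁ s γ hγ)) := by
    rintro ⟨t, m₁, m₃, rfl⟩
    exact ⟨(m₁, m₃), rfl⟩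
  exact Finite.of_surjective _ hsurj

/-- the inclusion of `M₁` -/
noncomputable def iE : M₁ →+ EE S e₁ s γ hγ :=
  (jj S e₁).codRestrict (EE S e₁ s γ hγ) (jj_mem_EE S e₁ s γ hγ)

include hs in
lemma exists_pi_eq (t : EE S e₁ s γ hγ) : ∃ m₃ : M₃, piW S t.1 = sig₃ S e₃ m₃ := by
  obtain ⟨t, m₁, m₃, rfl⟩ := t
  refine ⟨m₃, ?_⟩
  show piW S (jj S e₁ m₁ + s m₃) = _
  rw [map_add, piW_jj, zero_add, hs]

include w₀ in
/-- the projection to `M₃` -/
noncomputable def pE : EE S e₁ s γ hγ →+ M₃ :=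
  AddMonoidHom.mk' (fun t => (exists_pi_eq S e₁ e₃ s γ hs hγ t).choose) (by
    intro t t'
    apply sig₃_injective S w₀ e₃
    rw [map_add, ← (exists_pi_eq S e₁ e₃ s γ hs hγ t).choose_spec,
      ← (exists_pi_eq S e₁ e₃ s γ hs hγ t').choose_spec,
      ← (exists_pi_eq S e₁ e₃ s γ hs hγ (t + t')).choose_spec]
    exact map_add (piW S) t.1 t'.1)

lemma pE_spec (t : EE S e₁ s γ hγ) : sig₃ S e₃ (pE S w₀ e₁ e₃ s γ hs hγ t) = piW S t.1 :=
  ((exists_pi_eq S e₁ e₃ s γ hs hγ t).choose_spec).symm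

lemma pE_iE (m₁ : M₁) : pE S w₀ e₁ e₃ s γ hs hγ (iE S e₁ s γ hγ m₁) = 0 := by
  apply sig₃_injective S w₀ e₃
  rw [pE_spec, map_zero]
  exact piW_jj S e₁ m₁

include hS w₀ in
lemma iE_injective : Function.Injective (iE S e₁ s γ hγ) := by
  intro a a' h
  apply jj_injective S hS w₀ e₁
  exact congrArg Subtype.val h

lemma pE_surjective : Function.Surjective (pE S w₀ e₁ e₃ s γ hs hγ) := by
  intro m₃
  refine ⟨⟨s m₃, s_mem_EE S e₁ s γ hγ m₃⟩, ?_⟩
  apply sig₃_injective S w₀ e₃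
  rw [pE_spec]
  exact hs m₃

lemma ker_pE (t : EE S e₁ s γ hγ) (ht : pE S w₀ e₁ e₃ s γ hs hγ t = 0) :
    ∃ m₁, iE S e₁ s γ hγ m₁ = t := by
  obtain ⟨t, m₁, m₃, rfl⟩ := t
  have h1 := pE_spec S w₀ e₁ e₃ s γ hs hγ ⟨_, mem_EE S e₁ s γ hγ m₁ m₃⟩
  rw [ht, map_zero] at h1
  have h2 : piW S (jj S e₁ m₁ + s m₃) = sig₃ S e₃ m₃ := by
    rw [map_add, piW_jj, zero_add, hs]
  have h3 : m₃ = 0 := by
    apply sig₃_injective S w₀ e₃
    rw [map_zero, ← h2]
    exact h1.symm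
  subst h3
  refine ⟨m₁ - γ 0 0, ?_⟩
  apply Subtype.ext
  show jj S e₁ (m₁ - γ 0 0) = jj S e₁ m₁ + s 0
  have h0 := s_zero S e₁ s γ hγ
  have h4 : s 0 = -jj S e₁ (γ 0 0) := eq_neg_of_add_eq_zero_left h0
  rw [h4, map_sub]
  abel

/-- the short complex `0 → M₁ → E → M₃ → 0` of groups -/
noncomputable def TT : ShortComplex AddCommGrpCat.{u + 1} :=
  ShortComplex.mk (X₁ := M₁) (X₂ := AddCommGrpCat.of (EE S e₁ s γ hγ)) (X₃ := M₃)
    (AddCommGrpCat.ofHom (iE S e₁ s γ hγ)) (AddCommGrpCat.ofHom (pE S w₀ e₁ e₃ s γ hs hγ)) (by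
      ext m₁
      exact pE_iE S w₀ e₁ e₃ s γ hs hγ m₁)

include hS in
lemma TT_shortExact : (TT S w₀ e₁ e₃ s γ hs hγ).ShortExact := by
  haveI : Mono (TT S w₀ e₁ e₃ s γ hs hγ).f :=
    (AddCommGrpCat.mono_iff_injective _).2 (iE_injective S hS w₀ e₁ s γ hγ)
  haveI : Epi (TT S w₀ e₁ e₃ s γ hs hγ).g :=
    (AddCommGrpCat.epi_iff_surjective _).2 (pE_surjective S w₀ e₁ e₃ s γ hs hγ)
  refine ShortComplex.ShortExact.mk' ?_ inferInstance inferInstance
  rw [ShortComplex.ab_exact_iff]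
  intro t ht
  exact ker_pE S w₀ e₁ e₃ s γ hs hγ t ht

/-- the comparison morphism of short complexes of sheaves over `W` -/
noncomputable def Phi :
    (TT S w₀ e₁ e₃ s γ hs hγ).map
        (constantSheaf (X.smallEtaleTopology.over W) AddCommGrpCat.{u + 1}) ⟶
      S.map (X.smallEtaleTopology.overPullback AddCommGrpCat.{u + 1} W) where
  τ₁ := e₁.inv
  τ₂ := psi S.X₂ (EE S e₁ s γ hγ)
  τ₃ := e₃.inv
  comm₁₂ := by
    apply cst_hom_ext
    intro T m₁
    symm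
    show ((psi S.X₂ (EE S e₁ s γ hγ)).hom.app (op T) : _ ⟶ _)
        ((((constantSheaf (X.smallEtaleTopology.over W) AddCommGrpCat.{u + 1}).map
          (AddCommGrpCat.ofHom (iE S e₁ s γ hγ))).hom.app (op T) : _ ⟶ _)
          (eta.{u + 1, u, u + 1} (X.smallEtaleTopology.over W) M₁ (op T) m₁)) =
      (S.f.hom.app (op T.left) : _ ⟶ _) (sec0 S.X₁ e₁ T.hom m₁)
    rw [eta_map]
    refine (psi_eta S.X₂ (EE S e₁ s γ hγ) T (iE S e₁ s γ hγ m₁)).trans ?_
    show S.X₂.obj.map T.hom.op ((S.f.hom.app (op W) : _ ⟶ _) (sec0 S.X₁ e₁ (𝟙 W) m₁)) = _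
    rw [phi_nat S.X₁ S.X₂ S.f T.hom, sec0_nat, Category.comp_id]
  comm₂₃ := by
    apply cst_hom_ext
    intro T t
    symm
    show (e₃.inv.hom.app (op T) : _ ⟶ _)
        ((((constantSheaf (X.smallEtaleTopology.over W) AddCommGrpCat.{u + 1}).map
          (AddCommGrpCat.ofHom (pE S w₀ e₁ e₃ s γ hs hγ))).hom.app (op T) : _ ⟶ _)
          (eta.{u + 1, u, u + 1} (X.smallEtaleTopology.over W)
            (AddCommGrpCat.of (EE S e₁ s γ hγ)) (op T) t)) =
      (S.g.hom.app (op T.left) : _ ⟶ _)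
        (((psi S.X₂ (EE S e₁ s γ hγ)).hom.app (op T) : _ ⟶ _)
          (eta.{u + 1, u, u + 1} (X.smallEtaleTopology.over W)
            (AddCommGrpCat.of (EE S e₁ s γ hγ)) (op T) t))
    rw [eta_map, psi_eta, ← phi_nat S.X₂ S.X₃ S.g T.hom]
    have h1 : (S.g.hom.app (op W) : _ ⟶ _) t.1 =
        sec0 S.X₃ e₃ (𝟙 W) (pE S w₀ e₁ e₃ s γ hs hγ t) :=
      (pE_spec S w₀ e₁ e₃ s γ hs hγ t).symm
    rw [h1, sec0_nat, Category.comp_id]
    rfl

include hS w₀ e₁ e₃ s γ hs hγ in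
/-- the structure theorem: on `W` the middle term is constant with the finite value group `E` -/
theorem nonempty_triv_middle [Finite M₁] [Finite M₃] :
    ∃ (E : AddCommGrpCat.{u + 1}) (_ : Finite E),
      Nonempty (EtCoh.restr S.X₂ W ≅ cst.{u + 1, u, u + 1} (X.smallEtaleTopology.over W) E) := by
  have h1 : ((TT S w₀ e₁ e₃ s γ hs hγ).map
      (constantSheaf (X.smallEtaleTopology.over W) AddCommGrpCat.{u + 1})).ShortExact :=
    (TT_shortExact S hS w₀ e₁ e₃ s γ hs hγ).map_of_exact _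
  have h2 : (S.map (X.smallEtaleTopology.overPullback AddCommGrpCat.{u + 1} W)).ShortExact :=
    hS.map_of_exact _
  haveI : IsIso (Phi S w₀ e₁ e₃ s γ hs hγ).τ₁ := inferInstanceAs (IsIso e₁.inv)
  haveI : IsIso (Phi S w₀ e₁ e₃ s γ hs hγ).τ₃ := inferInstanceAs (IsIso e₃.inv)
  have h3 : IsIso (Phi S w₀ e₁ e₃ s γ hs hγ).τ₂ :=
    ShortComplex.isIso₂_of_shortExact_of_isIso₁₃ _ h1 h2
  haveI : IsIso (psi S.X₂ (EE S e₁ s γ hγ)) := h3
  exact ⟨AddCommGrpCat.of (EE S e₁ s γ hγ), finite_EE S e₁ s γ hγ,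
    ⟨(asIso (psi S.X₂ (EE S e₁ s γ hγ))).symm⟩⟩

end Structure

/-- the middle term of a short exact sequence with finite locally constant ends is finite locally
constant -/
theorem flc_of_shortExact (S : ShortComplex (EtCoh.Ab X)) (hS : S.ShortExact)
    (h₁ : EtCoh.IsFiniteLocallyConstant S.X₁) (h₃ : EtCoh.IsFiniteLocallyConstant S.X₃) :
    EtCoh.IsFiniteLocallyConstant S.X₂ := by
  have key : ∀ x : X, ∃ (Q : X.Etale) (z : Q.left), Q.hom.base z = x ∧
      ∃ (K : Type) (_ : AddCommGroup K) (_ : Finite K),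
        Nonempty (EtCoh.restr S.X₂ Q ≅
          (constantSheaf (X.smallEtaleTopology.over Q) AddCommGrpCat.{u + 1}).obj
            (AddCommGrpCat.of (ULift.{u + 1} K))) := by
    intro x
    obtain ⟨ι, U, hU, hM⟩ := h₁
    obtain ⟨κ, V, hV, hN⟩ := h₃
    obtain ⟨i, y, hy⟩ := hU x
    obtain ⟨j, y', hy'⟩ := hV x
    obtain ⟨M, instM, finM, ⟨e₁⟩⟩ := hM i
    obtain ⟨N, instN, finN, ⟨e₃⟩⟩ := hN j
    haveI : Finite (AddCommGrpCat.of (ULift.{u + 1} M)) :=
      inferInstanceAs (Finite (ULift.{u + 1} M))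
    haveI : Finite (AddCommGrpCat.of (ULift.{u + 1} N)) :=
      inferInstanceAs (Finite (ULift.{u + 1} N))
    let f₁ : U i ⟶ EtCoh.top X :=
      MorphismProperty.Over.homMk (U i).hom (Category.comp_id _) trivial
    let f₂ : V j ⟶ EtCoh.top X :=
      MorphismProperty.Over.homMk (V j).hom (Category.comp_id _) trivial
    obtain ⟨P, k, k', z, -, hz, -⟩ := exists_common f₁ f₂ y y' (hy.trans hy'.symm)
    obtain ⟨W, w, w₀, hw₀, s, γ, hs, hγ⟩ :=
      exists_ext_data S hS z (restrTriv S.X₁ k e₁) (restrTriv S.X₃ k' e₃)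
    have hs' : ∀ m, piW S (s m) =
        sig₃ S (restrTriv S.X₃ w (restrTriv S.X₃ k' e₃)) m := by
      intro m
      show (S.g.hom.app (op W) : _ ⟶ _) (s m) =
        sec0 S.X₃ (restrTriv S.X₃ w (restrTriv S.X₃ k' e₃)) (𝟙 W) m
      rw [sec0_restrTriv, Category.id_comp]
      exact hs m
    have hγ' : ∀ a b, s (a + b) = s a + s b +
        jj S (restrTriv S.X₁ w (restrTriv S.X₁ k e₁)) (γ a b) := by
      intro a b
      show s (a + b) = s a + s b + (S.f.hom.app (op W) : _ ⟶ _)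
        (sec0 S.X₁ (restrTriv S.X₁ w (restrTriv S.X₁ k e₁)) (𝟙 W) (γ a b))
      rw [sec0_restrTriv, Category.id_comp]
      exact hγ a b
    obtain ⟨E, finE, ⟨eE⟩⟩ := nonempty_triv_middle S hS w₀
      (restrTriv S.X₁ w (restrTriv S.X₁ k e₁)) (restrTriv S.X₃ w (restrTriv S.X₃ k' e₃))
      s γ hs' hγ'
    obtain ⟨K, i1, i2, ⟨eK⟩⟩ := exists_type0_model E
    refine ⟨W, w₀, ?_, K, i1, i2, ⟨eE ≪≫
      (constantSheaf (X.smallEtaleTopology.over W) AddCommGrpCat.{u + 1}).mapIso eK⟩⟩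
    have e1 : w.left ≫ P.hom = W.hom := MorphismProperty.Over.w w
    have e2 : k.left ≫ (U i).hom = P.hom := MorphismProperty.Over.w k
    rw [← e1, ← e2]
    show (U i).hom.base (k.left.base (w.left.base w₀)) = x
    rw [hw₀, hz, hy]
  choose Q z hz hK using key
  exact ⟨X, Q, fun x => ⟨x, z x, hz x⟩, hK⟩

end Groth.Agent.Lib.Helper21.FlcExt
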