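import Mathlib
import Groth.Prelude.Def_EtBase
import Groth.Prelude.Def_PBC

/-!
# Restriction to over-sites commutes with inverse image (small étale sites)

For `f : X ⟶ Y`, `U : Y.Etale`, `U' = (EtCoh.bc f).obj U`, and any coefficient category `A`
(with the needed left adjoints), we construct
`resPullIso : pull f ⋙ res U' ≅ res U ⋙ pullO f U` and
`pullOCstIso : cstO U ⋙ pullO f U ≅ cstO U'`.
Hence: if `F|_U` is constant with value `M`, then `(f⁻¹F)|_{U'}` is constant with value `M`
(`restr_pull_const`), and finite locally constant sheaves are stable under inverse image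
(`flc_pull`).
-/

universe u
open CategoryTheory Limits AlgebraicGeometry Opposite

namespace Groth.Agent.Lib.helper21.FlcPull

variable {X Y : Scheme.{u}} (f : X ⟶ Y) (U : Y.Etale)

/-- base change on over-categories -/
noncomputable abbrev bcO : Over U ⥤ Over ((EtCoh.bc f).obj U) := Over.post (EtCoh.bc f)

instance bcO_cont : (bcO f U).IsContinuous (Y.smallEtaleTopology.over U)
    (X.smallEtaleTopology.over ((EtCoh.bc f).obj U)) := by
  have : Functor.PreservesOneHypercovers.{u+1} (EtCoh.bc f) Y.smallEtaleTopology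
      X.smallEtaleTopology :=
    Functor.PreservesOneHypercovers.of_coverPreserving (EtCoh.coverPreserving_bc f)
  infer_instance

/-- the comparison of `star` with base change -/
noncomputable def starBc :
    EtCoh.bc f ⋙ Over.star ((EtCoh.bc f).obj U) ≅ Over.star U ⋙ bcO f U :=
  NatIso.ofComponents (fun V => Over.isoMk (PreservesLimitPair.iso (EtCoh.bc f) U V).symm
    (by
      rw [Iso.symm_hom, Iso.inv_comp_eq, PreservesLimitPair.iso_hom]
      change (EtCoh.bc f).map ((Over.star U).obj V).hom =
        prodComparison (EtCoh.bc f) U V ≫ ((Over.star ((EtCoh.bc f).obj U)).obj ((EtCoh.bc f).obj V)).hom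
      have h1 : ((Over.star U).obj V).hom = (prod.fst : U ⨯ V ⟶ U) :=
        (Over.star_obj_hom U V).trans (prod.lift_fst _ _)
      have h2 : ((Over.star ((EtCoh.bc f).obj U)).obj ((EtCoh.bc f).obj V)).hom =
          (prod.fst : (EtCoh.bc f).obj U ⨯ (EtCoh.bc f).obj V ⟶ (EtCoh.bc f).obj U) :=
        (Over.star_obj_hom _ _).trans (prod.lift_fst _ _)
      exact (congrArg (fun t : (U ⨯ V ⟶ U) => (EtCoh.bc f).map t) h1).trans
        ((prodComparison_fst (EtCoh.bc f) U V).symm.trans
          (congrArg (fun t : ((EtCoh.bc f).obj U ⨯ (EtCoh.bc f).obj V ⟶ (EtCoh.bc f).obj U) =>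
            prodComparison (EtCoh.bc f) U V ≫ t) h2.symm))))
    (fun {V W} k => by
      ext
      change prod.map (𝟙 _) ((EtCoh.bc f).map k) ≫ (PreservesLimitPair.iso (EtCoh.bc f) U W).inv =
        (PreservesLimitPair.iso (EtCoh.bc f) U V).inv ≫ (EtCoh.bc f).map (prod.map (𝟙 U) k)
      rw [← cancel_epi (PreservesLimitPair.iso (EtCoh.bc f) U V).hom, Iso.hom_inv_id_assoc,
        ← cancel_mono (PreservesLimitPair.iso (EtCoh.bc f) U W).hom, Category.assoc,
        Category.assoc, Iso.inv_hom_id, Category.comp_id, PreservesLimitPair.iso_hom,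
        PreservesLimitPair.iso_hom]
      have := prodComparison_natural (EtCoh.bc f) (𝟙 U) k
      rw [CategoryTheory.Functor.map_id] at this
      exact this.symm)

instance starBcO_cont : (Over.star U ⋙ bcO f U).IsContinuous Y.smallEtaleTopology
    (X.smallEtaleTopology.over ((EtCoh.bc f).obj U)) :=
  Functor.isContinuous_comp _ _ _ (Y.smallEtaleTopology.over U) _

/-- the base change of the terminal object of `Over U` -/
noncomputable abbrev T' : Over ((EtCoh.bc f).obj U) := (bcO f U).obj (Over.mk (𝟙 U))

noncomputable def hT' : IsTerminal (T' f U) :=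
  IsTerminal.ofIso Over.mkIdTerminal
    (Over.isoMk (Iso.refl _) (by
      change 𝟙 _ ≫ (EtCoh.bc f).map (𝟙 U) = 𝟙 _
      rw [CategoryTheory.Functor.map_id, Category.id_comp]))

section Generic

variable (A : Type (u + 2)) [Category.{u + 1} A]

/-- sheaves on the over site -/
abbrev ShO (U : Y.Etale) : Type (u + 2) :=
  Sheaf (Y.smallEtaleTopology.over U) A

/-- restriction to the over site -/
noncomputable abbrev res (U : Y.Etale) : Sheaf Y.smallEtaleTopology A ⥤ ShO A U :=
  Y.smallEtaleTopology.overPullback A U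

/-- right adjoint of restriction -/
noncomputable abbrev star (U : Y.Etale) : ShO A U ⥤ Sheaf Y.smallEtaleTopology A :=
  (Over.star U).sheafPushforwardContinuous A Y.smallEtaleTopology
    (Y.smallEtaleTopology.over U)

noncomputable def resStarAdj (U : Y.Etale) : res A U ⊣ star A U :=
  (Over.forgetAdjStar U).sheafPushforwardContinuous (Y.smallEtaleTopology.over U)
    Y.smallEtaleTopology

/-- pushforward on small étale sites (general coefficients) -/
noncomputable abbrev gpush : Sheaf X.smallEtaleTopology A ⥤ Sheaf Y.smallEtaleTopology A :=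
  (EtCoh.bc f).sheafPushforwardContinuous A Y.smallEtaleTopology X.smallEtaleTopology

/-- pushforward on over sites -/
noncomputable abbrev pushO : ShO A ((EtCoh.bc f).obj U) ⥤ ShO A U :=
  (bcO f U).sheafPushforwardContinuous A (Y.smallEtaleTopology.over U)
    (X.smallEtaleTopology.over ((EtCoh.bc f).obj U))

/-- iso of the right adjoints -/
noncomputable def rightIso :
    star A ((EtCoh.bc f).obj U) ⋙ gpush f A ≅ pushO f U A ⋙ star A U :=
  Functor.sheafPushforwardContinuousComp' (starBc f U) A
      Y.smallEtaleTopology X.smallEtaleTopology (X.smallEtaleTopology.over ((EtCoh.bc f).obj U)) ≪≫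
    (Functor.sheafPushforwardContinuousComp' (Iso.refl (Over.star U ⋙ bcO f U))
      A Y.smallEtaleTopology (Y.smallEtaleTopology.over U)
      (X.smallEtaleTopology.over ((EtCoh.bc f).obj U))).symm

variable [((EtCoh.bc f).sheafPushforwardContinuous A Y.smallEtaleTopology
    X.smallEtaleTopology).IsRightAdjoint]
  [((bcO f U).sheafPushforwardContinuous A (Y.smallEtaleTopology.over U)
    (X.smallEtaleTopology.over ((EtCoh.bc f).obj U))).IsRightAdjoint]

/-- pullback on small étale sites (general coefficients) -/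
noncomputable abbrev gpull : Sheaf Y.smallEtaleTopology A ⥤ Sheaf X.smallEtaleTopology A :=
  (EtCoh.bc f).sheafPullback A Y.smallEtaleTopology X.smallEtaleTopology

/-- pullback on over sites -/
noncomputable abbrev pullO : ShO A U ⥤ ShO A ((EtCoh.bc f).obj U) :=
  (bcO f U).sheafPullback A (Y.smallEtaleTopology.over U)
    (X.smallEtaleTopology.over ((EtCoh.bc f).obj U))

noncomputable abbrev pullPushOAdj : pullO f U A ⊣ pushO f U A :=
  (bcO f U).sheafAdjunctionContinuous A (Y.smallEtaleTopology.over U)
    (X.smallEtaleTopology.over ((EtCoh.bc f).obj U))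

noncomputable def adj1 :
    gpull f A ⋙ res A ((EtCoh.bc f).obj U) ⊣ star A ((EtCoh.bc f).obj U) ⋙ gpush f A :=
  ((EtCoh.bc f).sheafAdjunctionContinuous A Y.smallEtaleTopology X.smallEtaleTopology).comp
    (resStarAdj A _)

noncomputable def adj2 : res A U ⋙ pullO f U A ⊣ pushO f U A ⋙ star A U :=
  (resStarAdj A U).comp (pullPushOAdj f U A)

/-- restriction commutes with pullback -/
noncomputable def resPullIso :
    gpull f A ⋙ res A ((EtCoh.bc f).obj U) ≅ res A U ⋙ pullO f U A :=
  (conjugateIsoEquiv (adj2 f U A) (adj1 f U A)).symm (rightIso f U A).symm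

variable [HasWeakSheafify (Y.smallEtaleTopology.over U) A]
  [HasWeakSheafify (X.smallEtaleTopology.over ((EtCoh.bc f).obj U)) A]

/-- constant sheaf on the over site -/
noncomputable abbrev cstO (U : Y.Etale) [HasWeakSheafify (Y.smallEtaleTopology.over U) A] :
    A ⥤ ShO A U :=
  constantSheaf (Y.smallEtaleTopology.over U) A

noncomputable def cadjO (U : Y.Etale) [HasWeakSheafify (Y.smallEtaleTopology.over U) A] :
    cstO A U ⊣ (sheafSections (Y.smallEtaleTopology.over U) A).obj
      (op (Over.mk (𝟙 U))) :=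
  constantSheafAdj _ _ Over.mkIdTerminal

noncomputable def cadjO' :
    cstO A ((EtCoh.bc f).obj U) ⊣
      (sheafSections (X.smallEtaleTopology.over ((EtCoh.bc f).obj U)) A).obj
        (op (T' f U)) :=
  constantSheafAdj _ _ (hT' f U)

/-- pullback on over sites of a constant sheaf is constant -/
noncomputable def pullOCstIso : cstO A U ⋙ pullO f U A ≅ cstO A ((EtCoh.bc f).obj U) :=
  Adjunction.leftAdjointCompIso (cadjO A U) (pullPushOAdj f U A) (cadjO' f U A)
    (NatIso.ofComponents (fun _ => Iso.refl _)
      (fun {P Q} k => (Category.comp_id _).trans (Category.id_comp _).symm))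

theorem restr_pull_const_gen (F : Sheaf Y.smallEtaleTopology A) (M : A)
    (h : Nonempty (F.over U ≅ (cstO A U).obj M)) :
    Nonempty (((gpull f A).obj F).over ((EtCoh.bc f).obj U) ≅
      (cstO A ((EtCoh.bc f).obj U)).obj M) := by
  obtain ⟨φ⟩ := h
  exact ⟨(resPullIso f U A).app F ≪≫ (pullO f U A).mapIso φ ≪≫ (pullOCstIso f U A).app M⟩

end Generic

theorem restr_pull_const (F : EtCoh.Ab Y) (M : AddCommGrpCat.{u + 1})
    (h : Nonempty (EtCoh.restr F U ≅
      (constantSheaf (Y.smallEtaleTopology.over U) AddCommGrpCat.{u + 1}).obj M)) :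
    Nonempty (EtCoh.restr ((EtCoh.pull f).obj F) ((EtCoh.bc f).obj U) ≅
      (constantSheaf (X.smallEtaleTopology.over ((EtCoh.bc f).obj U)) AddCommGrpCat.{u + 1}).obj M) :=
  restr_pull_const_gen f U AddCommGrpCat.{u + 1} F M h

theorem covers_bc {ι : Type u} (V : ι → Y.Etale) (hV : EtCoh.Covers V) :
    EtCoh.Covers (fun i => (EtCoh.bc f).obj (V i)) := by
  intro x
  obtain ⟨i, y, hy⟩ := hV (f.base x)
  obtain ⟨z, -, hz2⟩ := Scheme.Pullback.exists_preimage_pullback
    (f := (V i).hom) (g := f) y x hy
  exact ⟨i, z, hz2⟩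

/-- finite locally constant sheaves are stable under inverse image -/
theorem flc_pull (F : EtCoh.Ab Y) (hF : EtCoh.IsFiniteLocallyConstant F) :
    EtCoh.IsFiniteLocallyConstant ((EtCoh.pull f).obj F) := by
  obtain ⟨ι, V, hV, h⟩ := hF
  refine ⟨ι, fun i => (EtCoh.bc f).obj (V i), covers_bc f V hV, fun i => ?_⟩
  obtain ⟨M, iM, fM, hM⟩ := h i
  exact ⟨M, iM, fM, restr_pull_const f (V i) F _ hM⟩

end Groth.Agent.Lib.helper21.FlcPull
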