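import Mathlib
import Groth.Prelude.Def_EtBase
import Groth.Prelude.Def_PBC
import Groth.Agent.Lib.Helper21.FlcPull
import Groth.Agent.Lib.Helper21.FlcSerre
import Groth.Agent.Lib.Helper21.FlcExt
import Groth.Agent.S0101

universe u
open CategoryTheory Limits AlgebraicGeometry Opposite

namespace Groth.Agent.Lib.helper21.Constr

/-- pullbacks compose -/
noncomputable def pullComp {X Y Z : Scheme.{u}} (h : Z ⟶ X) (g : X ⟶ Y) :
    EtCoh.pull g ⋙ EtCoh.pull h ≅ EtCoh.pull (h ≫ g) :=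
  Adjunction.leftAdjointCompIso (EtCoh.pullPushAdj g) (EtCoh.pullPushAdj h)
    (EtCoh.pullPushAdj (h ≫ g)) (EtCoh.pushComp g h)

theorem flc_of_iso {X : Scheme.{u}} {F G : EtCoh.Ab X} (e : F ≅ G)
    (hF : EtCoh.IsFiniteLocallyConstant F) : EtCoh.IsFiniteLocallyConstant G := by
  obtain ⟨ι, V, hV, h⟩ := hF
  refine ⟨ι, V, hV, fun i => ?_⟩
  obtain ⟨M, iM, fM, ⟨φ⟩⟩ := h i
  exact ⟨M, iM, fM, ⟨(X.smallEtaleTopology.overPullback AddCommGrpCat.{u + 1} (V i)).mapIso e.symm ≪≫ φ⟩⟩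

theorem flc_pull_comp {X Y Z : Scheme.{u}} (h : Z ⟶ X) (g : X ⟶ Y) (F : EtCoh.Ab Y)
    (hF : EtCoh.IsFiniteLocallyConstant ((EtCoh.pull g).obj F)) :
    EtCoh.IsFiniteLocallyConstant ((EtCoh.pull (h ≫ g)).obj F) :=
  flc_of_iso ((pullComp h g).app F) (FlcPull.flc_pull h _ hF)

instance pull_preservesFiniteLimits {X Y : Scheme.{u}} (g : X ⟶ Y) :
    PreservesFiniteLimits (EtCoh.pull g) :=
  Groth.Agent.S0101.result g

instance pull_preservesColimits {X Y : Scheme.{u}} (g : X ⟶ Y) :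
    PreservesColimitsOfSize.{0, 0} (EtCoh.pull g) :=
  (EtCoh.pullPushAdj g).leftAdjoint_preservesColimits

instance pull_additive {X Y : Scheme.{u}} (g : X ⟶ Y) : (EtCoh.pull g).Additive :=
  Functor.additive_of_preserves_binary_products _

/-- common refinement of two adapted stratifications -/
theorem exists_common_strata {X : Scheme.{u}} (F G : EtCoh.Ab X) (S : Set X)
    (hF : EtPBC.AdaptedStrata F S) (hG : EtPBC.AdaptedStrata G S) :
    ∃ (n : ℕ) (T : Fin n → Scheme.{u}) (g : ∀ i, T i ⟶ X),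
      (∀ i, IsImmersion (g i)) ∧
      (∀ i, Topology.IsConstructible ((Subtype.val : S → X) ⁻¹' Set.range (g i))) ∧
      Pairwise (fun i j => Disjoint (Set.range (g i)) (Set.range (g j))) ∧
      (⋃ i, Set.range (g i)) = S ∧
      ∀ i, EtCoh.IsFiniteLocallyConstant ((EtCoh.pull (g i)).obj F) ∧
        EtCoh.IsFiniteLocallyConstant ((EtCoh.pull (g i)).obj G) := by
  obtain ⟨n₁, T₁, g₁, hi₁, hc₁, hd₁, hu₁, hf₁⟩ := hF
  obtain ⟨n₂, T₂, g₂, hi₂, hc₂, hd₂, hu₂, hf₂⟩ := hG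
  let e : Fin (n₁ * n₂) ≃ Fin n₁ × Fin n₂ := finProdFinEquiv.symm
  have hr : ∀ k : Fin (n₁ * n₂),
      Set.range (pullback.fst (g₁ (e k).1) (g₂ (e k).2) ≫ g₁ (e k).1) =
        Set.range (g₁ (e k).1) ∩ Set.range (g₂ (e k).2) :=
    fun k => Scheme.Pullback.range_fst_comp _ _
  refine ⟨n₁ * n₂, fun k => pullback (g₁ (e k).1) (g₂ (e k).2),
    fun k => pullback.fst (g₁ (e k).1) (g₂ (e k).2) ≫ g₁ (e k).1, ?_, ?_, ?_, ?_, ?_⟩
  · intro k
    have := hi₁ (e k).1
    have := hi₂ (e k).2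
    infer_instance
  · intro k
    rw [hr k, Set.preimage_inter]
    exact (hc₁ _).inter (hc₂ _)
  · intro k l hkl
    rw [hr k, hr l]
    have hne : e k ≠ e l := fun h => hkl (e.injective h)
    by_cases h1 : (e k).1 = (e l).1
    · have h2 : (e k).2 ≠ (e l).2 := fun h2 => hne (Prod.ext h1 h2)
      exact (hd₂ h2).mono Set.inter_subset_right Set.inter_subset_right
    · exact (hd₁ h1).mono Set.inter_subset_left Set.inter_subset_left
  · ext x
    simp only [Set.mem_iUnion]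
    constructor
    · rintro ⟨k, hk⟩
      rw [hr k] at hk
      rw [← hu₁]
      exact Set.mem_iUnion.2 ⟨_, hk.1⟩
    · intro hx
      have hx1 := hx
      rw [← hu₁] at hx1
      rw [← hu₂] at hx
      obtain ⟨i, hi⟩ := Set.mem_iUnion.1 hx1
      obtain ⟨j, hj⟩ := Set.mem_iUnion.1 hx
      refine ⟨e.symm (i, j), ?_⟩
      rw [hr, Equiv.apply_symm_apply]
      exact ⟨hi, hj⟩
  · intro k
    refine ⟨flc_pull_comp _ _ F (hf₁ _), ?_⟩
    have h2 := flc_pull_comp (pullback.snd (g₁ (e k).1) (g₂ (e k).2)) (g₂ (e k).2) G (hf₂ _)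
    have hcond : pullback.snd (g₁ (e k).1) (g₂ (e k).2) ≫ g₂ (e k).2 =
        pullback.fst (g₁ (e k).1) (g₂ (e k).2) ≫ g₁ (e k).1 := pullback.condition.symm
    rw [hcond] at h2
    exact h2

/-- kernels and cokernels of maps of constructible sheaves are constructible -/
theorem constr_kernel_cokernel {X : Scheme.{u}} {F G : EtCoh.Ab X} (φ : F ⟶ G)
    (hF : EtPBC.IsConstructible F) (hG : EtPBC.IsConstructible G) :
    EtPBC.IsConstructible (kernel φ) ∧ EtPBC.IsConstructible (cokernel φ) := by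
  constructor
  · intro U hU
    obtain ⟨n, T, g, hi, hc, hd, hu, hf⟩ := exists_common_strata F G _ (hF U hU) (hG U hU)
    refine ⟨n, T, g, hi, hc, hd, hu, fun i _ => ?_⟩
    have h := (Groth.Agent.Lib.Helper21.FlcSerre.flc_kernel_cokernel _ _ ((EtCoh.pull (g i)).map φ) (hf i).1 (hf i).2).1
    exact flc_of_iso (PreservesKernel.iso (EtCoh.pull (g i)) φ).symm h
  · intro U hU
    obtain ⟨n, T, g, hi, hc, hd, hu, hf⟩ := exists_common_strata F G _ (hF U hU) (hG U hU)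
    refine ⟨n, T, g, hi, hc, hd, hu, fun i _ => ?_⟩
    have h := (Groth.Agent.Lib.Helper21.FlcSerre.flc_kernel_cokernel _ _ ((EtCoh.pull (g i)).map φ) (hf i).1 (hf i).2).2
    exact flc_of_iso (PreservesCokernel.iso (EtCoh.pull (g i)) φ).symm h

/-- extensions of constructible sheaves are constructible -/
theorem constr_of_shortExact {X : Scheme.{u}} (S : ShortComplex (EtCoh.Ab X)) (hS : S.ShortExact)
    (h1 : EtPBC.IsConstructible S.X₁) (h3 : EtPBC.IsConstructible S.X₃) :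
    EtPBC.IsConstructible S.X₂ := by
  intro U hU
  obtain ⟨n, T, g, hi, hc, hd, hu, hf⟩ := exists_common_strata S.X₁ S.X₃ _ (h1 U hU) (h3 U hU)
  refine ⟨n, T, g, hi, hc, hd, hu, fun i _ => ?_⟩
  have hS' : (S.map (EtCoh.pull (g i))).ShortExact := hS.map_of_exact (EtCoh.pull (g i))
  exact Groth.Agent.Lib.Helper21.FlcExt.flc_of_shortExact (S.map (EtCoh.pull (g i))) hS' (hf i).1 (hf i).2

end Groth.Agent.Lib.helper21.Constr
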