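import Mathlib
import Groth.Prelude.Def_EtBase
import Groth.Prelude.Def_PBC
import Groth.Agent.Lib.Helper21.Constr

universe u
open CategoryTheory Limits AlgebraicGeometry Opposite

namespace Groth.Agent.Lib.helper21.Strata

open Groth.Agent.Lib.helper21.Constr

variable {X : Scheme.{u}}

/-- `Strata F S R`: a finite family of immersions into `X`, with pairwise disjoint images of
union `R`, each constructible in the subspace `S`, along which `F` is finite locally constant. -/
def Strata (F : EtCoh.Ab X) (S R : Set X) : Prop :=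
  ∃ (κ : Type) (_ : Finite κ) (T : κ → Scheme.{u}) (g : ∀ i, T i ⟶ X),
    (∀ i, IsImmersion (g i)) ∧
    (∀ i, Topology.IsConstructible ((Subtype.val : S → X) ⁻¹' Set.range (g i))) ∧
    Pairwise (fun i j => Disjoint (Set.range (g i)) (Set.range (g j))) ∧
    (⋃ i, Set.range (g i)) = R ∧
    ∀ i, EtCoh.IsFiniteLocallyConstant ((EtCoh.pull (g i)).obj F)

theorem strata_of_adapted {F : EtCoh.Ab X} {S : Set X} (h : EtPBC.AdaptedStrata F S) :
    Strata F S S := by
  obtain ⟨n, T, g, hi, hc, hd, hu, hf⟩ := h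
  exact ⟨Fin n, inferInstance, T, g, hi, hc, hd, hu, fun i => hf i⟩

theorem adapted_of_strata {F : EtCoh.Ab X} {S : Set X} (h : Strata F S S) :
    EtPBC.AdaptedStrata F S := by
  obtain ⟨κ, hκ, T, g, hi, hc, hd, hu, hf⟩ := h
  obtain ⟨n, ⟨e⟩⟩ := Finite.exists_equiv_fin κ
  refine ⟨n, fun k => T (e.symm k), fun k => g (e.symm k), fun k => hi _, fun k => hc _, ?_, ?_,
    fun k _ => hf _⟩
  · intro k l hkl
    exact hd (fun h => hkl (e.symm.injective h))
  · rw [← hu]
    exact e.symm.surjective.iUnion_comp (fun i => Set.range (g i))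

theorem Strata.iUnion {F : EtCoh.Ab X} {S : Set X} {κ : Type} [Finite κ] (R : κ → Set X)
    (hd : Pairwise (fun k l => Disjoint (R k) (R l))) (h : ∀ k, Strata F S (R k)) :
    Strata F S (⋃ k, R k) := by
  choose κ' hκ' T g hi hc hdd hu hf using h
  refine ⟨Σ k, κ' k, inferInstance, fun p => T p.1 p.2, fun p => g p.1 p.2, fun p => hi _ _,
    fun p => hc _ _, ?_, ?_, fun p => hf _ _⟩
  · rintro ⟨k, i⟩ ⟨l, j⟩ hne
    by_cases hkl : k = l
    · subst hkl
      have hij : i ≠ j := fun h => hne (by rw [h])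
      exact hdd k hij
    · have h1 : Set.range (g k i) ⊆ R k := by rw [← hu k]; exact Set.subset_iUnion (fun i => Set.range (g k i)) i
      have h2 : Set.range (g l j) ⊆ R l := by rw [← hu l]; exact Set.subset_iUnion (fun j => Set.range (g l j)) j
      exact (hd hkl).mono h1 h2
  · rw [Set.iUnion_sigma]
    exact Set.iUnion_congr hu

theorem Strata.inter_range' {F : EtCoh.Ab X} {S R : Set X} (hS : Strata F S R) {Z : Scheme.{u}}
    (h : Z ⟶ X) [IsImmersion h] (S' : Set X)
    (hc : ∀ A : Set X, Topology.IsConstructible ((Subtype.val : S → X) ⁻¹' A) →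
      Topology.IsConstructible ((Subtype.val : S' → X) ⁻¹' (A ∩ Set.range h))) :
    Strata F S' (R ∩ Set.range h) := by
  obtain ⟨κ, hκ, T, g, hi, hcc, hd, hu, hf⟩ := hS
  have hr : ∀ k : κ, Set.range (pullback.fst (g k) h ≫ g k) = Set.range (g k) ∩ Set.range h :=
    fun k => Scheme.Pullback.range_fst_comp _ _
  refine ⟨κ, hκ, fun k => pullback (g k) h, fun k => pullback.fst (g k) h ≫ g k, ?_, ?_, ?_, ?_,
    fun k => flc_pull_comp _ _ F (hf k)⟩
  · intro k
    have := hi k
    infer_instance
  · intro k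
    rw [hr k]
    exact hc _ (hcc k)
  · intro k l hkl
    rw [hr k, hr l]
    exact (hd hkl).mono Set.inter_subset_left Set.inter_subset_left
  · rw [← hu, Set.iUnion_inter]
    exact Set.iUnion_congr hr

theorem Strata.inter_range {F : EtCoh.Ab X} {S R : Set X} (hS : Strata F S R) {Z : Scheme.{u}}
    (h : Z ⟶ X) [IsImmersion h]
    (hc : Topology.IsConstructible ((Subtype.val : S → X) ⁻¹' Set.range h)) :
    Strata F S (R ∩ Set.range h) :=
  hS.inter_range' h S (fun A hA => by rw [Set.preimage_inter]; exact hA.inter hc)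

/-- restriction of strata to an open subset of the ambient set -/
theorem Strata.restrict_open {F : EtCoh.Ab X} {S R : Set X} (hS : Strata F S R) (U : X.Opens)
    (hUS : (U : Set X) ⊆ S) : Strata F (U : Set X) (R ∩ (U : Set X)) := by
  have := hS.inter_range' U.ι (U : Set X) (fun A hA => by
    rw [Scheme.Opens.range_ι]
    have hopen : IsOpen ((Subtype.val : S → X) ⁻¹' (U : Set X)) :=
      U.isOpen.preimage continuous_subtype_val
    have hoe : Topology.IsOpenEmbedding (Set.inclusion hUS) :=
      Topology.IsOpenEmbedding.inclusion hUS hopen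
    have : (Subtype.val : ↥(U : Set X) → X) ⁻¹' (A ∩ (U : Set X)) =
        Set.inclusion hUS ⁻¹' ((Subtype.val : S → X) ⁻¹' A) := by
      ext ⟨x, hx⟩
      simp only [Set.mem_preimage, Set.mem_inter_iff]
      exact ⟨fun h => h.1, fun h => ⟨h, hx⟩⟩
    rw [this]
    exact hA.preimage_of_isOpenEmbedding hoe)
  rwa [Scheme.Opens.range_ι] at this

/-- transfer of constructibility from a compact open piece `W` to a quasi-separated ambient `V` -/
lemma constructible_of_subset_open {W V A : Set X} (hWV : W ⊆ V) (hWo : IsOpen W)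
    (hWc : IsCompact W) [QuasiSeparatedSpace V] (hAW : A ⊆ W)
    (hA : Topology.IsConstructible ((Subtype.val : W → X) ⁻¹' A)) :
    Topology.IsConstructible ((Subtype.val : V → X) ⁻¹' A) := by
  have hopen : IsOpen ((Subtype.val : V → X) ⁻¹' W) := hWo.preimage continuous_subtype_val
  have hoe : Topology.IsOpenEmbedding (Set.inclusion hWV) :=
    Topology.IsOpenEmbedding.inclusion hWV hopen
  have hrange : Set.range (Set.inclusion hWV) = (Subtype.val : V → X) ⁻¹' W :=
    Set.range_inclusion hWV
  have hcomp : IsCompact ((Subtype.val : V → X) ⁻¹' W) := by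
    rw [Topology.IsInducing.subtypeVal.isCompact_preimage_iff]
    · exact hWc
    · rw [Subtype.range_coe]; exact hWV
  have hretro : IsRetrocompact (Set.range (Set.inclusion hWV)) := by
    rw [hrange]
    exact hcomp.isRetrocompact hopen
  have himg : Set.inclusion hWV '' ((Subtype.val : W → X) ⁻¹' A) = (Subtype.val : V → X) ⁻¹' A := by
    ext ⟨x, hx⟩
    constructor
    · rintro ⟨⟨y, hy⟩, hyA, hxy⟩
      have : y = x := congrArg Subtype.val hxy
      subst this
      exact hyA
    · intro hxA
      exact ⟨⟨x, hAW hxA⟩, hxA, rfl⟩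
  rw [← himg]
  exact hA.image_of_isOpenEmbedding hoe hretro

theorem Strata.mono_ambient {F : EtCoh.Ab X} {W V R : Set X} (hWV : W ⊆ V) (hWo : IsOpen W)
    (hWc : IsCompact W) [QuasiSeparatedSpace V] (hRW : R ⊆ W) (h : Strata F W R) :
    Strata F V R := by
  obtain ⟨κ, hκ, T, g, hi, hc, hd, hu, hf⟩ := h
  refine ⟨κ, hκ, T, g, hi, fun k => ?_, hd, hu, hf⟩
  refine constructible_of_subset_open hWV hWo hWc ?_ (hc k)
  rw [← hu] at hRW
  exact (Set.subset_iUnion (fun k => Set.range (g k)) k).trans hRW

/-- every set `U ∩ C` (`U` open, `C` closed) is the image of an immersion -/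
theorem exists_immersion_range (U : X.Opens) (C : TopologicalSpace.Closeds X) :
    ∃ (Z : Scheme.{u}) (h : Z ⟶ X), IsImmersion h ∧ Set.range h = (U : Set X) ∩ (C : Set X) := by
  let I := Scheme.IdealSheafData.vanishingIdeal C
  refine ⟨pullback U.ι I.subschemeι, pullback.fst U.ι I.subschemeι ≫ U.ι, inferInstance, ?_⟩
  rw [Scheme.Pullback.range_fst_comp, Scheme.Opens.range_ι, Scheme.IdealSheafData.range_subschemeι,
    Scheme.IdealSheafData.coe_support_vanishingIdeal]

/-- gluing strata along a finite cover by compact opens of a quasi-separated ambient set -/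
theorem Strata.of_finite_open_cover {F : EtCoh.Ab X} {S : Set X} [QuasiSeparatedSpace S] {m : ℕ}
    (W : Fin m → X.Opens) (hWS : ∀ k, (W k : Set X) ⊆ S) (hWc : ∀ k, IsCompact (W k : Set X))
    (hcov : (⋃ k, (W k : Set X)) = S) (h : ∀ k, Strata F S (W k : Set X)) : Strata F S S := by
  let Wset : Fin m → Set X := fun k => (W k : Set X)
  have hW_cons : ∀ k, Topology.IsConstructible ((Subtype.val : S → X) ⁻¹' Wset k) := by
    intro k
    have hopen : IsOpen ((Subtype.val : S → X) ⁻¹' Wset k) :=
      (W k).isOpen.preimage continuous_subtype_val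
    have hcomp : IsCompact ((Subtype.val : S → X) ⁻¹' Wset k) := by
      rw [Topology.IsInducing.subtypeVal.isCompact_preimage_iff]
      · exact hWc k
      · rw [Subtype.range_coe]; exact hWS k
    exact hcomp.isConstructible hopen
  have hR : ∀ k, Strata F S (disjointed Wset k) := by
    intro k
    have hCclosed : IsClosed (⋂ j, ⋂ (_ : j < k), (Wset j)ᶜ) :=
      isClosed_iInter fun j => isClosed_iInter fun _ => (W j).isOpen.isClosed_compl
    obtain ⟨Z, hZ, hZi, hZr⟩ := exists_immersion_range (W k) ⟨_, hCclosed⟩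
    have hZr' : Set.range hZ = disjointed Wset k := by
      rw [hZr, disjointed_eq_inter_compl]
      rfl
    have hcons : Topology.IsConstructible ((Subtype.val : S → X) ⁻¹' Set.range hZ) := by
      rw [hZr', disjointed_eq_inter_compl, Set.preimage_inter, Set.preimage_iInter₂]
      refine (hW_cons k).inter ?_
      refine Topology.IsConstructible.biInter (t := {j | j < k}) (Set.toFinite _) (fun j _ => ?_)
      rw [Set.preimage_compl]
      exact (hW_cons j).compl
    have := (h k).inter_range hZ hcons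
    rw [hZr'] at this
    rwa [Set.inter_eq_right.2 (disjointed_subset Wset k)] at this
  have := Strata.iUnion (F := F) (S := S) (disjointed Wset) (disjoint_disjointed Wset) hR
  rwa [iUnion_disjointed, hcov] at this

/-- a compact open admits a finite cover by affine opens chosen from a local family -/
theorem exists_finite_affine_refinement (V : X.Opens) (hV : IsCompact (V : Set X))
    (P : X.Opens → Prop)
    (hP : ∀ x ∈ V, ∃ W : X.Opens, x ∈ W ∧ W ≤ V ∧ IsAffineOpen W ∧ P W) :
    ∃ (m : ℕ) (W : Fin m → X.Opens), (∀ k, IsAffineOpen (W k) ∧ W k ≤ V ∧ P (W k)) ∧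
      (⋃ k, (W k : Set X)) = (V : Set X) := by
  choose! W hxW hWV hWa hWP using hP
  obtain ⟨t, ht⟩ := hV.elim_finite_subcover (fun x : V => ((W x.1 : X.Opens) : Set X))
    (fun x => (W x.1).isOpen) (fun x hx => Set.mem_iUnion.2 ⟨⟨x, hx⟩, hxW x hx⟩)
  let e := t.equivFin
  refine ⟨t.card, fun k => W (e.symm k).1.1, fun k => ⟨hWa _ (e.symm k).1.2, hWV _ (e.symm k).1.2,
    hWP _ (e.symm k).1.2⟩, ?_⟩
  apply Set.Subset.antisymm
  · exact Set.iUnion_subset fun k => hWV _ (e.symm k).1.2
  · intro x hx
    obtain ⟨y, hy⟩ := Set.mem_iUnion.1 (ht hx)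
    obtain ⟨hyt, hxy⟩ := Set.mem_iUnion.1 hy
    refine Set.mem_iUnion.2 ⟨e ⟨y, hyt⟩, ?_⟩
    change x ∈ ((W (e.symm (e ⟨y, hyt⟩)).1.1 : X.Opens) : Set X)
    rw [Equiv.symm_apply_apply]
    exact hxy

theorem exists_affine_nbhd (V : X.Opens) (x : X) (hx : x ∈ V) :
    ∃ W : X.Opens, x ∈ W ∧ W ≤ V ∧ IsAffineOpen W := by
  obtain ⟨W, hW, hxW, hWV⟩ := TopologicalSpace.Opens.isBasis_iff_nbhd.1 X.isBasis_affineOpens hx
  exact ⟨W, hxW, hWV, hW⟩

/-- on a qcqs scheme, constructible iff a global adapted stratification exists -/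
theorem constructible_iff_univ [CompactSpace X] [QuasiSeparatedSpace X] (F : EtCoh.Ab X) :
    EtPBC.IsConstructible F ↔ EtPBC.AdaptedStrata F (Set.univ : Set X) := by
  constructor
  · intro hF
    obtain ⟨m, W, hW, hcov⟩ := exists_finite_affine_refinement (⊤ : X.Opens)
      (by simpa using isCompact_univ) (fun _ => True) (fun x hx => by
        obtain ⟨W, hxW, hWV, hWa⟩ := exists_affine_nbhd ⊤ x hx
        exact ⟨W, hxW, hWV, hWa, trivial⟩)
    have hcov' : (⋃ k, (W k : Set X)) = Set.univ := by simpa using hcov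
    haveI : QuasiSeparatedSpace (Set.univ : Set X) :=
      QuasiSeparatedSpace.of_isOpenEmbedding isOpen_univ.isOpenEmbedding_subtypeVal
    apply adapted_of_strata
    refine Strata.of_finite_open_cover W (fun k => Set.subset_univ _)
      (fun k => (hW k).1.isCompact) hcov' (fun k => ?_)
    exact Strata.mono_ambient (Set.subset_univ _) (W k).isOpen (hW k).1.isCompact subset_rfl
      (strata_of_adapted (hF (W k) (hW k).1))
  · intro h U hU
    apply adapted_of_strata
    have := (strata_of_adapted h).restrict_open U (Set.subset_univ _)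
    rwa [Set.univ_inter] at this

end Groth.Agent.Lib.helper21.Strata
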