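import Mathlib
import Groth.Prelude.Def_EtBase
import Groth.Prelude.Def_PBC
import Groth.Agent.Lib.Helper21.Strata

universe u
open CategoryTheory Limits AlgebraicGeometry Opposite

namespace Groth.Agent.Lib.helper21.Strata

open Groth.Agent.Lib.helper21.Constr

variable {X : Scheme.{u}}

/-- transport of constructibility along an open immersion -/
lemma constructible_image_of_openImmersion {U : Scheme.{u}} (j : U ⟶ X) [IsOpenImmersion j]
    (W' : U.Opens) (A : Set U) (hA : A ⊆ (W' : Set U))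
    (hc : Topology.IsConstructible ((Subtype.val : ↥(W' : Set U) → U) ⁻¹' A)) :
    Topology.IsConstructible
      ((Subtype.val : ↥((j ''ᵁ W' : X.Opens) : Set X) → X) ⁻¹' (j '' A)) := by
  let φ : ↥(W' : Set U) → ↥((j ''ᵁ W' : X.Opens) : Set X) :=
    fun x => ⟨j x.1, ⟨x.1, x.2, rfl⟩⟩
  have hφ : Topology.IsOpenEmbedding φ := by
    rw [← Topology.IsOpenEmbedding.of_comp_iff φ
      (j ''ᵁ W' : X.Opens).isOpen.isOpenEmbedding_subtypeVal]
    exact j.isOpenEmbedding.comp W'.isOpen.isOpenEmbedding_subtypeVal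
  have hrange : Set.range φ = Set.univ := by
    ext ⟨y, x, hx, hxy⟩
    simp only [Set.mem_range, Set.mem_univ, iff_true]
    exact ⟨⟨x, hx⟩, Subtype.ext hxy⟩
  have himg : φ '' ((Subtype.val : ↥(W' : Set U) → U) ⁻¹' A) =
      (Subtype.val : ↥((j ''ᵁ W' : X.Opens) : Set X) → X) ⁻¹' (j '' A) := by
    ext ⟨y, hy⟩
    constructor
    · rintro ⟨⟨x, hx⟩, hxA, hxy⟩
      exact ⟨x, hxA, congrArg Subtype.val hxy⟩
    · rintro ⟨x, hxA, hxy⟩
      exact ⟨⟨x, hA hxA⟩, hxA, Subtype.ext hxy⟩
  rw [← himg]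
  refine hc.image_of_isOpenEmbedding hφ ?_
  rw [hrange]
  exact IsRetrocompact.univ

/-- pushing strata forward along an open immersion -/
theorem Strata.of_openImmersion {U : Scheme.{u}} (j : U ⟶ X) [IsOpenImmersion j] (F : EtCoh.Ab X)
    (W' : U.Opens) (h : Strata ((EtCoh.pull j).obj F) (W' : Set U) (W' : Set U)) :
    Strata F ((j ''ᵁ W' : X.Opens) : Set X) ((j ''ᵁ W' : X.Opens) : Set X) := by
  obtain ⟨κ, hκ, T, g, hi, hc, hd, hu, hf⟩ := h
  refine ⟨κ, hκ, T, fun k => g k ≫ j, ?_, ?_, ?_, ?_, ?_⟩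
  · intro k
    have := hi k
    infer_instance
  · intro k
    have hr : Set.range (g k ≫ j) = j '' Set.range (g k) := by
      rw [Scheme.Hom.comp_base, TopCat.coe_comp, Set.range_comp]
    rw [hr]
    refine constructible_image_of_openImmersion j W' _ ?_ (hc k)
    rw [← hu]
    exact Set.subset_iUnion (fun k => Set.range (g k)) k
  · intro k l hkl
    have hr : ∀ k, Set.range (g k ≫ j) = j '' Set.range (g k) := fun k => by
      rw [Scheme.Hom.comp_base, TopCat.coe_comp, Set.range_comp]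
    rw [hr k, hr l]
    exact (Set.disjoint_image_iff j.isOpenEmbedding.injective).2 (hd hkl)
  · have hr : ∀ k, Set.range (g k ≫ j) = j '' Set.range (g k) := fun k => by
      rw [Scheme.Hom.comp_base, TopCat.coe_comp, Set.range_comp]
    simp_rw [hr]
    rw [← Set.image_iUnion, hu]
    rfl
  · intro k
    exact flc_of_iso ((pullComp (g k) j).app F) (hf k)

/-- constructibility is local for the Zariski topology -/
theorem constructible_of_open_cover (F : EtCoh.Ab X) {ι : Type u} (U : ι → X.Opens)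
    (hU : ⨆ i, U i = ⊤) (h : ∀ i, EtPBC.IsConstructible ((EtCoh.pull (U i).ι).obj F)) :
    EtPBC.IsConstructible F := by
  intro V hV
  haveI : QuasiSeparatedSpace ↥(V : Set X) :=
    (isQuasiSeparated_iff_quasiSeparatedSpace _ V.2).mp hV.isQuasiSeparated
  obtain ⟨m, W, hW, hcov⟩ := exists_finite_affine_refinement V hV.isCompact
    (fun W => ∃ i, W ≤ U i) (fun x hx => by
      have : x ∈ (⨆ i, U i : X.Opens) := by rw [hU]; trivial
      obtain ⟨i, hi⟩ := TopologicalSpace.Opens.mem_iSup.1 this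
      obtain ⟨W, hxW, hWle, hWa⟩ := exists_affine_nbhd (V ⊓ U i) x ⟨hx, hi⟩
      exact ⟨W, hxW, hWle.trans inf_le_left, hWa, i, hWle.trans inf_le_right⟩)
  apply adapted_of_strata
  refine Strata.of_finite_open_cover W (fun k => (hW k).2.1) (fun k => (hW k).1.isCompact) hcov
    (fun k => ?_)
  obtain ⟨i, hi⟩ := (hW k).2.2
  have hW' : IsAffineOpen ((U i).ι ⁻¹ᵁ W k) :=
    (hW k).1.preimage_of_isOpenImmersion (U i).ι (by rw [Scheme.Opens.opensRange_ι]; exact hi)
  have h1 := strata_of_adapted (h i _ hW')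
  have h2 := Strata.of_openImmersion (U i).ι F _ h1
  have himg : (U i).ι ''ᵁ ((U i).ι ⁻¹ᵁ W k) = W k := by
    rw [Scheme.Hom.image_preimage_eq_opensRange_inf, Scheme.Opens.opensRange_ι, inf_eq_right.2 hi]
  rw [himg] at h2
  exact Strata.mono_ambient (hW k).2.1 (W k).isOpen (hW k).1.isCompact subset_rfl h2

/-- pulling strata back along a morphism -/
theorem Strata.pull {Y : Scheme.{u}} (f : X ⟶ Y) (F : EtCoh.Ab Y) {S R : Set Y}
    (h : Strata F S R) (S' : Set X)
    (hcons : ∀ A : Set Y, Topology.IsConstructible ((Subtype.val : S → Y) ⁻¹' A) →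
      Topology.IsConstructible ((Subtype.val : S' → X) ⁻¹' (f ⁻¹' A))) :
    Strata ((EtCoh.pull f).obj F) S' (f ⁻¹' R) := by
  obtain ⟨κ, hκ, T, g, hi, hc, hd, hu, hf⟩ := h
  have hr : ∀ k, Set.range (pullback.snd (g k) f) = f ⁻¹' Set.range (g k) :=
    fun k => Scheme.Pullback.range_snd _ _
  refine ⟨κ, hκ, fun k => pullback (g k) f, fun k => pullback.snd (g k) f, ?_, ?_, ?_, ?_, ?_⟩
  · intro k
    have := hi k
    infer_instance
  · intro k
    rw [hr k]
    exact hcons _ (hc k)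
  · intro k l hkl
    rw [hr k, hr l]
    exact (hd hkl).preimage _
  · simp_rw [hr]
    rw [← Set.preimage_iUnion, hu]
  · intro k
    have h1 := flc_pull_comp (pullback.fst (g k) f) (g k) F (hf k)
    rw [pullback.condition] at h1
    exact flc_of_iso ((pullComp (pullback.snd (g k) f) f).app F).symm h1

lemma constructible_preimage_resLE {Y : Scheme.{u}} (f : X ⟶ Y) (U : Y.Opens) (W : X.Opens)
    (e : W ≤ f ⁻¹ᵁ U) (A : Set Y)
    (hA : Topology.IsConstructible ((Subtype.val : ↥(U : Set Y) → Y) ⁻¹' A)) :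
    Topology.IsConstructible ((Subtype.val : ↥(W : Set X) → X) ⁻¹' (f ⁻¹' A)) := by
  have h1 := (f.resLE U W e).isConstructible_preimage hA
  have h2 : (f.resLE U W e) ⁻¹' ((Subtype.val : ↥(U : Set Y) → Y) ⁻¹' A) =
      (Subtype.val : ↥(W : Set X) → X) ⁻¹' (f ⁻¹' A) := by
    ext x
    have h3 : ((f.resLE U W e) x).1 = f x.1 := by
      have := congrArg (fun t => t x) (f.resLE_comp_ι e)
      exact this
    simp only [Set.mem_preimage]
    rw [h3]
    exact Iff.rfl
  rw [← h2]
  exact h1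

/-- inverse images of constructible sheaves are constructible -/
theorem constructible_pull {Y : Scheme.{u}} (f : X ⟶ Y) (F : EtCoh.Ab Y)
    (hF : EtPBC.IsConstructible F) : EtPBC.IsConstructible ((EtCoh.pull f).obj F) := by
  intro V hV
  haveI : QuasiSeparatedSpace ↥(V : Set X) :=
    (isQuasiSeparated_iff_quasiSeparatedSpace _ V.2).mp hV.isQuasiSeparated
  obtain ⟨m, W, hW, hcov⟩ := exists_finite_affine_refinement V hV.isCompact
    (fun W => ∃ U : Y.Opens, IsAffineOpen U ∧ W ≤ f ⁻¹ᵁ U) (fun x hx => by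
      obtain ⟨U, hfxU, -, hUa⟩ := exists_affine_nbhd (⊤ : Y.Opens) (f x) trivial
      obtain ⟨W, hxW, hWle, hWa⟩ := exists_affine_nbhd (V ⊓ f ⁻¹ᵁ U) x ⟨hx, hfxU⟩
      exact ⟨W, hxW, hWle.trans inf_le_left, hWa, U, hUa, hWle.trans inf_le_right⟩)
  apply adapted_of_strata
  refine Strata.of_finite_open_cover W (fun k => (hW k).2.1) (fun k => (hW k).1.isCompact) hcov
    (fun k => ?_)
  obtain ⟨U, hUa, hWU⟩ := (hW k).2.2
  have h1 := strata_of_adapted (hF U hUa)
  have h2 := h1.pull f F (W k : Set X) (fun A hA => constructible_preimage_resLE f U (W k) hWU A hA)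
  have h3 := h2.restrict_open (W k) subset_rfl
  have h4 : f ⁻¹' (U : Set Y) ∩ (W k : Set X) = (W k : Set X) :=
    Set.inter_eq_right.2 hWU
  rw [h4] at h3
  exact Strata.mono_ambient (hW k).2.1 (W k).isOpen (hW k).1.isCompact subset_rfl h3

end Groth.Agent.Lib.helper21.Strata
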