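import Mathlib
import Groth.Prelude.Def_EtBase
import Groth.Prelude.Def_PBC
import Groth.Agent.Lib.Helper21.Strata2
import Groth.Agent.Lib.Helper21.ConstrTop

universe u
open CategoryTheory Limits AlgebraicGeometry Opposite

namespace Groth.Agent.Lib.helper21.Strata

open Groth.Agent.Lib.helper21.Constr Groth.Agent.Lib.helper21.ConstrTop

variable {X : Scheme.{u}}

lemma constructible_univ_iff (A : Set X) :
    Topology.IsConstructible ((Subtype.val : ↥(Set.univ : Set X) → X) ⁻¹' A) ↔
      Topology.IsConstructible A := by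
  refine Topology.isConstructible_preimage_iff_of_isOpenEmbedding
    isOpen_univ.isOpenEmbedding_subtypeVal ?_ ?_
  · rw [Subtype.range_coe]; exact IsRetrocompact.univ
  · rw [Subtype.range_coe]; exact Set.subset_univ _

/-- the source of an immersion with constructible range into a qcqs scheme is qcqs -/
lemma compactSpace_of_immersion [CompactSpace X] [QuasiSeparatedSpace X] {T : Scheme.{u}}
    (g : T ⟶ X) [IsImmersion g] (hc : Topology.IsConstructible (Set.range g)) :
    CompactSpace T := by
  have h1 : IsCompact (Set.range g) := isCompact_of_isConstructible hc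
  rw [← Set.image_univ] at h1
  exact ⟨(g.isEmbedding.isInducing.isCompact_iff).2 h1⟩

lemma quasiSeparatedSpace_of_immersion [QuasiSeparatedSpace X] {T : Scheme.{u}}
    (g : T ⟶ X) [IsImmersion g] : QuasiSeparatedSpace T :=
  quasiSeparatedSpace_of_quasiSeparated g

/-- pushing global strata forward along an immersion with constructible range -/
theorem Strata.of_immersion [CompactSpace X] [QuasiSeparatedSpace X] {T : Scheme.{u}}
    (g : T ⟶ X) [IsImmersion g] (hc : Topology.IsConstructible (Set.range g)) (F : EtCoh.Ab X)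
    (h : Strata ((EtCoh.pull g).obj F) (Set.univ : Set T) (Set.univ : Set T)) :
    Strata F (Set.univ : Set X) (Set.range g) := by
  obtain ⟨κ, hκ, T', k, hi, hcc, hd, hu, hf⟩ := h
  have hr : ∀ j, Set.range (k j ≫ g) = g '' Set.range (k j) := fun j => by
    rw [Scheme.Hom.comp_base, TopCat.coe_comp, Set.range_comp]
  refine ⟨κ, hκ, T', fun j => k j ≫ g, ?_, ?_, ?_, ?_, ?_⟩
  · intro j
    have := hi j
    infer_instance
  · intro j
    rw [hr j, constructible_univ_iff]
    exact isConstructible_image_of_isEmbedding g g.isEmbedding g.isLocallyClosed_range hc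
      ((constructible_univ_iff _).1 (hcc j))
  · intro j l hjl
    rw [hr j, hr l]
    exact (Set.disjoint_image_iff g.isEmbedding.injective).2 (hd hjl)
  · simp_rw [hr]
    rw [← Set.image_iUnion, hu, Set.image_univ]
  · intro j
    exact flc_of_iso ((pullComp (k j) g).app F) (hf j)

/-- removing the (constructible) range of an immersion from global strata -/
theorem Strata.sdiff_range [CompactSpace X] [QuasiSeparatedSpace X] {F : EtCoh.Ab X} {R : Set X}
    (hR : Strata F (Set.univ : Set X) R) {Z : Scheme.{u}} (h : Z ⟶ X) [IsImmersion h]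
    (hc : Topology.IsConstructible (Set.range h)) :
    Strata F (Set.univ : Set X) (R \ Set.range h) := by
  obtain ⟨U, V, hUo, hUc, hVo, hVc, hVU, hZ⟩ :=
    exists_compact_opens_of_isLocallyClosed h.isLocallyClosed_range hc
  obtain ⟨Z₁, h₁, hi₁, hr₁⟩ := exists_immersion_range (⊤ : X.Opens) ⟨Uᶜ, hUo.isClosed_compl⟩
  have hr₁' : Set.range h₁ = Uᶜ := by
    rw [hr₁]
    exact Set.univ_inter _
  let Vo : X.Opens := ⟨V, hVo⟩
  have hr₂ : Set.range Vo.ι = V := Scheme.Opens.range_ι Vo
  have hs₁ : Strata F (Set.univ : Set X) (R ∩ Uᶜ) := by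
    have := hR.inter_range h₁ (by
      rw [constructible_univ_iff, hr₁']
      exact (hUc.isConstructible hUo).compl)
    rwa [hr₁'] at this
  have hs₂ : Strata F (Set.univ : Set X) (R ∩ V) := by
    have := hR.inter_range Vo.ι (by
      rw [constructible_univ_iff, hr₂]
      exact hVc.isConstructible hVo)
    rwa [hr₂] at this
  have hunion := Strata.iUnion (F := F) (S := (Set.univ : Set X))
    (fun b : Bool => if b then R ∩ Uᶜ else R ∩ V) (by
      intro a b hab
      have key : Disjoint (R ∩ Uᶜ) (R ∩ V) := by
        rw [Set.disjoint_left]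
        rintro x ⟨-, hxU⟩ ⟨-, hxV⟩
        exact hxU (hVU hxV)
      cases a <;> cases b
      · exact (hab rfl).elim
      · simpa using key.symm
      · simpa using key
      · exact (hab rfl).elim) (by
      intro b
      cases b
      · simpa using hs₂
      · simpa using hs₁)
  have heq : (⋃ b : Bool, (if b then R ∩ Uᶜ else R ∩ V)) = R \ Set.range h := by
    rw [hZ]
    ext x
    simp only [Set.mem_iUnion, Bool.exists_bool, Bool.false_eq_true, if_false, if_true,
      Set.mem_inter_iff, Set.mem_compl_iff, Set.mem_diff, not_and, not_not]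
    constructor
    · rintro (⟨hxR, hxV⟩ | ⟨hxR, hxU⟩)
      · exact ⟨hxR, fun _ => hxV⟩
      · exact ⟨hxR, fun hU => (hxU hU).elim⟩
    · rintro ⟨hxR, hx⟩
      by_cases hxU : x ∈ U
      · exact Or.inl ⟨hxR, hx hxU⟩
      · exact Or.inr ⟨hxR, hxU⟩
  rwa [heq] at hunion

/-- removing finitely many constructible ranges of immersions -/
theorem Strata.sdiff_biUnion_range [CompactSpace X] [QuasiSeparatedSpace X] {F : EtCoh.Ab X}
    {R : Set X} (hR : Strata F (Set.univ : Set X) R) {ι : Type*} (Z : ι → Scheme.{u})
    (h : ∀ i, Z i ⟶ X) [∀ i, IsImmersion (h i)]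
    (hc : ∀ i, Topology.IsConstructible (Set.range (h i))) (s : Finset ι) :
    Strata F (Set.univ : Set X) (R \ ⋃ i ∈ s, Set.range (h i)) := by
  classical
  induction s using Finset.induction_on with
  | empty => simpa using hR
  | insert a s ha ih =>
    have := ih.sdiff_range (h a) (hc a)
    have heq : (R \ ⋃ i ∈ s, Set.range (h i)) \ Set.range (h a) =
        R \ ⋃ i ∈ insert a s, Set.range (h i) := by
      rw [Finset.set_biUnion_insert, Set.diff_diff, Set.union_comm]
    rwa [heq] at this

/-- constructibility can be checked on a cover by constructible locally closed pieces -/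
theorem constructible_of_immersion_cover [CompactSpace X] [QuasiSeparatedSpace X] (F : EtCoh.Ab X)
    {ι : Type u} (T : ι → Scheme.{u}) (g : ∀ i, T i ⟶ X) [∀ i, IsImmersion (g i)]
    (hc : ∀ i, Topology.IsConstructible (Set.range (g i)))
    (hcov : (⋃ i, Set.range (g i)) = Set.univ)
    (h : ∀ i, EtPBC.IsConstructible ((EtCoh.pull (g i)).obj F)) :
    EtPBC.IsConstructible F := by
  rw [constructible_iff_univ]
  apply adapted_of_strata
  obtain ⟨t, ht⟩ := exists_finite_subcover_of_isConstructible (fun i => Set.range (g i)) hc hcov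
  let e := t.equivFin
  let Z : Fin t.card → Set X := fun k => Set.range (g (e.symm k).1)
  have hZ : ∀ k, Strata F (Set.univ : Set X) (Z k) := by
    intro k
    haveI := compactSpace_of_immersion (g (e.symm k).1) (hc _)
    haveI := quasiSeparatedSpace_of_immersion (g (e.symm k).1)
    exact Strata.of_immersion (g (e.symm k).1) (hc _) F
      (strata_of_adapted ((constructible_iff_univ _).1 (h _)))
  have hR : ∀ k, Strata F (Set.univ : Set X) (disjointed Z k) := by
    intro k
    have := (hZ k).sdiff_biUnion_range (fun l : Fin t.card => T (e.symm l).1)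
      (fun l => g (e.symm l).1) (fun l => hc _) (Finset.Iio k)
    have heq : disjointed Z k = Z k \ ⋃ l ∈ Finset.Iio k, Z l := by
      rw [disjointed_apply, Finset.sup_set_eq_biUnion]
    rw [heq]
    exact this
  have hfin := Strata.iUnion (F := F) (S := (Set.univ : Set X)) (disjointed Z)
    (disjoint_disjointed Z) hR
  rw [iUnion_disjointed] at hfin
  have hcovZ : (⋃ k, Z k) = Set.univ := by
    apply Set.eq_univ_of_forall
    intro x
    have hx : x ∈ ⋃ i ∈ t, Set.range (g i) := by rw [ht]; trivial
    obtain ⟨i, hi⟩ := Set.mem_iUnion.1 hx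
    obtain ⟨hit, hxi⟩ := Set.mem_iUnion.1 hi
    refine Set.mem_iUnion.2 ⟨e ⟨i, hit⟩, ?_⟩
    change x ∈ Set.range (g (e.symm (e ⟨i, hit⟩)).1)
    rw [Equiv.symm_apply_apply]
    exact hxi
  rwa [hcovZ] at hfin

end Groth.Agent.Lib.helper21.Strata
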