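import Mathlib
import Groth.Prelude.Def_EtBase
import Groth.Agent.Lib.Helper21.FlcExt

set_option autoImplicit false

open CategoryTheory CategoryTheory.Limits Opposite AlgebraicGeometry

namespace Groth.Agent.Lib.helper21.SubConst

open Groth.Agent.Lib.Helper21.ConstGerm Groth.Agent.Lib.Helper21.FlcConn
  Groth.Agent.Lib.Helper21.FlcRestr Groth.Agent.Lib.Helper21.FlcSerre
  Groth.Agent.Lib.Helper21.FlcExt

universe u

variable {X : Scheme.{u}} (F G : EtCoh.Ab X) (ι : G ⟶ F) {U : X.Etale}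
  {M : AddCommGrpCat.{u + 1}}
  (e : EtCoh.restr F U ≅ cst.{u + 1, u, u + 1} (X.smallEtaleTopology.over U) M)

lemma iota_inj [Mono ι] (V : X.Etale) :
    Function.Injective (ι.hom.app (op V) : G.obj.obj (op V) ⟶ F.obj.obj (op V)) := by
  haveI : Mono ((Γ V).map ι) := inferInstance
  exact (AddCommGrpCat.mono_iff_injective ((Γ V).map ι)).1 inferInstance

/-- `sec0` as an additive map -/
noncomputable def sig {V : X.Etale} (q : V ⟶ U) : M →+ F.obj.obj (op V) :=
  AddMonoidHom.mk' (sec0 F e q) (sec0_add F e q)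

lemma sig_apply {V : X.Etale} (q : V ⟶ U) (a : M) : sig F e q a = sec0 F e q a := rfl

/-- the set of constants which come from `G` over `V` -/
def AA {V : X.Etale} (q : V ⟶ U) : Set M :=
  {a | ∃ t : G.obj.obj (op V), (ι.hom.app (op V) : _ ⟶ _) t = sec0 F e q a}

lemma AA_mono {V V' : X.Etale} (q : V ⟶ U) (k : V' ⟶ V) :
    AA F G ι e q ⊆ AA F G ι e (k ≫ q) := by
  rintro a ⟨t, ht⟩
  exact ⟨G.obj.map k.op t, by rw [← phi_nat G F ι k t, ht, sec0_nat]⟩

theorem exists_maximal [Finite M] (hU : Nonempty U.left) :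
    ∃ (V : X.Etale) (q : V ⟶ U), Nonempty V.left ∧
      ∀ {V' : X.Etale} (k : V' ⟶ V), Nonempty V'.left →
        AA F G ι e (k ≫ q) = AA F G ι e q := by
  let 𝒮 : Set (Set M) := {S | ∃ (V : X.Etale) (q : V ⟶ U), Nonempty V.left ∧ S = AA F G ι e q}
  have hfin : 𝒮.Finite := Set.toFinite _
  have hne : 𝒮.Nonempty := ⟨_, U, 𝟙 U, hU, rfl⟩
  obtain ⟨S₀, ⟨V, q, hV, rfl⟩, hmax⟩ := hfin.exists_maximal hne
  refine ⟨V, q, hV, fun {V'} k hV' => ?_⟩
  apply Set.Subset.antisymm
  · exact hmax ⟨V', k ≫ q, hV', rfl⟩ (AA_mono F G ι e q k)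
  · exact AA_mono F G ι e q k

/-- the subgroup of sections of `G` over `V` which are constant in `F` -/
noncomputable def EE {V : X.Etale} (q : V ⟶ U) : AddSubgroup (G.obj.obj (op V)) where
  carrier := {t | ∃ a : M, (ι.hom.app (op V) : _ ⟶ _) t = sec0 F e q a}
  add_mem' := by
    rintro t t' ⟨a, ha⟩ ⟨a', ha'⟩
    exact ⟨a + a', by rw [map_add, ha, ha', sec0_add]⟩
  zero_mem' := ⟨0, by rw [map_zero, ← sig_apply, map_zero]⟩
  neg_mem' := by
    rintro t ⟨a, ha⟩
    exact ⟨-a, by rw [map_neg, ha, ← sig_apply, ← sig_apply, map_neg]⟩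

section J

variable {V : X.Etale} (q : V ⟶ U) (v : V.left)

/-- the constant attached to an element of `EE` -/
noncomputable def jFun (t : EE F G ι e q) : M := t.2.choose

lemma jFun_spec (t : EE F G ι e q) :
    (ι.hom.app (op V) : _ ⟶ _) t.1 = sec0 F e q (jFun F G ι e q t) := t.2.choose_spec

include v in
lemma jFun_add (t t' : EE F G ι e q) :
    jFun F G ι e q (t + t') = jFun F G ι e q t + jFun F G ι e q t' := by
  apply sec0_inj F e q v
  rw [← jFun_spec, sec0_add, ← jFun_spec, ← jFun_spec]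
  exact map_add _ _ _

end J

section J2

variable {V : X.Etale} (q : V ⟶ U)

/-- `jFun` as an additive map -/
noncomputable def jE (v : V.left) : EE F G ι e q →+ M :=
  AddMonoidHom.mk' (jFun F G ι e q) (jFun_add F G ι e q v)

lemma jE_spec (v : V.left) (t : EE F G ι e q) :
    (ι.hom.app (op V) : _ ⟶ _) t.1 = sec0 F e q (jE F G ι e q v t) := jFun_spec F G ι e q t

lemma jE_injective [Mono ι] (v : V.left) : Function.Injective (jE F G ι e q v) := by
  intro t t' h
  apply Subtype.ext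
  apply iota_inj F G ι V
  rw [jE_spec F G ι e q v, jE_spec F G ι e q v, h]

lemma finite_EE [Mono ι] [Finite M] (v : V.left) : Finite (EE F G ι e q) :=
  Finite.of_injective _ (jE_injective F G ι e q v)

end J2

section Iso

variable {V : X.Etale} (q : V ⟶ U) (v : V.left)

/-- the composite `cst E ⟶ G|_V ⟶ F|_V ≅ cst M` is induced by `jE` -/
lemma psi_comp :
    psi G (EE F G ι e q) ≫ (X.smallEtaleTopology.overPullback AddCommGrpCat.{u + 1} V).map ι ≫
        (restrTriv F q e).hom =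
      (constantSheaf (X.smallEtaleTopology.over V) AddCommGrpCat.{u + 1}).map
        (AddCommGrpCat.ofHom (jE F G ι e q v)) := by
  apply cst_hom_ext
  intro T t
  show ((restrTriv F q e).hom.hom.app (op T) : _ ⟶ _)
      ((ι.hom.app (op T.left) : _ ⟶ _)
        (((psi G (EE F G ι e q)).hom.app (op T) : _ ⟶ _)
          (eta.{u + 1, u, u + 1} (X.smallEtaleTopology.over V)
            (AddCommGrpCat.of (EE F G ι e q)) (op T) t))) =
    (((constantSheaf (X.smallEtaleTopology.over V) AddCommGrpCat.{u + 1}).map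
      (AddCommGrpCat.ofHom (jE F G ι e q v))).hom.app (op T) : _ ⟶ _)
        (eta.{u + 1, u, u + 1} (X.smallEtaleTopology.over V)
          (AddCommGrpCat.of (EE F G ι e q)) (op T) t)
  rw [eta_map, psi_eta, ← phi_nat G F ι T.hom t.1, jE_spec F G ι e q v t, sec0_nat,
    ← sec0_restrTriv F q e T.hom]
  exact hom_sec0 F (restrTriv F q e) T.hom _

include v in
lemma mono_psi [Mono ι] : Mono (psi G (EE F G ι e q)) := by
  haveI : Mono (AddCommGrpCat.ofHom (jE F G ι e q v)) :=
    (AddCommGrpCat.mono_iff_injective _).2 (jE_injective F G ι e q v)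
  haveI : Mono ((constantSheaf (X.smallEtaleTopology.over V) AddCommGrpCat.{u + 1}).map
      (AddCommGrpCat.ofHom (jE F G ι e q v))) := inferInstance
  have h := psi_comp F G ι e q v
  haveI : Mono (psi G (EE F G ι e q) ≫
      (X.smallEtaleTopology.overPullback AddCommGrpCat.{u + 1} V).map ι ≫
        (restrTriv F q e).hom) := by
    rw [h]; infer_instance
  exact mono_of_mono _ ((X.smallEtaleTopology.overPullback AddCommGrpCat.{u + 1} V).map ι ≫
        (restrTriv F q e).hom)

lemma epi_psi [Mono ι]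
    (hmax : ∀ {V' : X.Etale} (k : V' ⟶ V), Nonempty V'.left →
      AA F G ι e (k ≫ q) = AA F G ι e q) : Epi (psi G (EE F G ι e q)) := by
  rw [← Sheaf.isLocallySurjective_iff_epi' (φ := psi G (EE F G ι e q))]
  constructor
  intro T s
  rw [GrothendieckTopology.mem_over_iff]
  have eX : X.smallEtaleTopology =
      (X.smallPretopology (P := EtCoh.etaleMP) (Q := EtCoh.etaleMP)).toGrothendieck :=
    Scheme.smallGrothendieckTopology_eq_toGrothendieck_smallPretopology X le_rfl
  have key : ∀ R : Sieve T.left,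
      R ∈ (X.smallPretopology (P := EtCoh.etaleMP) (Q := EtCoh.etaleMP)).toGrothendieck T.left →
        R ∈ X.smallEtaleTopology T.left := by
    intro R hR
    rw [eX]
    exact hR
  apply key
  refine (Scheme.mem_toGrothendieck_smallPretopology T.left _).2 (fun x => ?_)
  obtain ⟨Y, g, y, hy, b, hb⟩ := exists_sec0 F (restrTriv F q e) T.hom
    ((ι.hom.app (op T.left) : _ ⟶ _) s) x
  have hb' : (ι.hom.app (op Y) : _ ⟶ _) (G.obj.map g.op s) =
      sec0 F e ((g ≫ T.hom) ≫ q) b := by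
    rw [← phi_nat G F ι g s, hb, sec0_restrTriv]
  have hmem : b ∈ AA F G ι e ((g ≫ T.hom) ≫ q) := ⟨_, hb'⟩
  rw [hmax _ ⟨y⟩] at hmem
  obtain ⟨t₀, ht₀⟩ := hmem
  let t₀E : EE F G ι e q := ⟨t₀, b, ht₀⟩
  haveI := Groth.Agent.Lib.Helper21.EtGalois.etale_left g
  refine ⟨Y, g, y, ?_, inferInstance, hy⟩
  rw [Sieve.overEquiv_iff]
  refine ⟨eta.{u + 1, u, u + 1} (X.smallEtaleTopology.over V)
    (AddCommGrpCat.of (EE F G ι e q)) (op (Over.mk (g ≫ T.hom))) t₀E, ?_⟩
  refine (psi_eta G (EE F G ι e q) (Over.mk (g ≫ T.hom)) t₀E).trans ?_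
  show G.obj.map (g ≫ T.hom).op t₀ = G.obj.map g.op s
  apply iota_inj F G ι Y
  rw [hb', ← phi_nat G F ι (g ≫ T.hom) t₀, ht₀, sec0_nat]

include v in
/-- on a maximal piece, `G` is the constant sheaf on `EE` -/
theorem isIso_psi [Mono ι]
    (hmax : ∀ {V' : X.Etale} (k : V' ⟶ V), Nonempty V'.left →
      AA F G ι e (k ≫ q) = AA F G ι e q) : IsIso (psi G (EE F G ι e q)) := by
  haveI := mono_psi F G ι e q v
  haveI := epi_psi F G ι e q hmax
  exact isIso_of_mono_of_epi _

end Iso

include e in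
/-- a subsheaf of a sheaf which is finite constant over `U` is constant over some nonempty
étale `V ⟶ U` -/
theorem exists_const_sub [Mono ι] [Finite M] (hU : Nonempty U.left) :
    ∃ (V : X.Etale) (_ : V ⟶ U) (_ : Nonempty V.left) (K : AddCommGrpCat.{u + 1}) (_ : Finite K),
      Nonempty (EtCoh.restr G V ≅ cst.{u + 1, u, u + 1} (X.smallEtaleTopology.over V) K) := by
  obtain ⟨V, q, hV, hmax⟩ := exists_maximal F G ι e hU
  obtain ⟨v⟩ := hV
  haveI := isIso_psi F G ι e q v hmax
  exact ⟨V, q, ⟨v⟩, AddCommGrpCat.of (EE F G ι e q), finite_EE F G ι e q v,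
    ⟨(asIso (psi G (EE F G ι e q))).symm⟩⟩

end Groth.Agent.Lib.helper21.SubConst
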