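import Mathlib
import Groth.Prelude.Def_EtBase
import Groth.Prelude.Def_PBC
import Groth.Agent.Lib.Helper21.SubConst
import Groth.Agent.Lib.Helper21.Strata3

set_option autoImplicit false

open CategoryTheory CategoryTheory.Limits Opposite AlgebraicGeometry

namespace Groth.Agent.Lib.helper21.SubConstr

open Groth.Agent.Lib.Helper21.ConstGerm Groth.Agent.Lib.Helper21.FlcConn
  Groth.Agent.Lib.Helper21.FlcRestr Groth.Agent.Lib.Helper21.FlcSerre
  Groth.Agent.Lib.helper21.SubConst Groth.Agent.Lib.helper21.Constr
  Groth.Agent.Lib.helper21.Strata Groth.Agent.Lib.helper21.FlcPull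

universe u

variable {X : Scheme.{u}}

/-- a subsheaf of a finite locally constant sheaf is finite locally constant on a nonempty open -/
theorem exists_open_flc_sub [Nonempty X] (F G : EtCoh.Ab X) (ι : G ⟶ F) [Mono ι]
    (hF : EtCoh.IsFiniteLocallyConstant F) :
    ∃ W : X.Opens, (W : Set X).Nonempty ∧
      EtCoh.IsFiniteLocallyConstant ((EtCoh.pull W.ι).obj G) := by
  obtain ⟨I, U, hcov, h⟩ := hF
  obtain ⟨x⟩ := (inferInstance : Nonempty X)
  obtain ⟨i, y, hy⟩ := hcov x
  obtain ⟨M, iM, fM, ⟨e⟩⟩ := h i
  obtain ⟨V, q, ⟨v⟩, K, fK, ⟨φ⟩⟩ := exists_const_sub F G ι e ⟨y⟩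
  obtain ⟨K₀, iK₀, fK₀, ⟨κ⟩⟩ := exists_type0_model K
  haveI : AlgebraicGeometry.Etale V.hom := V.prop
  let W : X.Opens := ⟨Set.range V.hom, V.hom.isOpenMap.isOpen_range⟩
  refine ⟨W, ⟨V.hom v, v, rfl⟩, PUnit.{u + 1}, fun _ => (EtCoh.bc W.ι).obj V, ?_, fun _ => ?_⟩
  · intro w
    have hw : (W.ι w : X) ∈ Set.range V.hom := w.2
    obtain ⟨v', hv'⟩ := hw
    obtain ⟨z, -, hz2⟩ := Scheme.Pullback.exists_preimage_pullback
      (f := V.hom) (g := W.ι) v' w hv'
    exact ⟨PUnit.unit, z, hz2⟩
  · refine ⟨K₀, iK₀, fK₀, ?_⟩
    exact restr_pull_const W.ι V G _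
      ⟨φ ≪≫ (constantSheaf (X.smallEtaleTopology.over V) AddCommGrpCat.{u + 1}).mapIso κ⟩

lemma isNoetherian_of_closedImmersion {T : Scheme.{u}} (g : T ⟶ X) [IsClosedImmersion g]
    [IsNoetherian X] : IsNoetherian T :=
  { toIsLocallyNoetherian := LocallyOfFiniteType.isLocallyNoetherian g
    toCompactSpace := g.isClosedEmbedding.compactSpace }

lemma strata_of_isEmpty {T : Scheme.{u}} [IsEmpty T] (G : EtCoh.Ab T) :
    Strata G (Set.univ : Set T) (Set.univ : Set T) := by
  refine ⟨PEmpty, inferInstance, fun k => k.elim, fun k => k.elim, fun k => k.elim,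
    fun k => k.elim, fun k => k.elim, ?_, fun k => k.elim⟩
  ext t
  exact (IsEmpty.false t).elim

/-- a single open stratum -/
lemma strata_open {T : Scheme.{u}} [CompactSpace T] [QuasiSeparatedSpace T] (G : EtCoh.Ab T)
    (W : T.Opens) (hWc : IsCompact (W : Set T))
    (hG : EtCoh.IsFiniteLocallyConstant ((EtCoh.pull W.ι).obj G)) :
    Strata G (Set.univ : Set T) (W : Set T) := by
  refine ⟨PUnit, inferInstance, fun _ => W.toScheme, fun _ => W.ι, fun _ => inferInstance,
    fun _ => ?_, ?_, ?_, fun _ => hG⟩
  · rw [constructible_univ_iff, Scheme.Opens.range_ι]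
    exact hWc.isConstructible W.isOpen
  · intro a b hab
    exact (hab (Subsingleton.elim a b)).elim
  · rw [Set.iUnion_const, Scheme.Opens.range_ι]

/-- Noetherian induction: subsheaves of finite locally constant sheaves have global strata -/
theorem strata_sub_of_flc_aux [IsNoetherian X] (Z : TopologicalSpace.Closeds X) :
    ∀ (T : Scheme.{u}) (g : T ⟶ X) [IsClosedImmersion g], Set.range g = (Z : Set X) →
      ∀ (F G : EtCoh.Ab T) (ι : G ⟶ F) [Mono ι], EtCoh.IsFiniteLocallyConstant F →
        Strata G (Set.univ : Set T) (Set.univ : Set T) := by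
  induction Z using WellFoundedLT.induction with
  | ind Z ih =>
    intro T g _ hg F G ι _ hF
    haveI : IsNoetherian T := isNoetherian_of_closedImmersion g
    by_cases hT : IsEmpty T
    · exact strata_of_isEmpty G
    · rw [not_isEmpty_iff] at hT
      obtain ⟨W, ⟨w, hw⟩, hW⟩ := exists_open_flc_sub F G ι hF
      have hWcl : IsClosed ((W : Set T)ᶜ) := W.isOpen.isClosed_compl
      let I := Scheme.IdealSheafData.vanishingIdeal ⟨(W : Set T)ᶜ, hWcl⟩
      have hri : Set.range I.subschemeι = (W : Set T)ᶜ := by
        rw [Scheme.IdealSheafData.range_subschemeι,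
          Scheme.IdealSheafData.coe_support_vanishingIdeal]
        rfl
      let g' : I.subscheme ⟶ X := I.subschemeι ≫ g
      have hrg' : Set.range g' = g '' (W : Set T)ᶜ := by
        rw [Scheme.Hom.comp_base, TopCat.coe_comp, Set.range_comp, hri]
      let Z' : TopologicalSpace.Closeds X := ⟨Set.range g', g'.isClosedEmbedding.isClosed_range⟩
      have hlt : Z' < Z := by
        refine lt_of_le_of_ne ?_ ?_
        · intro x hx
          have hx' : x ∈ g '' (W : Set T)ᶜ := by rw [← hrg']; exact hx
          obtain ⟨t, -, rfl⟩ := hx'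
          rw [← SetLike.mem_coe, ← hg]
          exact ⟨t, rfl⟩
        · intro heq
          have h1 : g w ∈ (Z : Set X) := by rw [← hg]; exact ⟨w, rfl⟩
          rw [← heq] at h1
          have h2 : g w ∈ g '' (W : Set T)ᶜ := by rw [← hrg']; exact h1
          obtain ⟨t, ht, htw⟩ := h2
          have := g.isClosedEmbedding.injective htw
          rw [this] at ht
          exact ht hw
      haveI : Mono ((EtCoh.pull I.subschemeι).map ι) := inferInstance
      have h1 := ih Z' hlt I.subscheme g' rfl ((EtCoh.pull I.subschemeι).obj F)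
        ((EtCoh.pull I.subschemeι).obj G) ((EtCoh.pull I.subschemeι).map ι)
        (flc_pull I.subschemeι F hF)
      have hcons : Topology.IsConstructible (Set.range I.subschemeι) := by
        rw [hri]
        exact ((TopologicalSpace.NoetherianSpace.isCompact (W : Set T)).isConstructible
          W.isOpen).compl
      have h2 := Strata.of_immersion I.subschemeι hcons G h1
      rw [hri] at h2
      have h3 := strata_open G W (TopologicalSpace.NoetherianSpace.isCompact _) hW
      have hunion := Strata.iUnion (F := G) (S := (Set.univ : Set T))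
        (fun b : Bool => if b then (W : Set T) else (W : Set T)ᶜ) (by
          intro a b hab
          cases a <;> cases b
          · exact (hab rfl).elim
          · simpa using disjoint_compl_left
          · simpa using disjoint_compl_right
          · exact (hab rfl).elim) (by
          intro b
          cases b
          · simpa using h2
          · simpa using h3)
      have heq : (⋃ b : Bool, (if b then (W : Set T) else (W : Set T)ᶜ)) = Set.univ := by
        ext x
        simp only [Set.mem_iUnion, Bool.exists_bool, Bool.false_eq_true, if_false, if_true,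
          Set.mem_compl_iff, Set.mem_univ, iff_true]
        exact (em (x ∈ (W : Set T))).symm
      rwa [heq] at hunion

theorem strata_sub_of_flc [IsNoetherian X] (F G : EtCoh.Ab X) (ι : G ⟶ F) [Mono ι]
    (hF : EtCoh.IsFiniteLocallyConstant F) :
    Strata G (Set.univ : Set X) (Set.univ : Set X) :=
  strata_sub_of_flc_aux ⊤ X (𝟙 X) (by simp) F G ι hF

/-- on a Noetherian scheme a subsheaf of a constructible sheaf is constructible -/
theorem constructible_sub [IsNoetherian X] {F G : EtCoh.Ab X} (ι : G ⟶ F) [Mono ι]
    (hF : EtPBC.IsConstructible F) : EtPBC.IsConstructible G := by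
  rw [constructible_iff_univ] at hF ⊢
  obtain ⟨n, T, g, hi, hc, hd, hu, hf⟩ := hF
  apply adapted_of_strata
  have hZ : ∀ i, Strata G (Set.univ : Set X) (Set.range (g i)) := fun i => by
    haveI := hi i
    have hci : Topology.IsConstructible (Set.range (g i)) := (constructible_univ_iff _).1 (hc i)
    haveI : CompactSpace (T i) := compactSpace_of_immersion (g i) hci
    haveI : IsNoetherian (T i) :=
      { toIsLocallyNoetherian := LocallyOfFiniteType.isLocallyNoetherian (g i)
        toCompactSpace := inferInstance }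
    haveI : Mono ((EtCoh.pull (g i)).map ι) := inferInstance
    exact Strata.of_immersion (g i) hci G
      (strata_sub_of_flc _ _ ((EtCoh.pull (g i)).map ι) (hf i))
  have := Strata.iUnion (F := G) (S := (Set.univ : Set X)) (fun i => Set.range (g i)) hd hZ
  rwa [hu] at this

theorem constructible_of_iso {F G : EtCoh.Ab X} (e : F ≅ G) (hF : EtPBC.IsConstructible F) :
    EtPBC.IsConstructible G := by
  intro U hU
  obtain ⟨n, T, g, hi, hc, hd, hu, hf⟩ := hF U hU
  exact ⟨n, T, g, hi, hc, hd, hu, fun i _ => flc_of_iso ((EtCoh.pull (g i)).mapIso e) (hf i)⟩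

/-- on a Noetherian scheme a quotient of a constructible sheaf is constructible -/
theorem constructible_quot [IsNoetherian X] {F Q : EtCoh.Ab X} (π : F ⟶ Q) [Epi π]
    (hF : EtPBC.IsConstructible F) : EtPBC.IsConstructible Q := by
  have hK : EtPBC.IsConstructible (kernel π) := constructible_sub (kernel.ι π) hF
  have hC := (constr_kernel_cokernel (kernel.ι π) hK hF).2
  have hcolim := Abelian.epiIsCokernelOfKernel (f := π) _ (kernelIsKernel π)
  exact constructible_of_iso
    (IsColimit.coconePointUniqueUpToIso (colimit.isColimit _) hcolim) hC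

end Groth.Agent.Lib.helper21.SubConstr
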