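import Mathlib
import Groth.Prelude.Def_EtBase
import Groth.Agent.Lib.Helper1.EtGerm

/-!
# Splitting a finite stalk: if the stalk `G_ζ` of an abelian étale sheaf at a geometric point is
finite, the germ map `G(W) → G_ζ` admits an additive section for a suitable étale neighbourhood `W`.
-/

set_option autoImplicit false

open CategoryTheory CategoryTheory.Limits Opposite AlgebraicGeometry

namespace Groth.Agent.Lib.helper21.StalkSplit

open Groth.Agent.H1.EtStalk Groth.Agent.H1.EtGerm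

universe u

variable {T : Scheme.{u}} (G : EtCoh.Ab T) {Ω : Type u} [Field Ω] [IsSepClosed Ω]
  (ζ : Spec (CommRingCat.of Ω) ⟶ T)

lemma lift_map_comp {A B C : T.Etale} (f : A ⟶ B) (g : B ⟶ C) (a : Lift ζ A) :
    Lift.map (f ≫ g) a = Lift.map g (Lift.map f a) :=
  FunctorToTypes.map_comp_apply (Scheme.pointSmallEtale ζ).fiber f g a

lemma lift_map_id {A : T.Etale} (a : Lift ζ A) : Lift.map (𝟙 A) a = a :=
  FunctorToTypes.map_id_apply (Scheme.pointSmallEtale ζ).fiber a

/-- common refinement of a finite family of étale neighbourhoods of a geometric point -/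
lemma exists_common_lift {ι : Type*} (V : ι → T.Etale) (y : ∀ i, Lift ζ (V i)) (s : Finset ι) :
    ∃ (W : T.Etale) (w : Lift ζ W), ∀ i ∈ s, ∃ r : W ⟶ V i, Lift.map r w = y i := by
  classical
  induction s using Finset.induction_on with
  | empty =>
    obtain ⟨⟨W, w⟩⟩ := IsCofiltered.nonempty (C := (Scheme.pointSmallEtale ζ).fiber.Elements)
    exact ⟨W, w, fun i hi => (Finset.notMem_empty i hi).elim⟩
  | insert a s _ ih =>
    obtain ⟨W, w, hr⟩ := ih
    obtain ⟨⟨W', w'⟩, ⟨f, hf⟩, ⟨g, hg⟩, -⟩ := IsCofilteredOrEmpty.cone_objs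
      (C := (Scheme.pointSmallEtale ζ).fiber.Elements) ⟨W, w⟩ ⟨V a, y a⟩
    have hf' : Lift.map f w' = w := hf
    have hg' : Lift.map g w' = y a := hg
    refine ⟨W', w', fun i hi => ?_⟩
    rcases Finset.mem_insert.1 hi with rfl | hi
    · exact ⟨g, hg'⟩
    · obtain ⟨r, hr'⟩ := hr i hi
      exact ⟨f ≫ r, by rw [lift_map_comp, hf', hr']⟩

/-- finitely many sections with vanishing germ vanish on a common étale neighbourhood -/
lemma exists_kill {W : T.Etale} (w : Lift ζ W) (S : Finset (G.obj.obj (op W)))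
    (hS : ∀ t ∈ S, germ ζ G W w t = 0) :
    ∃ (W' : T.Etale) (r : W' ⟶ W) (w' : Lift ζ W'), Lift.map r w' = w ∧
      ∀ t ∈ S, G.obj.map r.op t = 0 := by
  classical
  induction S using Finset.induction_on with
  | empty => exact ⟨W, 𝟙 W, w, lift_map_id ζ w, fun t ht => (Finset.notMem_empty t ht).elim⟩
  | insert t S _ ih =>
    obtain ⟨W', r, w', hw', hk⟩ := ih (fun t' ht' => hS t' (Finset.mem_insert_of_mem ht'))
    have h0 : germ ζ G W' w' (G.obj.map r.op t) = 0 := by
      rw [germ_res, hw']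
      exact hS t (Finset.mem_insert_self t S)
    obtain ⟨V, g, y', hy', hg⟩ := (germ_eq_zero_iff G W' w' _).1 h0
    refine ⟨V, g ≫ r, y', by rw [lift_map_comp, hy', hw'], fun t' ht' => ?_⟩
    have hcomp : ∀ t'' : G.obj.obj (op W),
        G.obj.map (g ≫ r).op t'' = G.obj.map g.op (G.obj.map r.op t'') := by
      intro t''
      rw [op_comp, Functor.map_comp, ConcreteCategory.comp_apply]
    rw [hcomp]
    rcases Finset.mem_insert.1 ht' with rfl | ht'
    · exact hg
    · rw [hk t' ht', map_zero]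

/-- **splitting of a finite stalk** -/
theorem exists_splitting [Finite ((EtCoh.stalk ζ).obj G)] :
    ∃ (W : T.Etale) (w : Lift ζ W) (σ : (EtCoh.stalk ζ).obj G →+ G.obj.obj (op W)),
      ∀ p, germ ζ G W w (σ p) = p := by
  classical
  haveI : Fintype ((EtCoh.stalk ζ).obj G) := Fintype.ofFinite _
  have key := fun p : (EtCoh.stalk ζ).obj G => germ_surjective G p
  choose V y s hs using key
  obtain ⟨W₀, w₀, hr⟩ := exists_common_lift ζ V y Finset.univ
  choose r hr' using fun p => hr p (Finset.mem_univ p)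
  let s₀ : (EtCoh.stalk ζ).obj G → G.obj.obj (op W₀) := fun p => G.obj.map (r p).op (s p)
  have hs₀ : ∀ p, germ ζ G W₀ w₀ (s₀ p) = p := by
    intro p
    show germ ζ G W₀ w₀ (G.obj.map (r p).op (s p)) = p
    rw [germ_res, hr' p, hs p]
  let S : Finset (G.obj.obj (op W₀)) :=
    (Finset.univ : Finset ((EtCoh.stalk ζ).obj G × (EtCoh.stalk ζ).obj G)).image
      (fun pq => s₀ (pq.1 + pq.2) - s₀ pq.1 - s₀ pq.2)
  have hS : ∀ t ∈ S, germ ζ G W₀ w₀ t = 0 := by
    intro t ht
    obtain ⟨⟨p, q⟩, -, rfl⟩ := Finset.mem_image.1 ht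
    show germ ζ G W₀ w₀ (s₀ (p + q) - s₀ p - s₀ q) = 0
    rw [map_sub, map_sub, hs₀, hs₀, hs₀]
    abel
  obtain ⟨W', ρ, w', hw', hk⟩ := exists_kill G ζ w₀ S hS
  have hadd : ∀ p q, G.obj.map ρ.op (s₀ (p + q)) =
      G.obj.map ρ.op (s₀ p) + G.obj.map ρ.op (s₀ q) := by
    intro p q
    have h1 := hk (s₀ (p + q) - s₀ p - s₀ q)
      (Finset.mem_image.2 ⟨(p, q), Finset.mem_univ _, rfl⟩)
    rw [map_sub, map_sub, sub_sub, sub_eq_zero] at h1
    exact h1
  refine ⟨W', w', AddMonoidHom.mk' (fun p => G.obj.map ρ.op (s₀ p)) hadd, fun p => ?_⟩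
  show germ ζ G W' w' (G.obj.map ρ.op (s₀ p)) = p
  rw [germ_res, hw', hs₀]

end Groth.Agent.Lib.helper21.StalkSplit
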