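import Mathlib

/-!
# Abstract vanishing of `Ext` (helper21)

* `exists_epi_comp_eq_zero`: every class in `Ext^{n+1}(A, B)` is killed by precomposition with some
  epimorphism `A' ⟶ A` (enough injectives).
* `ext_eq_zero_of_class`: if `Pr` is a class of objects such that every epi onto an object of `Pr`
  can be refined by an epi from an object of `Pr` with kernel in `Pr`, and morphisms to `B` extend
  along monos with cokernel in `Pr`, then `Ext^{n+1}(A, B) = 0` for all `A` in `Pr`.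
-/

set_option autoImplicit false

universe w v u

open CategoryTheory CategoryTheory.Limits CategoryTheory.Abelian

namespace Groth.Agent.Lib.helper21.ExtVanish

variable {𝒜 : Type u} [Category.{v} 𝒜] [Abelian 𝒜]

/-- the short exact sequence `0 ⟶ B ⟶ I(B) ⟶ I(B)/B ⟶ 0` -/
noncomputable def injSeq [EnoughInjectives 𝒜] (B : 𝒜) : ShortComplex 𝒜 :=
  ShortComplex.mk (Injective.ι B) (cokernel.π (Injective.ι B)) (by simp)

lemma injSeq_shortExact [EnoughInjectives 𝒜] (B : 𝒜) : (injSeq B).ShortExact :=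
  { exact := ShortComplex.exact_cokernel (Injective.ι B)
    mono_f := inferInstanceAs (Mono (Injective.ι B))
    epi_g := inferInstanceAs (Epi (cokernel.π (Injective.ι B))) }

/-- the short exact sequence `0 ⟶ ker π ⟶ P ⟶ A ⟶ 0` of an epimorphism -/
noncomputable def kerSeq {P A : 𝒜} (π : P ⟶ A) : ShortComplex 𝒜 :=
  ShortComplex.mk (kernel.ι π) π (by simp)

lemma kerSeq_shortExact {P A : 𝒜} (π : P ⟶ A) [Epi π] : (kerSeq π).ShortExact :=
  { exact := ShortComplex.exact_kernel π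
    mono_f := inferInstanceAs (Mono (kernel.ι π))
    epi_g := inferInstanceAs (Epi π) }

variable [HasExt.{w} 𝒜]

lemma efface_zero (S : ShortComplex 𝒜) (hS : S.ShortExact) [Injective S.X₂] {A : 𝒜}
    (x : Ext.{w} A S.X₁ 1) :
    ∃ (A' : 𝒜) (π : A' ⟶ A), Epi π ∧ (Ext.mk₀ π).comp x (zero_add 1) = 0 := by
  obtain ⟨y, rfl⟩ := Ext.covariant_sequence_exact₁ A hS x
    (Ext.eq_zero_of_injective _) (zero_add 1)
  obtain ⟨g, rfl⟩ := (Ext.mk₀_bijective _ _).2 y
  haveI : Epi S.g := hS.epi_g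
  refine ⟨pullback S.g g, pullback.snd S.g g, inferInstance, ?_⟩
  rw [← Ext.comp_assoc_of_second_deg_zero, Ext.mk₀_comp_mk₀, ← pullback.condition,
    ← Ext.mk₀_comp_mk₀, Ext.comp_assoc_of_second_deg_zero, hS.comp_extClass, Ext.comp_zero]

lemma efface_succ (S : ShortComplex 𝒜) (hS : S.ShortExact) [Injective S.X₂] {A : 𝒜} (n : ℕ)
    (ih : ∀ (y : Ext.{w} A S.X₃ (n + 1)),
      ∃ (A' : 𝒜) (π : A' ⟶ A), Epi π ∧ (Ext.mk₀ π).comp y (zero_add (n + 1)) = 0)
    (x : Ext.{w} A S.X₁ (n + 1 + 1)) :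
    ∃ (A' : 𝒜) (π : A' ⟶ A), Epi π ∧ (Ext.mk₀ π).comp x (zero_add (n + 1 + 1)) = 0 := by
  obtain ⟨y, rfl⟩ := Ext.covariant_sequence_exact₁ A hS x
    (Ext.eq_zero_of_injective _) (rfl : (n + 1) + 1 = n + 1 + 1)
  obtain ⟨A', π, hπ, h⟩ := ih y
  refine ⟨A', π, hπ, ?_⟩
  rw [← Ext.comp_assoc (Ext.mk₀ π) y hS.extClass (zero_add (n + 1)) rfl (by omega), h,
    Ext.zero_comp]

/-- every `Ext` class of positive degree is effaceable in the first variable -/
theorem exists_epi_comp_eq_zero [EnoughInjectives 𝒜] :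
    ∀ (n : ℕ) {A B : 𝒜} (x : Ext.{w} A B (n + 1)),
      ∃ (A' : 𝒜) (π : A' ⟶ A), Epi π ∧ (Ext.mk₀ π).comp x (zero_add (n + 1)) = 0 := by
  intro n
  induction n with
  | zero =>
    intro A B x
    haveI : Injective (injSeq B).X₂ := inferInstanceAs (Injective (Injective.under B))
    exact efface_zero (injSeq B) (injSeq_shortExact B) x
  | succ n ih =>
    intro A B x
    haveI : Injective (injSeq B).X₂ := inferInstanceAs (Injective (Injective.under B))
    exact efface_succ (injSeq B) (injSeq_shortExact B) n (fun y => ih y) x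

/-- the vanishing criterion -/
theorem ext_eq_zero_of_class [EnoughInjectives 𝒜] (Pr : 𝒜 → Prop) (B : 𝒜)
    (ha : ∀ (A : 𝒜), Pr A → ∀ (A'' : 𝒜) (p : A'' ⟶ A), Epi p →
      ∃ (P : 𝒜) (π : P ⟶ A), Epi π ∧ Pr P ∧ Pr (kernel π) ∧ ∃ q : P ⟶ A'', q ≫ p = π)
    (hb : ∀ (S : ShortComplex 𝒜), S.ShortExact → Pr S.X₃ → ∀ f : S.X₁ ⟶ B,
      ∃ f' : S.X₂ ⟶ B, S.f ≫ f' = f) :
    ∀ (n : ℕ) (A : 𝒜), Pr A → ∀ x : Ext.{w} A B (n + 1), x = 0 := by
  have key : ∀ (n : ℕ) (A : 𝒜), Pr A → ∀ x : Ext.{w} A B (n + 1),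
      ∃ (P : 𝒜) (π : P ⟶ A) (_ : Epi π), Pr (kernel π) ∧
        ∃ x₁ : Ext.{w} (kerSeq π).X₁ B n,
          (kerSeq_shortExact π).extClass.comp x₁ (add_comm 1 n) = x := by
    intro n A hA x
    obtain ⟨A'', p, hp, h⟩ := exists_epi_comp_eq_zero n x
    obtain ⟨P, π, hπ, -, h2, q, hq⟩ := ha A hA A'' p hp
    refine ⟨P, π, hπ, h2, ?_⟩
    have h0 : (Ext.mk₀ (kerSeq π).g).comp x (zero_add (n + 1)) = 0 := by
      show (Ext.mk₀ π).comp x (zero_add (n + 1)) = 0
      rw [← hq, ← Ext.mk₀_comp_mk₀, Ext.comp_assoc_of_second_deg_zero, h, Ext.comp_zero]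
    exact Ext.contravariant_sequence_exact₃ (kerSeq_shortExact π) B x h0 (add_comm 1 n)
  intro n
  induction n with
  | zero =>
    intro A hA x
    obtain ⟨P, π, hπ, -, x₁, rfl⟩ := key 0 A hA x
    obtain ⟨f, rfl⟩ := (Ext.mk₀_bijective _ _).2 x₁
    obtain ⟨f', hf'⟩ := hb (kerSeq π) (kerSeq_shortExact π) hA f
    rw [← hf', ← Ext.mk₀_comp_mk₀, ← Ext.comp_assoc_of_second_deg_zero,
      (kerSeq_shortExact π).extClass_comp, Ext.zero_comp]
    rfl
  | succ n ih =>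
    intro A hA x
    obtain ⟨P, π, hπ, hK, x₁, rfl⟩ := key (n + 1) A hA x
    have h : x₁ = 0 := ih _ hK x₁
    rw [h, Ext.comp_zero]
    rfl

end Groth.Agent.Lib.helper21.ExtVanish
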