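import Mathlib

set_option autoImplicit false

universe u v₁ u₁

open CategoryTheory TensorProduct

namespace Groth.Agent.Lib.helper21.ScalarExt

lemma isAddTorsionFree_quot {N' : Type u} [AddCommGroup N'] (S : Submodule ℤ N')
    (htf : ∀ (n : ℕ), n ≠ 0 → ∀ y : N', n • y ∈ S → y ∈ S) : IsAddTorsionFree (N' ⧸ S) where
  nsmul_right_injective := by
    intro n hn a b hab
    obtain ⟨a, rfl⟩ := Submodule.Quotient.mk_surjective S a
    obtain ⟨b, rfl⟩ := Submodule.Quotient.mk_surjective S b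
    rw [Submodule.Quotient.eq]
    apply htf n hn
    rw [smul_sub]
    have : n • (Submodule.Quotient.mk a : N' ⧸ S) = n • (Submodule.Quotient.mk b : N' ⧸ S) := hab
    rw [← Submodule.Quotient.mk_smul, ← Submodule.Quotient.mk_smul, Submodule.Quotient.eq] at this
    exact this

lemma lTensor_injective_of_tf {N N' : Type u} [AddCommGroup N] [AddCommGroup N'] (g : N →+ N')
    (hg : Function.Injective g)
    (htf : ∀ (n : ℕ), n ≠ 0 → ∀ y : N', n • y ∈ g.range → y ∈ g.range)
    (A : Type u) [AddCommGroup A] :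
    Function.Injective (g.toIntLinearMap.lTensor A) := by
  let S : Submodule ℤ N' := LinearMap.range g.toIntLinearMap
  haveI : IsAddTorsionFree (N' ⧸ S) := isAddTorsionFree_quot S (by
    intro n hn y hy
    obtain ⟨x, hx⟩ := htf n hn y (by obtain ⟨x, hx⟩ := hy; exact ⟨x, hx⟩)
    exact ⟨x, hx⟩)
  exact LinearMap.lTensor_injective_of_exact_of_flat S.mkQ (Submodule.mkQ_surjective S)
    g.toIntLinearMap hg (LinearMap.exact_map_mkQ_range _) A

variable {C : Type u₁} [Category.{v₁} C]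
variable (R₀ : Cᵒᵖ ⥤ RingCat.{u})

/-- the map `R(U) ⊗ E(U) ⟶ R(V) ⊗ E'(V)` -/
noncomputable def tmap {U V : Cᵒᵖ} (f : U ⟶ V) {A B : AddCommGrpCat.{u}} (g : A ⟶ B) :
    (R₀.obj U ⊗[ℤ] A) →+ (R₀.obj V ⊗[ℤ] B) :=
  (TensorProduct.map (R₀.map f).hom.toAddMonoidHom.toIntLinearMap
    g.hom.toIntLinearMap).toAddMonoidHom

@[simp]
lemma tmap_tmul {U V : Cᵒᵖ} (f : U ⟶ V) {A B : AddCommGrpCat.{u}} (g : A ⟶ B)
    (r : R₀.obj U) (a : A) : tmap R₀ f g (r ⊗ₜ a) = (R₀.map f r) ⊗ₜ (g a) := rfl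

lemma tmap_smul {U V : Cᵒᵖ} (f : U ⟶ V) {A B : AddCommGrpCat.{u}} (g : A ⟶ B)
    (r : R₀.obj U) (m : R₀.obj U ⊗[ℤ] A) :
    tmap R₀ f g (r • m) = R₀.map f r • tmap R₀ f g m := by
  induction m using TensorProduct.induction_on with
  | zero => simp
  | tmul a e => simp [TensorProduct.smul_tmul']
  | add x y hx hy => simp only [smul_add, map_add, hx, hy]

variable (E : Cᵒᵖ ⥤ AddCommGrpCat.{u})

/-- the abelian presheaf `U ↦ R(U) ⊗_ℤ E(U)` -/
noncomputable def tens : Cᵒᵖ ⥤ AddCommGrpCat.{u} where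
  obj U := AddCommGrpCat.of (R₀.obj U ⊗[ℤ] E.obj U)
  map {U V} f := AddCommGrpCat.ofHom (tmap R₀ f (E.map f))
  map_id U := by
    apply AddCommGrpCat.hom_ext
    apply AddMonoidHom.ext
    intro x
    induction x using TensorProduct.induction_on with
    | zero => simp
    | tmul r a => simp
    | add x y hx hy => simp only [map_add, hx, hy]
  map_comp {U V W} f g := by
    apply AddCommGrpCat.hom_ext
    apply AddMonoidHom.ext
    intro x
    induction x using TensorProduct.induction_on with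
    | zero => simp
    | tmul r a => simp
    | add x y hx hy => simp only [map_add, hx, hy]

instance (U : Cᵒᵖ) : Module (R₀.obj U) ((tens R₀ E).obj U) :=
  inferInstanceAs (Module (R₀.obj U) (R₀.obj U ⊗[ℤ] E.obj U))

lemma tens_map_smul ⦃U V : Cᵒᵖ⦄ (f : U ⟶ V) (r : R₀.obj U) (m : (tens R₀ E).obj U) :
    (tens R₀ E).map f (r • m) = R₀.map f r • (tens R₀ E).map f m := by
  exact tmap_smul R₀ f (E.map f) r m

/-- the presheaf of modules `U ↦ R(U) ⊗_ℤ E(U)` -/
noncomputable def T : PresheafOfModules.{u} R₀ :=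
  PresheafOfModules.ofPresheaf (tens R₀ E) (tens_map_smul R₀ E)

lemma T_presheaf : (T R₀ E).presheaf = tens R₀ E := rfl

variable {E} {E' : Cᵒᵖ ⥤ AddCommGrpCat.{u}}

/-- functoriality of `tens` -/
noncomputable def tensMap (g : E ⟶ E') : tens R₀ E ⟶ tens R₀ E' where
  app U := AddCommGrpCat.ofHom (tmap R₀ (𝟙 U) (g.app U))
  naturality {U V} f := by
    apply AddCommGrpCat.hom_ext
    apply AddMonoidHom.ext
    intro x
    show tmap R₀ (𝟙 V) (g.app V) (tmap R₀ f (E.map f) x) =
      tmap R₀ f (E'.map f) (tmap R₀ (𝟙 U) (g.app U) x)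
    induction x using TensorProduct.induction_on with
    | zero => simp
    | tmul r a =>
      simp only [tmap_tmul, CategoryTheory.Functor.map_id, RingCat.hom_id, RingHom.id_apply]
      congr 1
      exact NatTrans.naturality_apply g f a
    | add x y hx hy => simp only [map_add, hx, hy]

/-- functoriality of `T` -/
noncomputable def Tmap (g : E ⟶ E') : T R₀ E ⟶ T R₀ E' :=
  PresheafOfModules.homMk (tensMap R₀ g) (by
    intro U r m
    have := tmap_smul R₀ (𝟙 U) (g.app U) r m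
    rw [CategoryTheory.Functor.map_id] at this
    exact this)

variable (E)

/-- the unit `e ↦ 1 ⊗ e` -/
noncomputable def unitE : E ⟶ tens R₀ E where
  app U := AddCommGrpCat.ofHom
    ((TensorProduct.mk ℤ (R₀.obj U) (E.obj U) 1).toAddMonoidHom)
  naturality {U V} f := by
    apply AddCommGrpCat.hom_ext
    apply AddMonoidHom.ext
    intro e
    show (1 : R₀.obj V) ⊗ₜ[ℤ] (E.map f e) = tmap R₀ f (E.map f) ((1 : R₀.obj U) ⊗ₜ[ℤ] e)
    simp

variable {E}

lemma unitE_naturality (g : E ⟶ E') : unitE R₀ E ≫ tensMap R₀ g = g ≫ unitE R₀ E' := by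
  ext U e
  show tmap R₀ (𝟙 U) (g.app U) ((1 : R₀.obj U) ⊗ₜ[ℤ] e) = (1 : R₀.obj U) ⊗ₜ[ℤ] (g.app U e)
  simp

lemma tmap_id_eq (U : Cᵒᵖ) {A B : AddCommGrpCat.{u}} (g : A ⟶ B) (x : R₀.obj U ⊗[ℤ] A) :
    tmap R₀ (𝟙 U) g x = g.hom.toIntLinearMap.lTensor (R₀.obj U) x := by
  induction x using TensorProduct.induction_on with
  | zero => simp
  | tmul r a => simp
  | add x y hx hy => simp only [map_add, hx, hy]

/-- `R ⊗ -` preserves monomorphisms with sectionwise torsion-free cokernel -/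
lemma mono_Tmap (g : E ⟶ E') (hinj : ∀ U, Function.Injective (g.app U))
    (htf : ∀ (U : Cᵒᵖ) (n : ℕ), n ≠ 0 → ∀ y : E'.obj U, n • y ∈ (g.app U).hom.range →
      y ∈ (g.app U).hom.range) : Mono (Tmap R₀ g) := by
  apply PresheafOfModules.mono_of_injective
  intro U x y hxy
  have h := lTensor_injective_of_tf (g.app U).hom (hinj U) (htf U) (R₀.obj U)
  apply h
  rw [← tmap_id_eq, ← tmap_id_eq]
  exact hxy

variable {R₀} (M : PresheafOfModules.{u} R₀)

/-- multiplication `R(U) ⊗ M(U) ⟶ M(U)` -/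
noncomputable def mulHom (U : Cᵒᵖ) : (R₀.obj U ⊗[ℤ] M.presheaf.obj U) →+ M.obj U :=
  TensorProduct.liftAddHom (smulAddHom (R₀.obj U) (M.obj U)) (by
    intro n r m
    show (n • r) • (m : M.obj U) = r • (n • (m : M.obj U))
    rw [smul_assoc, smul_comm])

@[simp]
lemma mulHom_tmul (U : Cᵒᵖ) (r : R₀.obj U) (m : M.obj U) :
    mulHom M U (r ⊗ₜ[ℤ] (show M.presheaf.obj U from m)) = r • m := rfl

lemma mulHom_smul (U : Cᵒᵖ) (r : R₀.obj U) (x : R₀.obj U ⊗[ℤ] M.presheaf.obj U) :
    mulHom M U (r • x) = r • mulHom M U x := by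
  induction x using TensorProduct.induction_on with
  | zero => rw [smul_zero, map_zero, smul_zero]
  | tmul a m =>
    rw [TensorProduct.smul_tmul']
    show (r • a) • (m : M.obj U) = r • (a • (m : M.obj U))
    rw [smul_assoc]
  | add x y hx hy => rw [smul_add, map_add, map_add, smul_add, hx, hy]

lemma mulHom_tmap {U V : Cᵒᵖ} (f : U ⟶ V) (x : R₀.obj U ⊗[ℤ] M.presheaf.obj U) :
    mulHom M V (tmap R₀ f (M.presheaf.map f) x) = M.map f (mulHom M U x) := by
  induction x using TensorProduct.induction_on with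
  | zero => rw [map_zero, map_zero, map_zero, map_zero]; rfl
  | tmul r m =>
    rw [tmap_tmul]
    exact (PresheafOfModules.map_smul M f r m).symm
  | add x y hx hy => rw [map_add, map_add, map_add, map_add, hx, hy]; rfl

/-- the counit as a morphism of abelian presheaves -/
noncomputable def counitPsh : tens R₀ M.presheaf ⟶ M.presheaf where
  app U := AddCommGrpCat.ofHom (mulHom M U)
  naturality {U V} f := by
    apply AddCommGrpCat.hom_ext
    apply AddMonoidHom.ext
    intro x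
    exact mulHom_tmap M f x

/-- the counit `R ⊗ M ⟶ M` -/
noncomputable def counit : T R₀ M.presheaf ⟶ M :=
  PresheafOfModules.homMk (counitPsh M) (by
    intro U r x
    exact mulHom_smul M U r x)

lemma unit_counit : unitE R₀ M.presheaf ≫ counitPsh M = 𝟙 _ := by
  ext U m
  show mulHom M U ((1 : R₀.obj U) ⊗ₜ[ℤ] m) = m
  exact one_smul _ _

lemma toPresheaf_map_Tmap {E E' : Cᵒᵖ ⥤ AddCommGrpCat.{u}} (g : E ⟶ E') :
    (PresheafOfModules.toPresheaf R₀).map (Tmap R₀ g) = tensMap R₀ g := rfl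

lemma toPresheaf_map_counit : (PresheafOfModules.toPresheaf R₀).map (counit M) = counitPsh M := rfl

/-- **extension property**: morphisms of abelian presheaves into (the underlying abelian presheaf
of) an injective presheaf of modules extend along monomorphisms with sectionwise torsion-free
cokernel -/
theorem exists_extension [Injective M] {E E' : Cᵒᵖ ⥤ AddCommGrpCat.{u}} (g : E ⟶ E')
    (hinj : ∀ U, Function.Injective (g.app U))
    (htf : ∀ (U : Cᵒᵖ) (n : ℕ), n ≠ 0 → ∀ y : E'.obj U, n • y ∈ (g.app U).hom.range →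
      y ∈ (g.app U).hom.range) (φ : E ⟶ M.presheaf) :
    ∃ φ' : E' ⟶ M.presheaf, g ≫ φ' = φ := by
  haveI := mono_Tmap R₀ g hinj htf
  let r : T R₀ E' ⟶ M := Injective.factorThru (Tmap R₀ φ ≫ counit M) (Tmap R₀ g)
  have hr : Tmap R₀ g ≫ r = Tmap R₀ φ ≫ counit M := Injective.comp_factorThru _ _
  refine ⟨unitE R₀ E' ≫ (PresheafOfModules.toPresheaf R₀).map r, ?_⟩
  have h1 : tensMap R₀ g ≫ (PresheafOfModules.toPresheaf R₀).map r =
      tensMap R₀ φ ≫ counitPsh M := by
    have h2 := congrArg (fun t => (PresheafOfModules.toPresheaf R₀).map t) hr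
    simp only [CategoryTheory.Functor.map_comp] at h2
    exact h2
  calc g ≫ unitE R₀ E' ≫ (PresheafOfModules.toPresheaf R₀).map r
      = (g ≫ unitE R₀ E') ≫ (PresheafOfModules.toPresheaf R₀).map r := (Category.assoc _ _ _).symm
    _ = (unitE R₀ E ≫ tensMap R₀ g) ≫ (PresheafOfModules.toPresheaf R₀).map r := by
        rw [unitE_naturality]
    _ = unitE R₀ E ≫ tensMap R₀ g ≫ (PresheafOfModules.toPresheaf R₀).map r := Category.assoc _ _ _
    _ = unitE R₀ E ≫ tensMap R₀ φ ≫ counitPsh M := congrArg (fun t => unitE R₀ E ≫ t) h1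
    _ = (unitE R₀ E ≫ tensMap R₀ φ) ≫ counitPsh M := (Category.assoc _ _ _).symm
    _ = (φ ≫ unitE R₀ M.presheaf) ≫ counitPsh M := by rw [unitE_naturality]
    _ = φ ≫ unitE R₀ M.presheaf ≫ counitPsh M := Category.assoc _ _ _
    _ = φ := by rw [unit_counit, Category.comp_id]

end Groth.Agent.Lib.helper21.ScalarExt
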