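import Mathlib
import Groth.Agent.Lib.Helper21.ExtVanish
import Groth.Agent.Lib.Helper21.ScalarExt

/-!
# Injective sheaves of modules are acyclic as abelian sheaves for torsion-free first arguments
(helper21)
-/

set_option autoImplicit false

universe u

open CategoryTheory CategoryTheory.Limits Opposite CategoryTheory.Abelian

namespace Groth.Agent.Lib.helper21.InjAcyc

variable {C : Type u} [SmallCategory C] (J : GrothendieckTopology C)

/-- torsion-free abelian sheaves (sectionwise) -/
def TF (A : Sheaf J AddCommGrpCat.{u}) : Prop := ∀ U : Cᵒᵖ, IsAddTorsionFree (A.obj.obj U)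

variable {J}

lemma injective_of_mono {A B : Sheaf J AddCommGrpCat.{u}} (f : A ⟶ B) [Mono f] (U : Cᵒᵖ) :
    Function.Injective (f.hom.app U) := by
  have h1 : Mono ((sheafToPresheaf J AddCommGrpCat.{u}).map f) := inferInstance
  have h2 : Mono (((sheafToPresheaf J AddCommGrpCat.{u}).map f).app U) := inferInstance
  exact (AddCommGrpCat.mono_iff_injective _).1 h2

lemma mono_of_injective {A B : Sheaf J AddCommGrpCat.{u}} (f : A ⟶ B)
    (h : ∀ U : Cᵒᵖ, Function.Injective (f.hom.app U)) : Mono f := by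
  have h1 : ∀ U : Cᵒᵖ, Mono (((sheafToPresheaf J AddCommGrpCat.{u}).map f).app U) := fun U =>
    (AddCommGrpCat.mono_iff_injective _).2 (h U)
  have h2 : Mono ((sheafToPresheaf J AddCommGrpCat.{u}).map f) := NatTrans.mono_of_mono_app _
  exact (sheafToPresheaf J AddCommGrpCat.{u}).mono_of_mono_map h2

lemma tf_iff (A : Sheaf J AddCommGrpCat.{u}) :
    TF J A ↔ ∀ n : ℕ, n ≠ 0 → Mono (n • 𝟙 A) := by
  constructor
  · intro h n hn
    apply mono_of_injective
    intro U x y hxy
    haveI := h U
    exact nsmul_right_injective hn hxy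
  · intro h U
    refine ⟨fun n hn x y hxy => ?_⟩
    haveI := h n hn
    exact injective_of_mono (n • 𝟙 A) U hxy

lemma tf_of_mono {A B : Sheaf J AddCommGrpCat.{u}} (f : A ⟶ B) [Mono f] (hB : TF J B) :
    TF J A := by
  intro U
  haveI := hB U
  exact Function.Injective.isAddTorsionFree (f.hom.app U).hom (injective_of_mono f U)

lemma tf_map {D : Type u} [SmallCategory D] {K : GrothendieckTopology D}
    (Λ : Sheaf J AddCommGrpCat.{u} ⥤ Sheaf K AddCommGrpCat.{u}) [Λ.Additive]
    [Λ.PreservesMonomorphisms] {A : Sheaf J AddCommGrpCat.{u}} (hA : TF J A) :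
    TF K (Λ.obj A) := by
  rw [tf_iff] at hA ⊢
  intro n hn
  haveI := hA n hn
  have : n • 𝟙 (Λ.obj A) = Λ.map (n • 𝟙 A) := by
    rw [Functor.map_nsmul, CategoryTheory.Functor.map_id]
  rw [this]
  infer_instance

lemma tf_sheafify (P : Cᵒᵖ ⥤ AddCommGrpCat.{u}) (hP : ∀ U, IsAddTorsionFree (P.obj U)) :
    TF J ((presheafToSheaf J AddCommGrpCat.{u}).obj P) := by
  rw [tf_iff]
  intro n hn
  have h1 : Mono (n • 𝟙 P) := by
    haveI : ∀ U : Cᵒᵖ, Mono ((n • 𝟙 P : P ⟶ P).app U) := fun U => by
      rw [AddCommGrpCat.mono_iff_injective]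
      intro x y hxy
      haveI := hP U
      exact nsmul_right_injective hn hxy
    exact NatTrans.mono_of_mono_app _
  have : n • 𝟙 ((presheafToSheaf J AddCommGrpCat.{u}).obj P) =
      (presheafToSheaf J AddCommGrpCat.{u}).map (n • 𝟙 P) := by
    rw [Functor.map_nsmul, CategoryTheory.Functor.map_id]
  rw [this]
  infer_instance

lemma tf_free (X : Cᵒᵖ ⥤ Type u) :
    TF J ((presheafToSheaf J AddCommGrpCat.{u}).obj (X ⋙ AddCommGrpCat.free.{u})) := by
  apply tf_sheafify
  intro U
  exact Function.Injective.isAddTorsionFree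
    (FreeAbelianGroup.equivFinsupp (X.obj U)).toAddMonoidHom
    (FreeAbelianGroup.equivFinsupp (X.obj U)).injective

variable (J)

/-- the free abelian sheaf functor on presheaves of sets -/
noncomputable abbrev freeF : (Cᵒᵖ ⥤ Type u) ⥤ Sheaf J AddCommGrpCat.{u} :=
  (Functor.whiskeringRight _ _ _).obj AddCommGrpCat.free.{u} ⋙ presheafToSheaf J AddCommGrpCat.{u}

/-- the underlying presheaf of sets -/
noncomputable abbrev forgetF : Sheaf J AddCommGrpCat.{u} ⥤ (Cᵒᵖ ⥤ Type u) :=
  sheafToPresheaf J AddCommGrpCat.{u} ⋙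
    (Functor.whiskeringRight _ _ _).obj (forget AddCommGrpCat.{u})

/-- the free/forgetful adjunction -/
noncomputable def freeAdj : freeF J ⊣ forgetF J :=
  (AddCommGrpCat.adj.whiskerRight Cᵒᵖ).comp (sheafificationAdjunction J AddCommGrpCat.{u})

instance : (forgetF J).Faithful := by
  dsimp only [forgetF]
  infer_instance

lemma exists_tf_cover (A : Sheaf J AddCommGrpCat.{u}) :
    ∃ (P : Sheaf J AddCommGrpCat.{u}) (π : P ⟶ A), Epi π ∧ TF J P :=
  ⟨(freeF J).obj ((forgetF J).obj A), (freeAdj J).counit.app A, inferInstance, tf_free _⟩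

variable {J}

/-- the extension property: morphisms to `B` extend along monomorphisms with torsion-free
cokernel -/
def ExtProp (B : Sheaf J AddCommGrpCat.{u}) : Prop :=
  ∀ (S : ShortComplex (Sheaf J AddCommGrpCat.{u})), S.ShortExact → TF J S.X₃ →
    ∀ f : S.X₁ ⟶ B, ∃ f' : S.X₂ ⟶ B, S.f ≫ f' = f

/-- **vanishing**: `Ext^{n+1}(A, B) = 0` for `A` torsion-free and `B` with the extension
property -/
theorem ext_eq_zero_of_extProp [HasExt.{u} (Sheaf J AddCommGrpCat.{u})]
    (B : Sheaf J AddCommGrpCat.{u}) (hB : ExtProp B) (n : ℕ)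
    (A : Sheaf J AddCommGrpCat.{u}) (hA : TF J A) (x : Ext.{u} A B (n + 1)) : x = 0 := by
  refine ExtVanish.ext_eq_zero_of_class (TF J) B ?_ hB n A hA x
  intro A hA A'' p hp
  obtain ⟨P, π, hπ, hP⟩ := exists_tf_cover J A''
  refine ⟨P, π ≫ p, epi_comp _ _, hP, tf_of_mono (kernel.ι (π ≫ p)) hP, π, rfl⟩

lemma sections_exact (S : ShortComplex (Sheaf J AddCommGrpCat.{u})) (hS : S.ShortExact)
    (U : Cᵒᵖ) (y : S.X₂.obj.obj U) (hy : S.g.hom.app U y = 0) :
    ∃ x : S.X₁.obj.obj U, S.f.hom.app U x = y := by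
  let F : Sheaf J AddCommGrpCat.{u} ⥤ AddCommGrpCat.{u} :=
    sheafToPresheaf J AddCommGrpCat.{u} ⋙ (evaluation _ _).obj U
  have hF : PreservesFiniteLimits F := inferInstance
  have key : ∀ (S : ShortComplex (Sheaf J AddCommGrpCat.{u})), S.ShortExact →
      (S.map F).Exact ∧ Mono (F.map S.f) :=
    ((Functor.preservesFiniteLimits_tfae F).out 3 0).1 hF
  have h := (key S hS).1
  rw [ShortComplex.ab_exact_iff] at h
  exact h y hy

variable (R : Sheaf J RingCat.{u})

lemma injective_val (I : SheafOfModules.{u} R) [Injective I] : Injective I.val :=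
  Injective.injective_of_adjoint (PresheafOfModules.sheafificationAdjunction.{u} (𝟙 R.obj)) I

/-- the abelian sheaf underlying an injective sheaf of modules has the extension property -/
theorem extProp_toSheaf (I : SheafOfModules.{u} R) [Injective I] :
    ExtProp ((SheafOfModules.toSheaf R).obj I) := by
  intro S hS hTF f
  haveI := injective_val R I
  haveI : Mono S.f := hS.mono_f
  obtain ⟨φ', hφ'⟩ := ScalarExt.exists_extension (M := I.val) (g := S.f.hom)
    (fun U => injective_of_mono S.f U) (by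
      intro U n hn y hy
      obtain ⟨x, hx⟩ := hy
      have h1 : S.g.hom.app U (n • y) = 0 := by
        rw [← hx]
        have := congrArg (fun t => t.hom.app U x) S.zero
        exact this
      have h2 : n • S.g.hom.app U y = 0 := by rw [← h1, map_nsmul]
      haveI := hTF U
      have h3 : S.g.hom.app U y = 0 := by
        apply nsmul_right_injective hn
        show n • S.g.hom.app U y = n • 0
        rw [h2, smul_zero]
      obtain ⟨x', hx'⟩ := sections_exact S hS U y h3
      exact ⟨x', hx'⟩) f.hom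
  exact ⟨⟨φ'⟩, Sheaf.hom_ext hφ'⟩

end Groth.Agent.Lib.helper21.InjAcyc
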