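import Mathlib

/-!
Helper library (helper21): sheaves of modules over a sheaf of rings on a small site:
the forgetful functor to abelian sheaves preserves limits and colimits.
-/

set_option autoImplicit false
universe u
open CategoryTheory CategoryTheory.Limits

namespace Groth.Agent.Lib.Helper21.ModSh

variable {C : Type u} [SmallCategory C] {J : GrothendieckTopology C}

/-- `toSheaf` preserves colimits (argument of helper8's S12450, for an arbitrary sheaf of rings). -/
theorem toSheaf_preservesColimits (R : Sheaf J RingCat.{u}) :
    PreservesColimitsOfSize.{u, u} (SheafOfModules.toSheaf.{u} R) := by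
  refine ⟨fun {K} _ => ⟨fun {F} => ?_⟩⟩
  let L := PresheafOfModules.sheafification.{u} (𝟙 R.obj)
  let adj := PresheafOfModules.sheafificationAdjunction.{u} (𝟙 R.obj)
  let e : F ≅ (F ⋙ SheafOfModules.forget R) ⋙ L :=
    Functor.isoWhiskerLeft F (asIso adj.counit).symm
  let H := F ⋙ SheafOfModules.forget R
  have hL : PreservesColimit H L := by
    haveI := adj.leftAdjoint_preservesColimits
    infer_instance
  have hLG : PreservesColimit H (L ⋙ SheafOfModules.toSheaf R) := by
    have : PreservesColimit H
        (PresheafOfModules.toPresheaf R.obj ⋙ presheafToSheaf J AddCommGrpCat.{u}) := by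
      infer_instance
    exact preservesColimit_of_natIso H
      (PresheafOfModules.sheafificationCompToSheaf.{u} (𝟙 R.obj)).symm
  have h1 : PreservesColimit (H ⋙ L) (SheafOfModules.toSheaf R) := by
    refine preservesColimit_of_preserves_colimit_cocone
      (isColimitOfPreserves L (colimit.isColimit H)) ?_
    exact IsColimit.ofIsoColimit
      (isColimitOfPreserves (L ⋙ SheafOfModules.toSheaf R) (colimit.isColimit H))
      (Cocone.ext (Iso.refl _) (fun j => by simp))
  exact preservesColimit_of_iso_diagram _ e.symm

/-- `toSheaf` preserves limits. -/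
theorem toSheaf_preservesLimits (R : Sheaf J RingCat.{u}) :
    PreservesLimitsOfSize.{u, u} (SheafOfModules.toSheaf.{u} R) := by
  have : PreservesLimitsOfSize.{u, u}
      (SheafOfModules.toSheaf.{u} R ⋙ sheafToPresheaf J AddCommGrpCat.{u}) :=
    inferInstanceAs (PreservesLimitsOfSize.{u, u}
      (SheafOfModules.forget.{u} R ⋙ PresheafOfModules.toPresheaf R.obj))
  exact preservesLimits_of_reflects_of_preserves _ (sheafToPresheaf J AddCommGrpCat.{u})

end Groth.Agent.Lib.Helper21.ModSh
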