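import Mathlib
import Groth.Agent.Lib.Helper21.ModSh

/-!
Helper library (helper21): the special adjoint functor theorem for sheaves of modules over a sheaf
of rings on a small site: colimit-preserving functors out of `SheafOfModules R` are left adjoints.
-/

set_option autoImplicit false
universe u
open CategoryTheory Opposite Limits

namespace Groth.Agent.Lib.Helper21.ModAdj

variable {C : Type u} [SmallCategory C] {J : GrothendieckTopology C} (R : Sheaf J RingCat.{u})

/-- sheafifications of the free presheaves of modules on representables -/
noncomputable def gensR : ObjectProperty (SheafOfModules.{u} R) :=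
  ObjectProperty.ofObj (fun X : C =>
    (PresheafOfModules.sheafification.{u} (𝟙 R.obj)).obj
      ((PresheafOfModules.free R.obj).obj (yoneda.obj X)))

instance : ObjectProperty.Small.{u} (gensR R) := by
  unfold gensR; infer_instance

theorem gensR_isSeparating : (gensR R).IsSeparating := by
  intro M N f g h
  let adj := PresheafOfModules.sheafificationAdjunction.{u} (𝟙 R.obj)
  apply (SheafOfModules.forget R ⋙ PresheafOfModules.restrictScalars (𝟙 R.obj)).map_injective
  apply PresheafOfModules.freeYoneda.isSeparating R.obj
  rintro G ⟨X⟩ k
  have h1 := h _ (ObjectProperty.ofObj_apply _ X) ((adj.homEquiv _ M).symm k)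
  have h2 := congrArg (adj.homEquiv _ N) h1
  rw [adj.homEquiv_naturality_right, adj.homEquiv_naturality_right, Equiv.apply_symm_apply] at h2
  exact h2

theorem wellPowered_mod : WellPowered.{u} (SheafOfModules.{u} R) :=
  wellPowered_of_isDetecting (gensR_isSeparating R).isDetecting

theorem wellPowered_mod_op : WellPowered.{u} (SheafOfModules.{u} R)ᵒᵖ :=
  have := wellPowered_mod R
  Abelian.wellPowered_opposite

theorem isLeftAdjoint_of_preservesColimits {E : Type*} [Category.{u} E]
    (F : SheafOfModules.{u} R ⥤ E) [PreservesColimitsOfSize.{u, u} F] : F.IsLeftAdjoint :=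
  have := wellPowered_mod_op R
  isLeftAdjoint_of_preservesColimits_of_isSeparating (gensR_isSeparating R) F

end Groth.Agent.Lib.Helper21.ModAdj
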