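import Mathlib
import Groth.Agent.Lib.Helper21.ModAdj

/-!
Helper library (helper21): the category of sheaves of modules over a sheaf of rings on a small
site is a Grothendieck abelian category (hence has enough injectives, injective resolutions, Ext).
-/

set_option autoImplicit false
universe u
open CategoryTheory Limits

namespace Groth.Agent.Lib.Helper21.ModGroth

variable {C : Type u} [SmallCategory C] {J : GrothendieckTopology C} (R : Sheaf J RingCat.{u})

theorem hasSeparator_mod : HasSeparator (SheafOfModules.{u} R) :=
  ⟨_, (Groth.Agent.Lib.Helper21.ModAdj.gensR_isSeparating R).isSeparator_coproduct⟩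

theorem ab5_mod : AB5OfSize.{u, u} (SheafOfModules.{u} R) where
  ofShape K _ _ := by
    haveI := Groth.Agent.Lib.Helper21.ModSh.toSheaf_preservesColimits R
    haveI := Groth.Agent.Lib.Helper21.ModSh.toSheaf_preservesLimits R
    haveI : PreservesLimitsOfSize.{0, 0} (SheafOfModules.toSheaf.{u} R) :=
      preservesSmallestLimits_of_preservesLimits _
    haveI : ReflectsLimitsOfSize.{0, 0} (SheafOfModules.toSheaf.{u} R) :=
      reflectsLimits_of_reflectsIsomorphisms
    exact HasExactColimitsOfShape.domain_of_functor K (SheafOfModules.toSheaf.{u} R)

theorem isGrothendieckAbelian_mod : IsGrothendieckAbelian.{u} (SheafOfModules.{u} R) where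
  hasSeparator := hasSeparator_mod R
  ab5OfSize := ab5_mod R

theorem enoughInjectives_mod : EnoughInjectives (SheafOfModules.{u} R) :=
  haveI := isGrothendieckAbelian_mod R
  inferInstance

end Groth.Agent.Lib.Helper21.ModGroth
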