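import Mathlib
import Groth.Agent.Lib.Helper21.InjAcyc
import Groth.Agent.Lib.Helper21.ModGroth
import Groth.Agent.Lib.Helper27.SSGroth4

/-!
# Comparison of `Ext` in sheaves of modules and in abelian sheaves (helper21)
-/

set_option autoImplicit false

universe u

open CategoryTheory CategoryTheory.Limits Opposite CategoryTheory.Abelian
  Groth.Agent.Lib.helper27

namespace Groth.Agent.Lib.helper21.InjAcyc

variable {C : Type u} [SmallCategory C] {J : GrothendieckTopology C} (R : Sheaf J RingCat.{u})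

instance toSheaf_preservesFiniteLimits : PreservesFiniteLimits (SheafOfModules.toSheaf.{u} R) := by
  haveI := Groth.Agent.Lib.Helper21.ModSh.toSheaf_preservesLimits R
  exact PreservesLimitsOfSize.preservesFiniteLimits.{u, u} _

instance toSheaf_preservesFiniteColimits :
    PreservesFiniteColimits (SheafOfModules.toSheaf.{u} R) := by
  haveI := Groth.Agent.Lib.Helper21.ModSh.toSheaf_preservesColimits R
  exact PreservesColimitsOfSize.preservesFiniteColimits.{u, u} _

variable [HasExt.{u} (Sheaf J AddCommGrpCat.{u})]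

/-- `Ext^{n+1}(A, I) = 0` for `A` torsion-free and `I` (the abelian sheaf underlying) an injective
sheaf of modules -/
theorem ext_toSheaf_eq_zero (I : SheafOfModules.{u} R) [Injective I]
    (A : Sheaf J AddCommGrpCat.{u}) (hA : TF J A) (n : ℕ)
    (x : Ext.{u} A ((SheafOfModules.toSheaf R).obj I) (n + 1)) : x = 0 :=
  ext_eq_zero_of_extProp _ (extProp_toSheaf R I) n A hA x

/-- `F ↦ Ext^n(A, F_ab)` is an exact `δ`-sequence on sheaves of modules, for `A` torsion-free -/
theorem isExSeq_ext_toSheaf (A : Sheaf J AddCommGrpCat.{u}) (hA : TF J A) :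
    DeltaSeq.IsExSeq (fun n => SheafOfModules.toSheaf.{u} R ⋙ (extFunctor.{u} n).obj (op A)) :=
  (ExtPsh.isExSeq_ext A).precomp (SheafOfModules.toSheaf.{u} R) (by
    intro I hI i
    haveI := hI
    have : Subsingleton (Ext.{u} A ((SheafOfModules.toSheaf R).obj I) (i + 1)) :=
      subsingleton_of_forall_eq 0 fun x => ext_toSheaf_eq_zero R I A hA i x
    exact AddCommGrpCat.isZero_of_subsingleton
      (AddCommGrpCat.of (Ext.{u} A ((SheafOfModules.toSheaf R).obj I) (i + 1))))

/-- **comparison**: if `Hom_R(L, -) ≅ Hom(A, (-)_ab)` with `A` torsion-free, then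
`Ext^n_R(L, F) ≅ Ext^n(A, F_ab)` -/
theorem ext_comparison [HasExt.{u} (SheafOfModules.{u} R)] (L : SheafOfModules.{u} R)
    (A : Sheaf J AddCommGrpCat.{u}) (hA : TF J A)
    (e : preadditiveCoyoneda.obj (op L) ≅
      SheafOfModules.toSheaf.{u} R ⋙ preadditiveCoyoneda.obj (op A))
    (F : SheafOfModules.{u} R) (n : ℕ) :
    Nonempty (Ext.{u} L F n ≃+ Ext.{u} A ((SheafOfModules.toSheaf R).obj F) n) := by
  haveI := Groth.Agent.Lib.Helper21.ModGroth.enoughInjectives_mod R
  obtain ⟨i⟩ := DeltaSeq.iso (ExtPsh.isExSeq_ext L) (isExSeq_ext_toSheaf R A hA)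
    (ExtCoy.ext₀Iso L ≪≫ e ≪≫
      (Functor.isoWhiskerLeft (SheafOfModules.toSheaf.{u} R) (ExtCoy.ext₀Iso A)).symm) n F
  exact ⟨i.addCommGroupIsoToAddEquiv⟩

end Groth.Agent.Lib.helper21.InjAcyc
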