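import Mathlib
import Groth.Prelude.Def_ModSite

/-!
Helper library (helper21): `Hom(freeOn O X, M) ≃ M(X)` naturally in `M`, for modules on a ringed site.
-/

set_option autoImplicit false
universe u
open CategoryTheory CategoryTheory.Limits Opposite

namespace Groth.Agent.Lib.Helper21.ModFree

variable {C : Type u} [SmallCategory C] {J : GrothendieckTopology C} (O : Sheaf J CommRingCat.{u})

lemma map_map_apply (M : ModSite.Mod O) {X Y Z : C} (f : Y ⟶ X) (g : Z ⟶ Y) (t : M.val.obj (op X)) :
    M.val.map g.op (M.val.map f.op t) = M.val.map (g ≫ f).op t := by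
  rw [op_comp, PresheafOfModules.map_comp]
  rfl

lemma map_id_apply (M : ModSite.Mod O) {X : C} (t : M.val.obj (op X)) :
    M.val.map (𝟙 X).op t = t := by
  rw [op_id, PresheafOfModules.map_id]
  rfl

lemma restr_map_apply (X : C) (M : ModSite.Mod O) {U V : Over X} (f : V ⟶ U)
    (t : M.val.obj (op U.left)) :
    ((ModSite.restr O X).obj M).val.map f.op t = M.val.map f.left.op t := rfl

/-- sections of the restriction to `Over X` are the sections over `X` -/
noncomputable def sectionsEquiv (X : C) (M : ModSite.Mod O) :
    ((ModSite.restr O X).obj M).sections ≃ M.val.obj (op X) where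
  toFun s := s.1 (op (Over.mk (𝟙 X)))
  invFun t := PresheafOfModules.sectionsMk (M := ((ModSite.restr O X).obj M).val)
    (fun U => M.val.map (U.unop.hom).op t) (by
      intro U V f
      have := restr_map_apply O X M f.unop (M.val.map (U.unop.hom).op t)
      refine this.trans ?_
      rw [map_map_apply, Over.w])
  left_inv s := by
    apply PresheafOfModules.sections_ext
    intro U
    have h := s.2 (Over.homMk (U.unop.hom) : U.unop ⟶ Over.mk (𝟙 X)).op
    exact h
  right_inv t := by
    show M.val.map (𝟙 X).op t = t
    exact map_id_apply O M t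

/-- morphisms out of the free module on `X` are sections over `X` -/
noncomputable def freeOnHomEquiv (X : C) (M : ModSite.Mod O) :
    (ModSite.freeOn O X ⟶ M) ≃ M.val.obj (op X) :=
  ((ModSite.extZeroAdj O X).homEquiv _ M).trans
    ((SheafOfModules.unitHomEquiv _).trans (sectionsEquiv O X M))

lemma freeOnHomEquiv_comp (X : C) {M N : ModSite.Mod O} (h : ModSite.freeOn O X ⟶ M) (f : M ⟶ N) :
    freeOnHomEquiv O X N (h ≫ f) = f.val.app (op X) (freeOnHomEquiv O X M h) := by
  unfold freeOnHomEquiv
  simp only [Equiv.trans_apply]
  rw [Adjunction.homEquiv_naturality_right, SheafOfModules.unitHomEquiv_comp_apply]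
  rfl

end Groth.Agent.Lib.Helper21.ModFree
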