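import Mathlib

/-!
Exactness of the pullback of abelian sheaves along a continuous functor whose pullback on sheaves of
sets is exact (helper21).
-/

universe u

open CategoryTheory CategoryTheory.Limits Opposite

namespace Groth.Agent.Lib.helper21.AbPull

section general

variable {𝒜 : Type*} [Category 𝒜] [Preadditive 𝒜] [HasBinaryBiproducts 𝒜]

/-- a natural transformation between the underlying set-valued functors of two additive functors
with values in abelian groups is automatically additive -/
lemma map_add_of_natTrans (F G : 𝒜 ⥤ AddCommGrpCat.{u}) [F.Additive] [G.Additive]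
    (τ : F ⋙ forget AddCommGrpCat.{u} ⟶ G ⋙ forget AddCommGrpCat.{u}) (A : 𝒜) (x y : F.obj A) :
    τ.app A (x + y) = (τ.app A x : G.obj A) + (τ.app A y : G.obj A) := by
  let z : F.obj (A ⊞ A) := (F.map biprod.inl).hom x + (F.map biprod.inr).hom y
  have h1 : (F.map (biprod.fst : A ⊞ A ⟶ A)).hom z = x := by
    simp only [z, map_add]
    rw [← ConcreteCategory.comp_apply, ← ConcreteCategory.comp_apply, ← F.map_comp, ← F.map_comp,
      biprod.inl_fst, biprod.inr_fst, F.map_id, F.map_zero]
    simp
  have h2 : (F.map (biprod.snd : A ⊞ A ⟶ A)).hom z = y := by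
    simp only [z, map_add]
    rw [← ConcreteCategory.comp_apply, ← ConcreteCategory.comp_apply, ← F.map_comp, ← F.map_comp,
      biprod.inl_snd, biprod.inr_snd, F.map_id, F.map_zero]
    simp
  have h3 : (F.map (biprod.fst + biprod.snd : A ⊞ A ⟶ A)).hom z = x + y := by
    rw [F.map_add]
    show (F.map biprod.fst).hom z + (F.map biprod.snd).hom z = x + y
    rw [h1, h2]
  have n1 := NatTrans.naturality_apply τ (biprod.fst + biprod.snd : A ⊞ A ⟶ A) z
  have n2 := NatTrans.naturality_apply τ (biprod.fst : A ⊞ A ⟶ A) z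
  have n3 := NatTrans.naturality_apply τ (biprod.snd : A ⊞ A ⟶ A) z
  have e1 : τ.app A (x + y) = (G.map (biprod.fst + biprod.snd : A ⊞ A ⟶ A)).hom (τ.app (A ⊞ A) z) := by
    rw [← h3]; exact n1
  have e2 : τ.app A x = (G.map (biprod.fst : A ⊞ A ⟶ A)).hom (τ.app (A ⊞ A) z) := by
    rw [← h1]; exact n2
  have e3 : τ.app A y = (G.map (biprod.snd : A ⊞ A ⟶ A)).hom (τ.app (A ⊞ A) z) := by
    rw [← h2]; exact n3
  rw [e1, e2, e3, G.map_add]
  rfl

end general

section main

variable {C D : Type u} [SmallCategory C] [SmallCategory D]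
    (J : GrothendieckTopology C) (K : GrothendieckTopology D) (u : D ⥤ C) [u.IsContinuous K J]

/-- the forgetful functor from abelian sheaves to sheaves of sets -/
abbrev fgt {D : Type u} [SmallCategory D] (K : GrothendieckTopology D) :
    Sheaf K AddCommGrpCat.{u} ⥤ Sheaf K (Type u) :=
  sheafCompose K (forget AddCommGrpCat.{u})

instance instHasFiniteBiproducts {D : Type u} [SmallCategory D] (K : GrothendieckTopology D) :
    HasFiniteBiproducts (Sheaf K AddCommGrpCat.{u}) :=
  HasFiniteBiproducts.of_hasFiniteProducts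

/-- sections over `U` of a sheaf of sets -/
abbrev ev (U : Cᵒᵖ) : Sheaf J (Type u) ⥤ Type u :=
  sheafToPresheaf J (Type u) ⋙ (evaluation _ _).obj U

/-- sections over `U` of an abelian sheaf -/
abbrev evAb (U : Cᵒᵖ) : Sheaf J AddCommGrpCat.{u} ⥤ AddCommGrpCat.{u} :=
  sheafToPresheaf J AddCommGrpCat.{u} ⋙ (evaluation _ _).obj U

variable (hu : PreservesFiniteLimits (u.sheafPullback (Type u) K J))

/-- `A ↦ (L|A|)(U)` -/
noncomputable abbrev psiFun (U : Cᵒᵖ) : Sheaf K AddCommGrpCat.{u} ⥤ Type u :=
  fgt K ⋙ u.sheafPullback (Type u) K J ⋙ ev J U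

include hu in
lemma psiFun_lex (U : Cᵒᵖ) : PreservesFiniteLimits (psiFun J K u U) := by
  have := hu
  infer_instance

/-- the lex functor `A ↦ (L|A|)(U)` -/
noncomputable def psi (U : Cᵒᵖ) : Sheaf K AddCommGrpCat.{u} ⥤ₗ Type u :=
  ⟨psiFun J K u U, psiFun_lex J K u hu U⟩

/-- restriction maps -/
noncomputable def psiMap {U V : Cᵒᵖ} (f : U ⟶ V) : psi J K u hu U ⟶ psi J K u hu V :=
  ObjectProperty.homMk (Functor.whiskerLeft (fgt K ⋙ u.sheafPullback (Type u) K J)
    (Functor.whiskerLeft (sheafToPresheaf J (Type u)) ((evaluation _ _).map f)))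

/-- `U ↦ (A ↦ (L|A|)(U))` -/
noncomputable def psiF : Cᵒᵖ ⥤ (Sheaf K AddCommGrpCat.{u} ⥤ₗ Type u) where
  obj U := psi J K u hu U
  map f := psiMap J K u hu f
  map_id U := by
    apply ObjectProperty.hom_ext
    ext A : 2
    exact ((u.sheafPullback (Type u) K J).obj ((fgt K).obj A)).obj.map_id U
  map_comp f g := by
    apply ObjectProperty.hom_ext
    ext A : 2
    exact ((u.sheafPullback (Type u) K J).obj ((fgt K).obj A)).obj.map_comp f g

/-- the equivalence of Mathlib -/
noncomputable abbrev eqv :=
  AddCommGrpCat.leftExactFunctorForgetEquivalence (Sheaf K AddCommGrpCat.{u})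

/-- the lifted functors `A ↦ (L|A|)(U)` with values in abelian groups -/
noncomputable def psiAb : Cᵒᵖ ⥤ (Sheaf K AddCommGrpCat.{u} ⥤ₗ AddCommGrpCat.{u}) :=
  psiF J K u hu ⋙ (eqv K).inverse

/-- the presheaf of abelian groups underlying `M A` -/
noncomputable def mPre (A : Sheaf K AddCommGrpCat.{u}) : Cᵒᵖ ⥤ AddCommGrpCat.{u} :=
  psiAb J K u hu ⋙ LeftExactFunctor.forget _ _ ⋙ (evaluation _ _).obj A

lemma mPre_forget (A : Sheaf K AddCommGrpCat.{u}) :
    mPre J K u hu A ⋙ forget AddCommGrpCat.{u} =
      ((u.sheafPullback (Type u) K J).obj ((fgt K).obj A)).obj := rfl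

lemma mPre_isSheaf (A : Sheaf K AddCommGrpCat.{u}) : Presheaf.IsSheaf J (mPre J K u hu A) := by
  rw [Presheaf.isSheaf_iff_isSheaf_forget J (mPre J K u hu A) (forget AddCommGrpCat.{u}),
    mPre_forget]
  exact ((u.sheafPullback (Type u) K J).obj ((fgt K).obj A)).property

/-- the abelian sheaf with underlying sheaf of sets `L|A|` -/
noncomputable def mObj (A : Sheaf K AddCommGrpCat.{u}) : Sheaf J AddCommGrpCat.{u} :=
  ⟨mPre J K u hu A, mPre_isSheaf J K u hu A⟩

lemma fgt_mObj (A : Sheaf K AddCommGrpCat.{u}) :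
    (fgt J).obj (mObj J K u hu A) = (u.sheafPullback (Type u) K J).obj ((fgt K).obj A) := rfl

/-- pullback of sheaves of sets -/
noncomputable abbrev Lt := u.sheafPullback (Type u) K J
/-- pushforward of sheaves of sets -/
noncomputable abbrev Rt := u.sheafPushforwardContinuous (Type u) K J
/-- the adjunction on sheaves of sets -/
noncomputable abbrev adjT : Lt J K u ⊣ Rt J K u := u.sheafAdjunctionContinuous (Type u) K J
/-- pullback of abelian sheaves -/
noncomputable abbrev La := u.sheafPullback AddCommGrpCat.{u} K J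
/-- pushforward of abelian sheaves -/
noncomputable abbrev Ra := u.sheafPushforwardContinuous AddCommGrpCat.{u} K J
/-- the adjunction on abelian sheaves -/
noncomputable abbrev adjA : La J K u ⊣ Ra J K u := u.sheafAdjunctionContinuous AddCommGrpCat.{u} K J

lemma fgt_Ra : Ra J K u ⋙ fgt K = fgt J ⋙ Rt J K u := rfl

/-- the comparison `L|A| ⟶ |L_Ab A|` -/
noncomputable def theta (A : Sheaf K AddCommGrpCat.{u}) :
    (Lt J K u).obj ((fgt K).obj A) ⟶ (fgt J).obj ((La J K u).obj A) :=
  ((adjT J K u).homEquiv ((fgt K).obj A) ((fgt J).obj ((La J K u).obj A))).symm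
    ((fgt K).map ((adjA J K u).unit.app A))

lemma theta_naturality {A A' : Sheaf K AddCommGrpCat.{u}} (g : A ⟶ A') :
    (Lt J K u).map ((fgt K).map g) ≫ theta J K u A' =
      theta J K u A ≫ (fgt J).map ((La J K u).map g) := by
  have h2 : (fgt K).map g ≫ (fgt K).map ((adjA J K u).unit.app A') =
      (fgt K).map ((adjA J K u).unit.app A) ≫
        (fgt K).map ((Ra J K u).map ((La J K u).map g)) := by
    rw [← Functor.map_comp, ← Functor.map_comp]
    congr 1
    exact ((adjA J K u).unit.naturality g)
  unfold theta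
  rw [← Adjunction.homEquiv_naturality_left_symm, ← Adjunction.homEquiv_naturality_right_symm]
  congr 1

/-- the comparison as a natural transformation -/
noncomputable def thetaNat : fgt K ⋙ Lt J K u ⟶ La J K u ⋙ fgt J where
  app A := theta J K u A
  naturality _ _ g := theta_naturality J K u g

/-- the lifted functor `A ↦ (L|A|)(U)` -/
noncomputable abbrev psiAbFun (U : Cᵒᵖ) : Sheaf K AddCommGrpCat.{u} ⥤ AddCommGrpCat.{u} :=
  ((psiAb J K u hu).obj U).obj

lemma psiAbFun_forget (U : Cᵒᵖ) :
    psiAbFun J K u hu U ⋙ forget AddCommGrpCat.{u} = psiFun J K u U := rfl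

instance psiAbFun_additive (U : Cᵒᵖ) : (psiAbFun J K u hu U).Additive := by
  have : PreservesFiniteLimits (psiAbFun J K u hu U) := ((psiAb J K u hu).obj U).property
  exact Functor.additive_of_preserves_binary_products _

/-- the unit of the adjunction on sheaves of sets, on sections over `V`, as a natural transformation
in the abelian sheaf `A` -/
noncomputable def unitTau (V : Dᵒᵖ) :
    evAb K V ⋙ forget AddCommGrpCat.{u} ⟶
      psiAbFun J K u hu (u.op.obj V) ⋙ forget AddCommGrpCat.{u} :=
  Functor.whiskerLeft (fgt K) (Functor.whiskerRight (adjT J K u).unit (ev K V))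

lemma unitTau_app (V : Dᵒᵖ) (A : Sheaf K AddCommGrpCat.{u}) :
    (unitTau J K u hu V).app A = ((adjT J K u).unit.app ((fgt K).obj A)).hom.app V := rfl

/-- the unit of the adjunction on sheaves of sets is additive on sections -/
noncomputable def unitHom (A : Sheaf K AddCommGrpCat.{u}) (V : Dᵒᵖ) :
    A.obj.obj V →+ (mPre J K u hu A).obj (u.op.obj V) :=
  AddMonoidHom.mk' (fun x => ((adjT J K u).unit.app ((fgt K).obj A)).hom.app V x)
    (fun x y => map_add_of_natTrans (evAb K V) (psiAbFun J K u hu (u.op.obj V))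
      (unitTau J K u hu V) A x y)

lemma unitHom_apply (A : Sheaf K AddCommGrpCat.{u}) (V : Dᵒᵖ) (x : A.obj.obj V) :
    unitHom J K u hu A V x = ((adjT J K u).unit.app ((fgt K).obj A)).hom.app V x := rfl

/-- the unit `A ⟶ R_Ab (M A)` as a morphism of abelian sheaves -/
noncomputable def etaTilde (A : Sheaf K AddCommGrpCat.{u}) :
    A ⟶ (Ra J K u).obj (mObj J K u hu A) :=
  ObjectProperty.homMk
    { app := fun V => AddCommGrpCat.ofHom (unitHom J K u hu A V)
      naturality := by
        intro V W f
        ext x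
        exact NatTrans.naturality_apply ((adjT J K u).unit.app ((fgt K).obj A)).hom f x }

lemma fgt_etaTilde (A : Sheaf K AddCommGrpCat.{u}) :
    (fgt K).map (etaTilde J K u hu A) = (adjT J K u).unit.app ((fgt K).obj A) := by
  apply Sheaf.hom_ext
  ext V x
  rfl

/-- the candidate inverse of the comparison map -/
noncomputable def sigma (A : Sheaf K AddCommGrpCat.{u}) :
    (La J K u).obj A ⟶ mObj J K u hu A :=
  ((adjA J K u).homEquiv A (mObj J K u hu A)).symm (etaTilde J K u hu A)

instance Ra_additive : (Ra J K u).Additive := by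
  have : PreservesLimitsOfSize.{0, 0} (Ra J K u) := (adjA J K u).rightAdjoint_preservesLimits
  exact Functor.additive_of_preserves_binary_products _

instance La_additive : (La J K u).Additive := (adjA J K u).left_adjoint_additive

/-- the comparison on sections over `U`, as a natural transformation in `A` -/
noncomputable def thetaTau (U : Cᵒᵖ) :
    psiAbFun J K u hu U ⋙ forget AddCommGrpCat.{u} ⟶
      (La J K u ⋙ evAb J U) ⋙ forget AddCommGrpCat.{u} :=
  Functor.whiskerRight (thetaNat J K u) (ev J U)

/-- the comparison is additive on sections -/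
noncomputable def thetaHom (A : Sheaf K AddCommGrpCat.{u}) (U : Cᵒᵖ) :
    (mPre J K u hu A).obj U →+ ((La J K u).obj A).obj.obj U :=
  AddMonoidHom.mk' (fun x => (theta J K u A).hom.app U x)
    (fun x y => map_add_of_natTrans (psiAbFun J K u hu U) (La J K u ⋙ evAb J U)
      (thetaTau J K u hu U) A x y)

/-- the comparison as a morphism of abelian sheaves -/
noncomputable def thetaTilde (A : Sheaf K AddCommGrpCat.{u}) :
    mObj J K u hu A ⟶ (La J K u).obj A :=
  ObjectProperty.homMk
    { app := fun U => AddCommGrpCat.ofHom (thetaHom J K u hu A U)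
      naturality := by
        intro U V f
        ext x
        exact NatTrans.naturality_apply (theta J K u A).hom f x }

lemma fgt_thetaTilde (A : Sheaf K AddCommGrpCat.{u}) :
    (fgt J).map (thetaTilde J K u hu A) = theta J K u A := by
  apply Sheaf.hom_ext
  ext U x
  rfl

lemma homEquiv_theta (A : Sheaf K AddCommGrpCat.{u}) :
    (adjT J K u).homEquiv ((fgt K).obj A) ((fgt J).obj ((La J K u).obj A)) (theta J K u A) =
      (fgt K).map ((adjA J K u).unit.app A) := by
  unfold theta
  rw [Equiv.apply_symm_apply]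

lemma sigma_thetaTilde (A : Sheaf K AddCommGrpCat.{u}) :
    sigma J K u hu A ≫ thetaTilde J K u hu A = 𝟙 _ := by
  apply ((adjA J K u).homEquiv A ((La J K u).obj A)).injective
  rw [Adjunction.homEquiv_naturality_right, Adjunction.homEquiv_id]
  unfold sigma
  rw [Equiv.apply_symm_apply]
  apply (fgt K).map_injective
  rw [Functor.map_comp, fgt_etaTilde]
  have h1 : (fgt K).map ((Ra J K u).map (thetaTilde J K u hu A)) =
      (Rt J K u).map ((fgt J).map (thetaTilde J K u hu A)) := rfl
  rw [h1, fgt_thetaTilde]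
  have h2 := homEquiv_theta J K u A
  rw [Adjunction.homEquiv_unit] at h2
  exact h2

/-- `|σ|` with its codomain written as `L|A|` -/
noncomputable def sigmaSet (A : Sheaf K AddCommGrpCat.{u}) :
    (fgt J).obj ((La J K u).obj A) ⟶ (Lt J K u).obj ((fgt K).obj A) :=
  (fgt J).map (sigma J K u hu A)

lemma Rt_map_sigmaSet (A : Sheaf K AddCommGrpCat.{u}) :
    (Rt J K u).map (sigmaSet J K u hu A) =
      (fgt K).map ((Ra J K u).map (sigma J K u hu A)) := rfl

lemma unit_Ra_sigma (A : Sheaf K AddCommGrpCat.{u}) :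
    (adjA J K u).unit.app A ≫ (Ra J K u).map (sigma J K u hu A) = etaTilde J K u hu A :=
  ((adjA J K u).homEquiv_unit (f := sigma J K u hu A)).symm.trans
    (Equiv.apply_symm_apply _ _)

lemma theta_sigmaSet (A : Sheaf K AddCommGrpCat.{u}) :
    theta J K u A ≫ sigmaSet J K u hu A = 𝟙 _ := by
  apply ((adjT J K u).homEquiv ((fgt K).obj A) ((Lt J K u).obj ((fgt K).obj A))).injective
  rw [Adjunction.homEquiv_naturality_right, homEquiv_theta, Adjunction.homEquiv_id,
    Rt_map_sigmaSet]
  have h := congrArg (fgt K).map (unit_Ra_sigma J K u hu A)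
  rw [Functor.map_comp] at h
  exact h.trans (fgt_etaTilde J K u hu A)

lemma thetaTilde_sigma (A : Sheaf K AddCommGrpCat.{u}) :
    thetaTilde J K u hu A ≫ sigma J K u hu A = 𝟙 _ := by
  apply (fgt J).map_injective
  have h := theta_sigmaSet J K u hu A
  rw [← fgt_thetaTilde J K u hu A] at h
  rw [CategoryTheory.Functor.map_id, Functor.map_comp]
  exact h

include hu in
theorem isIso_theta (A : Sheaf K AddCommGrpCat.{u}) : IsIso (theta J K u A) := by
  have h : IsIso (thetaTilde J K u hu A) :=
    ⟨⟨sigma J K u hu A, thetaTilde_sigma J K u hu A, sigma_thetaTilde J K u hu A⟩⟩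
  rw [← fgt_thetaTilde J K u hu A]
  haveI := h
  exact Functor.map_isIso (fgt J) (thetaTilde J K u hu A)

include hu in
/-- the pullback of abelian sheaves is exact as soon as the pullback of sheaves of sets is -/
theorem preservesFiniteLimits_La : PreservesFiniteLimits (La J K u) := by
  have h0 : ∀ A, IsIso ((thetaNat J K u).app A) := fun A => isIso_theta J K u hu A
  have h1 : IsIso (thetaNat J K u) := NatIso.isIso_of_isIso_app _
  have h2 : PreservesFiniteLimits (fgt K ⋙ Lt J K u) := by
    have := hu
    infer_instance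
  have h3 : PreservesFiniteLimits (La J K u ⋙ fgt J) :=
    preservesFiniteLimits_of_natIso (asIso (thetaNat J K u))
  constructor
  intro S _ _
  have h4 : PreservesLimitsOfShape S (La J K u ⋙ fgt J) := h3.preservesFiniteLimits S
  have h5 : ReflectsLimitsOfShape S (fgt J) := reflectsLimitsOfShape_of_reflectsIsomorphisms
  exact preservesLimitsOfShape_of_reflects_of_preserves (La J K u) (fgt J)

end main

end Groth.Agent.Lib.helper21.AbPull
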