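import Mathlib
import Groth.Agent.Lib.Helper21.InjAcyc2
import Groth.Agent.Lib.Helper21.AbPull

/-!
# Cohomology of a sheaf of modules computed in modules or in abelian sheaves (helper21)
-/

set_option autoImplicit false

universe u

open CategoryTheory CategoryTheory.Limits Opposite CategoryTheory.Abelian
  Groth.Agent.Lib.helper27

namespace Groth.Agent.Lib.helper21.InjAcyc

section general

variable {𝒜 : Type*} [Category 𝒜] [Preadditive 𝒜] [HasBinaryBiproducts 𝒜]

/-- natural isomorphism of additive `Ab`-valued functors from a natural family of bijections -/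
noncomputable def natIsoOfEquiv (F G : 𝒜 ⥤ AddCommGrpCat.{u}) [F.Additive] [G.Additive]
    (e : ∀ A, F.obj A ≃ G.obj A)
    (nat : ∀ {A A' : 𝒜} (f : A ⟶ A') (x : F.obj A), e A' (F.map f x) = G.map f (e A x)) :
    F ≅ G :=
  let τ : F ⋙ forget AddCommGrpCat.{u} ⟶ G ⋙ forget AddCommGrpCat.{u} :=
    { app := fun A => ↾(fun x => e A x)
      naturality := fun A A' f => by
        ext x
        exact nat f x }
  NatIso.ofComponents (fun A => AddEquiv.toAddCommGrpIso
    { (e A) with
      map_add' := fun x y => AbPull.map_add_of_natTrans F G τ A x y }) (by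
    intro A A' f
    apply AddCommGrpCat.hom_ext
    apply AddMonoidHom.ext
    intro x
    exact nat f x)

end general

variable {C : Type u} [SmallCategory C]

/-- morphisms from the constant presheaf `ℤ` are compatible families of sections -/
noncomputable def constHomEquiv (P : Cᵒᵖ ⥤ AddCommGrpCat.{u}) :
    ((Functor.const Cᵒᵖ).obj (AddCommGrpCat.of (ULift.{u} ℤ)) ⟶ P) ≃
      (P ⋙ forget AddCommGrpCat.{u}).sections where
  toFun φ := ⟨fun U => φ.app U ⟨1⟩, fun {U V} f => by
    have := NatTrans.naturality_apply φ f ⟨1⟩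
    exact this.symm⟩
  invFun s :=
    { app := fun U => AddCommGrpCat.ofHom
        ((zmultiplesHom (P.obj U) (s.1 U : P.obj U)).comp AddEquiv.ulift.toAddMonoidHom)
      naturality := fun U V f => by
        apply AddCommGrpCat.hom_ext
        apply AddMonoidHom.ext
        intro n
        show n.down • (s.1 V : P.obj V) = P.map f (n.down • (s.1 U : P.obj U))
        have h : (s.1 V : P.obj V) = P.map f (s.1 U : P.obj U) := (s.2 f).symm
        rw [h]
        exact (map_zsmul (P.map f).hom _ _).symm }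
  left_inv φ := by
    ext U n
    obtain ⟨n⟩ := n
    show n • φ.app U ⟨1⟩ = φ.app U ⟨n⟩
    rw [← map_zsmul]
    congr 1
    apply ULift.ext
    show n • (1 : ℤ) = n
    simp
  right_inv s := by
    apply Subtype.ext
    funext U
    show (1 : ℤ) • (s.1 U : P.obj U) = s.1 U
    rw [one_smul]

variable (J : GrothendieckTopology C)

/-- the constant sheaf `ℤ` -/
noncomputable abbrev ZC : Sheaf J AddCommGrpCat.{u} :=
  (constantSheaf J AddCommGrpCat.{u}).obj (AddCommGrpCat.of (ULift.{u} ℤ))

lemma tf_ZC : TF J (ZC J) := by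
  apply tf_sheafify
  intro U
  exact Function.Injective.isAddTorsionFree
    (AddEquiv.ulift : ULift.{u} ℤ ≃+ ℤ).toAddMonoidHom (AddEquiv.ulift : ULift.{u} ℤ ≃+ ℤ).injective

variable {J}

/-- morphisms out of the constant sheaf `ℤ` are global sections -/
noncomputable def zcHomEquiv (F : Sheaf J AddCommGrpCat.{u}) :
    (ZC J ⟶ F) ≃ (F.obj ⋙ forget AddCommGrpCat.{u}).sections :=
  ((sheafificationAdjunction J AddCommGrpCat.{u}).homEquiv _ F).trans (constHomEquiv F.obj)

lemma zcHomEquiv_naturality {F F' : Sheaf J AddCommGrpCat.{u}} (g : F ⟶ F') (φ : ZC J ⟶ F)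
    (U : Cᵒᵖ) : (zcHomEquiv F' (φ ≫ g)).1 U = g.hom.app U ((zcHomEquiv F φ).1 U) := by
  have h : ((sheafificationAdjunction J AddCommGrpCat.{u}).homEquiv
        ((Functor.const Cᵒᵖ).obj (AddCommGrpCat.of (ULift.{u} ℤ))) F') (φ ≫ g) =
      ((sheafificationAdjunction J AddCommGrpCat.{u}).homEquiv
        ((Functor.const Cᵒᵖ).obj (AddCommGrpCat.of (ULift.{u} ℤ))) F) φ ≫ g.hom :=
    Adjunction.homEquiv_naturality_right _ _ _
  show (((sheafificationAdjunction J AddCommGrpCat.{u}).homEquiv
        ((Functor.const Cᵒᵖ).obj (AddCommGrpCat.of (ULift.{u} ℤ))) F') (φ ≫ g)).app U ⟨1⟩ = _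
  rw [h]
  rfl

variable (R : Sheaf J RingCat.{u})

/-- sections of a sheaf of modules are sections of the underlying abelian sheaf -/
def secEquiv (M : SheafOfModules.{u} R) :
    M.sections ≃ (((SheafOfModules.toSheaf.{u} R).obj M).obj ⋙ forget AddCommGrpCat.{u}).sections :=
  Equiv.refl _

/-- `Hom_R(R, M) ≃ Hom(ℤ, M_ab)` -/
noncomputable def unitEquiv (M : SheafOfModules.{u} R) :
    (SheafOfModules.unit R ⟶ M) ≃ (ZC J ⟶ (SheafOfModules.toSheaf.{u} R).obj M) :=
  ((SheafOfModules.unitHomEquiv M).trans (secEquiv R M)).trans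
    (zcHomEquiv ((SheafOfModules.toSheaf.{u} R).obj M)).symm

lemma unitEquiv_naturality {M M' : SheafOfModules.{u} R} (p : M ⟶ M')
    (f : SheafOfModules.unit R ⟶ M) :
    unitEquiv R M' (f ≫ p) = unitEquiv R M f ≫ (SheafOfModules.toSheaf.{u} R).map p := by
  apply (zcHomEquiv ((SheafOfModules.toSheaf.{u} R).obj M')).injective
  apply Subtype.ext
  funext U
  rw [zcHomEquiv_naturality]
  dsimp only [unitEquiv, Equiv.trans_apply]
  rw [Equiv.apply_symm_apply, Equiv.apply_symm_apply]
  rfl

/-- `Hom_R(R, -) ≅ Hom(ℤ, (-)_ab)` -/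
noncomputable def unitCoyIso :
    preadditiveCoyoneda.obj (op (SheafOfModules.unit R)) ≅
      SheafOfModules.toSheaf.{u} R ⋙ preadditiveCoyoneda.obj (op (ZC J)) :=
  natIsoOfEquiv _ _ (fun M => unitEquiv R M) (fun p f => unitEquiv_naturality R p f)

/-- **S0491**: cohomology of a sheaf of modules computed in modules agrees with that of the
underlying abelian sheaf -/
theorem ext_unit_equiv_H [HasExt.{u} (SheafOfModules.{u} R)] (M : SheafOfModules.{u} R) (n : ℕ) :
    Nonempty (Ext.{u} (SheafOfModules.unit R) M n ≃+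
      Sheaf.H.{u} ((SheafOfModules.toSheaf R).obj M) n) :=
  ext_comparison R (SheafOfModules.unit R) (ZC J) (tf_ZC J) (unitCoyIso R) M n

end Groth.Agent.Lib.helper21.InjAcyc
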