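import Mathlib
import Groth.Agent.Lib.Helper21.InjAcyc3

/-!
# `Ext` out of free sheaves of modules on presheaves of sets (helper21)
-/

set_option autoImplicit false

universe u

open CategoryTheory CategoryTheory.Limits Opposite CategoryTheory.Abelian
  Groth.Agent.Lib.helper27

namespace Groth.Agent.Lib.helper21.InjAcyc

variable {C : Type u} [SmallCategory C] {J : GrothendieckTopology C} (R : Sheaf J RingCat.{u})

/-- the free sheaf of modules on a presheaf of sets -/
noncomputable abbrev freeMod : (Cᵒᵖ ⥤ Type u) ⥤ SheafOfModules.{u} R :=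
  PresheafOfModules.free.{u} R.obj ⋙ PresheafOfModules.sheafification.{u} (𝟙 R.obj)

/-- the free/forgetful adjunction for sheaves of modules -/
noncomputable def freeModAdj : freeMod R ⊣
    (SheafOfModules.forget R ⋙ PresheafOfModules.restrictScalars (𝟙 R.obj)) ⋙
      (PresheafOfModules.toPresheaf R.obj ⋙
        (Functor.whiskeringRight _ _ _).obj (forget AddCommGrpCat.{u})) :=
  (PresheafOfModules.freeAdjunction R.obj).comp
    (PresheafOfModules.sheafificationAdjunction.{u} (𝟙 R.obj))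

/-- the two underlying presheaves of sets agree -/
def castE (X : Cᵒᵖ ⥤ Type u) (M : SheafOfModules.{u} R) :
    (X ⟶ ((SheafOfModules.forget R ⋙ PresheafOfModules.restrictScalars (𝟙 R.obj)) ⋙
      (PresheafOfModules.toPresheaf R.obj ⋙
        (Functor.whiskeringRight _ _ _).obj (forget AddCommGrpCat.{u}))).obj M) ≃
    (X ⟶ (forgetF J).obj ((SheafOfModules.toSheaf.{u} R).obj M)) :=
  Equiv.refl _

/-- `Hom_R(R[X], M) ≃ Hom(ℤ[X], M_ab)` -/
noncomputable def freeEquiv (X : Cᵒᵖ ⥤ Type u) (M : SheafOfModules.{u} R) :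
    ((freeMod R).obj X ⟶ M) ≃ ((freeF J).obj X ⟶ (SheafOfModules.toSheaf.{u} R).obj M) :=
  (((freeModAdj R).homEquiv X M).trans (castE R X M)).trans
    ((freeAdj J).homEquiv X ((SheafOfModules.toSheaf.{u} R).obj M)).symm

lemma freeEquiv_naturality (X : Cᵒᵖ ⥤ Type u) {M M' : SheafOfModules.{u} R} (p : M ⟶ M')
    (f : (freeMod R).obj X ⟶ M) :
    freeEquiv R X M' (f ≫ p) = freeEquiv R X M f ≫ (SheafOfModules.toSheaf.{u} R).map p := by
  apply ((freeAdj J).homEquiv X ((SheafOfModules.toSheaf.{u} R).obj M')).injective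
  rw [Adjunction.homEquiv_naturality_right]
  dsimp only [freeEquiv, Equiv.trans_apply]
  rw [Equiv.apply_symm_apply, Equiv.apply_symm_apply, Adjunction.homEquiv_naturality_right]
  rfl

/-- `Hom_R(R[X], -) ≅ Hom(ℤ[X], (-)_ab)` -/
noncomputable def freeCoyIso (X : Cᵒᵖ ⥤ Type u) :
    preadditiveCoyoneda.obj (op ((freeMod R).obj X)) ≅
      SheafOfModules.toSheaf.{u} R ⋙ preadditiveCoyoneda.obj (op ((freeF J).obj X)) :=
  natIsoOfEquiv _ _ (fun M => freeEquiv R X M) (fun p f => freeEquiv_naturality R X p f)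

/-- **S9048**: `Ext^p_R(R[X], F) ≅ Ext^p(ℤ[X], F_ab)` -/
theorem ext_free_equiv [HasExt.{u} (SheafOfModules.{u} R)] (X : Cᵒᵖ ⥤ Type u)
    (F : SheafOfModules.{u} R) (n : ℕ) :
    Nonempty (Ext.{u} ((freeMod R).obj X) F n ≃+
      Ext.{u} ((freeF J).obj X) ((SheafOfModules.toSheaf R).obj F) n) :=
  ext_comparison R ((freeMod R).obj X) ((freeF J).obj X) (tf_free X) (freeCoyIso R X) F n

end Groth.Agent.Lib.helper21.InjAcyc
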