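import Mathlib

/-!
# Extension by zero for abelian sheaves on an over-site is exact

For a small category `C`, an object `U` and a topology `J`, the left adjoint `j_!` of the restriction
functor `Sheaf J Ab ⥤ Sheaf (J.over U) Ab` preserves monomorphisms (so restriction preserves injectives).
-/

open CategoryTheory Limits Opposite

universe u

namespace Groth.Agent.Lib.Helper21.AbShriek

variable {C : Type u} [SmallCategory C] (U : C)

/-- the functor along which we Kan-extend -/
abbrev L : (Over U)ᵒᵖ ⥤ Cᵒᵖ := (Over.forget U).op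

/-- The distinguished objects of the costructured arrow category. -/
def T (Y : Cᵒᵖ) (φ : Y.unop ⟶ U) : CostructuredArrow (L U) Y :=
  CostructuredArrow.mk (Y := op (Over.mk φ)) (𝟙 Y)

/-- The inclusion of the distinguished objects. -/
def iY (Y : Cᵒᵖ) : Discrete (Y.unop ⟶ U) ⥤ CostructuredArrow (L U) Y :=
  Discrete.functor (T U Y)

variable {U}

/-- the index of the component of `k` -/
def idx {Y : Cᵒᵖ} (k : CostructuredArrow (L U) Y) : Y.unop ⟶ U :=
  k.hom.unop ≫ k.left.unop.hom

/-- the canonical map to the distinguished object of the component -/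
def toT {Y : Cᵒᵖ} (k : CostructuredArrow (L U) Y) : k ⟶ T U Y (idx k) :=
  CostructuredArrow.homMk (Over.homMk (U := Over.mk (idx k)) (V := k.left.unop) k.hom.unop rfl).op
    (by
      apply Quiver.Hom.unop_inj
      simp [T, L])

lemma left_eq_of_hom {Y : Cᵒᵖ} (k : CostructuredArrow (L U) Y) (φ : Y.unop ⟶ U) (f : k ⟶ T U Y φ) :
    f.left.unop.left = k.hom.unop := by
  have h1 : (f.left.unop.left).op ≫ 𝟙 Y = k.hom := CostructuredArrow.w f
  have h2 : (f.left.unop.left).op = k.hom := (Category.comp_id _).symm.trans h1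
  rw [← h2]
  rfl

lemma idx_eq_of_hom {Y : Cᵒᵖ} (k : CostructuredArrow (L U) Y) (φ : Y.unop ⟶ U) (f : k ⟶ T U Y φ) :
    φ = idx k := by
  have h2 : f.left.unop.left ≫ k.left.unop.hom = φ := Over.w f.left.unop
  rw [idx, ← left_eq_of_hom k φ f]
  exact h2.symm

lemma hom_T_ext {Y : Cᵒᵖ} (k : CostructuredArrow (L U) Y) (φ : Y.unop ⟶ U) (f g : k ⟶ T U Y φ) :
    f = g := by
  apply CostructuredArrow.hom_ext
  apply Quiver.Hom.unop_inj
  apply Over.OverMorphism.ext
  exact (left_eq_of_hom k φ f).trans (left_eq_of_hom k φ g).symm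

instance final_iY (Y : Cᵒᵖ) : (iY U Y).Final where
  out k := by
    let x0 : StructuredArrow k (iY U Y) :=
      StructuredArrow.mk (Y := (⟨idx k⟩ : Discrete (Y.unop ⟶ U))) (show k ⟶ (iY U Y).obj ⟨idx k⟩ from toT k)
    refine isConnected_of_isInitial _ (x := x0) (IsInitial.ofUniqueHom (fun x => ?_) (fun x m => ?_))
    · obtain ⟨l, ⟨φ⟩, f⟩ := x
      have hφ : φ = idx k := idx_eq_of_hom k φ f
      subst hφ
      exact StructuredArrow.homMk (𝟙 _) (hom_T_ext k _ _ _)
    · apply StructuredArrow.hom_ext
      apply Subsingleton.elim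

variable (U) in
/-- Pointwise description of the left Kan extension along `(Over.forget U).op`: a coproduct indexed by `Y ⟶ U`. -/
noncomputable def lanIso (G : (Over U)ᵒᵖ ⥤ AddCommGrpCat.{u}) (Y : Cᵒᵖ) :
    ((L U).lan.obj G).obj Y ≅ colimit (iY U Y ⋙ CostructuredArrow.proj (L U) Y ⋙ G) :=
  (L U).leftKanExtensionObjIsoColimit G Y ≪≫
    (Functor.Final.colimitIso (iY U Y) (CostructuredArrow.proj (L U) Y ⋙ G)).symm

lemma ι_lanIso_inv (G : (Over U)ᵒᵖ ⥤ AddCommGrpCat.{u}) (Y : Cᵒᵖ) (φ : Y.unop ⟶ U) :
    colimit.ι (iY U Y ⋙ CostructuredArrow.proj (L U) Y ⋙ G) ⟨φ⟩ ≫ (lanIso U G Y).inv =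
      ((L U).lanUnit.app G).app (op (Over.mk φ)) := by
  dsimp only [lanIso, Iso.trans_inv, Iso.symm_inv]
  rw [Functor.Final.ι_colimitIso_hom_assoc]
  erw [Functor.ι_leftKanExtensionObjIsoColimit_inv]
  show ((L U).lanUnit.app G).app (op (Over.mk φ)) ≫ ((L U).lan.obj G).map (𝟙 Y) = _
  exact (congrArg (fun t => ((L U).lanUnit.app G).app (op (Over.mk φ)) ≫ t)
    (((L U).lan.obj G).map_id Y)).trans (Category.comp_id _)

lemma lan_map_app_eq {G G' : (Over U)ᵒᵖ ⥤ AddCommGrpCat.{u}} (α : G ⟶ G') (Y : Cᵒᵖ) :
    ((L U).lan.map α).app Y = (lanIso U G Y).hom ≫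
      colimMap (Functor.whiskerLeft (iY U Y ⋙ CostructuredArrow.proj (L U) Y) α) ≫ (lanIso U G' Y).inv := by
  rw [← Iso.inv_comp_eq]
  apply colimit.hom_ext
  rintro ⟨φ⟩
  have e1 := ι_lanIso_inv G Y φ
  have e2 := ι_lanIso_inv G' Y φ
  have h := congr_app ((L U).lanUnit.naturality α) (op (Over.mk φ))
  rw [ι_colimMap_assoc]
  rw [reassoc_of% e1]
  refine Eq.trans ?_ (congrArg (fun t => α.app (op (Over.mk φ)) ≫ t) e2.symm)
  exact h.symm

instance lan_preservesMonomorphisms :
    ((L U).lan : ((Over U)ᵒᵖ ⥤ AddCommGrpCat.{u}) ⥤ (Cᵒᵖ ⥤ AddCommGrpCat.{u})).PreservesMonomorphisms where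
  preserves {G G'} α hα := by
    rw [NatTrans.mono_iff_mono_app]
    intro Y
    rw [lan_map_app_eq]
    have : Mono (Functor.whiskerLeft (iY U Y ⋙ CostructuredArrow.proj (L U) Y) α) := by
      rw [NatTrans.mono_iff_mono_app]
      intro j
      rw [NatTrans.mono_iff_mono_app] at hα
      exact hα _
    have : Mono (colimMap (Functor.whiskerLeft (iY U Y ⋙ CostructuredArrow.proj (L U) Y) α)) :=
      inferInstanceAs (Mono (colim.map _))
    infer_instance

section SheafLevel

variable (U) (J : GrothendieckTopology C)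

/-- extension by zero `j_!` for abelian sheaves. -/
noncomputable abbrev jShriek : Sheaf (J.over U) AddCommGrpCat.{u} ⥤ Sheaf J AddCommGrpCat.{u} :=
  (Over.forget U).sheafPullback AddCommGrpCat.{u} (J.over U) J

/-- restriction `j^*` to the over site. -/
abbrev jStar : Sheaf J AddCommGrpCat.{u} ⥤ Sheaf (J.over U) AddCommGrpCat.{u} :=
  (Over.forget U).sheafPushforwardContinuous AddCommGrpCat.{u} (J.over U) J

/-- the adjunction `j_! ⊣ j^*`. -/
noncomputable abbrev jAdj : jShriek U J ⊣ jStar U J :=
  (Over.forget U).sheafAdjunctionContinuous AddCommGrpCat.{u} (J.over U) J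

instance jShriek_preservesMonomorphisms : (jShriek U J).PreservesMonomorphisms := by
  have h1 : (sheafToPresheaf (J.over U) AddCommGrpCat.{u}).PreservesMonomorphisms := inferInstance
  have h3 : (presheafToSheaf J AddCommGrpCat.{u}).PreservesMonomorphisms := inferInstance
  have : (Functor.sheafPullbackConstruction.sheafPullback (Over.forget U) AddCommGrpCat.{u}
      (J.over U) J).PreservesMonomorphisms := by
    unfold Functor.sheafPullbackConstruction.sheafPullback
    infer_instance
  exact Functor.PreservesMonomorphisms.of_iso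
    (Functor.sheafPullbackConstruction.sheafPullbackIso (Over.forget U) AddCommGrpCat.{u} (J.over U) J).symm

instance jStar_preservesInjectiveObjects : (jStar U J).PreservesInjectiveObjects :=
  Functor.preservesInjectiveObjects_of_adjunction_of_preservesMonomorphisms (jAdj U J)

instance jStar_additive : (jStar U J).Additive := by
  haveI : PreservesLimitsOfSize.{0, 0} (jStar U J) := (jAdj U J).rightAdjoint_preservesLimits
  exact Functor.additive_of_preserves_binary_products _

instance jShriek_additive : (jShriek U J).Additive := (jAdj U J).left_adjoint_additive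

instance jShriek_preservesFiniteColimits : PreservesFiniteColimits (jShriek U J) := by
  haveI : PreservesColimitsOfSize.{0, 0} (jShriek U J) := (jAdj U J).leftAdjoint_preservesColimits
  infer_instance

instance jShriek_preservesFiniteLimits : PreservesFiniteLimits (jShriek U J) := by
  haveI : (jShriek U J).PreservesHomology :=
    Functor.preservesHomology_of_preservesMonos_and_cokernels _
  exact Functor.preservesFiniteLimits_of_preservesHomology _

instance jStar_preservesFiniteLimits : PreservesFiniteLimits (jStar U J) := by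
  haveI : PreservesLimitsOfSize.{0, 0} (jStar U J) := (jAdj U J).rightAdjoint_preservesLimits
  infer_instance

instance jStar_preservesFiniteColimits : PreservesFiniteColimits (jStar U J) := by
  haveI : PreservesColimitsOfSize.{0, 0} (jStar U J) :=
    ((Over.forget U).sheafAdjunctionCocontinuous AddCommGrpCat.{u} (J.over U) J).leftAdjoint_preservesColimits
  infer_instance

instance jStar_preservesHomology : (jStar U J).PreservesHomology :=
  Functor.preservesHomology_of_preservesMonos_and_cokernels _

instance jShriek_preservesHomology : (jShriek U J).PreservesHomology :=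
  Functor.preservesHomology_of_preservesMonos_and_cokernels _

end SheafLevel

end Groth.Agent.Lib.Helper21.AbShriek
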