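import Mathlib
import Groth.Prelude.Def_EtBase
import Groth.Prelude.Def_PBC
import Groth.Agent.Lib.Helper21.SubConstr

set_option autoImplicit false

open CategoryTheory CategoryTheory.Limits Opposite AlgebraicGeometry

namespace Groth.Agent.Lib.helper21.PtCrit

open Groth.Agent.Lib.helper21.Constr Groth.Agent.Lib.helper21.Strata
  Groth.Agent.Lib.helper21.SubConstr Groth.Agent.Lib.helper21.FlcPull

universe u

variable {X : Scheme.{u}}

/-- finite locally constant sheaves are constructible -/
theorem constructible_of_flc (F : EtCoh.Ab X) (hF : EtCoh.IsFiniteLocallyConstant F) :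
    EtPBC.IsConstructible F := by
  intro U hU
  refine ⟨1, fun _ => U.toScheme, fun _ => U.ι, fun _ => inferInstance, fun _ => ?_, ?_, ?_,
    fun _ _ => flc_pull U.ι F hF⟩
  · have : (Subtype.val : ↥(U : Set X) → X) ⁻¹' Set.range U.ι = Set.univ := by
      rw [Scheme.Opens.range_ι]
      ext x
      simpa using x.2
    rw [this]
    exact Topology.IsConstructible.univ
  · intro a b hab
    exact (hab (Subsingleton.elim a b)).elim
  · rw [Set.iUnion_const, Scheme.Opens.range_ι]

/-- the pointwise criterion, direction `⇒` -/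
theorem exists_flc_of_constructible (F : EtCoh.Ab X) (hF : EtPBC.IsConstructible F) (x : X) :
    ∃ (V : X.Opens) (T : Scheme.{u}) (g : T ⟶ X), IsImmersion g ∧ x ∈ V ∧
      Set.range g = (V : Set X) ∩ closure {x} ∧
      EtCoh.IsFiniteLocallyConstant ((EtCoh.pull g).obj F) := by
  obtain ⟨U, hxU, -, hUa⟩ := exists_affine_nbhd (⊤ : X.Opens) x trivial
  obtain ⟨n, T, g, hi, hc, hd, hu, hf⟩ := hF U hUa
  have hx : x ∈ ⋃ i, Set.range (g i) := by rw [hu]; exact hxU
  obtain ⟨i, hxi⟩ := Set.mem_iUnion.1 hx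
  haveI := hi i
  obtain ⟨O, C, hO, hC, hOC⟩ := (g i).isLocallyClosed_range
  have hxO : x ∈ O := by rw [hOC] at hxi; exact hxi.1
  have hxC : x ∈ C := by rw [hOC] at hxi; exact hxi.2
  let V : X.Opens := ⟨O, hO⟩ ⊓ U
  have hVsub : (V : Set X) ∩ closure {x} ⊆ Set.range (g i) := by
    rintro y ⟨hyV, hyx⟩
    rw [hOC]
    exact ⟨hyV.1, closure_minimal (Set.singleton_subset_iff.2 hxC) hC hyx⟩
  obtain ⟨Z', h, hih, hrh⟩ := exists_immersion_range V ⟨closure {x}, isClosed_closure⟩
  have hr : Set.range (pullback.fst (g i) h ≫ g i) = (V : Set X) ∩ closure {x} := by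
    rw [Scheme.Pullback.range_fst_comp, hrh]
    exact Set.inter_eq_right.2 hVsub
  refine ⟨V, pullback (g i) h, pullback.fst (g i) h ≫ g i, inferInstance, ⟨hxO, hxU⟩, hr, ?_⟩
  exact flc_pull_comp _ _ F (hf i)

/-- the pointwise criterion, direction `⇐`, on a Noetherian scheme -/
theorem constructible_of_pointwise [IsNoetherian X] (F : EtCoh.Ab X)
    (h : ∀ x : X, ∃ (T : Scheme.{u}) (g : T ⟶ X), IsImmersion g ∧ x ∈ Set.range g ∧
      EtCoh.IsFiniteLocallyConstant ((EtCoh.pull g).obj F)) :
    EtPBC.IsConstructible F := by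
  choose T g hi hx hf using h
  haveI := hi
  refine constructible_of_immersion_cover F T g (fun x => ?_) ?_
    (fun x => constructible_of_flc _ (hf x))
  · obtain ⟨O, C, hO, hC, hOC⟩ := (g x).isLocallyClosed_range
    rw [hOC]
    exact ((TopologicalSpace.NoetherianSpace.isCompact O).isConstructible hO).inter
      ((TopologicalSpace.NoetherianSpace.isCompact Cᶜ).isConstructible hC.isOpen_compl).of_compl
  · rw [Set.eq_univ_iff_forall]
    exact fun x => Set.mem_iUnion.2 ⟨x, hx x⟩

/-- the pointwise criterion, direction `⇐`, on a locally Noetherian scheme -/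
theorem constructible_of_pointwise_locNoeth [IsLocallyNoetherian X] (F : EtCoh.Ab X)
    (h : ∀ x : X, ∃ (T : Scheme.{u}) (g : T ⟶ X), IsImmersion g ∧ x ∈ Set.range g ∧
      EtCoh.IsFiniteLocallyConstant ((EtCoh.pull g).obj F)) :
    EtPBC.IsConstructible F := by
  apply constructible_of_open_cover F (fun U : X.affineOpens => U.1) (iSup_affineOpens_eq_top X)
  intro U
  haveI : IsAffine U.1.toScheme := U.2
  haveI : IsNoetherian U.1.toScheme :=
    { toIsLocallyNoetherian := inferInstance, toCompactSpace := inferInstance }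
  apply constructible_of_pointwise
  intro u
  obtain ⟨T, g, hi, hx, hf⟩ := h (U.1.ι u)
  refine ⟨pullback g U.1.ι, pullback.snd g U.1.ι, inferInstance, ?_, ?_⟩
  · rw [Scheme.Pullback.range_snd]
    exact hx
  · have h1 := flc_pull_comp (pullback.fst g U.1.ι) g F hf
    rw [pullback.condition] at h1
    exact flc_of_iso ((pullComp (pullback.snd g U.1.ι) U.1.ι).app F).symm h1

end Groth.Agent.Lib.helper21.PtCrit
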