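import Mathlib
import Groth.Prelude.Def_EtBase
import Groth.Prelude.Def_PBC
import Groth.Agent.Lib.Helper1.EtStalkPull
import Groth.Agent.Lib.Helper21.PtCrit

set_option autoImplicit false

open CategoryTheory CategoryTheory.Limits Opposite AlgebraicGeometry

namespace Groth.Agent.Lib.helper21.SuppConstr

open Groth.Agent.Lib.helper21.Constr Groth.Agent.Lib.helper21.Strata
  Groth.Agent.Lib.helper21.SubConstr Groth.Agent.Lib.helper21.FlcPull
  Groth.Agent.Lib.Helper21.ConstGerm Groth.Agent.Lib.Helper21.FlcConn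
  Groth.Agent.H1.EtStalk Groth.Agent.H1.EtGerm Groth.Agent.H1.EtStalkPull

open scoped Set.Notation

universe u

variable {X : Scheme.{u}}

lemma range_geom {Ω : Type u} [Field Ω] (ξ : Spec (CommRingCat.of Ω) ⟶ X) :
    Set.range ξ = {ξ default} := by
  ext x
  constructor
  · rintro ⟨a, rfl⟩
    rw [Subsingleton.elim a default]
    rfl
  · rintro rfl
    exact ⟨default, rfl⟩

/-- a geometric point landing in the range of an immersion factors through it -/
theorem exists_lift_of_immersion {T : Scheme.{u}} (g : T ⟶ X) [IsImmersion g]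
    {Ω : Type u} [Field Ω] (ξ : Spec (CommRingCat.of Ω) ⟶ X)
    (h : ξ default ∈ Set.range g) : ∃ ζ : Spec (CommRingCat.of Ω) ⟶ T, ζ ≫ g = ξ := by
  obtain ⟨t, ht⟩ := h
  obtain ⟨z, -, hz2⟩ := Scheme.Pullback.exists_preimage_pullback (f := g) (g := ξ) t default ht
  let p := pullback.snd g ξ
  haveI : Surjective p := by
    constructor
    intro a
    exact ⟨z, by rw [Subsingleton.elim a default]; exact hz2⟩
  haveI : IsClosedImmersion p := by
    apply IsClosedImmersion.of_isPreimmersion
    rw [(inferInstance : Surjective p).1.range_eq]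
    exact isClosed_univ
  haveI : IsIso p := isIso_of_isClosedImmersion_of_surjective p
  refine ⟨inv p ≫ pullback.fst g ξ, ?_⟩
  rw [Category.assoc, pullback.condition, IsIso.inv_hom_id_assoc]

/-- the support of a sheaf meets the range of an immersion in the image of the support of the
inverse image -/
theorem supp_inter_range {T : Scheme.{u}} (g : T ⟶ X) [IsImmersion g] (F : EtCoh.Ab X) :
    EtPBC.supp F ∩ Set.range g = g '' EtPBC.supp ((EtCoh.pull g).obj F) := by
  ext x
  constructor
  · rintro ⟨⟨Ω, _, _, ξ, hξ, hne⟩, hx⟩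
    have hξx : ξ default = x := by
      have : ξ default ∈ Set.range ξ := ⟨default, rfl⟩
      rw [hξ] at this
      exact this
    obtain ⟨ζ, hζ⟩ := exists_lift_of_immersion g ξ (by rw [hξx]; exact hx)
    refine ⟨ζ default, ⟨Ω, inferInstance, inferInstance, ζ, range_geom ζ, ?_⟩, ?_⟩
    · intro hz
      apply hne
      have e := (stalkPullIso g ζ).app F
      rw [hζ] at e
      exact hz.of_iso e.symm
    · rw [← hξx, ← hζ]
      rfl
  · rintro ⟨t, ⟨Ω, _, _, ζ, hζ, hne⟩, rfl⟩
    refine ⟨⟨Ω, inferInstance, inferInstance, ζ ≫ g, ?_, ?_⟩, ⟨t, rfl⟩⟩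
    · rw [range_geom]
      have : ζ default = t := by
        have : ζ default ∈ Set.range ζ := ⟨default, rfl⟩
        rw [hζ] at this
        exact this
      rw [← this]
      rfl
    · intro hz
      apply hne
      exact hz.of_iso ((stalkPullIso g ζ).app F)


section Flc

variable {T : Scheme.{u}} (G : EtCoh.Ab T) {U : T.Etale} {M : AddCommGrpCat.{u + 1}}
  (e : EtCoh.restr G U ≅ cst.{u + 1, u, u + 1} (T.smallEtaleTopology.over U) M)
  {Ω : Type u} [Field Ω] [IsSepClosed Ω] (ζ : Spec (CommRingCat.of Ω) ⟶ T) (y : Lift ζ U)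

include e y in
lemma isZero_stalk_of_subsingleton (hM : Subsingleton M) : IsZero ((EtCoh.stalk ζ).obj G) := by
  have hMz : IsZero M := AddCommGrpCat.isZero_of_subsingleton M
  have hz : IsZero (EtCoh.restr G U) :=
    ((constantSheaf (T.smallEtaleTopology.over U) AddCommGrpCat.{u + 1}).map_isZero hMz).of_iso e
  have hsub : Subsingleton ((EtCoh.stalk ζ).obj G) := by
    refine ⟨fun p q => ?_⟩
    have h0 : ∀ p : (EtCoh.stalk ζ).obj G, p = 0 := by
      intro p
      obtain ⟨V, x, s, rfl⟩ := germ_surjective G p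
      let eV : (Scheme.pointSmallEtale ζ).fiber.Elements := ⟨V, x⟩
      let eU : (Scheme.pointSmallEtale ζ).fiber.Elements := ⟨U, y⟩
      obtain ⟨⟨W, w⟩, ⟨a, ha⟩, ⟨b, hb⟩, -⟩ := IsCofilteredOrEmpty.cone_objs eV eU
      dsimp [eU, eV] at a ha b hb
      have h1 : germ ζ G V x s = germ ζ G W w (G.obj.map a.op s) := by
        rw [germ_res]
        exact congrArg (fun t => germ ζ G V t s) ha.symm
      rw [h1]
      have h2 : G.obj.map a.op s = 0 := by
        have h3 := hz.eq_of_src (𝟙 (EtCoh.restr G U)) 0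
        exact congrArg (fun t : EtCoh.restr G U ⟶ EtCoh.restr G U =>
          (t.hom.app (op (Over.mk b)) : _ ⟶ _) (G.obj.map a.op s)) h3
      rw [h2, map_zero]
    rw [h0 p, h0 q]
  exact AddCommGrpCat.isZero_of_subsingleton _

include e y in
lemma subsingleton_of_isZero_stalk (h : IsZero ((EtCoh.stalk ζ).obj G)) : Subsingleton M := by
  have hsub := AddCommGrpCat.subsingleton_of_isZero h
  have h0 : ∀ a : M, a = 0 := by
    intro a
    have h1 : germ ζ G U y (sec0 G e (𝟙 U) a) = 0 := Subsingleton.elim _ _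
    obtain ⟨V, g, y', -, hs⟩ := (germ_eq_zero_iff G U y _).1 h1
    rw [sec0_nat] at hs
    have h2 : sec0 G e (g ≫ 𝟙 U) (0 : M) = 0 := by
      rw [← Groth.Agent.Lib.helper21.SubConst.sig_apply, map_zero]
    exact sec0_inj G e (g ≫ 𝟙 U) (y'.hom default) a 0 (hs.trans h2.symm)
  exact ⟨fun a b => by rw [h0 a, h0 b]⟩

end Flc


/-- the support of a finite locally constant sheaf is open and closed -/
theorem isClopen_supp_of_flc {T : Scheme.{u}} (G : EtCoh.Ab T)
    (hG : EtCoh.IsFiniteLocallyConstant G) : IsClopen (EtPBC.supp G) := by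
  obtain ⟨I, U, hcov, h⟩ := hG
  choose M iM fM e using h
  have key : ∀ i (u : (U i).left), (U i).hom u ∈ EtPBC.supp G ↔ Nontrivial (M i) := by
    intro i u
    obtain ⟨ei⟩ := e i
    haveI : AlgebraicGeometry.Etale (U i).hom := (U i).prop
    constructor
    · rintro ⟨Ω, _, _, ζ, hζ, hne⟩
      by_contra hnt
      rw [not_nontrivial_iff_subsingleton] at hnt
      have hζu : (U i).hom u = ζ default := by
        have : ζ default ∈ Set.range ζ := ⟨default, rfl⟩
        rw [hζ] at this
        exact this.symm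
      obtain ⟨l, hl1, -⟩ := Scheme.exists_fac_of_etale_of_isSepClosed (U i).hom ζ u hζu
      haveI : Subsingleton (AddCommGrpCat.of (ULift.{u + 1} (M i))) :=
        (inferInstance : Subsingleton (ULift.{u + 1} (M i)))
      exact hne (isZero_stalk_of_subsingleton G ei ζ (Lift.mk ζ l hl1) inferInstance)
    · intro hnt
      refine ⟨_, inferInstance, inferInstance, geomPt (U i).left u ≫ (U i).hom, ?_, ?_⟩
      · rw [range_geom]
        congr 1
        exact congrArg (fun t => (U i).hom t) (geomPt_default (U i).left u)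
      · intro hz
        have := subsingleton_of_isZero_stalk G ei _
          (Lift.mk (geomPt (U i).left u ≫ (U i).hom) (geomPt (U i).left u) rfl) hz
        have h1 : Subsingleton (ULift.{u + 1} (M i)) := this
        have h2 : Subsingleton (M i) := Equiv.ulift.symm.subsingleton
        exact not_nontrivial_iff_subsingleton.2 h2 hnt
  have hopen : ∀ i, IsOpen (Set.range (U i).hom) := fun i => by
    haveI : AlgebraicGeometry.Etale (U i).hom := (U i).prop
    exact (U i).hom.isOpenMap.isOpen_range
  have h1 : EtPBC.supp G = ⋃ (i : {i // Nontrivial (M i)}), Set.range (U i.1).hom := by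
    ext t
    simp only [Set.mem_iUnion]
    constructor
    · intro ht
      obtain ⟨i, u, hu⟩ := hcov t
      have hu' : (U i).hom u = t := hu
      rw [← hu'] at ht
      exact ⟨⟨i, (key i u).1 ht⟩, u, hu'⟩
    · rintro ⟨⟨i, hi⟩, u, rfl⟩
      exact (key i u).2 hi
  have h2 : (EtPBC.supp G)ᶜ = ⋃ (i : {i // ¬ Nontrivial (M i)}), Set.range (U i.1).hom := by
    ext t
    simp only [Set.mem_iUnion, Set.mem_compl_iff]
    constructor
    · intro ht
      obtain ⟨i, u, hu⟩ := hcov t
      have hu' : (U i).hom u = t := hu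
      rw [← hu'] at ht
      exact ⟨⟨i, fun hi => ht ((key i u).2 hi)⟩, u, hu'⟩
    · rintro ⟨⟨i, hi⟩, u, rfl⟩ ht
      exact hi ((key i u).1 ht)
  refine ⟨?_, ?_⟩
  · rw [← isOpen_compl_iff, h2]
    exact isOpen_iUnion (fun i => hopen i.1)
  · rw [h1]
    exact isOpen_iUnion (fun i => hopen i.1)


/-- on a quasi-compact quasi-separated scheme the support of a constructible sheaf is
constructible -/
theorem isConstructible_supp [CompactSpace X] [QuasiSeparatedSpace X] (F : EtCoh.Ab X)
    (hF : EtPBC.IsConstructible F) : Topology.IsConstructible (EtPBC.supp F) := by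
  rw [constructible_iff_univ] at hF
  obtain ⟨n, T, g, hi, hc, hd, hu, hf⟩ := hF
  have h1 : EtPBC.supp F = ⋃ i, g i '' EtPBC.supp ((EtCoh.pull (g i)).obj F) := by
    have h2 : EtPBC.supp F = EtPBC.supp F ∩ ⋃ i, Set.range (g i) := by
      rw [hu, Set.inter_univ]
    rw [h2, Set.inter_iUnion]
    exact Set.iUnion_congr (fun i => by haveI := hi i; exact supp_inter_range (g i) F)
  rw [h1]
  apply Topology.IsConstructible.iUnion
  intro i
  haveI := hi i
  have hci := (constructible_univ_iff _).1 (hc i)
  haveI : CompactSpace (T i) := compactSpace_of_immersion (g i) hci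
  haveI : QuasiSeparatedSpace (T i) := quasiSeparatedSpace_of_immersion (g i)
  have hA : IsClopen (EtPBC.supp ((EtCoh.pull (g i)).obj F)) := isClopen_supp_of_flc _ (hf i)
  have hAc : Topology.IsConstructible (EtPBC.supp ((EtCoh.pull (g i)).obj F)) :=
    hA.1.isCompact.isConstructible hA.2
  exact Groth.Agent.Lib.helper21.ConstrTop.isConstructible_image_of_isEmbedding (g i)
    (g i).isEmbedding (g i).isLocallyClosed_range hci hAc

/-- the support of a constructible sheaf is locally constructible -/
theorem isLocallyConstructible_supp (F : EtCoh.Ab X) (hF : EtPBC.IsConstructible F) :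
    Topology.IsLocallyConstructible (EtPBC.supp F) := by
  apply Topology.IsLocallyConstructible.of_isOpenCover
    (U := fun U : X.affineOpens => U.1) (iSup_affineOpens_eq_top X)
  intro U
  haveI : IsAffine U.1.toScheme := U.2
  have h1 := isConstructible_supp _ (constructible_pull U.1.ι F hF)
  have h2 : ((U.1 : Set X) ↓∩ EtPBC.supp F) = EtPBC.supp ((EtCoh.pull U.1.ι).obj F) := by
    have h3 := supp_inter_range U.1.ι F
    ext u
    constructor
    · intro hu
      have h4 : U.1.ι u ∈ EtPBC.supp F ∩ Set.range U.1.ι := ⟨hu, u, rfl⟩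
      rw [h3] at h4
      obtain ⟨u', hu', he⟩ := h4
      rw [← U.1.ι.isOpenEmbedding.injective he]
      exact hu'
    · intro hu
      have h4 : U.1.ι u ∈ U.1.ι '' EtPBC.supp ((EtCoh.pull U.1.ι).obj F) := ⟨u, hu, rfl⟩
      rw [← h3] at h4
      exact h4.1
  rw [h2]
  exact h1.isLocallyConstructible

/-- the locus where a map of constructible sheaves is surjective on stalks is constructible -/
theorem isConstructible_surjective_locus [CompactSpace X] [QuasiSeparatedSpace X]
    {F G : EtCoh.Ab X} (φ : F ⟶ G) (hF : EtPBC.IsConstructible F)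
    (hG : EtPBC.IsConstructible G) :
    Topology.IsConstructible {x : X | ∀ (Ω : Type u) [Field Ω] [IsSepClosed Ω]
      (ξ : Spec (CommRingCat.of Ω) ⟶ X), Set.range ξ = {x} →
        Function.Surjective ((EtCoh.stalk ξ).map φ)} := by
  have hC := (constr_kernel_cokernel φ hF hG).2
  have h1 := (isConstructible_supp _ hC).compl
  convert h1 using 1
  ext x
  simp only [Set.mem_setOf_eq, Set.mem_compl_iff, EtPBC.supp]
  constructor
  · intro h ⟨Ω, _, _, ξ, hξ, hne⟩
    apply hne
    have hs := h Ω ξ hξ
    haveI : Epi ((EtCoh.stalk ξ).map φ) := (AddCommGrpCat.epi_iff_surjective _).2 hs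
    exact (isZero_cokernel_of_epi ((EtCoh.stalk ξ).map φ)).of_iso
      (PreservesCokernel.iso (EtCoh.stalk ξ) φ)
  · intro h Ω _ _ ξ hξ
    have hz : IsZero ((EtCoh.stalk ξ).obj (cokernel φ)) := by
      by_contra hne
      exact h ⟨Ω, inferInstance, inferInstance, ξ, hξ, hne⟩
    have hz' : IsZero (cokernel ((EtCoh.stalk ξ).map φ)) :=
      hz.of_iso (PreservesCokernel.iso (EtCoh.stalk ξ) φ).symm
    haveI : Epi ((EtCoh.stalk ξ).map φ) := Preadditive.epi_of_isZero_cokernel _ hz'
    exact (AddCommGrpCat.epi_iff_surjective _).1 inferInstance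

end Groth.Agent.Lib.helper21.SuppConstr
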