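import Mathlib

/-!
Helper library (helper21): pure algebra behind "tensoring a locally bijective map of presheaves of
modules stays locally injective".
-/

set_option autoImplicit false
universe u
open TensorProduct

namespace Groth.Agent.Lib.Helper21.TensorAlg

section semi

variable {A B : Type u} [CommRing A] [CommRing B] (φ : A →+* B)
  {M N : Type u} [AddCommGroup M] [Module A M] [AddCommGroup N] [Module A N]
  {M₁ N₁ : Type u} [AddCommGroup M₁] [Module B M₁] [AddCommGroup N₁] [Module B N₁]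

/-- The additive map `M ⊗[A] N → M₁ ⊗[B] N₁` induced by two `φ`-semilinear additive maps. -/
noncomputable def semiTensor (ρ : M →+ M₁) (hρ : ∀ (a : A) (m : M), ρ (a • m) = φ a • ρ m)
    (σ : N →+ N₁) (hσ : ∀ (a : A) (n : N), σ (a • n) = φ a • σ n) : M ⊗[A] N →+ M₁ ⊗[B] N₁ :=
  TensorProduct.liftAddHom
    { toFun := fun m =>
        { toFun := fun n => ρ m ⊗ₜ[B] σ n
          map_zero' := by simp
          map_add' := fun n n' => by simp [tmul_add] }
      map_zero' := by ext n; simp
      map_add' := fun m m' => by ext n; simp [add_tmul] }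
    (fun a m n => by
      simp only [AddMonoidHom.coe_mk, ZeroHom.coe_mk]
      rw [hρ, hσ, smul_tmul])

@[simp] theorem semiTensor_tmul (ρ : M →+ M₁) (hρ : ∀ (a : A) (m : M), ρ (a • m) = φ a • ρ m)
    (σ : N →+ N₁) (hσ : ∀ (a : A) (n : N), σ (a • n) = φ a • σ n) (m : M) (n : N) :
    semiTensor φ ρ hρ σ hσ (m ⊗ₜ n) = ρ m ⊗ₜ σ n := rfl

end semi

section key

variable {A : Type u} [CommRing A]
  {M M' N : Type u} [AddCommGroup M] [Module A M] [AddCommGroup M'] [Module A M']
  [AddCommGroup N] [Module A N]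

theorem alg_key (f : M →ₗ[A] M') (t : M ⊗[A] N) (ht : f.rTensor N t = 0) :
    ∃ s : Finset M', ∀ {B : Type u} [CommRing B] (φ : A →+* B) {M₁ M₁' N₁ : Type u}
      [AddCommGroup M₁] [Module B M₁] [AddCommGroup M₁'] [Module B M₁'] [AddCommGroup N₁]
      [Module B N₁] (f₁ : M₁ →ₗ[B] M₁')
      (ρ : M →+ M₁) (hρ : ∀ (a : A) (m : M), ρ (a • m) = φ a • ρ m)
      (ρ' : M' →+ M₁') (_ : ∀ (a : A) (m : M'), ρ' (a • m) = φ a • ρ' m)
      (σ : N →+ N₁) (hσ : ∀ (a : A) (n : N), σ (a • n) = φ a • σ n)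
      (_ : ∀ m, f₁ (ρ m) = ρ' (f m)),
      (∀ x ∈ s, ρ' x ∈ LinearMap.range f₁) →
      semiTensor φ ρ hρ σ hσ t ∈ LinearMap.range ((LinearMap.ker f₁).subtype.rTensor N₁) := by
  obtain ⟨J₀, hJ₀, y, rfl⟩ := Submodule.exists_fg_le_eq_rTensor_subtype t
  have hJ₁ : (J₀.map f).FG := hJ₀.map f
  have e1 : (J₀.map f).subtype.rTensor N ((f.submoduleMap J₀).rTensor N y) =
      (J₀.map f).subtype.rTensor N 0 := by
    rw [map_zero, ← LinearMap.rTensor_comp_apply]
    have : (J₀.map f).subtype ∘ₗ f.submoduleMap J₀ = f ∘ₗ J₀.subtype := rfl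
    rw [this, LinearMap.rTensor_comp_apply]
    exact ht
  obtain ⟨P'', hP'', hle, e2⟩ := hJ₁.exists_rTensor_fg_inclusion_eq e1
  obtain ⟨s, hs⟩ := hP''
  refine ⟨s, ?_⟩
  intro B _ φ M₁ M₁' N₁ _ _ _ _ _ _ f₁ ρ hρ ρ' hρ' σ hσ comm hmem
  have hP : ∀ x ∈ P'', ρ' x ∈ LinearMap.range f₁ := by
    intro x hx
    rw [← hs] at hx
    induction hx using Submodule.span_induction with
    | mem x hx => exact hmem x hx
    | zero => simp
    | add x y _ _ hx hy => rw [map_add]; exact Submodule.add_mem _ hx hy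
    | smul a x _ hx => rw [hρ']; exact Submodule.smul_mem _ _ hx
  let ρ'' : P'' →+ LinearMap.range f₁ :=
    { toFun := fun x => ⟨ρ' x.1, hP x.1 x.2⟩
      map_zero' := by ext; simp
      map_add' := fun x y => by ext; simp }
  have hρ'' : ∀ (a : A) (x : P''), ρ'' (a • x) = φ a • ρ'' x := by
    intro a x
    ext
    simp [ρ'', hρ']
  have key : ∀ z : J₀ ⊗[A] N,
      (f₁.rangeRestrict.rTensor N₁) (semiTensor φ ρ hρ σ hσ (J₀.subtype.rTensor N z)) =
        semiTensor φ ρ'' hρ'' σ hσ
          ((Submodule.inclusion hle).rTensor N ((f.submoduleMap J₀).rTensor N z)) := by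
    intro z
    induction z using TensorProduct.induction_on with
    | zero => simp
    | tmul j n =>
      simp only [LinearMap.rTensor_tmul, semiTensor_tmul, Submodule.subtype_apply]
      congr 1
      ext
      exact comm j
    | add z z' hz hz' => simp only [map_add, hz, hz']
  have h0 : f₁.rangeRestrict.rTensor N₁
      (semiTensor φ ρ hρ σ hσ (J₀.subtype.rTensor N y)) = 0 := by
    rw [key, e2, map_zero, map_zero]
  have hex : Function.Exact ((LinearMap.ker f₁).subtype.rTensor N₁)
      (f₁.rangeRestrict.rTensor N₁) := by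
    apply rTensor_exact N₁
    · intro x
      constructor
      · intro hx
        refine ⟨⟨x, ?_⟩, rfl⟩
        have := congrArg Subtype.val hx
        simpa using this
      · rintro ⟨k, rfl⟩
        ext
        simp
    · exact LinearMap.surjective_rangeRestrict f₁
  exact (hex _).1 h0

end key

end Groth.Agent.Lib.Helper21.TensorAlg
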