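import Mathlib
import Groth.Prelude.Def_ModSite
import Groth.Agent.Lib.Helper21.TensorAlg

/-!
Helper library (helper21): tensoring a locally bijective morphism of presheaves of modules with a
presheaf of modules gives a locally bijective morphism; consequences for sheafification.
-/

set_option autoImplicit false
universe u
open CategoryTheory MonoidalCategory Opposite Limits TensorProduct

namespace Groth.Agent.Lib.Helper21.TensorW

open Groth.Agent.Lib.Helper21.TensorAlg

variable {C : Type u} [SmallCategory C] (J : GrothendieckTopology C) {R : Cᵒᵖ ⥤ CommRingCat.{u}}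

section restr

variable (P Q : PresheafOfModules.{u} (R ⋙ forget₂ CommRingCat RingCat))

/-- the restriction map of `P` as an additive map -/
noncomputable def rmap {X Y : Cᵒᵖ} (g : X ⟶ Y) : P.obj X →+ P.obj Y := (P.presheaf.map g).hom

theorem rmap_smul {X Y : Cᵒᵖ} (g : X ⟶ Y) (a : R.obj X) (m : P.obj X) :
    rmap P g (a • m) = (R.map g).hom a • rmap P g m :=
  P.map_smul g a m

theorem tensor_map_eq {X Y : Cᵒᵖ} (g : X ⟶ Y) (t : P.obj X ⊗[R.obj X] Q.obj X) :
    rmap (P ⊗ Q) g t =
      semiTensor (R.map g).hom (rmap P g) (rmap_smul P g) (rmap Q g) (rmap_smul Q g) t := by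
  induction t using TensorProduct.induction_on with
  | zero => exact (map_zero (rmap (P ⊗ Q) g)).trans (map_zero _).symm
  | tmul p q => rfl
  | add t t' ht ht' =>
    exact (map_add (rmap (P ⊗ Q) g) t t').trans
      ((congrArg₂ (· + ·) ht ht').trans (map_add _ t t').symm)

end restr

section whisker

variable {P P' : PresheafOfModules.{u} (R ⋙ forget₂ CommRingCat RingCat)} (f : P ⟶ P')
  (Q : PresheafOfModules.{u} (R ⋙ forget₂ CommRingCat RingCat))

/-- the components of `f` as additive maps -/
noncomputable def amap (X : Cᵒᵖ) : P.obj X →+ P'.obj X :=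
  (((PresheafOfModules.toPresheaf _).map f).app X).hom

theorem amap_rmap {X Y : Cᵒᵖ} (g : X ⟶ Y) (p : P.obj X) :
    amap f Y (rmap P g p) = rmap P' g (amap f X p) :=
  PresheafOfModules.naturality_apply f g p

theorem amap_whiskerRight_tmul (X : Cᵒᵖ) (p : P.obj X) (q : Q.obj X) :
    amap (f ▷ Q) X (p ⊗ₜ q) = (amap f X p) ⊗ₜ q := rfl

theorem amap_whiskerRight (X : Cᵒᵖ) (t : P.obj X ⊗[R.obj X] Q.obj X) :
    amap (f ▷ Q) X t = (f.app X).hom.rTensor (Q.obj X) t := rfl

theorem mem_imageSieve_iff {U V : C} (g : V ⟶ U) (s : P'.obj (op U)) :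
    Presheaf.imageSieve ((PresheafOfModules.toPresheaf _).map f) s g ↔
      ∃ t : P.obj (op V), amap f (op V) t = rmap P' g.op s := Iff.rfl

theorem mem_equalizerSieve_iff {U V : C} (g : V ⟶ U) (s s' : P.obj (op U)) :
    Presheaf.equalizerSieve (F := P.presheaf) s s' g ↔ rmap P g.op s = rmap P g.op s' := Iff.rfl

end whisker

section locSurj

variable {P P' : PresheafOfModules.{u} (R ⋙ forget₂ CommRingCat RingCat)} (f : P ⟶ P')
  (Q : PresheafOfModules.{u} (R ⋙ forget₂ CommRingCat RingCat))

theorem imageSieve_whiskerRight_mem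
    [Presheaf.IsLocallySurjective J ((PresheafOfModules.toPresheaf _).map f)] {U : C}
    (t : P'.obj (op U) ⊗[R.obj (op U)] Q.obj (op U)) :
    Presheaf.imageSieve ((PresheafOfModules.toPresheaf _).map (f ▷ Q)) (U := U) t ∈ J U := by
  induction t using TensorProduct.induction_on with
  | zero =>
    refine J.superset_covering ?_ (J.top_mem U)
    intro V g _
    rw [mem_imageSieve_iff]
    exact ⟨0, (map_zero _).trans (map_zero (rmap (P' ⊗ Q) g.op)).symm⟩
  | tmul p' q =>
    refine J.superset_covering ?_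
      (Presheaf.imageSieve_mem J ((PresheafOfModules.toPresheaf _).map f) (U := op U) p')
    intro V g hg
    rw [mem_imageSieve_iff] at hg ⊢
    obtain ⟨p, hp⟩ := hg
    refine ⟨p ⊗ₜ rmap Q g.op q, ?_⟩
    rw [amap_whiskerRight_tmul, hp]
    rfl
  | add t t' ht ht' =>
    refine J.superset_covering ?_ (J.intersection_covering ht ht')
    intro V g hg
    obtain ⟨h1, h2⟩ := hg
    rw [mem_imageSieve_iff] at h1 h2 ⊢
    obtain ⟨s, hs⟩ := h1
    obtain ⟨s', hs'⟩ := h2
    refine ⟨s + s', ?_⟩
    exact (map_add (amap (f ▷ Q) (op V)) s s').trans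
      ((congrArg₂ (· + ·) hs hs').trans (map_add (rmap (P' ⊗ Q) g.op) t t').symm)

theorem isLocallySurjective_whiskerRight
    [Presheaf.IsLocallySurjective J ((PresheafOfModules.toPresheaf _).map f)] :
    Presheaf.IsLocallySurjective J ((PresheafOfModules.toPresheaf _).map (f ▷ Q)) where
  imageSieve_mem {U} t := imageSieve_whiskerRight_mem J f Q t

end locSurj

section finset

theorem finset_inf_apply {α : Type*} [DecidableEq α] {U : C} (s : Finset α) (F : α → Sieve U)
    {V : C} (g : V ⟶ U) : (s.inf F) g ↔ ∀ x ∈ s, F x g := by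
  induction s using Finset.induction_on with
  | empty => simp
  | insert a s _ ih =>
    rw [Finset.inf_insert, Sieve.inter_apply, ih]
    simp

theorem finset_inf_mem {α : Type*} [DecidableEq α] {U : C} (s : Finset α) (F : α → Sieve U)
    (hF : ∀ x ∈ s, F x ∈ J U) : s.inf F ∈ J U := by
  induction s using Finset.induction_on with
  | empty => simpa using J.top_mem U
  | insert a s _ ih =>
    rw [Finset.inf_insert]
    exact J.intersection_covering (hF a (Finset.mem_insert_self a s))
      (ih (fun x hx => hF x (Finset.mem_insert_of_mem hx)))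

end finset

section locInj

variable {P P' : PresheafOfModules.{u} (R ⋙ forget₂ CommRingCat RingCat)} (f : P ⟶ P')
  (Q : PresheafOfModules.{u} (R ⋙ forget₂ CommRingCat RingCat))

theorem rmap_comp (P : PresheafOfModules.{u} (R ⋙ forget₂ CommRingCat RingCat)) {X Y Z : Cᵒᵖ}
    (g : X ⟶ Y) (h : Y ⟶ Z) (p : P.obj X) : rmap P (g ≫ h) p = rmap P h (rmap P g p) := by
  unfold rmap
  rw [Functor.map_comp]
  rfl

theorem locally_zero_of_mem_range
    [Presheaf.IsLocallyInjective J ((PresheafOfModules.toPresheaf _).map f)] {V : C}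
    (z : (LinearMap.ker (f.app (op V)).hom) ⊗[R.obj (op V)] Q.obj (op V)) :
    Presheaf.equalizerSieve (F := (P ⊗ Q).presheaf) (X := op V)
      ((LinearMap.ker (f.app (op V)).hom).subtype.rTensor (Q.obj (op V)) z) 0 ∈ J V := by
  induction z using TensorProduct.induction_on with
  | zero =>
    refine J.superset_covering ?_ (J.top_mem V)
    intro W h _
    rw [mem_equalizerSieve_iff]
    exact congrArg (rmap (P ⊗ Q) h.op) (map_zero _)
  | tmul k q =>
    have hk : amap f (op V) k.1 = amap f (op V) 0 := by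
      rw [map_zero]
      exact k.2
    have := Presheaf.equalizerSieve_mem J ((PresheafOfModules.toPresheaf _).map f)
      (X := op V) k.1 0 hk
    refine J.superset_covering ?_ this
    intro W h hh
    have hh' : rmap P h.op k.1 = rmap P h.op 0 := hh
    show rmap (P ⊗ Q) h.op ((LinearMap.ker (f.app (op V)).hom).subtype.rTensor
        (Q.obj (op V)) (k ⊗ₜ q)) = rmap (P ⊗ Q) h.op 0
    have e1 : rmap (P ⊗ Q) h.op ((LinearMap.ker (f.app (op V)).hom).subtype.rTensor
        (Q.obj (op V)) (k ⊗ₜ q)) = rmap P h.op k.1 ⊗ₜ rmap Q h.op q := rfl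
    rw [e1, hh', map_zero, zero_tmul]
    exact (map_zero (rmap (P ⊗ Q) h.op)).symm
  | add z z' hz hz' =>
    refine J.superset_covering ?_ (J.intersection_covering hz hz')
    intro W h hh
    obtain ⟨h1, h2⟩ := hh
    have h1' : rmap (P ⊗ Q) h.op ((LinearMap.ker (f.app (op V)).hom).subtype.rTensor
        (Q.obj (op V)) z) = rmap (P ⊗ Q) h.op 0 := h1
    have h2' : rmap (P ⊗ Q) h.op ((LinearMap.ker (f.app (op V)).hom).subtype.rTensor
        (Q.obj (op V)) z') = rmap (P ⊗ Q) h.op 0 := h2
    have z0 : rmap (P ⊗ Q) h.op 0 = 0 := map_zero _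
    show rmap (P ⊗ Q) h.op ((LinearMap.ker (f.app (op V)).hom).subtype.rTensor
        (Q.obj (op V)) (z + z')) = rmap (P ⊗ Q) h.op 0
    rw [map_add]
    refine (map_add (rmap (P ⊗ Q) h.op) _ _).trans ?_
    rw [h1', h2', z0, add_zero]

end locInj

section locInj2

variable {P P' : PresheafOfModules.{u} (R ⋙ forget₂ CommRingCat RingCat)} (f : P ⟶ P')
  (Q : PresheafOfModules.{u} (R ⋙ forget₂ CommRingCat RingCat))

open Classical in
theorem equalizerSieve_whiskerRight_mem
    [Presheaf.IsLocallyInjective J ((PresheafOfModules.toPresheaf _).map f)]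
    [Presheaf.IsLocallySurjective J ((PresheafOfModules.toPresheaf _).map f)] {U : C}
    (t : P.obj (op U) ⊗[R.obj (op U)] Q.obj (op U))
    (ht : (f.app (op U)).hom.rTensor (Q.obj (op U)) t = 0) :
    Presheaf.equalizerSieve (F := (P ⊗ Q).presheaf) (X := op U) t 0 ∈ J U := by
  obtain ⟨s, hs⟩ := alg_key (f.app (op U)).hom t ht
  let S₁ : Sieve U := s.inf (fun x =>
    Presheaf.imageSieve ((PresheafOfModules.toPresheaf _).map f) (U := U) x)
  have hS₁ : S₁ ∈ J U := finset_inf_mem J s _ (fun x _ =>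
    Presheaf.imageSieve_mem J ((PresheafOfModules.toPresheaf _).map f) (U := op U) x)
  refine J.transitive hS₁ _ ?_
  intro V g hg
  have hg' := (finset_inf_apply s _ g).1 hg
  have hmem : ∀ x ∈ s, rmap P' g.op x ∈ LinearMap.range (f.app (op V)).hom := by
    intro x hx
    obtain ⟨y, hy⟩ := (mem_imageSieve_iff f g x).1 (hg' x hx)
    exact ⟨y, hy⟩
  have h1 := hs (R.map g.op).hom (f.app (op V)).hom (rmap P g.op) (rmap_smul P g.op)
    (rmap P' g.op) (rmap_smul P' g.op) (rmap Q g.op) (rmap_smul Q g.op)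
    (fun m => amap_rmap f g.op m) hmem
  rw [← tensor_map_eq] at h1
  obtain ⟨z, hz⟩ := h1
  refine J.superset_covering ?_ (locally_zero_of_mem_range J f Q z)
  intro W h hh
  have hh' : rmap (P ⊗ Q) h.op ((LinearMap.ker (f.app (op V)).hom).subtype.rTensor
        (Q.obj (op V)) z) = rmap (P ⊗ Q) h.op 0 := hh
  show rmap (P ⊗ Q) (h ≫ g).op t = rmap (P ⊗ Q) (h ≫ g).op 0
  have z0 : ∀ {X Y : Cᵒᵖ} (k : X ⟶ Y), rmap (P ⊗ Q) k 0 = 0 := fun k => map_zero _
  rw [op_comp, rmap_comp, ← hz, hh', z0, z0]

open Classical in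
theorem equalizerSieve_whiskerRight_mem' 
    [Presheaf.IsLocallyInjective J ((PresheafOfModules.toPresheaf _).map f)]
    [Presheaf.IsLocallySurjective J ((PresheafOfModules.toPresheaf _).map f)] {U : C}
    (x y : P.obj (op U) ⊗[R.obj (op U)] Q.obj (op U))
    (hxy : amap (f ▷ Q) (op U) x = amap (f ▷ Q) (op U) y) :
    Presheaf.equalizerSieve (F := (P ⊗ Q).presheaf) (X := op U) x y ∈ J U := by
  have ht : (f.app (op U)).hom.rTensor (Q.obj (op U)) (x - y) = 0 := by
    have : amap (f ▷ Q) (op U) (x - y) = 0 :=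
      (map_sub (amap (f ▷ Q) (op U)) x y).trans (sub_eq_zero.2 hxy)
    exact this
  refine J.superset_covering ?_ (equalizerSieve_whiskerRight_mem J f Q (x - y) ht)
  intro V g hg
  have hg' : rmap (P ⊗ Q) g.op (x - y) = rmap (P ⊗ Q) g.op 0 := hg
  show rmap (P ⊗ Q) g.op x = rmap (P ⊗ Q) g.op y
  have e1 : rmap (P ⊗ Q) g.op (x - y) = rmap (P ⊗ Q) g.op x - rmap (P ⊗ Q) g.op y :=
    map_sub (rmap (P ⊗ Q) g.op) x y
  have e2 : rmap (P ⊗ Q) g.op 0 = 0 := map_zero _
  rw [e1, e2, sub_eq_zero] at hg'
  exact hg'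

theorem isLocallyInjective_whiskerRight
    [Presheaf.IsLocallyInjective J ((PresheafOfModules.toPresheaf _).map f)]
    [Presheaf.IsLocallySurjective J ((PresheafOfModules.toPresheaf _).map f)] :
    Presheaf.IsLocallyInjective J ((PresheafOfModules.toPresheaf _).map (f ▷ Q)) where
  equalizerSieve_mem {X} x y h := by
    obtain ⟨U⟩ := X
    exact equalizerSieve_whiskerRight_mem' J f Q x y h

end locInj2

section sheafify

variable {J}
variable (O : Sheaf J CommRingCat.{u})

open ModSite in
/-- sheafification of presheaves of modules over `O` (it is `ModSite.sheafify`) -/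
noncomputable abbrev shf :
    PresheafOfModules.{u} (O.obj ⋙ forget₂ CommRingCat.{u} RingCat.{u}) ⥤ ModSite.Mod O :=
  ModSite.sheafify O

variable {O}

theorem isIso_shf_map_iff {P P' : PresheafOfModules.{u} (O.obj ⋙ forget₂ CommRingCat.{u} RingCat.{u})}
    (f : P ⟶ P') :
    IsIso ((shf O).map f) ↔
      Presheaf.IsLocallyInjective J ((PresheafOfModules.toPresheaf _).map f) ∧
        Presheaf.IsLocallySurjective J ((PresheafOfModules.toPresheaf _).map f) := by
  rw [← isIso_iff_of_reflects_iso _ (SheafOfModules.toSheaf.{u} (ModSite.ringSh O)),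
    ← GrothendieckTopology.W_iff_isLocallyBijective]
  exact (GrothendieckTopology.W_iff (J := J) (A := AddCommGrpCat.{u})
    ((PresheafOfModules.toPresheaf _).map f)).symm

theorem isIso_shf_map_whiskerRight
    {P P' : PresheafOfModules.{u} (O.obj ⋙ forget₂ CommRingCat.{u} RingCat.{u})}
    (f : P ⟶ P') [IsIso ((shf O).map f)]
    (Q : PresheafOfModules.{u} (O.obj ⋙ forget₂ CommRingCat.{u} RingCat.{u})) :
    IsIso ((shf O).map (f ▷ Q)) := by
  obtain ⟨h1, h2⟩ := (isIso_shf_map_iff f).1 inferInstance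
  rw [isIso_shf_map_iff]
  exact ⟨isLocallyInjective_whiskerRight J f Q, isLocallySurjective_whiskerRight J f Q⟩

theorem isIso_shf_map_whiskerLeft
    {P P' : PresheafOfModules.{u} (O.obj ⋙ forget₂ CommRingCat.{u} RingCat.{u})}
    (Q : PresheafOfModules.{u} (O.obj ⋙ forget₂ CommRingCat.{u} RingCat.{u}))
    (f : P ⟶ P') [IsIso ((shf O).map f)] :
    IsIso ((shf O).map (Q ◁ f)) := by
  have e : Q ◁ f = (β_ Q P).hom ≫ (f ▷ Q) ≫ (β_ P' Q).hom := by
    rw [BraidedCategory.braiding_naturality_left, ← Category.assoc,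
      SymmetricCategory.symmetry, Category.id_comp]
  rw [e, Functor.map_comp, Functor.map_comp]
  have := isIso_shf_map_whiskerRight f Q
  infer_instance

theorem isIso_shf_map_tensorHom
    {P P' Q Q' : PresheafOfModules.{u} (O.obj ⋙ forget₂ CommRingCat.{u} RingCat.{u})}
    (f : P ⟶ P') (g : Q ⟶ Q') [IsIso ((shf O).map f)] [IsIso ((shf O).map g)] :
    IsIso ((shf O).map (f ⊗ₘ g)) := by
  rw [MonoidalCategory.tensorHom_def, Functor.map_comp]
  have := isIso_shf_map_whiskerRight f Q
  have := isIso_shf_map_whiskerLeft P' g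
  infer_instance

end sheafify

section unit

variable {J}
variable (O : Sheaf J CommRingCat.{u})

/-- the sheafification adjunction over `O` -/
noncomputable abbrev shfAdj :=
  PresheafOfModules.sheafificationAdjunction (𝟙 (ModSite.ringSh O).obj)

instance isIso_shf_map_unit (M : PresheafOfModules.{u} (O.obj ⋙ forget₂ CommRingCat.{u} RingCat.{u})) :
    IsIso ((shf O).map ((shfAdj O).unit.app M)) := by
  have h := (shfAdj O).left_triangle_components M
  have : IsIso ((shfAdj O).counit.app ((shf O).obj M)) := inferInstance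
  have h2 : IsIso ((shf O).map ((shfAdj O).unit.app M) ≫
      (shfAdj O).counit.app ((shf O).obj M)) := by
    rw [h]; infer_instance
  exact IsIso.of_isIso_comp_right _ ((shfAdj O).counit.app ((shf O).obj M))

end unit

end Groth.Agent.Lib.Helper21.TensorW
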