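import Mathlib
import Groth.Prelude.Def_ModSite
import Groth.Agent.Lib.Helper21.TensorW
import Groth.Agent.Lib.Helper21.ModFree

/-!
Helper library (helper21): `- ⊗_O N` on sheaves of modules preserves colimits and is a left adjoint.
-/

set_option autoImplicit false
universe w w' u
open CategoryTheory MonoidalCategory Opposite Limits

namespace Groth.Agent.Lib.Helper21.TensorAdj

section generic

variable {P S E : Type*} [Category P] [Category S] [Category E] {L : P ⥤ S} {ι : S ⥤ P}

theorem preservesColimitsOfSize_of_reflective (adj : L ⊣ ι) [ι.Full] [ι.Faithful] (T : S ⥤ E)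
    [HasColimitsOfSize.{w, w'} P] [PreservesColimitsOfSize.{w, w'} (L ⋙ T)] :
    PreservesColimitsOfSize.{w, w'} T where
  preservesColimitsOfShape {K} _ :=
    { preservesColimit := fun {D} => by
        have : PreservesColimitsOfSize.{w, w'} L := adj.leftAdjoint_preservesColimits
        let c := colimit.cocone (D ⋙ ι)
        have h1 : IsColimit (L.mapCocone c) := isColimitOfPreserves L (colimit.isColimit _)
        have h2 : IsColimit (T.mapCocone (L.mapCocone c)) :=
          isColimitOfPreserves (L ⋙ T) (colimit.isColimit (D ⋙ ι))
        have : PreservesColimit ((D ⋙ ι) ⋙ L) T :=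
          preservesColimit_of_preserves_colimit_cocone h1 h2
        have e : (D ⋙ ι) ⋙ L ≅ D :=
          Functor.associator D ι L ≪≫ Functor.isoWhiskerLeft D (asIso adj.counit) ≪≫
            Functor.rightUnitor D
        exact preservesColimit_of_iso_diagram T e }

end generic

open Groth.Agent.Lib.Helper21.TensorW

section tens

variable {C : Type u} [SmallCategory C] {J : GrothendieckTopology C} (O : Sheaf J CommRingCat.{u})
  (N : ModSite.Mod O)

/-- presheaves of modules over `O`, in the spelling carrying the monoidal structure -/
abbrev PM := PresheafOfModules.{u} (O.obj ⋙ forget₂ CommRingCat.{u} RingCat.{u})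

variable {O} in
/-- the underlying presheaf of modules -/
abbrev pv (M : ModSite.Mod O) : PM O := M.val

variable {O} in
/-- the underlying morphism of presheaves of modules -/
abbrev pvMap {M M' : ModSite.Mod O} (φ : M ⟶ M') : pv M ⟶ pv M' := φ.val

/-- `- ⊗_O N` on sheaves of modules -/
noncomputable abbrev tens : ModSite.Mod O ⥤ ModSite.Mod O := (ModSite.tensorBi O).flip.obj N

lemma tens_obj (M : ModSite.Mod O) :
    (tens O N).obj M = (shf O).obj (pv M ⊗ pv N) := rfl

lemma tens_map {M M' : ModSite.Mod O} (φ : M ⟶ M') :
    (tens O N).map φ = (shf O).map (pvMap φ ▷ pv N) := rfl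

/-- the unit of sheafification, in the spelling with the monoidal structure -/
noncomputable abbrev unitP (P : PM O) : P ⟶ pv ((shf O).obj P) := (shfAdj O).unit.app P

instance (P : PM O) : IsIso ((shf O).map (unitP O P)) := isIso_shf_map_unit O P

lemma unitP_naturality {P P' : PM O} (g : P ⟶ P') :
    g ≫ unitP O P' = unitP O P ≫ pvMap ((shf O).map g) :=
  (shfAdj O).unit.naturality g

/-- sheafify then tensor = tensor then sheafify -/
noncomputable def compIso : (tensorRight (pv N)) ⋙ shf O ≅ shf O ⋙ tens O N :=
  NatIso.ofComponents
    (fun P =>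
      @asIso _ _ _ _ ((shf O).map (unitP O P ▷ pv N))
        (isIso_shf_map_whiskerRight (unitP O P) (pv N)))
    (by
      intro P P' g
      dsimp only [Functor.comp_map, asIso_hom]
      rw [tens_map]
      show (shf O).map (g ▷ pv N) ≫ _ = _
      have e : (g ▷ pv N) ≫ (unitP O P' ▷ pv N) =
          (unitP O P ▷ pv N) ≫ (pvMap ((shf O).map g) ▷ pv N) := by
        rw [← comp_whiskerRight, ← comp_whiskerRight, unitP_naturality]
      exact ((shf O).map_comp _ _).symm.trans
        ((congrArg (shf O).map e).trans ((shf O).map_comp _ _)))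

end tens

section colim

variable {C : Type u} [SmallCategory C] {J : GrothendieckTopology C} (O : Sheaf J CommRingCat.{u})
  (N : ModSite.Mod O)

instance preservesColimits_tens : PreservesColimitsOfSize.{u, u} (tens O N) := by
  have h0 : PreservesColimitsOfSize.{u, u} (shf O) := (shfAdj O).leftAdjoint_preservesColimits
  have h1 : PreservesColimitsOfSize.{u, u} (tensorRight (pv N) ⋙ shf O) := inferInstance
  have h2 : PreservesColimitsOfSize.{u, u} (shf O ⋙ tens O N) :=
    preservesColimits_of_natIso (compIso O N)
  exact @preservesColimitsOfSize_of_reflective _ _ _ _ _ _ _ _ (shfAdj O) _ _ (tens O N) _ h2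

end colim

section saft

variable {C : Type u} [SmallCategory C] {J : GrothendieckTopology C} (O : Sheaf J CommRingCat.{u})

open Groth.Agent.Lib.Helper21.ModFree

/-- the free modules `freeOn O X` -/
def gens : ObjectProperty (ModSite.Mod O) := ObjectProperty.ofObj (fun X : C => ModSite.freeOn O X)

instance : ObjectProperty.Small.{u} (gens O) := by
  unfold gens; infer_instance

theorem gens_isSeparating : (gens O).IsSeparating := by
  intro M M' f g h
  apply SheafOfModules.hom_ext
  apply PresheafOfModules.hom_ext
  intro X
  ext s
  obtain ⟨X⟩ := X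
  have h1 := h (ModSite.freeOn O X) (ObjectProperty.ofObj_apply _ X)
    ((freeOnHomEquiv O X M).symm s)
  have h2 := congrArg (freeOnHomEquiv O X M') h1
  rw [freeOnHomEquiv_comp, freeOnHomEquiv_comp, Equiv.apply_symm_apply] at h2
  exact h2

theorem wellPowered_mod : WellPowered.{u} (ModSite.Mod O) :=
  wellPowered_of_isDetecting (gens_isSeparating O).isDetecting

theorem wellPowered_mod_op : WellPowered.{u} (ModSite.Mod O)ᵒᵖ :=
  have := wellPowered_mod O
  Abelian.wellPowered_opposite

theorem isLeftAdjoint_tens (N : ModSite.Mod O) : (tens O N).IsLeftAdjoint :=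
  have := wellPowered_mod_op O
  isLeftAdjoint_of_preservesColimits_of_isSeparating (gens_isSeparating O) (tens O N)

end saft

end Groth.Agent.Lib.Helper21.TensorAdj
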