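import Mathlib
import Groth.Prelude.Def_ModSite
import Groth.Agent.Lib.Helper21.TensorAdj

/-!
Helper library (helper21): symmetry, associativity and unit for the tensor product of sheaves of
modules on a ringed site (`ModSite.tensorBi`).
-/

set_option autoImplicit false
universe u
open CategoryTheory MonoidalCategory Opposite Limits

namespace Groth.Agent.Lib.Helper21.TensorMon

open Groth.Agent.Lib.Helper21.TensorW Groth.Agent.Lib.Helper21.TensorAdj

variable {C : Type u} [SmallCategory C] {J : GrothendieckTopology C} (O : Sheaf J CommRingCat.{u})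

/-- `L ⊗_O -` on sheaves of modules -/
noncomputable abbrev tensL (L : ModSite.Mod O) : ModSite.Mod O ⥤ ModSite.Mod O :=
  (ModSite.tensorBi O).obj L

lemma tensL_obj (L M : ModSite.Mod O) : (tensL O L).obj M = (shf O).obj (pv L ⊗ pv M) := rfl

lemma tensL_map (L : ModSite.Mod O) {M M' : ModSite.Mod O} (φ : M ⟶ M') :
    (tensL O L).map φ = (shf O).map (pv L ◁ pvMap φ) := rfl

/-- symmetry: `L ⊗ - ≅ - ⊗ L` -/
noncomputable def braidIso (L : ModSite.Mod O) : tensL O L ≅ tens O L :=
  NatIso.ofComponents (fun M => (shf O).mapIso (β_ (pv L) (pv M)))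
    (by
      intro M M' φ
      rw [tensL_map, tens_map]
      dsimp only [Functor.mapIso_hom]
      exact ((shf O).map_comp _ _).symm.trans
        ((congrArg (shf O).map (BraidedCategory.braiding_naturality_right (pv L) (pvMap φ))).trans
          ((shf O).map_comp _ _)))

instance preservesColimits_tensL (L : ModSite.Mod O) :
    PreservesColimitsOfSize.{u, u} (tensL O L) :=
  preservesColimits_of_natIso (braidIso O L).symm

theorem isLeftAdjoint_tensL (L : ModSite.Mod O) : (tensL O L).IsLeftAdjoint :=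
  have := isLeftAdjoint_tens O L
  Functor.isLeftAdjoint_of_iso (braidIso O L).symm

section assoc

/-- the forgetful functor to presheaves of modules, in the spelling with the monoidal structure -/
abbrev fPM : ModSite.Mod O ⥤ PM O := SheafOfModules.forget (ModSite.ringSh O)

lemma tensL_eq (L : ModSite.Mod O) : tensL O L = fPM O ⋙ tensorLeft (pv L) ⋙ shf O := rfl

/-- sheafify then `L ⊗ -` = `L.val ⊗ -` then sheafify -/
noncomputable def compIsoL (L : ModSite.Mod O) : tensorLeft (pv L) ⋙ shf O ≅ shf O ⋙ tensL O L :=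
  NatIso.ofComponents
    (fun P => @asIso _ _ _ _ ((shf O).map (pv L ◁ unitP O P))
      (isIso_shf_map_whiskerLeft (pv L) (unitP O P)))
    (by
      intro P P' g
      dsimp only [Functor.comp_map, asIso_hom]
      rw [tensL_map]
      show (shf O).map (pv L ◁ g) ≫ _ = _
      have e : (pv L ◁ g) ≫ (pv L ◁ unitP O P') =
          (pv L ◁ unitP O P) ≫ (pv L ◁ pvMap ((shf O).map g)) := by
        rw [← MonoidalCategory.whiskerLeft_comp, ← MonoidalCategory.whiskerLeft_comp,
          unitP_naturality]
      exact ((shf O).map_comp _ _).symm.trans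
        ((congrArg (shf O).map e).trans ((shf O).map_comp _ _)))

/-- `P ⊗ -` then sheafify is `(sheafification of P) ⊗ -` -/
noncomputable def tensLShfIso (P : PM O) :
    fPM O ⋙ tensorLeft P ⋙ shf O ≅ tensL O ((shf O).obj P) :=
  NatIso.ofComponents
    (fun M => @asIso _ _ _ _ ((shf O).map (unitP O P ▷ pv M))
      (isIso_shf_map_whiskerRight (unitP O P) (pv M)))
    (by
      intro M M' φ
      dsimp only [asIso_hom]
      rw [tensL_map]
      show (shf O).map (P ◁ pvMap φ) ≫ _ = _
      have e : (P ◁ pvMap φ) ≫ (unitP O P ▷ pv M') =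
          (unitP O P ▷ pv M) ≫ (pv ((shf O).obj P) ◁ pvMap φ) := by
        rw [whisker_exchange]
      exact ((shf O).map_comp _ _).symm.trans
        ((congrArg (shf O).map e).trans ((shf O).map_comp _ _)))

end assoc

section assoc2

/-- associativity: `(L ⊗ N) ⊗ - ≅ L ⊗ (N ⊗ -)` -/
noncomputable def assocIso (L N : ModSite.Mod O) :
    tensL O ((tensL O L).obj N) ≅ tensL O N ⋙ tensL O L :=
  (tensLShfIso O (pv L ⊗ pv N)).symm ≪≫
    Functor.isoWhiskerLeft (fPM O)
      (Functor.isoWhiskerRight (MonoidalCategory.tensorLeftTensor (pv L) (pv N)) (shf O)) ≪≫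
    Functor.isoWhiskerLeft (fPM O ⋙ tensorLeft (pv N)) (compIsoL O L)

end assoc2

section flat

variable {O}

/-- `- ⊗ (G ⊗ F) ≅ (- ⊗ F) ⋙ (- ⊗ G)` up to symmetry -/
noncomputable def tensTensIso (G F : ModSite.Mod O) :
    tens O ((tensL O G).obj F) ≅ tens O F ⋙ tens O G :=
  (braidIso O _).symm ≪≫ assocIso O G F ≪≫
    Functor.isoWhiskerLeft (tensL O F) (braidIso O G) ≪≫
    Functor.isoWhiskerRight (braidIso O F) (tens O G)

theorem isFlat_iff (F : ModSite.Mod O) :
    ModSite.IsFlat F ↔ PreservesFiniteLimits (tens O F) ∧ PreservesFiniteColimits (tens O F) :=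
  Iff.rfl

theorem isFlat_iff_preservesFiniteLimits (F : ModSite.Mod O) :
    ModSite.IsFlat F ↔ PreservesFiniteLimits (tens O F) := by
  rw [isFlat_iff]
  constructor
  · exact fun h => h.1
  · intro h
    refine ⟨h, ?_⟩
    have : PreservesColimitsOfSize.{u, u} (tens O F) := preservesColimits_tens O F
    exact PreservesColimitsOfSize.preservesFiniteColimits (tens O F)

theorem isFlat_tensor (G F : ModSite.Mod O) (hG : ModSite.IsFlat G) (hF : ModSite.IsFlat F) :
    ModSite.IsFlat ((tensL O G).obj F) := by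
  rw [isFlat_iff_preservesFiniteLimits] at hG hF ⊢
  have : PreservesFiniteLimits (tens O F ⋙ tens O G) := comp_preservesFiniteLimits _ _
  exact preservesFiniteLimits_of_natIso (tensTensIso G F).symm

end flat

section unit

/-- the counit iso `sheafify M.val ≅ M` -/
noncomputable def shfValIso (M : ModSite.Mod O) : (shf O).obj (pv M) ≅ M :=
  @asIso _ _ _ _ ((shfAdj O).counit.app M) (NatIso.isIso_app_of_isIso _ _)

lemma shfValIso_naturality {M M' : ModSite.Mod O} (φ : M ⟶ M') :
    (shf O).map (pvMap φ) ≫ (shfValIso O M').hom = (shfValIso O M).hom ≫ φ := by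
  have h := (shfAdj O).counit.naturality φ
  exact h

/-- unit: `O ⊗ - ≅ id` -/
noncomputable def unitIso : tensL O (ModSite.unit O) ≅ 𝟭 (ModSite.Mod O) :=
  NatIso.ofComponents
    (fun M => (shf O).mapIso (λ_ (pv M)) ≪≫ shfValIso O M)
    (by
      intro M M' φ
      rw [tensL_map]
      dsimp only [Iso.trans_hom, Functor.mapIso_hom, Functor.id_map]
      have e : ((𝟙_ (PM O)) ◁ pvMap φ) ≫ (λ_ (pv M')).hom = (λ_ (pv M)).hom ≫ pvMap φ :=
        leftUnitor_naturality (pvMap φ)
      have e2 : (shf O).map ((𝟙_ (PM O)) ◁ pvMap φ) ≫ (shf O).map (λ_ (pv M')).hom =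
          (shf O).map (λ_ (pv M)).hom ≫ (shf O).map (pvMap φ) :=
        ((shf O).map_comp _ _).symm.trans
          ((congrArg (shf O).map e).trans ((shf O).map_comp _ _))
      calc (shf O).map ((𝟙_ (PM O)) ◁ pvMap φ) ≫ (shf O).map (λ_ (pv M')).hom ≫
            (shfValIso O M').hom
          = ((shf O).map ((𝟙_ (PM O)) ◁ pvMap φ) ≫ (shf O).map (λ_ (pv M')).hom) ≫
            (shfValIso O M').hom := (Category.assoc _ _ _).symm
        _ = ((shf O).map (λ_ (pv M)).hom ≫ (shf O).map (pvMap φ)) ≫ (shfValIso O M').hom := by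
            rw [e2]
        _ = (shf O).map (λ_ (pv M)).hom ≫ (shf O).map (pvMap φ) ≫ (shfValIso O M').hom :=
            Category.assoc _ _ _
        _ = (shf O).map (λ_ (pv M)).hom ≫ (shfValIso O M).hom ≫ φ := by
            rw [shfValIso_naturality]
        _ = ((shf O).map (λ_ (pv M)).hom ≫ (shfValIso O M).hom) ≫ φ :=
            (Category.assoc _ _ _).symm)

end unit

end Groth.Agent.Lib.Helper21.TensorMon
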