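import Mathlib

/-!
# Acyclic resolutions compute a contravariant cohomological δ-functor

`ContraDelta T`: a family `T p : 𝒜 → ℬ` (objects only) with contravariant maps and, for every short
exact sequence, a long exact sequence (existence form).  `homology_iso`: for a left resolution
`L_• → F` with `T p (L_j) = 0` for `p ≥ 1`, the cohomology of `T 0 (L_•)` is `T i F`.
-/

open CategoryTheory CategoryTheory.Limits

namespace Groth.Agent.Lib.helper21.AcycRes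

universe v v' u u'

variable {𝒜 : Type u} [Category.{v} 𝒜] [Abelian 𝒜] {ℬ : Type u'} [Category.{v'} ℬ] [Abelian ℬ]

/-- a contravariant cohomological δ-functor, existence form -/
structure ContraDelta (T : ℕ → 𝒜 → ℬ) where
  map : ∀ (p : ℕ) {M M' : 𝒜}, (M' ⟶ M) → (T p M ⟶ T p M')
  map_comp : ∀ (p : ℕ) {M M' M'' : 𝒜} (a : M'' ⟶ M') (b : M' ⟶ M),
    map p (a ≫ b) = map p b ≫ map p a
  les : ∀ (S : ShortComplex 𝒜), S.ShortExact →
    Mono (map 0 S.g) ∧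
    (∀ p : ℕ, ∃ w : map p S.g ≫ map p S.f = 0, (ShortComplex.mk _ _ w).Exact) ∧
    ∃ δ : ∀ p : ℕ, T p S.X₁ ⟶ T (p + 1) S.X₃, ∀ p : ℕ,
      (∃ w : map p S.f ≫ δ p = 0, (ShortComplex.mk _ _ w).Exact) ∧
      (∃ w : δ p ≫ map (p + 1) S.g = 0, (ShortComplex.mk _ _ w).Exact)

section Syz

variable {F : 𝒜} (L : ChainComplex 𝒜 ℕ) (π : L.X 0 ⟶ F) (hπ : L.d 1 0 ≫ π = 0)

/-- the syzygies of the resolution: `Z 0 = F`, `Z 1 = ker π`, `Z (j+2) = ker d_{j+1}`. -/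
noncomputable def Z : ℕ → 𝒜
  | 0 => F
  | 1 => kernel π
  | j + 2 => kernel (L.d (j + 1) j)

/-- the inclusions `Z (j+1) ⟶ L_j`. -/
noncomputable def ι : ∀ j : ℕ, Z L π (j + 1) ⟶ L.X j
  | 0 => kernel.ι π
  | j + 1 => kernel.ι (L.d (j + 1) j)

/-- the projections `L_j ⟶ Z j`. -/
noncomputable def ε : ∀ j : ℕ, L.X j ⟶ Z L π j
  | 0 => π
  | 1 => kernel.lift π (L.d 1 0) hπ
  | j + 2 => kernel.lift (L.d (j + 1) j) (L.d (j + 2) (j + 1)) (L.d_comp_d _ _ _)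

instance mono_ι (j : ℕ) : Mono (ι L π j) := by
  cases j with
  | zero => exact (inferInstance : Mono (kernel.ι π))
  | succ j => exact (inferInstance : Mono (kernel.ι (L.d (j + 1) j)))

lemma ε_ι (j : ℕ) : ε L π hπ (j + 1) ≫ ι L π j = L.d (j + 1) j := by
  cases j <;> (dsimp only [ε, ι]; exact kernel.lift_ι _ _ _)

lemma ι_ε (j : ℕ) : ι L π j ≫ ε L π hπ j = 0 := by
  cases j with
  | zero => dsimp only [ε, ι]; exact kernel.condition _
  | succ j =>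
    rw [← cancel_mono (ι L π j), Category.assoc, ε_ι, zero_comp]
    dsimp only [ι]; exact kernel.condition _

variable [Epi π] (hex0 : (ShortComplex.mk (L.d 1 0) π hπ).Exact) (hex : ∀ j : ℕ, L.ExactAt (j + 1))

include hex0 hex in
lemma epi_ε (j : ℕ) : Epi (ε L π hπ j) := by
  match j with
  | 0 => exact (inferInstance : Epi π)
  | 1 => dsimp only [ε]; exact hex0.epi_kernelLift
  | j + 2 =>
    dsimp only [ε]
    have h := (L.exactAt_iff' (j + 2) (j + 1) j (by simp) (by simp)).1 (hex j)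
    exact h.epi_kernelLift

include hex0 hex in
lemma shortExact (j : ℕ) : (ShortComplex.mk (ι L π j) (ε L π hπ j) (ι_ε L π hπ j)).ShortExact := by
  haveI := epi_ε L π hπ hex0 hex j
  refine ShortComplex.ShortExact.mk' ?_ (mono_ι L π j) this
  cases j with
  | zero =>
    exact ShortComplex.exact_of_f_is_kernel _ (kernelIsKernel π)
  | succ j =>
    refine ShortComplex.exact_of_f_is_kernel _ ?_
    exact isKernelOfComp (f := ε L π hπ (j + 1)) (ι L π j) (L.d (j + 1) j)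
      (kernelIsKernel (L.d (j + 1) j)) (ι_ε L π hπ (j + 1)) (ε_ι L π hπ j)

end Syz

section Main

/-- homology of a short complex from a kernel / cokernel presentation -/
lemma homology_iso_of (S : ShortComplex ℬ) {K H : ℬ} (i : K ⟶ S.X₂) [Mono i] (wi : i ≫ S.g = 0)
    (hi : (ShortComplex.mk i S.g wi).Exact) (f' : S.X₁ ⟶ K) (hf' : f' ≫ i = S.f)
    (π : K ⟶ H) [Epi π] (wπ : f' ≫ π = 0) (hπ : (ShortComplex.mk f' π wπ).Exact) :
    Nonempty (S.homology ≅ H) := by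
  let hk : IsLimit (KernelFork.ofι i wi) := hi.fIsKernel
  obtain rfl : f' = hk.lift (KernelFork.ofι S.f S.zero) := by
    apply Fork.IsLimit.hom_ext hk
    rw [Fork.IsLimit.lift_ι]
    exact hf'
  let h : S.LeftHomologyData :=
    { K := K, H := H, i := i, π := π, wi := wi, hi := hk
      wπ := wπ
      hπ := hπ.gIsCokernel }
  exact ⟨h.homologyIso⟩

variable {T : ℕ → 𝒜 → ℬ} (D : ContraDelta T)
variable {F : 𝒜} (L : ChainComplex 𝒜 ℕ) (π : L.X 0 ⟶ F) (hπ : L.d 1 0 ≫ π = 0)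
variable [Epi π] (hex0 : (ShortComplex.mk (L.d 1 0) π hπ).Exact) (hex : ∀ j : ℕ, L.ExactAt (j + 1))

include hex0 hex in
/-- `T 0 (Z j) → T 0 (L j) → T 0 (L (j+1))` is left exact. -/
lemma mono_and_exact_zero (j : ℕ) :
    Mono (D.map 0 (ε L π hπ j)) ∧
    ∃ w : D.map 0 (ε L π hπ j) ≫ D.map 0 (L.d (j + 1) j) = 0,
      (ShortComplex.mk _ _ w).Exact := by
  obtain ⟨hm, he, -⟩ := D.les _ (shortExact L π hπ hex0 hex j)
  obtain ⟨hm', -, -⟩ := D.les _ (shortExact L π hπ hex0 hex (j + 1))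
  obtain ⟨w, hw⟩ := he 0
  dsimp only at hm he hm' w hw
  refine ⟨hm, ?_⟩
  have hd : D.map 0 (L.d (j + 1) j) = D.map 0 (ι L π j) ≫ D.map 0 (ε L π hπ (j + 1)) := by
    rw [← D.map_comp, ε_ι]
  have w' : D.map 0 (ε L π hπ j) ≫ D.map 0 (L.d (j + 1) j) = 0 := by
    rw [hd, reassoc_of% w, zero_comp]
  refine ⟨w', ?_⟩
  let φ : ShortComplex.mk _ _ w ⟶ ShortComplex.mk _ _ w' :=
    { τ₁ := 𝟙 _, τ₂ := 𝟙 _, τ₃ := D.map 0 (ε L π hπ (j + 1))
      comm₁₂ := by simp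
      comm₂₃ := by dsimp; rw [Category.id_comp, hd] }
  haveI : Epi φ.τ₁ := by dsimp [φ]; infer_instance
  haveI : IsIso φ.τ₂ := by dsimp [φ]; infer_instance
  haveI : Mono φ.τ₃ := hm'
  exact (ShortComplex.exact_iff_of_epi_of_isIso_of_mono φ).1 hw

include D hex0 hex in
/-- dimension shifting along the syzygy sequences -/
lemma shift_iso (hL : ∀ j p : ℕ, 1 ≤ p → IsZero (T p (L.X j))) (j p : ℕ) (hp : 1 ≤ p) :
    Nonempty (T p (Z L π (j + 1)) ≅ T (p + 1) (Z L π j)) := by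
  obtain ⟨-, -, δ, hδ⟩ := D.les _ (shortExact L π hπ hex0 hex j)
  obtain ⟨⟨w1, h1⟩, ⟨w2, h2⟩⟩ := hδ p
  dsimp only at δ w1 h1 w2 h2
  haveI : Mono (δ p) := h1.mono_g ((hL j p hp).eq_of_src _ _)
  haveI : Epi (δ p) := h2.epi_f ((hL j (p + 1) (by omega)).eq_of_tgt _ _)
  haveI := isIso_of_mono_of_epi (δ p)
  exact ⟨asIso (δ p)⟩

include D hex0 hex in
lemma shift_chain (hL : ∀ j p : ℕ, 1 ≤ p → IsZero (T p (L.X j))) :
    ∀ (k j m p q : ℕ), m = j + k → 1 ≤ p → q = p + k →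
      Nonempty (T p (Z L π m) ≅ T q (Z L π j))
  | 0, j, m, p, q, hm, _, hq => by
    subst hm hq
    exact ⟨Iso.refl _⟩
  | k + 1, j, m, p, q, hm, hp, hq => by
    subst hm hq
    obtain ⟨e1⟩ := shift_iso D L π hπ hex0 hex hL (j + k) p hp
    obtain ⟨e2⟩ := shift_chain hL k j (j + k) (p + 1) (p + (k + 1)) rfl (by omega) (by omega)
    exact ⟨e1 ≪≫ e2⟩

include hex0 hex in
/-- an acyclic left resolution computes the δ-functor -/
theorem homology_iso (hL : ∀ j p : ℕ, 1 ≤ p → IsZero (T p (L.X j)))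
    (C : CochainComplex ℬ ℕ) (e : ∀ j : ℕ, C.X j ≅ T 0 (L.X j))
    (hC : ∀ j : ℕ, C.d j (j + 1) ≫ (e (j + 1)).hom = (e j).hom ≫ D.map 0 (L.d (j + 1) j))
    (i : ℕ) : Nonempty (C.homology i ≅ T i F) := by
  cases i with
  | zero =>
    let S'' : ShortComplex ℬ :=
      ShortComplex.mk (0 : T 0 (L.X 0) ⟶ T 0 (L.X 0)) (D.map 0 (L.d 1 0)) zero_comp
    let φ : C.sc' 0 0 1 ≅ S'' := ShortComplex.isoMk (e 0) (e 0) (e 1)
      (by
        show (e 0).hom ≫ 0 = C.d 0 0 ≫ (e 0).hom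
        rw [C.shape 0 0 (by simp), zero_comp, comp_zero]) (hC 0).symm
    obtain ⟨hm, w, hw⟩ := mono_and_exact_zero D L π hπ hex0 hex 0
    haveI := hm
    obtain ⟨ψ⟩ := homology_iso_of S'' (D.map 0 (ε L π hπ 0)) w hw 0 zero_comp (𝟙 _) zero_comp
      ((ShortComplex.exact_iff_mono _ rfl).2 inferInstance)
    exact ⟨ShortComplex.homologyMapIso (C.isoSc' 0 0 1 (by simp) (by simp)) ≪≫
      ShortComplex.homologyMapIso φ ≪≫ ψ⟩
  | succ k =>
    obtain ⟨hm, w, hw⟩ := mono_and_exact_zero D L π hπ hex0 hex (k + 1)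
    haveI := hm
    have hd : D.map 0 (L.d (k + 1) k) = D.map 0 (ι L π k) ≫ D.map 0 (ε L π hπ (k + 1)) := by
      rw [← D.map_comp, ε_ι]
    let S' : ShortComplex ℬ :=
      ShortComplex.mk (D.map 0 (L.d (k + 1) k)) (D.map 0 (L.d (k + 2) (k + 1)))
        (by rw [hd, Category.assoc, w, comp_zero])
    let φ : C.sc' k (k + 1) (k + 2) ≅ S' := ShortComplex.isoMk (e k) (e (k + 1)) (e (k + 2))
      (hC k).symm (hC (k + 1)).symm
    obtain ⟨-, -, δ, hδ⟩ := D.les _ (shortExact L π hπ hex0 hex k)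
    obtain ⟨⟨w1, h1⟩, ⟨w2, h2⟩⟩ := hδ 0
    dsimp only at δ w1 h1 w2 h2
    haveI : Epi (δ 0) := h2.epi_f ((hL k (0 + 1) (by omega)).eq_of_tgt _ _)
    obtain ⟨ψ⟩ := homology_iso_of S' (D.map 0 (ε L π hπ (k + 1))) w hw (D.map 0 (ι L π k)) hd.symm
      (δ 0) w1 h1
    obtain ⟨χ⟩ := shift_chain D L π hπ hex0 hex hL k 0 k 1 (k + 1) (by omega) le_rfl (by omega)
    exact ⟨ShortComplex.homologyMapIso (C.isoSc' k (k + 1) (k + 2) (by simp) (by simp)) ≪≫
      ShortComplex.homologyMapIso φ ≪≫ ψ ≪≫ χ⟩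

end Main

end Groth.Agent.Lib.helper21.AcycRes
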