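import Mathlib
import Groth.Agent.Lib.Helper21.AcycRes

/-!
# Contravariant δ-functors: invariance under isomorphisms and vanishing on finite coproducts
-/

open CategoryTheory CategoryTheory.Limits

namespace Groth.Agent.Lib.helper21.AcycRes

universe v v' u u'

variable {𝒜 : Type u} [Category.{v} 𝒜] [Abelian 𝒜] {ℬ : Type u'} [Category.{v'} ℬ] [Abelian ℬ]
variable {T : ℕ → 𝒜 → ℬ} (D : ContraDelta T)
  (hid : ∀ (p : ℕ) (M : 𝒜), D.map p (𝟙 M) = 𝟙 (T p M))

include hid in
/-- invariance under isomorphisms -/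
def isoOfIso (p : ℕ) {M M' : 𝒜} (a : M ≅ M') : T p M' ≅ T p M where
  hom := D.map p a.hom
  inv := D.map p a.inv
  hom_inv_id := by rw [← D.map_comp, a.inv_hom_id, hid]
  inv_hom_id := by rw [← D.map_comp, a.hom_inv_id, hid]

include hid in
lemma isZero_of_isZero (p : ℕ) (Z : 𝒜) (hZ : IsZero Z) : IsZero (T p Z) := by
  have hS : (ShortComplex.mk (𝟙 Z) (𝟙 Z) (hZ.eq_of_src _ _)).ShortExact :=
    ShortComplex.ShortExact.mk' (ShortComplex.exact_of_isZero_X₂ _ hZ) inferInstance inferInstance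
  obtain ⟨-, he, -⟩ := D.les _ hS
  obtain ⟨w, -⟩ := he p
  dsimp only at w
  rw [hid, Category.comp_id] at w
  exact (IsZero.iff_id_eq_zero _).2 w

include D in
lemma isZero_biprod (p : ℕ) (A B : 𝒜) (hA : IsZero (T p A)) (hB : IsZero (T p B)) :
    IsZero (T p (A ⊞ B)) := by
  have hS := (ShortComplex.Splitting.ofHasBinaryBiproduct A B).shortExact
  obtain ⟨-, he, -⟩ := D.les _ hS
  obtain ⟨w, hw⟩ := he p
  exact hw.isZero_of_both_isZero hB hA

include hid in
lemma isZero_sigma_fin (p : ℕ) : ∀ (n : ℕ) (f : Fin n → 𝒜), (∀ i, IsZero (T p (f i))) →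
    IsZero (T p (∐ f))
  | 0, f, _ => by
    apply isZero_of_isZero D hid
    exact (IsZero.iff_id_eq_zero _).2 (Sigma.hom_ext _ _ (fun i => Fin.elim0 i))
  | n + 1, f, h => by
    let c₁ : Cofan (fun i : Fin n => f i.succ) := Cofan.mk (∐ fun i : Fin n => f i.succ) (Sigma.ι _)
    have t₁ : IsColimit c₁ := coproductIsCoproduct _
    let c₂ : BinaryCofan (f 0) c₁.pt := (BinaryBiproduct.bicone (f 0) c₁.pt).toCocone
    have t₂ : IsColimit c₂ := BinaryBiproduct.isColimit (f 0) c₁.pt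
    have t := extendCofanIsColimit f t₁ t₂
    let e : ∐ f ≅ f 0 ⊞ ∐ fun i : Fin n => f i.succ :=
      (coproductIsCoproduct f).coconePointUniqueUpToIso t
    refine IsZero.of_iso ?_ (isoOfIso D hid p e.symm)
    exact isZero_biprod D p _ _ (h 0) (isZero_sigma_fin p n _ (fun i => h i.succ))

end Groth.Agent.Lib.helper21.AcycRes
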