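import Mathlib

/-!
Helper library (helper21): right derived functors commute with exact functors
(post-composition), and with exact functors preserving injectives (pre-composition).
-/

set_option autoImplicit false
universe v u v' u' v'' u''
open CategoryTheory Limits

namespace Groth.Agent.Lib.Helper21.DerivedComm

section Iso

variable {C : Type u} [Category.{v} C] {D : Type u'} [Category.{v'} D]
  [Abelian C] [HasInjectiveResolutions C] [Abelian D]

/-- isomorphic functors have isomorphic right derived functors -/
noncomputable def rightDerivedIso {F G : C ⥤ D} [F.Additive] [G.Additive] (e : F ≅ G) (n : ℕ) :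
    F.rightDerived n ≅ G.rightDerived n where
  hom := NatTrans.rightDerived e.hom n
  inv := NatTrans.rightDerived e.inv n
  hom_inv_id := by rw [← NatTrans.rightDerived_comp, e.hom_inv_id, NatTrans.rightDerived_id]
  inv_hom_id := by rw [← NatTrans.rightDerived_comp, e.inv_hom_id, NatTrans.rightDerived_id]

end Iso

section Post

variable {D : Type u'} [Category.{v'} D] {D' : Type u''} [Category.{v''} D'] [Abelian D] [Abelian D']
  (E : D ⥤ D') [E.Additive] [E.PreservesHomology]

/-- homology of complexes commutes with a functor preserving homology -/
noncomputable def hcIso {ι : Type*} (c : ComplexShape ι) (n : ι) :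
    E.mapHomologicalComplex c ⋙ HomologicalComplex.homologyFunctor D' c n ≅
      HomologicalComplex.homologyFunctor D c n ⋙ E :=
  NatIso.ofComponents (fun K => (K.sc n).mapHomologyIso E)
    (fun f => ShortComplex.mapHomologyIso_hom_naturality
      ((HomologicalComplex.shortComplexFunctor D c n).map f) E)

/-- homology on the homotopy category commutes with a functor preserving homology -/
noncomputable def hoIso {ι : Type*} (c : ComplexShape ι) (n : ι) :
    E.mapHomotopyCategory c ⋙ HomotopyCategory.homologyFunctor D' c n ≅
      HomotopyCategory.homologyFunctor D c n ⋙ E :=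
  Quotient.natIsoLift _
    ((Functor.associator _ _ _).symm ≪≫
      Functor.isoWhiskerRight (E.mapHomotopyCategoryFactors c) _ ≪≫
      Functor.associator _ _ _ ≪≫
      Functor.isoWhiskerLeft _ (HomotopyCategory.homologyFunctorFactors D' c n) ≪≫
      hcIso E c n ≪≫
      Functor.isoWhiskerRight (HomotopyCategory.homologyFunctorFactors D c n).symm E ≪≫
      Functor.associator _ _ _)

variable {C : Type u} [Category.{v} C] [Abelian C] [HasInjectiveResolutions C]
  (G : C ⥤ D) [G.Additive]

/-- right derived functors commute with post-composition by an exact functor -/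
noncomputable def rightDerivedPostIso (n : ℕ) :
    (G ⋙ E).rightDerived n ≅ G.rightDerived n ⋙ E :=
  Functor.isoWhiskerRight (Functor.isoWhiskerLeft (injectiveResolutions C)
      (Functor.mapHomotopyCategoryCompIso (Iso.refl (G ⋙ E)) (ComplexShape.up ℕ)).symm) _ ≪≫
    Functor.associator _ _ _ ≪≫
    Functor.isoWhiskerLeft _ (Functor.associator _ _ _) ≪≫
    Functor.isoWhiskerLeft _ (Functor.isoWhiskerLeft _ (hoIso E (ComplexShape.up ℕ) n)) ≪≫
    Functor.isoWhiskerLeft _ (Functor.associator _ _ _).symm ≪≫
    (Functor.associator _ _ _).symm

end Post

section Pre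

variable {C' : Type u''} [Category.{v''} C'] [Abelian C'] [HasInjectiveResolutions C']
  {C : Type u} [Category.{v} C] [Abelian C] [HasInjectiveResolutions C]
  {D : Type u'} [Category.{v'} D] [Abelian D]
  (E : C' ⥤ C) [E.Additive] [E.PreservesHomology] [E.PreservesInjectiveObjects]
  (G : C ⥤ D) [G.Additive]

/-- image of an injective resolution under an exact functor preserving injectives -/
noncomputable def mapRes {X : C'} (I : InjectiveResolution X) :
    InjectiveResolution (E.obj X) where
  cocomplex := (E.mapHomologicalComplex _).obj I.cocomplex
  injective n := E.injective_obj (I.cocomplex.X n)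
  ι := (HomologicalComplex.singleMapHomologicalComplex E (ComplexShape.up ℕ) 0).inv.app X ≫
    (E.mapHomologicalComplex _).map I.ι
  quasiIso := by
    haveI : QuasiIso ((E.mapHomologicalComplex (ComplexShape.up ℕ)).map I.ι) := inferInstance
    infer_instance

lemma mapRes_comm {X Y : C'} (f : X ⟶ Y) (I : InjectiveResolution X) (J : InjectiveResolution Y)
    (φ : I.cocomplex ⟶ J.cocomplex) (w : I.ι ≫ φ = (CochainComplex.single₀ C').map f ≫ J.ι) :
    (mapRes E I).ι ≫ (E.mapHomologicalComplex _).map φ =
      (CochainComplex.single₀ C).map (E.map f) ≫ (mapRes E J).ι := by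
  have nat := (HomologicalComplex.singleMapHomologicalComplex E (ComplexShape.up ℕ) 0).inv.naturality f
  show ((HomologicalComplex.singleMapHomologicalComplex E (ComplexShape.up ℕ) 0).inv.app X ≫
    (E.mapHomologicalComplex _).map I.ι) ≫ (E.mapHomologicalComplex _).map φ =
    (CochainComplex.single₀ C).map (E.map f) ≫
      ((HomologicalComplex.singleMapHomologicalComplex E (ComplexShape.up ℕ) 0).inv.app Y ≫
        (E.mapHomologicalComplex _).map J.ι)
  rw [Category.assoc, ← Functor.map_comp, w, Functor.map_comp, ← Category.assoc, ← Category.assoc]
  congr 1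
  exact nat.symm

/-- right derived functors commute with pre-composition by an exact functor preserving
injective objects -/
noncomputable def rightDerivedPreIso (n : ℕ) :
    (E ⋙ G).rightDerived n ≅ E ⋙ G.rightDerived n :=
  NatIso.ofComponents
    (fun X => (injectiveResolution X).isoRightDerivedObj (E ⋙ G) n ≪≫
      ((mapRes E (injectiveResolution X)).isoRightDerivedObj G n).symm)
    (by
      intro X Y f
      have w := InjectiveResolution.desc_commutes f (injectiveResolution Y) (injectiveResolution X)
      have e1 := Functor.rightDerived_map_eq (E ⋙ G) n f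
        (InjectiveResolution.desc f (injectiveResolution Y) (injectiveResolution X)) w
      have e2 := Functor.rightDerived_map_eq G n (E.map f)
        (P := mapRes E (injectiveResolution X)) (Q := mapRes E (injectiveResolution Y))
        ((E.mapHomologicalComplex _).map
          (InjectiveResolution.desc f (injectiveResolution Y) (injectiveResolution X)))
        (mapRes_comm E f _ _ _ w)
      show ((E ⋙ G).rightDerived n).map f ≫ _ = _ ≫ (G.rightDerived n).map (E.map f)
      rw [e1, e2]
      simp only [Iso.trans_hom, Iso.symm_hom, Category.assoc, Iso.inv_hom_id_assoc]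
      refine congrArg (fun z => ((injectiveResolution X).isoRightDerivedObj (E ⋙ G) n).hom ≫ z) ?_
      exact (Iso.inv_hom_id_assoc ((mapRes E (injectiveResolution X)).isoRightDerivedObj G n) _).symm)

end Pre

section Vanish

variable {C : Type u} [Category.{v} C] [Abelian C] [HasInjectiveResolutions C]
  {D : Type u'} [Category.{v'} D] [Abelian D]

/-- the higher right derived functors of an exact functor vanish -/
lemma isZero_rightDerived_of_exact (E : C ⥤ D) [E.Additive] [E.PreservesHomology] (n : ℕ) (X : C) :
    IsZero ((E.rightDerived (n + 1)).obj X) := by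
  refine IsZero.of_iso ?_ (((injectiveResolution X).isoRightDerivedObj E (n + 1)) ≪≫
    (hcIso E (ComplexShape.up ℕ) (n + 1)).app (injectiveResolution X).cocomplex)
  show IsZero (E.obj ((injectiveResolution X).cocomplex.homology (n + 1)))
  exact E.map_isZero ((HomologicalComplex.exactAt_iff_isZero_homology _ _).1
    ((injectiveResolution X).cocomplex_exactAt_succ n))

end Vanish

end Groth.Agent.Lib.Helper21.DerivedComm
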