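import Mathlib
import Groth.Prelude.Def_ModSite
import Groth.Agent.Lib.Helper21.ExtZeroP

/-!
Helper library (helper21): the projection formula `p_!(P' ⊗ P|X) ≅ p_! P' ⊗ P` for presheaves
of modules.
-/

set_option autoImplicit false
universe u
open CategoryTheory MonoidalCategory Opposite Limits TensorProduct

namespace Groth.Agent.Lib.Helper21.ExtZeroProj

open Groth.Agent.Lib.Helper21.TensorW Groth.Agent.Lib.Helper21.ExtZeroP
open scoped Classical DirectSum

variable {C : Type u} [SmallCategory C] {R : Cᵒᵖ ⥤ CommRingCat.{u}} {X : C}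

section generic

/-- additive maps out of a tensor product agree if they agree on pure tensors -/
lemma addHom_ext_tensor {A : Type*} [CommRing A] {M N B : Type*} [AddCommGroup M] [Module A M]
    [AddCommGroup N] [Module A N] [AddCommGroup B] (φ ψ : M ⊗[A] N →+ B)
    (h : ∀ m n, φ (m ⊗ₜ n) = ψ (m ⊗ₜ n)) : φ = ψ := by
  ext t
  induction t using TensorProduct.induction_on with
  | zero => rw [map_zero, map_zero]
  | tmul m n => exact h m n
  | add t t' ht ht' => rw [map_add, map_add, ht, ht']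

end generic

section sections

variable (P' : PMX R X) (P : PMC R)

/-- `P' ⊗ P|X` -/
noncomputable abbrev NN : PMX R X := P' ⊗ (restrP R X).obj P

/-- the projection formula on sections -/
noncomputable def projT (Y : Cᵒᵖ) :
    T (NN P' P) Y ≃ₗ[R.obj Y] (T P' Y ⊗[R.obj Y] P.obj Y) :=
  (TensorProduct.directSumLeft (R.obj Y) (R.obj Y) (comp P' Y) (P.obj Y)).symm

lemma projT_of_tmul (Y : Cᵒᵖ) (f : Y.unop ⟶ X) (x : comp P' Y f) (p : P.obj Y) :
    projT P' P Y (DirectSum.of (fun f' : (Y.unop ⟶ X) => comp (NN P' P) Y f') f (x ⊗ₜ p)) =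
      (DirectSum.of (fun f' : (Y.unop ⟶ X) => comp P' Y f') f x) ⊗ₜ p :=
  TensorProduct.directSumLeft_symm_lof_tmul (R.obj Y) (R.obj Y) f x p

end sections

section naturality

variable (P' : PMX R X) (P : PMC R)

/-- restriction of `p_! P' ⊗ P` on pure tensors -/
lemma rmap_ext_tmul {Y Z : Cᵒᵖ} (g : Y ⟶ Z) (a : T P' Y) (p : P.obj Y) :
    rmap (extObj P' ⊗ P) g (a ⊗ₜ[R.obj Y] p) = (resT P' g a) ⊗ₜ[R.obj Z] (rmap P g p) := rfl

/-- restriction of `P' ⊗ P|X` on pure tensors -/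
lemma rmap_NN_tmul {Y Z : Cᵒᵖ} (g : Y ⟶ Z) (f : Y.unop ⟶ X) (x : comp P' Y f) (p : P.obj Y) :
    rmap (NN P' P) (ovHom g f) (x ⊗ₜ[R.obj Y] p) =
      (rmap P' (ovHom g f) x) ⊗ₜ[R.obj Z] (rmap P g p) := rfl

lemma projT_resT {Y Z : Cᵒᵖ} (g : Y ⟶ Z) (t : T (NN P' P) Y) :
    projT P' P Z (resT (NN P' P) g t) = rmap (extObj P' ⊗ P) g (projT P' P Y t) := by
  let φ : T (NN P' P) Y →+ (T P' Z ⊗[R.obj Z] P.obj Z) :=
    (AddMonoidHomClass.toAddMonoidHom (projT P' P Z)).comp (resT (NN P' P) g)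
  let ρ : (T P' Y ⊗[R.obj Y] P.obj Y) →+ (T P' Z ⊗[R.obj Z] P.obj Z) := rmap (extObj P' ⊗ P) g
  let ψ : T (NN P' P) Y →+ (T P' Z ⊗[R.obj Z] P.obj Z) :=
    ρ.comp (AddMonoidHomClass.toAddMonoidHom (projT P' P Y))
  suffices h : φ = ψ from DFunLike.congr_fun h t
  refine DirectSum.addHom_ext (fun f s => ?_)
  let φf : (comp P' Y f ⊗[R.obj Y] P.obj Y) →+ (T P' Z ⊗[R.obj Z] P.obj Z) :=
    φ.comp (DirectSum.of (fun f' : (Y.unop ⟶ X) => comp (NN P' P) Y f') f)
  let ψf : (comp P' Y f ⊗[R.obj Y] P.obj Y) →+ (T P' Z ⊗[R.obj Z] P.obj Z) :=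
    ψ.comp (DirectSum.of (fun f' : (Y.unop ⟶ X) => comp (NN P' P) Y f') f)
  suffices h : φf = ψf from DFunLike.congr_fun h s
  refine addHom_ext_tensor φf ψf (fun x p => ?_)
  have h1 := resT_of (NN P' P) g f (x ⊗ₜ[R.obj Y] p)
  have h2 := projT_of_tmul P' P Z (g.unop ≫ f) (rmap P' (ovHom g f) x) (rmap P g p)
  have h3 := projT_of_tmul P' P Y f x p
  have h4 := rmap_ext_tmul P' P g (DirectSum.of (fun f' : (Y.unop ⟶ X) => comp P' Y f') f x) p
  have h5 := resT_of P' g f x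
  exact (congrArg (projT P' P Z) h1).trans (h2.trans
    ((congrArg (fun a => a ⊗ₜ[R.obj Z] rmap P g p) h5).symm.trans
      (h4.symm.trans (congrArg (rmap (extObj P' ⊗ P) g) h3).symm)))

end naturality

section iso

variable (P' : PMX R X) (P : PMC R)

/-- the projection formula, sectionwise, in `ModuleCat` -/
noncomputable def projIsoApp (Y : Cᵒᵖ) :
    (extObj (NN P' P)).obj Y ≅ (extObj P' ⊗ P).obj Y :=
  (projT P' P Y).toModuleIso

/-- the projection formula `p_!(P' ⊗ P|X) ≅ p_! P' ⊗ P` for presheaves of modules -/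
noncomputable def projIso : extObj (NN P' P) ≅ extObj P' ⊗ P :=
  PresheafOfModules.isoMk (fun Y => projIsoApp P' P Y)
    (fun Y Z g => ModuleCat.hom_ext (LinearMap.ext fun t => projT_resT P' P g t))

lemma projIso_hom_app_apply (Y : Cᵒᵖ) (t : T (NN P' P) Y) :
    (projIso P' P).hom.app Y t = projT P' P Y t := rfl

end iso

section nat

/-- additive maps out of `T (P' ⊗ P|X) Y` agree if they agree on the generators -/
lemma addHom_ext_T (P' : PMX R X) (P : PMC R) (Y : Cᵒᵖ) {B : Type*} [AddCommGroup B]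
    (φ ψ : T (NN P' P) Y →+ B)
    (h : ∀ (f : Y.unop ⟶ X) (x : comp P' Y f) (p : P.obj Y),
      φ (DirectSum.of (fun f' : (Y.unop ⟶ X) => comp (NN P' P) Y f') f (x ⊗ₜ[R.obj Y] p)) =
        ψ (DirectSum.of (fun f' : (Y.unop ⟶ X) => comp (NN P' P) Y f') f (x ⊗ₜ[R.obj Y] p))) :
    φ = ψ := by
  refine DirectSum.addHom_ext (fun f s => ?_)
  let φf : (comp P' Y f ⊗[R.obj Y] P.obj Y) →+ B :=
    φ.comp (DirectSum.of (fun f' : (Y.unop ⟶ X) => comp (NN P' P) Y f') f)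
  let ψf : (comp P' Y f ⊗[R.obj Y] P.obj Y) →+ B :=
    ψ.comp (DirectSum.of (fun f' : (Y.unop ⟶ X) => comp (NN P' P) Y f') f)
  suffices h' : φf = ψf from DFunLike.congr_fun h' s
  exact addHom_ext_tensor φf ψf (fun x p => h f x p)

variable {P' P'' : PMX R X} {P P₂ : PMC R}

/-- naturality of the projection formula in `P'` -/
lemma projIso_naturality_left (a : P' ⟶ P'') (P : PMC R) :
    (extF R X).map (a ▷ (restrP R X).obj P) ≫ (projIso P'' P).hom =
      (projIso P' P).hom ≫ ((extF R X).map a ▷ P) := by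
  refine PresheafOfModules.hom_ext (fun Y => ModuleCat.hom_ext (LinearMap.ext fun t => ?_))
  let φ : T (NN P' P) Y →+ (T P'' Y ⊗[R.obj Y] P.obj Y) :=
    (AddMonoidHomClass.toAddMonoidHom (projT P'' P Y)).comp (mapT (a ▷ (restrP R X).obj P) Y)
  let ρ : (T P' Y ⊗[R.obj Y] P.obj Y) →+ (T P'' Y ⊗[R.obj Y] P.obj Y) :=
    amap ((extF R X).map a ▷ P) Y
  let ψ : T (NN P' P) Y →+ (T P'' Y ⊗[R.obj Y] P.obj Y) :=
    ρ.comp (AddMonoidHomClass.toAddMonoidHom (projT P' P Y))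
  suffices h : φ = ψ from DFunLike.congr_fun h t
  refine addHom_ext_T P' P Y φ ψ (fun f x p => ?_)
  have h1 := mapT_of (a ▷ (restrP R X).obj P) Y f (x ⊗ₜ[R.obj Y] p)
  have h2 := projT_of_tmul P'' P Y f (amap a (op (Over.mk f)) x) p
  have h3 := projT_of_tmul P' P Y f x p
  have h4 : ρ ((DirectSum.of (fun f' : (Y.unop ⟶ X) => comp P' Y f') f x) ⊗ₜ[R.obj Y] p) =
      (mapT a Y (DirectSum.of (fun f' : (Y.unop ⟶ X) => comp P' Y f') f x)) ⊗ₜ[R.obj Y] p := rfl
  have h5 := mapT_of a Y f x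
  exact (congrArg (projT P'' P Y) h1).trans (h2.trans
    ((congrArg (fun z => z ⊗ₜ[R.obj Y] p) h5).symm.trans (h4.symm.trans (congrArg ρ h3).symm)))

/-- naturality of the projection formula in `P` -/
lemma projIso_naturality_right (P' : PMX R X) (q : P ⟶ P₂) :
    (extF R X).map (P' ◁ (restrP R X).map q) ≫ (projIso P' P₂).hom =
      (projIso P' P).hom ≫ ((extF R X).obj P' ◁ q) := by
  refine PresheafOfModules.hom_ext (fun Y => ModuleCat.hom_ext (LinearMap.ext fun t => ?_))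
  let φ : T (NN P' P) Y →+ (T P' Y ⊗[R.obj Y] P₂.obj Y) :=
    (AddMonoidHomClass.toAddMonoidHom (projT P' P₂ Y)).comp (mapT (P' ◁ (restrP R X).map q) Y)
  let ρ : (T P' Y ⊗[R.obj Y] P.obj Y) →+ (T P' Y ⊗[R.obj Y] P₂.obj Y) :=
    amap ((extF R X).obj P' ◁ q) Y
  let ψ : T (NN P' P) Y →+ (T P' Y ⊗[R.obj Y] P₂.obj Y) :=
    ρ.comp (AddMonoidHomClass.toAddMonoidHom (projT P' P Y))
  suffices h : φ = ψ from DFunLike.congr_fun h t
  refine addHom_ext_T P' P Y φ ψ (fun f x p => ?_)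
  have h1 := mapT_of (P' ◁ (restrP R X).map q) Y f (x ⊗ₜ[R.obj Y] p)
  have h2 := projT_of_tmul P' P₂ Y f x (amap q Y p)
  have h3 := projT_of_tmul P' P Y f x p
  have h4 : ρ ((DirectSum.of (fun f' : (Y.unop ⟶ X) => comp P' Y f') f x) ⊗ₜ[R.obj Y] p) =
      (DirectSum.of (fun f' : (Y.unop ⟶ X) => comp P' Y f') f x) ⊗ₜ[R.obj Y] (amap q Y p) := rfl
  exact (congrArg (projT P' P₂ Y) h1).trans (h2.trans (h4.symm.trans (congrArg ρ h3).symm))

end nat

section natIso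

/-- `p_!(- ⊗ P|X) ≅ p_!(-) ⊗ P` -/
noncomputable def projNatIso₁ (P : PMC R) :
    tensorRight ((restrP R X).obj P) ⋙ extF R X ≅ extF R X ⋙ tensorRight P :=
  NatIso.ofComponents (fun P' => projIso P' P) (fun a => projIso_naturality_left a P)

/-- `p_!(P' ⊗ (-)|X) ≅ p_! P' ⊗ -` -/
noncomputable def projNatIso₂ (P' : PMX R X) :
    restrP R X ⋙ tensorLeft P' ⋙ extF R X ≅ tensorLeft ((extF R X).obj P') :=
  NatIso.ofComponents (fun P => projIso P' P) (fun q => projIso_naturality_right P' q)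

end natIso

end Groth.Agent.Lib.Helper21.ExtZeroProj
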