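import Mathlib
import Groth.Prelude.Def_ModSite
import Groth.Agent.Lib.Helper21.TensorMon

/-!
Helper library (helper21): restriction to `C/X` commutes with sheafification and tensor products.
-/

set_option autoImplicit false
universe u
open CategoryTheory MonoidalCategory Opposite Limits

namespace Groth.Agent.Lib.Helper21.TensorRestr

open Groth.Agent.Lib.Helper21.TensorW Groth.Agent.Lib.Helper21.TensorAdj
  Groth.Agent.Lib.Helper21.TensorMon

variable {C : Type u} [SmallCategory C] {J : GrothendieckTopology C} (O : Sheaf J CommRingCat.{u})
  (X : C)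

/-- restriction of presheaves of modules to `C/X` -/
noncomputable abbrev restrP : PM O ⥤ PM (O.over X) :=
  PresheafOfModules.pushforward₀OfCommRingCat (Over.forget X) O.obj

/-- the underlying presheaf of the restriction of a sheaf of modules -/
noncomputable def restrPIso (M : ModSite.Mod O) :
    pv ((ModSite.restr O X).obj M) ≅ (restrP O X).obj (pv M) :=
  PresheafOfModules.isoMk (fun _ => Iso.refl _)

theorem isIso_shf_map_restrP {P P' : PM O} (f : P ⟶ P') [IsIso ((shf O).map f)] :
    IsIso ((shf (O.over X)).map ((restrP O X).map f)) := by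
  obtain ⟨h1, h2⟩ := (isIso_shf_map_iff f).1 inferInstance
  rw [isIso_shf_map_iff]
  constructor
  · exact Presheaf.isLocallyInjective_whisker (J.over X) J (Over.forget X)
      ((PresheafOfModules.toPresheaf _).map f)
  · exact Presheaf.isLocallySurjective_whisker (J.over X) J (Over.forget X)
      ((PresheafOfModules.toPresheaf _).map f)

/-- restriction commutes with sheafification -/
noncomputable def restrShfIso (P : PM O) :
    (shf (O.over X)).obj ((restrP O X).obj P) ≅ (ModSite.restr O X).obj ((shf O).obj P) :=
  @asIso _ _ _ _ ((shf (O.over X)).map ((restrP O X).map (unitP O P)))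
      (isIso_shf_map_restrP O X (unitP O P)) ≪≫
    (shf (O.over X)).mapIso (restrPIso O X ((shf O).obj P)).symm ≪≫
    shfValIso (O.over X) ((ModSite.restr O X).obj ((shf O).obj P))

/-- restriction of presheaves of modules commutes with the tensor product -/
noncomputable def restrPTensorIso (A B : PM O) :
    (restrP O X).obj A ⊗ (restrP O X).obj B ≅ (restrP O X).obj (A ⊗ B) :=
  PresheafOfModules.isoMk (fun _ => Iso.refl _)
    (fun _ _ _ => ModuleCat.MonoidalCategory.tensor_ext fun _ _ => rfl)

/-- restriction commutes with the tensor product -/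
noncomputable def restrTensorIso (M N : ModSite.Mod O) :
    (ModSite.restr O X).obj ((tensL O M).obj N) ≅
      (tensL (O.over X) ((ModSite.restr O X).obj M)).obj ((ModSite.restr O X).obj N) :=
  (restrShfIso O X (pv M ⊗ pv N)).symm ≪≫
    (shf (O.over X)).mapIso
      ((restrPTensorIso O X (pv M) (pv N)).symm ≪≫
        ((restrPIso O X M).symm ⊗ᵢ (restrPIso O X N).symm))

end Groth.Agent.Lib.Helper21.TensorRestr
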