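import Mathlib
import Groth.Prelude.Def_ModSite
import Groth.Agent.Lib.Helper21.TensorRestr
import Groth.Agent.Lib.Helper21.ExtZeroP

/-!
Helper library (helper21): extension by zero `j_!` of sheaves of modules is
`forget ⋙ p_! ⋙ sheafify`; it is exact.
-/

set_option autoImplicit false
universe u
open CategoryTheory MonoidalCategory Opposite Limits

namespace Groth.Agent.Lib.Helper21.ExtZeroS

open Groth.Agent.Lib.Helper21.TensorW Groth.Agent.Lib.Helper21.TensorAdj
  Groth.Agent.Lib.Helper21.TensorMon Groth.Agent.Lib.Helper21.TensorRestr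
open scoped Classical

variable {C : Type u} [SmallCategory C] {J : GrothendieckTopology C} (O : Sheaf J CommRingCat.{u})
  (X : C)

/-- `p_!` on presheaves of modules over `O` -/
noncomputable abbrev extP : PM (O.over X) ⥤ PM O := ExtZeroP.extF O.obj X

/-- the adjunction `p_! ⊣ restriction` -/
noncomputable abbrev adjP : extP O X ⊣ restrP O X := ExtZeroP.adj O.obj X

/-- restriction commutes with the forgetful functors -/
noncomputable def restrForgetIso :
    ModSite.restr O X ⋙ fPM (O.over X) ≅ fPM O ⋙ restrP O X :=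
  NatIso.ofComponents (fun M => restrPIso O X M) (by
    intro M M' φ
    rfl)

/-- the two descriptions of the left adjoint of `restr ⋙ forget` -/
noncomputable def shfExtZeroIso :
    shf (O.over X) ⋙ ModSite.extZero O X ≅ extP O X ⋙ shf O :=
  ((shfAdj (O.over X)).comp (ModSite.extZeroAdj O X)).leftAdjointUniq
    (((adjP O X).comp (shfAdj O)).ofNatIsoRight (restrForgetIso O X).symm)

/-- the counit of sheafification as a natural isomorphism -/
noncomputable def shfCounitIso : fPM O ⋙ shf O ≅ 𝟭 (ModSite.Mod O) :=
  NatIso.ofComponents (fun M => shfValIso O M) (fun φ => shfValIso_naturality O φ)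

/-- `j_! ≅ forget ⋙ p_! ⋙ sheafify` -/
noncomputable def extZeroIso :
    ModSite.extZero O X ≅ fPM (O.over X) ⋙ extP O X ⋙ shf O :=
  (Functor.leftUnitor _).symm ≪≫
    Functor.isoWhiskerRight (shfCounitIso (O.over X)).symm (ModSite.extZero O X) ≪≫
    Functor.associator _ _ _ ≪≫
    Functor.isoWhiskerLeft (fPM (O.over X)) (shfExtZeroIso O X)

/-- `j_!` is exact -/
theorem preservesFiniteLimits_extZero : PreservesFiniteLimits (ModSite.extZero O X) := by
  have h1 : PreservesFiniteLimits (fPM (O.over X)) :=
    (inferInstance : PreservesFiniteLimits (SheafOfModules.forget.{u} (ModSite.ringSh (O.over X))))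
  have h2 : PreservesFiniteLimits (extP O X) := ExtZeroP.preservesFiniteLimits_extF
  have h3 : PreservesFiniteLimits (shf O) :=
    (inferInstance : PreservesFiniteLimits (ModSite.sheafify O))
  have h4 : PreservesFiniteLimits (extP O X ⋙ shf O) := comp_preservesFiniteLimits _ _
  have h5 : PreservesFiniteLimits (fPM (O.over X) ⋙ extP O X ⋙ shf O) :=
    comp_preservesFiniteLimits _ _
  exact preservesFiniteLimits_of_natIso (extZeroIso O X).symm

section faithful

open ExtZeroP in
/-- `p_! ⋙ sheafify` is faithful on sheaves -/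
theorem eq_of_shf_extP_eq {M M' : ModSite.Mod (O.over X)} (a b : M ⟶ M')
    (hab : (shf O).map ((extP O X).map (pvMap a)) = (shf O).map ((extP O X).map (pvMap b))) :
    a = b := by
  apply SheafOfModules.hom_ext
  refine PresheafOfModules.hom_ext (fun A => ModuleCat.hom_ext (LinearMap.ext fun n => ?_))
  obtain ⟨⟨Y, ⟨⟨⟩⟩, f⟩⟩ := A
  -- the two morphisms agree after composing with the unit of sheafification
  have e1 : (extP O X).map (pvMap a) ≫ unitP O ((extP O X).obj (pv M')) =
      (extP O X).map (pvMap b) ≫ unitP O ((extP O X).obj (pv M')) := by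
    rw [unitP_naturality, unitP_naturality, hab]
  have li : Presheaf.IsLocallyInjective J
      ((PresheafOfModules.toPresheaf _).map (unitP O ((extP O X).obj (pv M')))) :=
    ((isIso_shf_map_iff (unitP O ((extP O X).obj (pv M')))).1 inferInstance).1
  let t : T (pv M) (op Y) := DirectSum.of (fun f' : (Y ⟶ X) => comp (pv M) (op Y) f') f n
  have e2 : amap (unitP O ((extP O X).obj (pv M'))) (op Y) (mapT (pvMap a) (op Y) t) =
      amap (unitP O ((extP O X).obj (pv M'))) (op Y) (mapT (pvMap b) (op Y) t) :=
    congrArg (fun φ => amap φ (op Y) t) e1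
  have hS := Presheaf.equalizerSieve_mem J
    ((PresheafOfModules.toPresheaf _).map (unitP O ((extP O X).obj (pv M'))))
    (X := op Y) (mapT (pvMap a) (op Y) t) (mapT (pvMap b) (op Y) t) e2
  -- on the equalizer sieve the restrictions agree
  have key : ∀ {Z : C} (l : Z ⟶ Y),
      Presheaf.equalizerSieve (F := ((extP O X).obj (pv M')).presheaf) (X := op Y)
        (mapT (pvMap a) (op Y) t) (mapT (pvMap b) (op Y) t) l →
      rmap (pv M') (ovHom (X := X) l.op f) (amap (pvMap a) (op (Over.mk f)) n) =
        rmap (pv M') (ovHom (X := X) l.op f) (amap (pvMap b) (op (Over.mk f)) n) := by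
    intro Z l hl
    have h1 : resT (pv M') l.op (mapT (pvMap a) (op Y) t) =
        resT (pv M') l.op (mapT (pvMap b) (op Y) t) := hl
    exact of_inj (pv M') (op Z) (l ≫ f)
      ((resT_mapT_of (pvMap a) l.op f n).symm.trans (h1.trans (resT_mapT_of (pvMap b) l.op f n)))
  refine (M'.isSheaf.isSeparated) (Over.mk f) ((Sieve.overEquiv _).symm _)
    (J.overEquiv_symm_mem_over (Over.mk f) _ hS) _ _ (fun B g hg => ?_)
  have hg' := key g.left hg
  let e : B ≅ Over.mk (g.left ≫ f) := Over.isoMk (Iso.refl _) (by simpa using Over.w g)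
  have hge : g = e.hom ≫ Over.homMk g.left rfl := by
    ext
    simp [e]
  have hge' : g.op = ovHom (X := X) g.left.op f ≫ e.hom.op :=
    (congrArg Quiver.Hom.op hge).trans op_comp
  have h2 : ∀ x : (pv M').obj (op (Over.mk f)),
      rmap (pv M') g.op x = rmap (pv M') e.hom.op (rmap (pv M') (ovHom (X := X) g.left.op f) x) :=
    fun x => (congrArg (fun φ => rmap (pv M') φ x) hge').trans (rmap_comp (pv M') _ _ x)
  exact (h2 _).trans ((congrArg (rmap (pv M') e.hom.op) hg').trans (h2 _).symm)

theorem faithful_extZero : (ModSite.extZero O X).Faithful := by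
  have h : (fPM (O.over X) ⋙ extP O X ⋙ shf O).Faithful :=
    ⟨fun {M M'} a b hab => eq_of_shf_extP_eq O X a b hab⟩
  exact Functor.Faithful.of_iso (extZeroIso O X).symm

end faithful

end Groth.Agent.Lib.Helper21.ExtZeroS
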