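import Mathlib
import Groth.Prelude.Def_ModSite
import Groth.Agent.Lib.Helper21.TensorMon
import Groth.Agent.Lib.Helper21.ModSh

/-!
Helper library (helper21): tensoring a short exact sequence with flat cokernel stays short exact,
flat covers, 2-out-of-3 for flatness in short exact sequences.
-/

set_option autoImplicit false
universe u
open CategoryTheory MonoidalCategory Opposite Limits

namespace Groth.Agent.Lib.Helper21.FlatSES

section chase

variable {𝒜 : Type*} [Category* 𝒜] [Abelian 𝒜]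

/-- The diagram chase behind `Tor₁(C, G) = 0 ⇒ A ⊗ G → B ⊗ G` mono. -/
theorem mono_of_chase {AK BK CK AQ BQ CQ AG BG : 𝒜}
    (aK : AK ⟶ BK) (bK : BK ⟶ CK) (aQ : AQ ⟶ BQ) (bQ : BQ ⟶ CQ) (aG : AG ⟶ BG)
    (ιA : AK ⟶ AQ) (ιB : BK ⟶ BQ) (ιC : CK ⟶ CQ) (πA : AQ ⟶ AG) (πB : BQ ⟶ BG)
    (c1 : aK ≫ ιB = ιA ≫ aQ) (c2 : bK ≫ ιC = ιB ≫ bQ) (c3 : aQ ≫ πB = πA ≫ aG)
    (wK : aK ≫ bK = 0) (hK : (ShortComplex.mk aK bK wK).Exact)
    (wB : ιB ≫ πB = 0) (hB : (ShortComplex.mk ιB πB wB).Exact)
    (wQ : aQ ≫ bQ = 0) (wA : ιA ≫ πA = 0)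
    [Epi πA] [Mono ιC] [Mono aQ] : Mono aG := by
  rw [Preadditive.mono_iff_cancel_zero]
  intro T x hx
  obtain ⟨T1, p1, hp1, x1, e1⟩ := surjective_up_to_refinements_of_epi πA x
  have h2 : (x1 ≫ aQ) ≫ πB = 0 := by
    rw [Category.assoc, c3, ← Category.assoc, ← e1, Category.assoc, hx, comp_zero]
  obtain ⟨T2, p2, hp2, z, e2⟩ := hB.exact_up_to_refinements (x1 ≫ aQ) h2
  have h3 : z ≫ bK = 0 := by
    rw [← cancel_mono ιC, Category.assoc, c2, ← Category.assoc]
    have : z ≫ ιB = p2 ≫ x1 ≫ aQ := e2.symm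
    rw [this, Category.assoc, Category.assoc, wQ, comp_zero, comp_zero, zero_comp]
  obtain ⟨T3, p3, hp3, w, e3⟩ := hK.exact_up_to_refinements z h3
  have h4 : w ≫ ιA = p3 ≫ p2 ≫ x1 := by
    rw [← cancel_mono aQ, Category.assoc, ← c1, ← Category.assoc]
    have : w ≫ aK = p3 ≫ z := e3.symm
    rw [this, Category.assoc]
    have : z ≫ ιB = p2 ≫ x1 ≫ aQ := e2.symm
    rw [this]; simp only [Category.assoc]
  have h5 : (p3 ≫ p2 ≫ p1) ≫ x = 0 := by
    simp only [Category.assoc]
    rw [e1, ← Category.assoc p2, ← Category.assoc p3, ← h4, Category.assoc, wA, comp_zero]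
  haveI : Epi (p3 ≫ p2 ≫ p1) := by
    haveI := hp1; haveI := hp2; haveI := hp3
    infer_instance
  exact (cancel_epi (p3 ≫ p2 ≫ p1)).1 (h5.trans comp_zero.symm)

end chase

section flatcover

open Groth.Agent.Lib.Helper21.TensorW Groth.Agent.Lib.Helper21.TensorAdj
  Groth.Agent.Lib.Helper21.TensorMon

variable {C : Type u} [SmallCategory C] {J : GrothendieckTopology C} (O : Sheaf J CommRingCat.{u})

/-- presheaf level: sectionwise flat implies `P ⊗ -` preserves finite limits -/
theorem preservesFiniteLimits_tensorLeft_of_flat (P : PM O)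
    (hP : ∀ X : Cᵒᵖ, Module.Flat (O.obj.obj X) (P.obj X)) :
    PreservesFiniteLimits (tensorLeft P) := by
  refine ⟨fun K _ _ => ⟨fun {D} => ⟨fun {c} hc => ⟨?_⟩⟩⟩⟩
  refine PresheafOfModules.evaluationJointlyReflectsLimits _ _ (fun X => ?_)
  haveI : Module.Flat (O.obj.obj X) (P.obj X) := hP X
  exact isLimitOfPreserves (tensorLeft (show ModuleCat (O.obj.obj X) from P.obj X))
    (isLimitOfPreserves (PresheafOfModules.evaluation _ X) hc)

/-- the sheafification of a sectionwise flat presheaf of modules is flat -/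
theorem isFlat_shf_of_flat (P : PM O)
    (hP : ∀ X : Cᵒᵖ, Module.Flat (O.obj.obj X) (P.obj X)) :
    ModSite.IsFlat ((shf O).obj P) := by
  rw [isFlat_iff_preservesFiniteLimits]
  have h1 := preservesFiniteLimits_tensorLeft_of_flat O P hP
  have h2 : PreservesFiniteLimits (shf O) :=
    (inferInstance : PreservesFiniteLimits (ModSite.sheafify O))
  have h3 : PreservesFiniteLimits (fPM O) :=
    (inferInstance : PreservesFiniteLimits (SheafOfModules.forget.{u} (ModSite.ringSh O)))
  have h4 : PreservesFiniteLimits (tensorLeft P ⋙ shf O) := comp_preservesFiniteLimits _ _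
  have : PreservesFiniteLimits (fPM O ⋙ tensorLeft P ⋙ shf O) := comp_preservesFiniteLimits _ _
  exact preservesFiniteLimits_of_natIso (tensLShfIso O P ≪≫ braidIso O _)

end flatcover

section ses

open Groth.Agent.Lib.Helper21.TensorW Groth.Agent.Lib.Helper21.TensorAdj
  Groth.Agent.Lib.Helper21.TensorMon

variable {C : Type u} [SmallCategory C] {J : GrothendieckTopology C} (O : Sheaf J CommRingCat.{u})

/-- every module is a quotient of a flat module -/
theorem exists_flat_cover (G : ModSite.Mod O) :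
    ∃ (Q : ModSite.Mod O) (π : Q ⟶ G), ModSite.IsFlat Q ∧ Epi π := by
  let Fr : PM O := PresheafOfModules.freeObj ((pv G).presheaf ⋙ forget _)
  let πp : Fr ⟶ pv G := PresheafOfModules.freeObjDesc (𝟙 _)
  have hπp : Epi πp := PresheafOfModules.epi_of_surjective
    (fun X g => ⟨ModuleCat.freeMk g, ModuleCat.freeDesc_apply _ g⟩)
  refine ⟨(shf O).obj Fr, (shf O).map πp ≫ (shfValIso O G).hom, isFlat_shf_of_flat O Fr ?_, ?_⟩
  · intro X
    show Module.Flat (O.obj.obj X) (((pv G).presheaf ⋙ forget _).obj X →₀ O.obj.obj X)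
    infer_instance
  · haveI : (shf O).IsLeftAdjoint := (shfAdj O).isLeftAdjoint
    have : Epi ((shf O).map πp) := (shf O).map_epi πp
    infer_instance

variable {O}

theorem preservesFiniteLimits_tensL_of_isFlat (F : ModSite.Mod O) (hF : ModSite.IsFlat F) :
    PreservesFiniteLimits (tensL O F) := by
  rw [isFlat_iff_preservesFiniteLimits] at hF
  exact preservesFiniteLimits_of_natIso (braidIso O F).symm

/-- `Tor₁(C, G) = 0`: if `0 → A → B → C → 0` is short exact with `C` flat then
`A ⊗ G → B ⊗ G` is mono. -/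
theorem mono_tens_map (S : ShortComplex (ModSite.Mod O)) (hS : S.ShortExact)
    (hF : ModSite.IsFlat S.X₃) (G : ModSite.Mod O) : Mono ((tens O G).map S.f) := by
  obtain ⟨Q, π, hQ, hπ⟩ := exists_flat_cover O G
  have := hS.mono_f
  have := hS.epi_g
  have hT : (ShortComplex.mk (kernel.ι π) π (kernel.condition π)).Exact :=
    ShortComplex.exact_of_f_is_kernel _ (kernelIsKernel π)
  haveI := isLeftAdjoint_tens O (kernel π)
  haveI := isLeftAdjoint_tens O Q
  haveI := isLeftAdjoint_tensL O S.X₁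
  haveI := isLeftAdjoint_tensL O S.X₂
  have hK : (S.map (tens O (kernel π))).Exact :=
    hS.exact.map_of_epi_of_preservesCokernel (tens O (kernel π)) inferInstance inferInstance
  have hB : ((ShortComplex.mk (kernel.ι π) π (kernel.condition π)).map (tensL O S.X₂)).Exact :=
    hT.map_of_epi_of_preservesCokernel (tensL O S.X₂) hπ inferInstance
  haveI : Epi ((tensL O S.X₁).map π) := (tensL O S.X₁).map_epi π
  haveI : Mono ((tensL O S.X₃).map (kernel.ι π)) := by
    haveI := preservesFiniteLimits_tensL_of_isFlat S.X₃ hF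
    exact (tensL O S.X₃).map_mono _
  haveI : Mono ((tens O Q).map S.f) := by
    haveI := (isFlat_iff_preservesFiniteLimits Q).1 hQ
    exact (tens O Q).map_mono _
  exact mono_of_chase ((tens O (kernel π)).map S.f) ((tens O (kernel π)).map S.g)
    ((tens O Q).map S.f) ((tens O Q).map S.g) ((tens O G).map S.f)
    ((tensL O S.X₁).map (kernel.ι π)) ((tensL O S.X₂).map (kernel.ι π))
    ((tensL O S.X₃).map (kernel.ι π))
    ((tensL O S.X₁).map π) ((tensL O S.X₂).map π)
    (((ModSite.tensorBi O).map S.f).naturality (kernel.ι π)).symm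
    (((ModSite.tensorBi O).map S.g).naturality (kernel.ι π)).symm
    (((ModSite.tensorBi O).map S.f).naturality π).symm
    (S.map (tens O (kernel π))).zero hK
    ((ShortComplex.mk (kernel.ι π) π (kernel.condition π)).map (tensL O S.X₂)).zero hB
    (S.map (tens O Q)).zero
    ((ShortComplex.mk (kernel.ι π) π (kernel.condition π)).map (tensL O S.X₁)).zero

end ses

section twoOfThree

open Groth.Agent.Lib.Helper21.TensorW Groth.Agent.Lib.Helper21.TensorAdj
  Groth.Agent.Lib.Helper21.TensorMon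

variable {C : Type u} [SmallCategory C] {J : GrothendieckTopology C} {O : Sheaf J CommRingCat.{u}}

theorem additive_tens (X : ModSite.Mod O) : (tens O X).Additive := by
  haveI := isLeftAdjoint_tens O X
  have := preservesBinaryBiproducts_of_preservesBinaryCoproducts (tens O X)
  exact Functor.additive_of_preservesBinaryBiproducts _

theorem additive_tensL (X : ModSite.Mod O) : (tensL O X).Additive := by
  haveI := isLeftAdjoint_tensL O X
  have := preservesBinaryBiproducts_of_preservesBinaryCoproducts (tensL O X)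
  exact Functor.additive_of_preservesBinaryBiproducts _

/-- the full statement: tensoring a short exact sequence with flat cokernel is short exact -/
theorem shortExact_map_tens (S : ShortComplex (ModSite.Mod O)) (hS : S.ShortExact)
    (hF : ModSite.IsFlat S.X₃) (G : ModSite.Mod O) [(tens O G).PreservesZeroMorphisms] :
    (S.map (tens O G)).ShortExact := by
  have := hS.mono_f
  have := hS.epi_g
  haveI := isLeftAdjoint_tens O G
  have hex : (S.map (tens O G)).Exact :=
    hS.exact.map_of_epi_of_preservesCokernel (tens O G) inferInstance inferInstance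
  haveI : Mono (S.map (tens O G)).f := mono_tens_map S hS hF G
  haveI : Epi (S.map (tens O G)).g := (tens O G).map_epi S.g
  exact { exact := hex }

/-- `G ⊗ A → G ⊗ B` is mono as well -/
theorem mono_tensL_map (S : ShortComplex (ModSite.Mod O)) (hS : S.ShortExact)
    (hF : ModSite.IsFlat S.X₃) (G : ModSite.Mod O) : Mono ((tensL O G).map S.f) := by
  haveI := mono_tens_map S hS hF G
  have e : (tensL O G).map S.f =
      (braidIso O G).hom.app S.X₁ ≫ (tens O G).map S.f ≫ (braidIso O G).inv.app S.X₂ := by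
    rw [← Category.assoc, ← (braidIso O G).hom.naturality, Category.assoc,
      Iso.hom_inv_id_app, Category.comp_id]
  rw [e]
  infer_instance

theorem isFlat_of_mono (X : ModSite.Mod O)
    (h : ∀ {M M' : ModSite.Mod O} (f : M ⟶ M') [Mono f], Mono ((tens O X).map f)) :
    ModSite.IsFlat X := by
  rw [isFlat_iff_preservesFiniteLimits]
  haveI := additive_tens X
  haveI := isLeftAdjoint_tens O X
  rw [Functor.preservesFiniteLimits_iff_forall_exact_map_and_mono]
  intro S hS
  have := hS.mono_f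
  have := hS.epi_g
  exact ⟨hS.exact.map_of_epi_of_preservesCokernel (tens O X) inferInstance inferInstance,
    h S.f⟩

theorem mono_tens_of_isFlat (X : ModSite.Mod O) (hX : ModSite.IsFlat X)
    {M M' : ModSite.Mod O} (f : M ⟶ M') [Mono f] : Mono ((tens O X).map f) := by
  haveI := (isFlat_iff_preservesFiniteLimits X).1 hX
  exact (tens O X).map_mono f

/-- outer terms flat implies middle term flat -/
theorem isFlat_mid (S : ShortComplex (ModSite.Mod O)) (hS : S.ShortExact)
    (h₁ : ModSite.IsFlat S.X₁) (h₃ : ModSite.IsFlat S.X₃) : ModSite.IsFlat S.X₂ := by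
  refine isFlat_of_mono _ (fun {M M'} f _ => ?_)
  have := hS.mono_f
  have := hS.epi_g
  haveI := isLeftAdjoint_tensL O M
  haveI := isLeftAdjoint_tensL O M'
  let φ : S.map (tensL O M) ⟶ S.map (tensL O M') := S.mapNatTrans ((ModSite.tensorBi O).map f)
  have h1 : (S.map (tensL O M)).Exact :=
    hS.exact.map_of_epi_of_preservesCokernel (tensL O M) inferInstance inferInstance
  haveI : Mono (S.map (tensL O M)).f := mono_tensL_map S hS h₃ M
  haveI : Mono (S.map (tensL O M')).f := mono_tensL_map S hS h₃ M'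
  haveI : Mono φ.τ₁ := mono_tens_of_isFlat S.X₁ h₁ f
  haveI : Mono φ.τ₃ := mono_tens_of_isFlat S.X₃ h₃ f
  exact ShortComplex.mono_τ₂_of_exact_of_mono φ h1

/-- middle and right terms flat implies left term flat -/
theorem isFlat_left (S : ShortComplex (ModSite.Mod O)) (hS : S.ShortExact)
    (h₂ : ModSite.IsFlat S.X₂) (h₃ : ModSite.IsFlat S.X₃) : ModSite.IsFlat S.X₁ := by
  refine isFlat_of_mono _ (fun {M M'} f _ => ?_)
  have e : (tens O S.X₁).map f ≫ (tensL O M').map S.f =
      (tensL O M).map S.f ≫ (tens O S.X₂).map f :=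
    (((ModSite.tensorBi O).map f).naturality S.f).symm
  haveI : Mono ((tensL O M).map S.f) := mono_tensL_map S hS h₃ M
  haveI : Mono ((tens O S.X₂).map f) := mono_tens_of_isFlat S.X₂ h₂ f
  haveI : Mono ((tens O S.X₁).map f ≫ (tensL O M').map S.f) := by
    rw [e]; infer_instance
  exact mono_of_mono _ ((tensL O M').map S.f)

end twoOfThree

namespace Splice

variable {𝒜 ℬ : Type*} [Category* 𝒜] [Abelian 𝒜] [Category* ℬ] [Abelian ℬ]

section
variable (M : ChainComplex 𝒜 ℤ)

/-- cycles in degree `j` -/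
noncomputable abbrev Z (j : ℤ) : 𝒜 := kernel (M.d j (j - 1))

noncomputable abbrev ι (j : ℤ) : Z M j ⟶ M.X j := kernel.ι (M.d j (j - 1))

/-- the map `M_j → Z_{j-1}` -/
noncomputable abbrev π (j : ℤ) : M.X j ⟶ Z M (j - 1) :=
  kernel.lift (M.d (j - 1) (j - 1 - 1)) (M.d j (j - 1)) (M.d_comp_d _ _ _)

lemma π_ι (j : ℤ) : π M j ≫ ι M (j - 1) = M.d j (j - 1) := kernel.lift_ι _ _ _

lemma ι_π (j : ℤ) : ι M j ≫ π M j = 0 := by
  rw [← cancel_mono (ι M (j - 1)), Category.assoc, π_ι, kernel.condition, zero_comp]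

/-- the short complex `Z_j → M_j → Z_{j-1}` -/
noncomputable abbrev E (j : ℤ) : ShortComplex 𝒜 := ShortComplex.mk (ι M j) (π M j) (ι_π M j)

lemma exactAt_iff_sc' (j : ℤ) : M.ExactAt j ↔ (M.sc' (j + 1) j (j - 1)).Exact :=
  M.exactAt_iff' (j + 1) j (j - 1) (by simp) (by simp)

variable {M}

lemma epi_π (hac : M.Acyclic) (j : ℤ) : Epi (π M j) := by
  have h := (exactAt_iff_sc' M (j - 1)).1 (hac (j - 1))
  have e : (j - 1 + 1 : ℤ) = j := by ring
  -- transport along `j - 1 + 1 = j`
  have h' : (ShortComplex.mk (M.d j (j - 1)) (M.d (j - 1) (j - 1 - 1)) (M.d_comp_d _ _ _)).Exact := by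
    have : ∀ (k : ℤ) (hk : k = j),
        (M.sc' k (j - 1) (j - 1 - 1)).Exact →
        (ShortComplex.mk (M.d j (j - 1)) (M.d (j - 1) (j - 1 - 1)) (M.d_comp_d _ _ _)).Exact := by
      intro k hk hk'; subst hk; exact hk'
    exact this _ e h
  exact h'.epi_kernelLift

lemma shortExact_E (hac : M.Acyclic) (j : ℤ) : (E M j).ShortExact := by
  haveI := epi_π hac j
  have hex : (E M j).Exact := by
    let φ : E M j ⟶ ShortComplex.mk (ι M j) (M.d j (j - 1)) (kernel.condition _) :=
      { τ₁ := 𝟙 _, τ₂ := 𝟙 _, τ₃ := ι M (j - 1)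
        comm₁₂ := by simp
        comm₂₃ := by simp }
    haveI : Epi φ.τ₁ := by dsimp [φ]; infer_instance
    haveI : IsIso φ.τ₂ := by dsimp [φ]; infer_instance
    haveI : Mono φ.τ₃ := by dsimp [φ]; infer_instance
    exact (ShortComplex.exact_iff_of_epi_of_isIso_of_mono φ).2 (ShortComplex.exact_kernel _)
  exact { exact := hex }

end

/-- splicing: if `T` maps all the short exact sequences `Z_j → M_j → Z_{j-1}` to short exact
sequences, then `T M` is acyclic. -/
theorem acyclic_map (T : 𝒜 ⥤ ℬ) [T.PreservesZeroMorphisms] (M : ChainComplex 𝒜 ℤ)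
    (hT : ∀ j, ((E M j).map T).ShortExact) :
    ((T.mapHomologicalComplex (ComplexShape.down ℤ)).obj M).Acyclic := by
  intro j
  rw [exactAt_iff_sc']
  -- the middle complex `T Z_j → T M_j → T M_{j-1}`
  let Mid : ShortComplex ℬ := ShortComplex.mk (T.map (ι M j)) (T.map (M.d j (j - 1)))
    (by rw [← T.map_comp, kernel.condition, T.map_zero])
  let TE : ShortComplex ℬ := ShortComplex.mk (T.map (ι M j)) (T.map (π M j))
    (by rw [← T.map_comp, ι_π, T.map_zero])
  have hTE : TE.Exact := (hT j).exact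
  have hMid : Mid.Exact := by
    let ψ : TE ⟶ Mid :=
      { τ₁ := 𝟙 (T.obj (Z M j)), τ₂ := 𝟙 (T.obj (M.X j)), τ₃ := T.map (ι M (j - 1))
        comm₁₂ := by
          show 𝟙 (T.obj (Z M j)) ≫ T.map (ι M j) = T.map (ι M j) ≫ 𝟙 (T.obj (M.X j))
          rw [Category.id_comp, Category.comp_id]
        comm₂₃ := by
          show 𝟙 (T.obj (M.X j)) ≫ T.map (M.d j (j - 1)) = T.map (π M j) ≫ T.map (ι M (j - 1))
          rw [Category.id_comp, ← T.map_comp, π_ι] }
    haveI : Epi ψ.τ₁ := by
      show Epi (𝟙 (T.obj (Z M j))); infer_instance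
    haveI : IsIso ψ.τ₂ := by
      show IsIso (𝟙 (T.obj (M.X j))); infer_instance
    haveI : Mono ψ.τ₃ := by
      show Mono (T.map (ι M (j - 1)))
      exact (hT (j - 1)).mono_f
    exact (ShortComplex.exact_iff_of_epi_of_isIso_of_mono ψ).1 hTE
  -- `d_{j+1} = π_{j+1} ≫ ι_j` up to the index identification `j + 1 - 1 = j`
  obtain ⟨p, hp, hpe⟩ : ∃ p : M.X (j + 1) ⟶ Z M j, p ≫ ι M j = M.d (j + 1) j ∧ Epi (T.map p) := by
    have key : ∀ (k : ℤ) (hk : k = j), ∃ p : M.X (j + 1) ⟶ Z M k,
        p ≫ ι M k = M.d (j + 1) k ∧ Epi (T.map p) := by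
      intro k hk
      have hk' : k = j + 1 - 1 := by rw [hk]; ring
      subst hk'
      exact ⟨π M (j + 1), π_ι M (j + 1), (hT (j + 1)).epi_g⟩
    exact key j rfl
  let TS : ShortComplex ℬ := ShortComplex.mk (T.map (M.d (j + 1) j)) (T.map (M.d j (j - 1)))
    (by rw [← T.map_comp, M.d_comp_d, T.map_zero])
  have hTS : TS.Exact := by
    let φ : TS ⟶ Mid :=
      { τ₁ := T.map p, τ₂ := 𝟙 (T.obj (M.X j)), τ₃ := 𝟙 (T.obj (M.X (j - 1)))
        comm₁₂ := by
          show T.map p ≫ T.map (ι M j) = T.map (M.d (j + 1) j) ≫ 𝟙 (T.obj (M.X j))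
          rw [Category.comp_id, ← T.map_comp, hp]
        comm₂₃ := by
          show 𝟙 (T.obj (M.X j)) ≫ T.map (M.d j (j - 1)) =
            T.map (M.d j (j - 1)) ≫ 𝟙 (T.obj (M.X (j - 1)))
          rw [Category.id_comp, Category.comp_id] }
    haveI : Epi φ.τ₁ := hpe
    haveI : IsIso φ.τ₂ := by
      show IsIso (𝟙 (T.obj (M.X j))); infer_instance
    haveI : Mono φ.τ₃ := by
      show Mono (𝟙 (T.obj (M.X (j - 1)))); infer_instance
    exact (ShortComplex.exact_iff_of_epi_of_isIso_of_mono φ).2 hMid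
  exact hTS

end Splice

section acyclic

open Groth.Agent.Lib.Helper21.TensorW Groth.Agent.Lib.Helper21.TensorAdj
  Groth.Agent.Lib.Helper21.TensorMon

variable {C : Type u} [SmallCategory C] {J : GrothendieckTopology C} {O : Sheaf J CommRingCat.{u}}

theorem isFlat_of_isZero (Z : ModSite.Mod O) (hZ : IsZero Z) : ModSite.IsFlat Z := by
  refine isFlat_of_mono _ (fun {M M'} f _ => ?_)
  haveI := additive_tensL (O := O) M
  have h0 : IsZero ((tensL O M).obj Z) := (tensL O M).map_isZero hZ
  exact ⟨fun g h _ => h0.eq_of_tgt _ _⟩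

/-- a bounded below acyclic complex of flat modules stays acyclic after tensoring with any module -/
theorem acyclic_tens (M : ChainComplex (ModSite.Mod O) ℤ) (F : ModSite.Mod O)
    [(tens O F).PreservesZeroMorphisms]
    (hb : ∃ i₀ : ℤ, ∀ i, i < i₀ → IsZero (M.X i)) (hM : ∀ i, ModSite.IsFlat (M.X i))
    (hac : M.Acyclic) :
    (((tens O F).mapHomologicalComplex (ComplexShape.down ℤ)).obj M).Acyclic := by
  obtain ⟨i₀, hi₀⟩ := hb
  have hZ : ∀ (n : ℕ) (j : ℤ), j < i₀ + n → ModSite.IsFlat (Splice.Z M j) := by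
    intro n
    induction n with
    | zero =>
      intro j hj
      have : IsZero (Splice.Z M j) :=
        IsZero.of_mono (Splice.ι M j) (hi₀ j (by simpa using hj))
      exact isFlat_of_isZero _ this
    | succ n ih =>
      intro j hj
      have h1 : ModSite.IsFlat (Splice.Z M (j - 1)) := ih (j - 1) (by push_cast at hj; omega)
      exact isFlat_left (Splice.E M j) (Splice.shortExact_E hac j) (hM j) h1
  have hZ' : ∀ j, ModSite.IsFlat (Splice.Z M j) := by
    intro j
    refine hZ (j - i₀ + 1).toNat j ?_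
    have : ((j - i₀ + 1).toNat : ℤ) ≥ j - i₀ + 1 := Int.self_le_toNat _
    omega
  exact Splice.acyclic_map (tens O F) M
    (fun j => shortExact_map_tens (Splice.E M j) (Splice.shortExact_E hac j) (hZ' (j - 1)) F)

end acyclic

end Groth.Agent.Lib.Helper21.FlatSES
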