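import Mathlib
import Groth.Prelude.Def_ModSite
import Groth.Agent.Lib.Helper21.ExtZeroS
import Groth.Agent.Lib.Helper21.ExtZeroProj
import Groth.Agent.Lib.Helper21.FlatSES

/-!
Helper library (helper21): the projection formula for `j_!` on sheaves of modules and its
consequences for flatness.
-/

set_option autoImplicit false
universe u
open CategoryTheory MonoidalCategory Opposite Limits

namespace Groth.Agent.Lib.Helper21.ExtZeroT

open Groth.Agent.Lib.Helper21.TensorW Groth.Agent.Lib.Helper21.TensorAdj
  Groth.Agent.Lib.Helper21.TensorMon Groth.Agent.Lib.Helper21.TensorRestr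
  Groth.Agent.Lib.Helper21.ExtZeroS

variable {C : Type u} [SmallCategory C] {J : GrothendieckTopology C} (O : Sheaf J CommRingCat.{u})
  (X : C)

/-- `- ⊗ N` as a composite -/
noncomputable def tensEq (N : ModSite.Mod O) :
    tens O N ≅ fPM O ⋙ tensorRight (pv N) ⋙ shf O :=
  NatIso.ofComponents (fun _ => Iso.refl _) (by
    intro M M' φ
    rw [tens_map]
    exact (Category.comp_id _).trans (Category.id_comp _).symm)

/-- the projection formula, natural in the module on `C/X`:
`j_!(- ⊗ N|X) ≅ j_!(-) ⊗ N` -/
noncomputable def projFormula₁ (N : ModSite.Mod O) :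
    tens (O.over X) ((ModSite.restr O X).obj N) ⋙ ModSite.extZero O X ≅
      ModSite.extZero O X ⋙ tens O N :=
  Functor.isoWhiskerRight (tensEq (O.over X) ((ModSite.restr O X).obj N)) (ModSite.extZero O X) ≪≫
    Functor.isoWhiskerLeft (fPM (O.over X))
      (Functor.isoWhiskerLeft (tensorRight (pv ((ModSite.restr O X).obj N))) (shfExtZeroIso O X)) ≪≫
    Functor.isoWhiskerLeft (fPM (O.over X))
      (Functor.isoWhiskerRight
        ((tensoringRight (PM (O.over X))).mapIso (restrPIso O X N)) (extP O X ⋙ shf O)) ≪≫
    Functor.isoWhiskerLeft (fPM (O.over X))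
      (Functor.isoWhiskerRight (ExtZeroProj.projNatIso₁ (R := O.obj) (X := X) (pv N)) (shf O)) ≪≫
    Functor.isoWhiskerLeft (fPM (O.over X) ⋙ extP O X) (compIso O N) ≪≫
    Functor.isoWhiskerRight (extZeroIso O X).symm (tens O N)

/-- the projection formula, natural in the module on `C`:
`j_! M' ⊗ - ≅ j_!(M' ⊗ (-)|X)` -/
noncomputable def projFormula₂ (M' : ModSite.Mod (O.over X)) :
    tensL O ((ModSite.extZero O X).obj M') ≅
      ModSite.restr O X ⋙ tensL (O.over X) M' ⋙ ModSite.extZero O X :=
  (ModSite.tensorBi O).mapIso ((extZeroIso O X).app M') ≪≫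
    (tensLShfIso O ((extP O X).obj (pv M'))).symm ≪≫
    Functor.isoWhiskerLeft (fPM O)
      (Functor.isoWhiskerRight
        (ExtZeroProj.projNatIso₂ (R := O.obj) (X := X) (pv M')).symm (shf O)) ≪≫
    Functor.isoWhiskerRight (restrForgetIso O X).symm
      (tensorLeft (pv M') ⋙ extP O X ⋙ shf O) ≪≫
    Functor.isoWhiskerLeft (ModSite.restr O X ⋙ fPM (O.over X) ⋙ tensorLeft (pv M'))
      (shfExtZeroIso O X).symm

section flat

open Groth.Agent.Lib.Helper21.FlatSES

theorem reflectsIsomorphisms_extZero : (ModSite.extZero O X).ReflectsIsomorphisms := by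
  haveI := faithful_extZero O X
  infer_instance

/-- restriction of a flat module is flat -/
theorem isFlat_restr (M : ModSite.Mod O) (hM : ModSite.IsFlat M) :
    ModSite.IsFlat ((ModSite.restr O X).obj M) := by
  rw [isFlat_iff_preservesFiniteLimits] at hM ⊢
  haveI := preservesFiniteLimits_extZero O X
  haveI := reflectsIsomorphisms_extZero O X
  haveI : PreservesFiniteLimits (ModSite.extZero O X ⋙ tens O M) := comp_preservesFiniteLimits _ _
  haveI : PreservesFiniteLimits
      (tens (O.over X) ((ModSite.restr O X).obj M) ⋙ ModSite.extZero O X) :=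
    preservesFiniteLimits_of_natIso (projFormula₁ O X M).symm
  haveI : ReflectsFiniteLimits (ModSite.extZero O X) := ⟨fun K _ _ => inferInstance⟩
  exact preservesFiniteLimits_of_reflects_of_preserves
    (tens (O.over X) ((ModSite.restr O X).obj M)) (ModSite.extZero O X)

/-- extension by zero of a flat module is flat -/
theorem isFlat_extZero (M' : ModSite.Mod (O.over X)) (hM' : ModSite.IsFlat M') :
    ModSite.IsFlat ((ModSite.extZero O X).obj M') := by
  rw [isFlat_iff_preservesFiniteLimits]
  haveI := preservesFiniteLimits_extZero O X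
  haveI := preservesFiniteLimits_tensL_of_isFlat M' hM'
  haveI : PreservesFiniteLimits (ModSite.restr O X) := by
    haveI : PreservesLimitsOfSize.{u, u} (ModSite.restr O X) :=
      (ModSite.extZeroAdj O X).rightAdjoint_preservesLimits
    exact PreservesLimitsOfSize.preservesFiniteLimits _
  haveI : PreservesFiniteLimits (tensL (O.over X) M' ⋙ ModSite.extZero O X) :=
    comp_preservesFiniteLimits _ _
  haveI : PreservesFiniteLimits
      (ModSite.restr O X ⋙ tensL (O.over X) M' ⋙ ModSite.extZero O X) :=
    comp_preservesFiniteLimits _ _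
  haveI : PreservesFiniteLimits (tensL O ((ModSite.extZero O X).obj M')) :=
    preservesFiniteLimits_of_natIso (projFormula₂ O X M').symm
  exact preservesFiniteLimits_of_natIso (braidIso O _)

end flat

section free

open Groth.Agent.Lib.Helper21.FlatSES

theorem isFlat_unit : ModSite.IsFlat (ModSite.unit O) := by
  rw [isFlat_iff_preservesFiniteLimits]
  haveI : PreservesFiniteLimits (tensL O (ModSite.unit O)) :=
    preservesFiniteLimits_of_natIso (unitIso O).symm
  exact preservesFiniteLimits_of_natIso (braidIso O _)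

theorem isFlat_freeOn : ModSite.IsFlat (ModSite.freeOn O X) :=
  isFlat_extZero O X _ (isFlat_unit (O.over X))

/-- `A_X ⊗ M ≅ j_!(M|X)` -/
noncomputable def freeOnTensorIso (M : ModSite.Mod O) :
    (tensL O (ModSite.freeOn O X)).obj M ≅
      (ModSite.extZero O X).obj ((ModSite.restr O X).obj M) :=
  (projFormula₂ O X (ModSite.unit (O.over X))).app M ≪≫
    (ModSite.extZero O X).mapIso ((unitIso (O.over X)).app _)

end free

end Groth.Agent.Lib.Helper21.ExtZeroT
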