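import Mathlib
import Groth.Prelude.Def_ModSite
import Groth.Agent.Lib.Helper21.InjAcyc2
import Groth.Agent.Lib.Helper21.TensorAdj

/-!
# Element-level lemmas for sheaves of modules on a ringed site (helper21)
-/

set_option autoImplicit false

universe u

open CategoryTheory CategoryTheory.Limits Opposite

namespace Groth.Agent.Lib.helper21.ModElt

open Groth.Agent.Lib.Helper21.TensorW Groth.Agent.Lib.Helper21.TensorAdj
  Groth.Agent.Lib.helper21.InjAcyc

variable {C : Type u} [SmallCategory C] {J : GrothendieckTopology C} {O : Sheaf J CommRingCat.{u}}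

lemma injective_of_mono {M M' : ModSite.Mod O} (φ : M ⟶ M') [Mono φ] (X : Cᵒᵖ) :
    Function.Injective (amap (pvMap φ) X) := by
  have : Mono ((SheafOfModules.toSheaf (ModSite.ringSh O)).map φ) := inferInstance
  exact InjAcyc.injective_of_mono ((SheafOfModules.toSheaf (ModSite.ringSh O)).map φ) X

lemma mono_of_injective {M M' : ModSite.Mod O} (φ : M ⟶ M')
    (h : ∀ X : Cᵒᵖ, Function.Injective (amap (pvMap φ) X)) : Mono φ := by
  have : Mono ((SheafOfModules.toSheaf (ModSite.ringSh O)).map φ) :=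
    InjAcyc.mono_of_injective _ h
  exact (SheafOfModules.toSheaf (ModSite.ringSh O)).mono_of_mono_map this

lemma locSurj_of_epi {M M' : ModSite.Mod O} (φ : M ⟶ M') [Epi φ] :
    Presheaf.IsLocallySurjective J ((PresheafOfModules.toPresheaf _).map (pvMap φ)) := by
  have : Epi ((SheafOfModules.toSheaf (ModSite.ringSh O)).map φ) := inferInstance
  have h := (Sheaf.isLocallySurjective_iff_epi' (A := AddCommGrpCat.{u})
    ((SheafOfModules.toSheaf (ModSite.ringSh O)).map φ)).2 this
  exact h

lemma imageSieve_mem {M M' : ModSite.Mod O} (φ : M ⟶ M') [Epi φ] {V : C}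
    (s : (pv M').obj (op V)) :
    (Presheaf.imageSieve ((PresheafOfModules.toPresheaf _).map (pvMap φ)) s) ∈ J V :=
  haveI := locSurj_of_epi φ
  Presheaf.imageSieve_mem (U := op V) J ((PresheafOfModules.toPresheaf _).map (pvMap φ)) s

lemma separated (M : ModSite.Mod O) {V : C} (S : Sieve V) (hS : S ∈ J V)
    (x y : (pv M).obj (op V))
    (h : ∀ ⦃W : C⦄ (g : W ⟶ V), S g → rmap (pv M) g.op x = rmap (pv M) g.op y) : x = y :=
  (M.isSheaf.isSeparated) V S hS x y (fun W g hg => h g hg)

lemma eq_zero_of_locally (M : ModSite.Mod O) {V : C} (S : Sieve V) (hS : S ∈ J V)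
    (x : (pv M).obj (op V))
    (h : ∀ ⦃W : C⦄ (g : W ⟶ V), S g → rmap (pv M) g.op x = 0) : x = 0 :=
  separated M S hS x 0 (fun W g hg => (h g hg).trans (map_zero _).symm)

lemma sections_exact (S : ShortComplex (ModSite.Mod O)) (hS : S.ShortExact)
    (X : Cᵒᵖ) (y : (pv S.X₂).obj X) (hy : amap (pvMap S.g) X y = 0) :
    ∃ x : (pv S.X₁).obj X, amap (pvMap S.f) X x = y :=
  InjAcyc.sections_exact (S.map (SheafOfModules.toSheaf (ModSite.ringSh O)))
    (hS.map_of_exact _) X y hy

end Groth.Agent.Lib.helper21.ModElt
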