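import Mathlib
import Groth.Prelude.Def_ExtSupp
import Groth.Agent.Lib.Helper21.ModElt
import Groth.Agent.Lib.Helper21.ModFree
import Groth.Agent.Lib.Helper21.ExtZeroT
import Groth.Agent.Lib.Helper21.FlatSES

/-!
# Exactness properties of the internal hom in the first variable (helper21)

`ℋom(-, N)` is left exact (sectionwise), and `ℋom(-, I)` is exact for `I` injective.
-/

set_option autoImplicit false

universe u

open CategoryTheory CategoryTheory.Limits Opposite

namespace Groth.Agent.Lib.helper21.SheafHomExact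

open Groth.Agent.Lib.Helper21.TensorW Groth.Agent.Lib.Helper21.TensorAdj
  Groth.Agent.Lib.Helper21.TensorMon Groth.Agent.Lib.helper21.ModElt
  Groth.Agent.Lib.Helper21.ModFree

variable {C : Type u} [SmallCategory C] {J : GrothendieckTopology C} {O : Sheaf J CommRingCat.{u}}

section criteria

lemma epi_of_surjective {M M' : ModSite.Mod O} (φ : M ⟶ M')
    (h : ∀ X : Cᵒᵖ, Function.Surjective (amap (pvMap φ) X)) : Epi φ := by
  have h1 : Presheaf.IsLocallySurjective J
      ((SheafOfModules.toSheaf (ModSite.ringSh O)).map φ).hom :=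
    Presheaf.isLocallySurjective_of_surjective J _ (fun X => h X)
  have h2 : Epi ((SheafOfModules.toSheaf (ModSite.ringSh O)).map φ) :=
    (Sheaf.isLocallySurjective_iff_epi' (A := AddCommGrpCat.{u})
      ((SheafOfModules.toSheaf (ModSite.ringSh O)).map φ)).1 h1
  exact (SheafOfModules.toSheaf (ModSite.ringSh O)).epi_of_epi_map h2

/-- sectionwise criterion for short exactness -/
theorem shortExact_of_sections (S : ShortComplex (ModSite.Mod O))
    (h1 : ∀ X : Cᵒᵖ, Function.Injective (amap (pvMap S.f) X))
    (h2 : ∀ (X : Cᵒᵖ) (y : (pv S.X₂).obj X), amap (pvMap S.g) X y = 0 →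
      ∃ x : (pv S.X₁).obj X, amap (pvMap S.f) X x = y)
    (h3 : ∀ X : Cᵒᵖ, Function.Surjective (amap (pvMap S.g) X)) : S.ShortExact := by
  haveI : Mono S.f := mono_of_injective S.f h1
  haveI : Epi S.g := epi_of_surjective S.g h3
  refine ShortComplex.ShortExact.mk' ?_ inferInstance inferInstance
  rw [ShortComplex.exact_iff_epi_kernel_lift]
  apply epi_of_surjective
  intro X z
  let y := amap (pvMap (kernel.ι S.g)) X z
  have hy : amap (pvMap S.g) X y = 0 := by
    have e : kernel.ι S.g ≫ S.g = 0 := kernel.condition _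
    have := congrArg (fun ψ => amap (pvMap ψ) X z) e
    exact this
  obtain ⟨x, hx⟩ := h2 X y hy
  refine ⟨x, ?_⟩
  apply injective_of_mono (kernel.ι S.g) X
  have e : kernel.lift S.g S.f S.zero ≫ kernel.ι S.g = S.f := kernel.lift_ι _ _ _
  have := congrArg (fun ψ => amap (pvMap ψ) X x) e
  exact this.trans hx

end criteria

section hom

variable {F F' : ModSite.Mod O} [ModSite.HasSheafHom F] [ModSite.HasSheafHom F'] (g : F' ⟶ F)

/-- compatibility of the contravariance of `ℋom` with the adjunctions -/
lemma homEquiv_comp_sheafHomMap (T N : ModSite.Mod O) (σ : (tens O F).obj T ⟶ N) :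
    (ModSite.sheafHomAdj F).homEquiv T N σ ≫ (ExtSupp.sheafHomMap g).app N =
      (ModSite.sheafHomAdj F').homEquiv T N (((ModSite.tensorBi O).flip.map g).app T ≫ σ) := by
  rw [Adjunction.homEquiv_unit, Adjunction.homEquiv_unit, Category.assoc]
  have h1 := (ExtSupp.sheafHomMap g).naturality σ
  have h2 := unit_conjugateEquiv (ModSite.sheafHomAdj F) (ModSite.sheafHomAdj F')
    ((ModSite.tensorBi O).flip.map g) T
  rw [h1, ← Category.assoc]
  erw [h2]
  rw [Category.assoc, ← Functor.map_comp]

variable (F) in
/-- sections of `ℋom(F, N)` over `V` are morphisms `A_V ⊗ F ⟶ N` -/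
noncomputable def secEquiv (N : ModSite.Mod O) (V : C) :
    (pv ((ModSite.sheafHom F).obj N)).obj (op V) ≃ ((tens O F).obj (ModSite.freeOn O V) ⟶ N) :=
  (freeOnHomEquiv O V _).symm.trans ((ModSite.sheafHomAdj F).homEquiv _ N).symm

lemma secEquiv_sheafHomMap (N : ModSite.Mod O) (V : C)
    (s : (pv ((ModSite.sheafHom F).obj N)).obj (op V)) :
    secEquiv F' N V (amap (pvMap ((ExtSupp.sheafHomMap g).app N)) (op V) s) =
      ((ModSite.tensorBi O).flip.map g).app (ModSite.freeOn O V) ≫ secEquiv F N V s := by
  unfold secEquiv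
  simp only [Equiv.trans_apply]
  rw [Equiv.symm_apply_eq, ← homEquiv_comp_sheafHomMap, Equiv.apply_symm_apply, Equiv.symm_apply_eq,
    freeOnHomEquiv_comp, Equiv.apply_symm_apply]
  rfl

end hom

section exact

variable {F F' : ModSite.Mod O} [ModSite.HasSheafHom F] [ModSite.HasSheafHom F'] (g : F' ⟶ F)

lemma flip_map_app (T : ModSite.Mod O) :
    ((ModSite.tensorBi O).flip.map g).app T = (tensL O T).map g := rfl

variable (F) in
lemma secEquiv_zero (N : ModSite.Mod O) (V : C) : secEquiv F N V 0 = 0 := by
  unfold secEquiv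
  simp only [Equiv.trans_apply]
  rw [Equiv.symm_apply_eq, Equiv.symm_apply_eq, Adjunction.homEquiv_unit, Functor.map_zero,
    comp_zero]
  have h := freeOnHomEquiv_comp O V (0 : ModSite.freeOn O V ⟶ (ModSite.sheafHom F).obj N)
    (0 : (ModSite.sheafHom F).obj N ⟶ (ModSite.sheafHom F).obj N)
  rw [comp_zero] at h
  exact h.trans rfl |>.symm

/-- `ℋom(g, N)` is injective on sections for `g` an epimorphism -/
lemma injective_sheafHomMap_of_epi [Epi g] (N : ModSite.Mod O) (V : C) :
    Function.Injective (amap (pvMap ((ExtSupp.sheafHomMap g).app N)) (op V)) := by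
  intro s s' h
  have h' := congrArg (secEquiv F' N V) h
  rw [secEquiv_sheafHomMap, secEquiv_sheafHomMap, flip_map_app] at h'
  haveI : PreservesFiniteColimits (tensL O (ModSite.freeOn O V)) :=
    PreservesColimitsOfSize.preservesFiniteColimits _
  haveI : Epi ((tensL O (ModSite.freeOn O V)).map g) := inferInstance
  exact (secEquiv F N V).injective ((cancel_epi _).1 h')

/-- `ℋom(g, I)` is surjective on sections for `g` a monomorphism and `I` injective -/
lemma surjective_sheafHomMap_of_mono [Mono g] (N : ModSite.Mod O) [Injective N] (V : C) :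
    Function.Surjective (amap (pvMap ((ExtSupp.sheafHomMap g).app N)) (op V)) := by
  intro s'
  haveI : PreservesFiniteLimits (tensL O (ModSite.freeOn O V)) :=
    Groth.Agent.Lib.Helper21.FlatSES.preservesFiniteLimits_tensL_of_isFlat _
      (Groth.Agent.Lib.Helper21.ExtZeroT.isFlat_freeOn O V)
  haveI : Mono ((tensL O (ModSite.freeOn O V)).map g) := inferInstance
  refine ⟨(secEquiv F N V).symm
    (Injective.factorThru (secEquiv F' N V s') ((tensL O (ModSite.freeOn O V)).map g)), ?_⟩
  apply (secEquiv F' N V).injective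
  rw [secEquiv_sheafHomMap, Equiv.apply_symm_apply, flip_map_app, Injective.comp_factorThru]

end exact

/-- exactness in the middle of `ℋom(S, N)` on sections, for `S` right exact -/
lemma exact_sheafHomMap (S : ShortComplex (ModSite.Mod O)) (hS : S.Exact) [Epi S.g]
    [ModSite.HasSheafHom S.X₁] [ModSite.HasSheafHom S.X₂] [ModSite.HasSheafHom S.X₃]
    (N : ModSite.Mod O) (V : C) (s : (pv ((ModSite.sheafHom S.X₂).obj N)).obj (op V))
    (hs : amap (pvMap ((ExtSupp.sheafHomMap S.f).app N)) (op V) s = 0) :
    ∃ r : (pv ((ModSite.sheafHom S.X₃).obj N)).obj (op V),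
      amap (pvMap ((ExtSupp.sheafHomMap S.g).app N)) (op V) r = s := by
  let T := ModSite.freeOn O V
  haveI : PreservesFiniteColimits (tensL O T) := PreservesColimitsOfSize.preservesFiniteColimits _
  haveI : (tensL O T).IsLeftAdjoint := isLeftAdjoint_tensL O T
  haveI : (tensL O T).Additive := by
    have := preservesBinaryBiproducts_of_preservesBinaryCoproducts (tensL O T)
    exact Functor.additive_of_preservesBinaryBiproducts _
  have hT : (S.map (tensL O T)).Exact :=
    hS.map_of_epi_of_preservesCokernel (tensL O T) inferInstance inferInstance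
  haveI : Epi (S.map (tensL O T)).g := inferInstanceAs (Epi ((tensL O T).map S.g))
  let σ := secEquiv S.X₂ N V s
  have h0 : (S.map (tensL O T)).f ≫ σ = 0 := by
    have := secEquiv_sheafHomMap S.f N V s
    rw [hs, secEquiv_zero] at this
    exact this.symm
  refine ⟨(secEquiv S.X₃ N V).symm (hT.desc σ h0), ?_⟩
  apply (secEquiv S.X₂ N V).injective
  rw [secEquiv_sheafHomMap, Equiv.apply_symm_apply]
  exact hT.g_desc σ h0

end Groth.Agent.Lib.helper21.SheafHomExact
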