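import Mathlib
import Groth.Agent.S16289
import Groth.Agent.Lib.Helper21.SheafHomExact
import Groth.Agent.Lib.Helper21.AcycRes2
import Groth.Agent.Lib.Helper21.DerivedComm
import Groth.Agent.Lib.Helper21.TensorMon
import Groth.Agent.Lib.Helper27.FunLES

/-!
# `ℰxt^p_O(-, G)` as a contravariant δ-functor on a ringed site (helper21)

`cd O G : ContraDelta (T O G)` with `T O G p M = (extSh M p).obj G`; vanishing on finite free modules.
-/

set_option autoImplicit false

universe u

open CategoryTheory CategoryTheory.Limits Opposite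

namespace Groth.Agent.Lib.helper21.ExtShDelta

open Groth.Agent.Lib.helper21.AcycRes Groth.Agent.Lib.helper21.SheafHomExact
  Groth.Agent.Lib.helper21.ModElt Groth.Agent.Lib.Helper21.TensorW Groth.Agent.Lib.Helper21.TensorAdj
  Groth.Agent.Lib.Helper21.TensorMon

variable {C : Type u} [SmallCategory C] {J : GrothendieckTopology C} (O : Sheaf J CommRingCat.{u})

lemma hasSheafHom (M : ModSite.Mod O) : ModSite.HasSheafHom M := isLeftAdjoint_tens O M

lemma preservesFiniteLimits_sheafHom (M : ModSite.Mod O) [ModSite.HasSheafHom M] :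
    PreservesFiniteLimits (ModSite.sheafHom M) := by
  haveI := (ModSite.sheafHomAdj M).rightAdjoint_preservesLimits
  exact PreservesLimitsOfSize.preservesFiniteLimits.{u, u} _

variable {O}

lemma sheafHomMap_comp {M M' M'' : ModSite.Mod O}
    [ModSite.HasSheafHom M] [ModSite.HasSheafHom M'] [ModSite.HasSheafHom M'']
    (a : M'' ⟶ M') (b : M' ⟶ M) :
    ExtSupp.sheafHomMap (a ≫ b) = ExtSupp.sheafHomMap b ≫ ExtSupp.sheafHomMap a := by
  unfold ExtSupp.sheafHomMap
  rw [conjugateEquiv_comp, ← Functor.map_comp]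

lemma sheafHomMap_id (M : ModSite.Mod O) [ModSite.HasSheafHom M] :
    ExtSupp.sheafHomMap (𝟙 M) = 𝟙 (ModSite.sheafHom M) := by
  unfold ExtSupp.sheafHomMap
  rw [CategoryTheory.Functor.map_id]
  exact conjugateEquiv_id _

variable [HasInjectiveResolutions (ModSite.Mod O)]

/-- `ℰxt^p(M, G)` for all `M` -/
noncomputable def T (G : ModSite.Mod O) (p : ℕ) (M : ModSite.Mod O) : ModSite.Mod O :=
  haveI := hasSheafHom O M
  (ModSite.extSh M p).obj G

/-- contravariance of `ℰxt^p(-, G)` -/
noncomputable def Tmap (G : ModSite.Mod O) (p : ℕ) {M M' : ModSite.Mod O} (a : M' ⟶ M) :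
    T G p M ⟶ T G p M' :=
  haveI := hasSheafHom O M
  haveI := hasSheafHom O M'
  (ExtSupp.extShMap a p).app G

lemma Tmap_comp (G : ModSite.Mod O) (p : ℕ) {M M' M'' : ModSite.Mod O} (a : M'' ⟶ M') (b : M' ⟶ M) :
    Tmap G p (a ≫ b) = Tmap G p b ≫ Tmap G p a := by
  haveI := hasSheafHom O M
  haveI := hasSheafHom O M'
  haveI := hasSheafHom O M''
  unfold Tmap ExtSupp.extShMap
  have h3 : NatTrans.rightDerived (ExtSupp.sheafHomMap (a ≫ b)) p =
      NatTrans.rightDerived (ExtSupp.sheafHomMap b) p ≫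
        NatTrans.rightDerived (ExtSupp.sheafHomMap a) p := by
    rw [sheafHomMap_comp]
    exact NatTrans.rightDerived_comp _ _ p
  exact (NatTrans.congr_app h3 G).trans (NatTrans.comp_app _ _ G)

lemma Tmap_id (G : ModSite.Mod O) (p : ℕ) (M : ModSite.Mod O) :
    Tmap G p (𝟙 M) = 𝟙 (T G p M) := by
  haveI := hasSheafHom O M
  unfold Tmap ExtSupp.extShMap
  have h3 : NatTrans.rightDerived (ExtSupp.sheafHomMap (𝟙 M)) p =
      𝟙 ((ModSite.sheafHom M).rightDerived p) := by
    rw [sheafHomMap_id]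
    exact NatTrans.rightDerived_id _ p
  exact (NatTrans.congr_app h3 G).trans (NatTrans.id_app _ G)

/-- the long exact sequence of `ℰxt` sheaves in the first variable -/
theorem les (G : ModSite.Mod O) (S : ShortComplex (ModSite.Mod O)) (hS : S.ShortExact) :
    Mono (Tmap G 0 S.g) ∧
    (∀ p : ℕ, ∃ w : Tmap G p S.g ≫ Tmap G p S.f = 0, (ShortComplex.mk _ _ w).Exact) ∧
    ∃ δ : ∀ p : ℕ, T G p S.X₁ ⟶ T G (p + 1) S.X₃, ∀ p : ℕ,
      (∃ w : Tmap G p S.f ≫ δ p = 0, (ShortComplex.mk _ _ w).Exact) ∧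
      (∃ w : δ p ≫ Tmap G (p + 1) S.g = 0, (ShortComplex.mk _ _ w).Exact) := by
  classical
  haveI := hasSheafHom O S.X₁
  haveI := hasSheafHom O S.X₂
  haveI := hasSheafHom O S.X₃
  let α := ExtSupp.sheafHomMap S.g
  let β := ExtSupp.sheafHomMap S.f
  have w : α ≫ β = 0 := Groth.Agent.S16289.sheafHomMap_comp_zero S
  have hex : ∀ (I : ModSite.Mod O), Injective I →
      (ShortComplex.mk (α.app I) (β.app I) (by rw [← NatTrans.comp_app, w]; rfl)).ShortExact := by
    intro I hI
    have key := fun V : C => Groth.Agent.S16289.hexSite S hS I hI V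
    apply shortExact_of_sections
    · intro V
      exact (key V.unop).1
    · intro V y hy
      exact (key V.unop).2.1 y hy
    · intro V
      exact (key V.unop).2.2
  refine ⟨?_, fun p => ⟨Groth.Agent.Lib.helper27.FunLES.α_comp_β α β w p G,
    Groth.Agent.Lib.helper27.FunLES.exact₂ α β w hex p G⟩,
    ⟨fun p => Groth.Agent.Lib.helper27.FunLES.δApp α β w hex p G, fun p =>
      ⟨⟨Groth.Agent.Lib.helper27.FunLES.β_comp_δApp α β w hex p G,
        Groth.Agent.Lib.helper27.FunLES.exact₃ α β w hex p G⟩,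
      ⟨Groth.Agent.Lib.helper27.FunLES.δApp_comp_α α β w hex p G,
        Groth.Agent.Lib.helper27.FunLES.exact₁ α β w hex p G⟩⟩⟩⟩
  haveI := preservesFiniteLimits_sheafHom O S.X₃
  haveI := preservesFiniteLimits_sheafHom O S.X₂
  have hnat := Groth.Agent.Lib.helper27.FunLES.toRightDerivedZero_naturality α
  have hnatG := congrArg (fun t => t.app G) hnat
  simp only [NatTrans.comp_app] at hnatG
  haveI : Mono (α.app G) := by
    apply mono_of_injective
    intro V
    exact Groth.Agent.S16289.monoSite S hS G V.unop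
  haveI : Mono ((ModSite.sheafHom S.X₃).toRightDerivedZero.app G ≫
      (NatTrans.rightDerived α 0).app G) := by
    rw [← hnatG]
    infer_instance
  have e : (NatTrans.rightDerived α 0).app G =
      inv ((ModSite.sheafHom S.X₃).toRightDerivedZero.app G) ≫
        ((ModSite.sheafHom S.X₃).toRightDerivedZero.app G ≫
          (NatTrans.rightDerived α 0).app G) := by
    rw [IsIso.inv_hom_id_assoc]
  show Mono ((NatTrans.rightDerived α 0).app G)
  rw [e]
  infer_instance

/-- the contravariant δ-functor `ℰxt^•(-, G)` -/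
noncomputable def cd (G : ModSite.Mod O) : ContraDelta (T G) where
  map p {_ _} a := Tmap G p a
  map_comp p {_ _ _} a b := Tmap_comp G p a b
  les S hS := les G S hS

lemma cd_map_id (G : ModSite.Mod O) (p : ℕ) (M : ModSite.Mod O) :
    (cd G).map p (𝟙 M) = 𝟙 (T G p M) := Tmap_id G p M

/-- `ℋom(O, -) ≅ id` -/
noncomputable def sheafHomUnitIso [ModSite.HasSheafHom (ModSite.unit O)] :
    ModSite.sheafHom (ModSite.unit O) ≅ 𝟭 (ModSite.Mod O) :=
  conjugateIsoEquiv (ModSite.sheafHomAdj (ModSite.unit O)) Adjunction.id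
    (((braidIso O (ModSite.unit O)).symm ≪≫ unitIso O).symm)

lemma isZero_T_unit (G : ModSite.Mod O) (p : ℕ) (hp : 1 ≤ p) : IsZero (T G p (ModSite.unit O)) := by
  haveI := hasSheafHom O (ModSite.unit O)
  obtain ⟨q, rfl⟩ : ∃ q, p = q + 1 := ⟨p - 1, by omega⟩
  have e := Groth.Agent.Lib.Helper21.DerivedComm.rightDerivedIso (sheafHomUnitIso (O := O)) (q + 1)
  refine IsZero.of_iso ?_ (e.app G)
  exact Groth.Agent.Lib.Helper21.DerivedComm.isZero_rightDerived_of_exact (𝟭 (ModSite.Mod O)) q G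

lemma isZero_T_free (G : ModSite.Mod O) (p : ℕ) (hp : 1 ≤ p) (n : ℕ) :
    IsZero (T G p (∐ fun _ : Fin n => ModSite.unit O)) :=
  isZero_sigma_fin (cd G) (cd_map_id G) p n _ (fun _ => isZero_T_unit G p hp)

lemma isZero_T_of_iso_free (G : ModSite.Mod O) (p : ℕ) (hp : 1 ≤ p) (n : ℕ) (M : ModSite.Mod O)
    (e : M ≅ ∐ fun _ : Fin n => ModSite.unit O) : IsZero (T G p M) :=
  IsZero.of_iso (isZero_T_free G p hp n) (isoOfIso (cd G) (cd_map_id G) p e.symm)

end Groth.Agent.Lib.helper21.ExtShDelta
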