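import Mathlib
import Groth.Prelude.Def_ModSite
import Groth.Agent.Lib.Helper21.ExtZeroT
import Groth.Agent.Lib.Helper21.ModFree

/-!
Helper library (helper21): sections of the internal hom over `X` are `Hom(M|X, N|X)`.
-/

set_option autoImplicit false
universe u
open CategoryTheory MonoidalCategory Opposite Limits

namespace Groth.Agent.Lib.Helper21.ExtZeroHom

open Groth.Agent.Lib.Helper21.TensorW Groth.Agent.Lib.Helper21.TensorAdj
  Groth.Agent.Lib.Helper21.TensorMon Groth.Agent.Lib.Helper21.TensorRestr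
  Groth.Agent.Lib.Helper21.ExtZeroS Groth.Agent.Lib.Helper21.ExtZeroT
  Groth.Agent.Lib.Helper21.ModFree

variable {C : Type u} [SmallCategory C] {J : GrothendieckTopology C} (O : Sheaf J CommRingCat.{u})
  (X : C)

instance additive_extZero : (ModSite.extZero O X).Additive := by
  have := preservesBinaryBiproducts_of_preservesBinaryCoproducts (ModSite.extZero O X)
  exact Functor.additive_of_preservesBinaryBiproducts _

lemma freeOnHomEquiv_apply (M : ModSite.Mod O) (h : ModSite.freeOn O X ⟶ M) :
    freeOnHomEquiv O X M h =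
      ((ModSite.extZeroAdj O X).homEquiv _ M h).val.app (op (Over.mk (𝟙 X)))
        (1 : ((ModSite.ringSh O).over X).obj.obj (op (Over.mk (𝟙 X)))) := rfl

lemma freeOnHomEquiv_add (M : ModSite.Mod O) (h h' : ModSite.freeOn O X ⟶ M) :
    freeOnHomEquiv O X M (h + h') = freeOnHomEquiv O X M h + freeOnHomEquiv O X M h' := by
  rw [freeOnHomEquiv_apply, freeOnHomEquiv_apply, freeOnHomEquiv_apply,
    Adjunction.homAddEquiv_add]
  rfl

/-- `Hom(A_X, M) ≃+ M(X)` -/
noncomputable def freeOnAddEquiv (M : ModSite.Mod O) :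
    (ModSite.freeOn O X ⟶ M) ≃+ M.val.obj (op X) :=
  AddEquiv.mk' (freeOnHomEquiv O X M) (freeOnHomEquiv_add O X M)

/-- precomposition with an isomorphism, additively -/
def homAddCongrLeft {𝒜 : Type*} [Category* 𝒜] [Preadditive 𝒜] {A B : 𝒜} (e : A ≅ B) (Z : 𝒜) :
    (A ⟶ Z) ≃+ (B ⟶ Z) where
  toFun f := e.inv ≫ f
  invFun g := e.hom ≫ g
  left_inv f := by simp
  right_inv g := by simp
  map_add' f f' := Preadditive.comp_add _ _ _ _ _ _

/-- sections of the internal hom over `X` -/
noncomputable def sectSheafHomAddEquiv (M N : ModSite.Mod O) [ModSite.HasSheafHom M] :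
    ModSite.sect ((ModSite.sheafHom M).obj N) X ≃+
      ((ModSite.restr O X).obj M ⟶ (ModSite.restr O X).obj N) :=
  haveI := FlatSES.additive_tens (O := O) M
  (freeOnAddEquiv O X ((ModSite.sheafHom M).obj N)).symm.trans
    (((ModSite.sheafHomAdj M).homAddEquiv (ModSite.freeOn O X) N).symm.trans
      ((homAddCongrLeft (freeOnTensorIso O X M) N).trans
        ((ModSite.extZeroAdj O X).homAddEquiv ((ModSite.restr O X).obj M) N)))

/-- restriction commutes with the internal hom -/
noncomputable def restrSheafHomIso (M : ModSite.Mod O) [ModSite.HasSheafHom M]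
    [ModSite.HasSheafHom ((ModSite.restr O X).obj M)] :
    ModSite.sheafHom M ⋙ ModSite.restr O X ≅
      ModSite.restr O X ⋙ ModSite.sheafHom ((ModSite.restr O X).obj M) :=
  ((ModSite.extZeroAdj O X).comp (ModSite.sheafHomAdj M)).rightAdjointUniq
    (((ModSite.sheafHomAdj ((ModSite.restr O X).obj M)).comp
      (ModSite.extZeroAdj O X)).ofNatIsoLeft (projFormula₁ O X M))

end Groth.Agent.Lib.Helper21.ExtZeroHom
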