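import Mathlib
import Groth.Prelude.Def_Coh
import Groth.Prelude.Def_FlatMod2
import Groth.Prelude.Def_ModSite2

/-!
# Finite locally free modules on a scheme are locally free on the localised sites (helper21)

Bridge between `Scheme.Modules.restrict U.ι` (modules on the open subscheme) and `ModSite.restr X.sheaf U`
(modules on the over-site), via Mathlib's `Scheme.Modules.overEquiv` / `overFunctorEquiv`.
-/

set_option autoImplicit false

universe u

open CategoryTheory CategoryTheory.Limits Opposite AlgebraicGeometry

namespace Groth.Agent.Lib.helper21.LocFreeBridge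

/-- the unit of the over-site corresponds to the structure sheaf of `U` -/
noncomputable def overEquivInverseUnit {X : Scheme.{u}} (U : X.Opens) :
    (Scheme.Modules.overEquiv U).inverse.obj (Coh.structureModule (↑U : Scheme.{u})) ≅
      SheafOfModules.unit (X.ringCatSheaf.over U) :=
  TopologicalSpace.Opens.sheafOfModulesEquivOverInverseUnit U X.ringCatSheaf

/-- a free module on `U` corresponds to a free module on the over-site -/
noncomputable def overEquivInverseFree {X : Scheme.{u}} (U : X.Opens) (n : ℕ) :
    (Scheme.Modules.overEquiv U).inverse.obj (FlatMod.freeMod (↑U : Scheme.{u}) n) ≅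
      ∐ fun _ : Fin n => SheafOfModules.unit (X.ringCatSheaf.over U) :=
  (PreservesCoproduct.iso (Scheme.Modules.overEquiv U).inverse
    (fun _ : Fin n => Coh.structureModule (↑U : Scheme.{u}))) ≪≫
    Sigma.mapIso (fun _ => overEquivInverseUnit U)

/-- the over-site restriction of a module whose scheme restriction is free is free -/
noncomputable def restrIsoFree {X : Scheme.{u}} (E : X.Modules) (U : X.Opens) (n : ℕ)
    (e : E.restrict U.ι ≅ FlatMod.freeMod (↑U : Scheme.{u}) n) :
    (SheafOfModules.overFunctor X.ringCatSheaf U).obj E ≅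
      ∐ fun _ : Fin n => SheafOfModules.unit (X.ringCatSheaf.over U) :=
  (Scheme.Modules.overEquiv U).unitIso.app _ ≪≫
    (Scheme.Modules.overEquiv U).inverse.mapIso ((Scheme.Modules.overFunctorEquiv U).app E ≪≫ e) ≪≫
    overEquivInverseFree U n

theorem exists_restr_iso_free {X : Scheme.{u}} (E : X.Modules) (hE : FlatMod.IsFinLocFree E) (x : X) :
    ∃ (U : X.Opens) (n : ℕ), x ∈ U ∧
      Nonempty ((ModSite.restr X.sheaf U).obj E ≅ ∐ fun _ : Fin n => ModSite.unit (X.sheaf.over U)) := by
  obtain ⟨U, n, hx, ⟨e⟩⟩ := hE x
  exact ⟨U, n, hx, ⟨restrIsoFree E U n e⟩⟩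

end Groth.Agent.Lib.helper21.LocFreeBridge
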