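import Mathlib
import Groth.Agent.Lib.Helper12.TensorAssoc
import Groth.Agent.Lib.Helper12.PullTensor
import Groth.Agent.Lib.Helper12.InvDual2
import Groth.Agent.Lib.Helper21.SheafHomExact

/-!
# Duals of modules on a scheme: the canonical map `G ⊗ E^∨ ⟶ ℋom(E, G)` (helper21)

* `tensorMod₃_hom_ext`: morphisms out of `(A ⊗ B) ⊗ C` are determined by the sections `(a ⊗ b) ⊗ c`.
* `evG E G : (G ⊗ E^∨) ⊗ E ⟶ G`, `(g ⊗ λ) ⊗ e ↦ λ(e) • g`, with its section formula `evG_tmul`.
* `cMap E G : G ⊗ E^∨ ⟶ ℋom(E, G)`, the adjunct of `evG E G`, natural in `G` (`cMap_naturality`) and in `E`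
  (`cMap_sheafHomMap`).
-/

set_option autoImplicit false
universe u

open CategoryTheory CategoryTheory.Limits Opposite AlgebraicGeometry TopologicalSpace MonoidalCategory

namespace Groth.Agent.Lib.helper21.FLFDual

open Groth.Agent.Lib.Helper21.TensorW Groth.Agent.Lib.Helper21.TensorAdj
  Groth.Agent.Lib.Helper21.TensorMon
open Groth.Agent.Lib.helper12.InvDual Groth.Agent.Lib.helper12.TensorPowAdd
  Groth.Agent.Lib.helper12.PullTensor Groth.Agent.Lib.helper12.TensorAssoc
  Groth.Agent.Lib.helper12.TensorRestrict Groth.Agent.Lib.helper12.TensorSec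
open Groth.Agent.Lib.Lead.ModTensor (tensorMap tensorMap_id tensorMap_comp)

section general

variable {C : Type u} [SmallCategory C] {J : GrothendieckTopology C} {O : Sheaf J CommRingCat.{u}}

/-- naturality of the adjunction `- ⊗ E ⊣ ℋom(E, -)` in both variables at once -/
lemma homEquiv_nat (E : ModSite.Mod O) [ModSite.HasSheafHom E] {T T' G G' : ModSite.Mod O}
    (h : T ⟶ T') (φ : G ⟶ G') (σ : (tens O E).obj T ⟶ G) (σ' : (tens O E).obj T' ⟶ G')
    (hσ : σ ≫ φ = (tens O E).map h ≫ σ') :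
    (ModSite.sheafHomAdj E).homEquiv T G σ ≫ (ModSite.sheafHom E).map φ =
      h ≫ (ModSite.sheafHomAdj E).homEquiv T' G' σ' := by
  rw [← Adjunction.homEquiv_naturality_right, hσ, Adjunction.homEquiv_naturality_left]

/-- dinaturality of the adjunctions `- ⊗ E ⊣ ℋom(E, -)` in `E` -/
lemma homEquiv_dinat {E E' : ModSite.Mod O} [ModSite.HasSheafHom E] [ModSite.HasSheafHom E']
    (a : E' ⟶ E) {T T' G : ModSite.Mod O} (h : T ⟶ T')
    (σ : (tens O E).obj T ⟶ G) (σ' : (tens O E').obj T' ⟶ G)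
    (hσ : ((ModSite.tensorBi O).flip.map a).app T ≫ σ = (tens O E').map h ≫ σ') :
    (ModSite.sheafHomAdj E).homEquiv T G σ ≫ (ExtSupp.sheafHomMap a).app G =
      h ≫ (ModSite.sheafHomAdj E').homEquiv T' G σ' := by
  rw [Groth.Agent.Lib.helper21.SheafHomExact.homEquiv_comp_sheafHomMap, hσ,
    Adjunction.homEquiv_naturality_left]

/-- dinaturality of the evaluation maps -/
lemma counit_dinat {E E' : ModSite.Mod O} [ModSite.HasSheafHom E] [ModSite.HasSheafHom E']
    (a : E' ⟶ E) (N : ModSite.Mod O) :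
    (tens O E').map ((ExtSupp.sheafHomMap a).app N) ≫ (ModSite.sheafHomAdj E').counit.app N =
      ((ModSite.tensorBi O).flip.map a).app ((ModSite.sheafHom E).obj N) ≫
        (ModSite.sheafHomAdj E).counit.app N := by
  have h := Groth.Agent.Lib.helper21.SheafHomExact.homEquiv_comp_sheafHomMap a
    ((ModSite.sheafHom E).obj N) N ((ModSite.sheafHomAdj E).counit.app N)
  have h0 : (ModSite.sheafHomAdj E).homEquiv ((ModSite.sheafHom E).obj N) N
      ((ModSite.sheafHomAdj E).counit.app N) = 𝟙 _ := by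
    rw [Adjunction.homEquiv_unit]
    exact (ModSite.sheafHomAdj E).right_triangle_components N
  rw [h0, Category.id_comp] at h
  have h2 := congrArg ((ModSite.sheafHomAdj E').homEquiv ((ModSite.sheafHom E).obj N) N).symm h
  rw [Equiv.symm_apply_apply, Adjunction.homEquiv_counit] at h2
  exact h2

end general

variable {X : Scheme.{u}}

/-- Morphisms out of `(A ⊗ B) ⊗ C` are determined by the sections `(a ⊗ b) ⊗ c`. -/
theorem tensorMod₃_hom_ext {A B C Q : X.Modules}
    {f g : CohB1.tensorMod (CohB1.tensorMod A B) C ⟶ Q}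
    (H : ∀ (U : X.Opens) (a : A.val.obj (op U)) (b : B.val.obj (op U)) (c : C.val.obj (op U)),
      (f.val.app (op U)).hom
          (SecTwist.tmul (CohB1.tensorMod A B) C U (SecTwist.tmul A B U a b) c) =
        (g.val.app (op U)).hom
          (SecTwist.tmul (CohB1.tensorMod A B) C U (SecTwist.tmul A B U a b) c)) : f = g := by
  let P : CohB1.PMod X := CohB1.tensorPre A B
  let P3 : CohB1.PMod X := P ⊗ CohB1.toPMod C
  let T : X.Modules := CohB1.tensorMod (CohB1.tensorMod A B) C
  let w : (shP X).obj P3 ⟶ T := (shP X).map (toShP P ▷ CohB1.toPMod C)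
  haveI : IsIso w := isIso_shf_map_whiskerRight (unitP X.sheaf P) (CohB1.toPMod C)
  have hw : w ≫ (show T ⟶ Q from f) = w ≫ (show T ⟶ Q from g) := by
    apply ((adj X).homEquiv _ _).injective
    rw [Adjunction.homEquiv_unit, Adjunction.homEquiv_unit]
    ext V : 1
    apply ModuleCat.MonoidalCategory.tensor_ext₃'
    intro a b c
    have hx : SecTwist.tmul (CohB1.tensorMod A B) C V.unop (SecTwist.tmul A B V.unop a b) c =
        ((w.val.app V).hom
          (((toSheafify (show X.PresheafOfModules from P3)).app V).hom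
            ((a ⊗ₜ b : ↥(P.obj V)) ⊗ₜ c))) := by
      erw [sheafifyMap_toSheafify_apply]
      rfl
    change (f.val.app V).hom ((w.val.app V).hom
        (((toSheafify (show X.PresheafOfModules from P3)).app V).hom
          ((a ⊗ₜ b : ↥(P.obj V)) ⊗ₜ c))) =
      (g.val.app V).hom ((w.val.app V).hom
        (((toSheafify (show X.PresheafOfModules from P3)).app V).hom
          ((a ⊗ₜ b : ↥(P.obj V)) ⊗ₜ c)))
    rw [← hx]
    exact H V.unop a b c
  exact (cancel_epi w).1 hw

/-- the value of a section of the structure sheaf, as an element of the ring -/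
abbrev toRing {U : X.Opens} (s : (Coh.structureModule X).val.obj (op U)) :
    X.ringCatSheaf.obj.obj (op U) := s

/-- `(G ⊗ E^∨) ⊗ E ⟶ G`, `(g ⊗ λ) ⊗ e ↦ λ(e) • g` -/
noncomputable def evG (E G : X.Modules) :
    CohB1.tensorMod (CohB1.tensorMod G (dualMod E)) E ⟶ G :=
  (assocMod G (dualMod E) E).hom ≫ tensorMap (𝟙 G) (evMod E) ≫ (SecTwist.unitorR G).hom

theorem evG_tmul (E G : X.Modules) (U : X.Opens) (g : G.val.obj (op U))
    (l : (dualMod E).val.obj (op U)) (e : E.val.obj (op U)) :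
    ((evG E G).val.app (op U)).hom
        (SecTwist.tmul (CohB1.tensorMod G (dualMod E)) E U (SecTwist.tmul G (dualMod E) U g l) e) =
      toRing (((evMod E).val.app (op U)).hom (SecTwist.tmul (dualMod E) E U l e)) • g := by
  unfold evG
  change ((SecTwist.unitorR G).hom.val.app (op U)).hom
    (((tensorMap (𝟙 G) (evMod E)).val.app (op U)).hom
      (((assocMod G (dualMod E) E).hom.val.app (op U)).hom _)) = _
  rw [assocMod_hom_tmul, tensorMap_tmul]
  exact SecTwist.unitorR_tmul G U _ _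

/-- the canonical map `G ⊗ E^∨ ⟶ ℋom(E, G)` -/
noncomputable def cMap (E G : X.Modules) :
    CohB1.tensorMod G (dualMod E) ⟶ (ModSite.sheafHom (O := X.sheaf) E).obj G :=
  (ModSite.sheafHomAdj (O := X.sheaf) E).homEquiv (CohB1.tensorMod G (dualMod E)) G (evG E G)

theorem evG_naturality (E : X.Modules) {G G' : X.Modules} (φ : G ⟶ G') :
    evG E G ≫ φ = tensorMap (tensorMap φ (𝟙 (dualMod E))) (𝟙 E) ≫ evG E G' := by
  apply tensorMod₃_hom_ext
  intro U g l e
  change (φ.val.app (op U)).hom (((evG E G).val.app (op U)).hom _) =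
    ((evG E G').val.app (op U)).hom
      (((tensorMap (tensorMap φ (𝟙 (dualMod E))) (𝟙 E)).val.app (op U)).hom _)
  rw [evG_tmul, tensorMap_tmul, tensorMap_tmul, evG_tmul]
  exact map_smul _ _ _

theorem cMap_naturality (E : X.Modules) {G G' : X.Modules} (φ : G ⟶ G') :
    cMap E G ≫ (ModSite.sheafHom (O := X.sheaf) E).map φ =
      tensorMap φ (𝟙 (dualMod E)) ≫ cMap E G' := by
  exact homEquiv_nat (O := X.sheaf) E (tensorMap φ (𝟙 (dualMod E))) φ (evG E G) (evG E G')
    (evG_naturality E φ)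

/-- the transpose `a^∨ : E^∨ ⟶ E'^∨` of `a : E' ⟶ E` -/
noncomputable def dualMap {E E' : X.Modules} (a : E' ⟶ E) : dualMod E ⟶ dualMod E' :=
  (ExtSupp.sheafHomMap (O := X.sheaf) a).app (Coh.structureModule X)

theorem evMod_dinat {E E' : X.Modules} (a : E' ⟶ E) :
    tensorMap (dualMap a) (𝟙 E') ≫ evMod E' = tensorMap (𝟙 (dualMod E)) a ≫ evMod E :=
  counit_dinat (O := X.sheaf) a (Coh.structureModule X)

theorem evMod_dinat_apply {E E' : X.Modules} (a : E' ⟶ E) (U : X.Opens)
    (l : (dualMod E).val.obj (op U)) (e : E'.val.obj (op U)) :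
    ((evMod E').val.app (op U)).hom
        (SecTwist.tmul (dualMod E') E' U (((dualMap a).val.app (op U)).hom l) e) =
      ((evMod E).val.app (op U)).hom
        (SecTwist.tmul (dualMod E) E U l ((a.val.app (op U)).hom e)) := by
  have h := congrArg (fun φ => (φ.val.app (op U)).hom (SecTwist.tmul (dualMod E) E' U l e))
    (evMod_dinat a)
  change ((evMod E').val.app (op U)).hom
      (((tensorMap (dualMap a) (𝟙 E')).val.app (op U)).hom _) =
    ((evMod E).val.app (op U)).hom (((tensorMap (𝟙 (dualMod E)) a).val.app (op U)).hom _) at h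
  rw [tensorMap_tmul, tensorMap_tmul] at h
  exact h

theorem evG_dinat {E E' : X.Modules} (a : E' ⟶ E) (G : X.Modules) :
    tensorMap (𝟙 (CohB1.tensorMod G (dualMod E))) a ≫ evG E G =
      tensorMap (tensorMap (𝟙 G) (dualMap a)) (𝟙 E') ≫ evG E' G := by
  apply tensorMod₃_hom_ext
  intro U g l e
  change ((evG E G).val.app (op U)).hom
      (((tensorMap (𝟙 (CohB1.tensorMod G (dualMod E))) a).val.app (op U)).hom _) =
    ((evG E' G).val.app (op U)).hom
      (((tensorMap (tensorMap (𝟙 G) (dualMap a)) (𝟙 E')).val.app (op U)).hom _)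
  rw [tensorMap_tmul, tensorMap_tmul, tensorMap_tmul]
  have e1 : ((𝟙 (CohB1.tensorMod G (dualMod E)) : CohB1.tensorMod G (dualMod E) ⟶ _).val.app
      (op U)).hom (SecTwist.tmul G (dualMod E) U g l) = SecTwist.tmul G (dualMod E) U g l := rfl
  have e2 : ((𝟙 G : G ⟶ G).val.app (op U)).hom g = g := rfl
  have e3 : ((𝟙 E' : E' ⟶ E').val.app (op U)).hom e = e := rfl
  rw [e1, e2, e3, evG_tmul, evG_tmul, evMod_dinat_apply]

/-- naturality of `cMap` in `E` -/
theorem cMap_sheafHomMap {E E' : X.Modules} (a : E' ⟶ E) (G : X.Modules) :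
    cMap E G ≫ (ExtSupp.sheafHomMap (O := X.sheaf) a).app G =
      tensorMap (𝟙 G) (dualMap a) ≫ cMap E' G :=
  homEquiv_dinat (O := X.sheaf) a (tensorMap (𝟙 G) (dualMap a)) (evG E G) (evG E' G)
    (evG_dinat a G)

end Groth.Agent.Lib.helper21.FLFDual
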