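import Mathlib
import Groth.Agent.Lib.Helper21.FLFDual1
import Groth.Agent.Lib.Helper21.ExtShDelta

/-!
# `G ⊗ E^∨ ⟶ ℋom(E, G)` is an isomorphism for `E = O^n` (helper21)

* `sheafHomMap_add_app`, `shmHom`: additivity of the contravariance of `ℋom`.
* `isIso_cMap_unit`: the case `E = O`.
* `isIso_cMap_of_decomp`: if `𝟙_E = ∑ p_j ≫ i_j` with `i_j : E_j ⟶ E`, `p_j : E ⟶ E_j` and all `cMap (E_j) G` are isomorphisms,
  then so is `cMap E G`.
* `isIso_cMap_free`: the case `E = O^n`.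
-/

set_option autoImplicit false
universe u

open CategoryTheory CategoryTheory.Limits Opposite AlgebraicGeometry TopologicalSpace MonoidalCategory

namespace Groth.Agent.Lib.helper21.FLFDual

open Groth.Agent.Lib.Helper21.TensorW Groth.Agent.Lib.Helper21.TensorAdj
  Groth.Agent.Lib.Helper21.TensorMon
open Groth.Agent.Lib.helper12.InvDual Groth.Agent.Lib.helper12.TensorPowAdd
  Groth.Agent.Lib.helper12.PullTensor Groth.Agent.Lib.helper12.TensorAssoc
  Groth.Agent.Lib.helper12.TensorRestrict Groth.Agent.Lib.helper12.TensorSec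
open Groth.Agent.Lib.Lead.ModTensor (tensorMap tensorMap_id tensorMap_comp)
open Groth.Agent.Lib.helper21.ExtShDelta

section abstract

variable {𝒜 : Type*} [Category 𝒜]

lemma isIso_of_sq {A A' B B' : 𝒜} (d : A ⟶ A') (c' : A' ⟶ B') (c : A ⟶ B) (h : B ⟶ B')
    (w : d ≫ c' = c ≫ h) (hd : IsIso d) (hc : IsIso c) (hh : IsIso h) : IsIso c' := by
  have : c' = inv d ≫ c ≫ h := by rw [← w, IsIso.inv_hom_id_assoc]
  rw [this]
  infer_instance

lemma isIso_of_sq' {A A' B B' : 𝒜} (d : A ⟶ A') (c' : A' ⟶ B') (c : A ⟶ B) (h : B ⟶ B')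
    (w : d ≫ c' = c ≫ h) (hd : IsIso d) (hc' : IsIso c') (hh : IsIso h) : IsIso c := by
  have : c = d ≫ c' ≫ inv h := by rw [← Category.assoc, w, Category.assoc, IsIso.hom_inv_id,
    Category.comp_id]
  rw [this]
  infer_instance

lemma isIso_of_decomp [Preadditive 𝒜] {ι : Type*} (s : Finset ι)
    {A B : 𝒜} (c : A ⟶ B) (Aj Bj : ι → 𝒜) (cj : ∀ j, Aj j ⟶ Bj j) (hc : ∀ j, IsIso (cj j))
    (Di : ∀ j, A ⟶ Aj j) (Dp : ∀ j, Aj j ⟶ A) (Hi : ∀ j, B ⟶ Bj j) (Hp : ∀ j, Bj j ⟶ B)
    (h1 : ∀ j, c ≫ Hi j = Di j ≫ cj j) (h2 : ∀ j, cj j ≫ Hp j = Dp j ≫ c)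
    (hD : ∑ j ∈ s, Di j ≫ Dp j = 𝟙 A) (hH : ∑ j ∈ s, Hi j ≫ Hp j = 𝟙 B) : IsIso c := by
  refine ⟨∑ j ∈ s, Hi j ≫ inv (cj j) ≫ Dp j, ?_, ?_⟩
  · rw [Preadditive.comp_sum, ← hD]
    refine Finset.sum_congr rfl fun j _ => ?_
    rw [← Category.assoc, h1, Category.assoc, IsIso.hom_inv_id_assoc]
  · rw [Preadditive.sum_comp, ← hH]
    refine Finset.sum_congr rfl fun j _ => ?_
    rw [Category.assoc, Category.assoc, ← h2, IsIso.inv_hom_id_assoc]

lemma isIso_of_inverse {A B : 𝒜} (f : A ⟶ B) (g : B ⟶ A) (h1 : f ≫ g = 𝟙 A) (h2 : g ≫ f = 𝟙 B) :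
    IsIso f := ⟨g, h1, h2⟩

end abstract

section general

variable {C : Type u} [SmallCategory C] {J : GrothendieckTopology C} {O : Sheaf J CommRingCat.{u}}

instance additive_tensL' (T : ModSite.Mod O) : (tensL O T).Additive := by
  haveI : (tensL O T).IsLeftAdjoint := isLeftAdjoint_tensL O T
  have := preservesBinaryBiproducts_of_preservesBinaryCoproducts (tensL O T)
  exact Functor.additive_of_preservesBinaryBiproducts _

instance additive_tens' (T : ModSite.Mod O) : (tens O T).Additive := by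
  haveI : (tens O T).IsLeftAdjoint := isLeftAdjoint_tens O T
  have := preservesBinaryBiproducts_of_preservesBinaryCoproducts (tens O T)
  exact Functor.additive_of_preservesBinaryBiproducts _

/-- `ℋom(g, N)` in terms of the adjunctions -/
lemma sheafHomMap_app_eq {E E' : ModSite.Mod O} [ModSite.HasSheafHom E] [ModSite.HasSheafHom E']
    (a : E' ⟶ E) (N : ModSite.Mod O) :
    (ExtSupp.sheafHomMap a).app N =
      (ModSite.sheafHomAdj E').homEquiv ((ModSite.sheafHom E).obj N) N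
        ((tensL O ((ModSite.sheafHom E).obj N)).map a ≫ (ModSite.sheafHomAdj E).counit.app N) := by
  have h := Groth.Agent.Lib.helper21.SheafHomExact.homEquiv_comp_sheafHomMap a
    ((ModSite.sheafHom E).obj N) N ((ModSite.sheafHomAdj E).counit.app N)
  have h0 : (ModSite.sheafHomAdj E).homEquiv ((ModSite.sheafHom E).obj N) N
      ((ModSite.sheafHomAdj E).counit.app N) = 𝟙 _ := by
    rw [Adjunction.homEquiv_unit]
    exact (ModSite.sheafHomAdj E).right_triangle_components N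
  rw [h0, Category.id_comp] at h
  exact h

lemma sheafHomMap_add_app {E E' : ModSite.Mod O} [ModSite.HasSheafHom E] [ModSite.HasSheafHom E']
    (a b : E' ⟶ E) (N : ModSite.Mod O) :
    (ExtSupp.sheafHomMap (a + b)).app N =
      (ExtSupp.sheafHomMap a).app N + (ExtSupp.sheafHomMap b).app N := by
  rw [sheafHomMap_app_eq, sheafHomMap_app_eq, sheafHomMap_app_eq, Functor.map_add,
    Preadditive.add_comp]
  exact (ModSite.sheafHomAdj E').homAddEquiv_add _ _ _ _

/-- `a ↦ ℋom(a, N)` as an additive map -/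
noncomputable def shmHom (E E' N : ModSite.Mod O) [ModSite.HasSheafHom E] [ModSite.HasSheafHom E'] :
    (E' ⟶ E) →+ ((ModSite.sheafHom E).obj N ⟶ (ModSite.sheafHom E').obj N) :=
  AddMonoidHom.mk' (fun a => (ExtSupp.sheafHomMap a).app N) (fun a b => sheafHomMap_add_app a b N)

lemma sheafHomMap_sum_app {E E' : ModSite.Mod O} [ModSite.HasSheafHom E] [ModSite.HasSheafHom E']
    {ι : Type*} (s : Finset ι) (a : ι → (E' ⟶ E)) (N : ModSite.Mod O) :
    (ExtSupp.sheafHomMap (∑ j ∈ s, a j)).app N = ∑ j ∈ s, (ExtSupp.sheafHomMap (a j)).app N :=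
  map_sum (shmHom E E' N) a s

/-- `- ⊗ O ≅ id` -/
noncomputable def tensUnitIso : tens O (ModSite.unit O) ≅ 𝟭 (ModSite.Mod O) :=
  (braidIso O (ModSite.unit O)).symm ≪≫ unitIso O

lemma isIso_sheafHomAdj_unit_unit : IsIso (ModSite.sheafHomAdj (ModSite.unit O)).unit :=
  (ModSite.sheafHomAdj (ModSite.unit O)).isIso_unit_of_iso
    (Functor.isoWhiskerLeft _ (ExtShDelta.sheafHomUnitIso (O := O)) ≪≫ Functor.rightUnitor _ ≪≫ tensUnitIso)

lemma isIso_sheafHomAdj_unit_counit : IsIso (ModSite.sheafHomAdj (ModSite.unit O)).counit :=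
  (ModSite.sheafHomAdj (ModSite.unit O)).isIso_counit_of_iso
    (Functor.isoWhiskerLeft _ (tensUnitIso (O := O)) ≪≫ Functor.rightUnitor _ ≪≫
      ExtShDelta.sheafHomUnitIso)

lemma isIso_homEquiv_of_isIso (E : ModSite.Mod O) [ModSite.HasSheafHom E]
    (hu : IsIso (ModSite.sheafHomAdj E).unit) {T G : ModSite.Mod O} (σ : (tens O E).obj T ⟶ G)
    (hσ : IsIso σ) : IsIso ((ModSite.sheafHomAdj E).homEquiv T G σ) := by
  rw [Adjunction.homEquiv_unit]
  infer_instance

end general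

variable {X : Scheme.{u}}

theorem dualMap_comp {E E' E'' : X.Modules} (a : E'' ⟶ E') (b : E' ⟶ E) :
    dualMap (a ≫ b) = dualMap b ≫ dualMap a :=
  NatTrans.congr_app (sheafHomMap_comp (O := X.sheaf) a b) (Coh.structureModule X)

theorem dualMap_id (E : X.Modules) : dualMap (𝟙 E) = 𝟙 (dualMod E) :=
  NatTrans.congr_app (sheafHomMap_id (O := X.sheaf) E) (Coh.structureModule X)

theorem dualMap_sum {E E' : X.Modules} {ι : Type*} (s : Finset ι) (a : ι → (E' ⟶ E)) :
    dualMap (∑ j ∈ s, a j) = ∑ j ∈ s, dualMap (a j) :=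
  sheafHomMap_sum_app (O := X.sheaf) s a (Coh.structureModule X)

/-- `D(a) = 𝟙_G ⊗ a^∨` -/
noncomputable def dMap (G : X.Modules) {E E' : X.Modules} (a : E' ⟶ E) :
    CohB1.tensorMod G (dualMod E) ⟶ CohB1.tensorMod G (dualMod E') :=
  tensorMap (𝟙 G) (dualMap a)

theorem dMap_comp (G : X.Modules) {E E' E'' : X.Modules} (a : E'' ⟶ E') (b : E' ⟶ E) :
    dMap G (a ≫ b) = dMap G b ≫ dMap G a := by
  unfold dMap
  rw [dualMap_comp]
  exact (tensL X.sheaf G).map_comp (dualMap b) (dualMap a)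

theorem dMap_id (G E : X.Modules) : dMap G (𝟙 E) = 𝟙 _ := by
  unfold dMap
  rw [dualMap_id]
  exact (tensL X.sheaf G).map_id (dualMod E)

theorem dMap_sum (G : X.Modules) {E E' : X.Modules} {ι : Type*} (s : Finset ι)
    (a : ι → (E' ⟶ E)) : dMap G (∑ j ∈ s, a j) = ∑ j ∈ s, dMap G (a j) := by
  unfold dMap
  rw [dualMap_sum]
  exact (tensL X.sheaf G).map_sum (fun j => dualMap (a j)) s

/-- `H(a) = ℋom(a, G)` -/
noncomputable def hMap (G : X.Modules) {E E' : X.Modules} (a : E' ⟶ E) :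
    (ModSite.sheafHom (O := X.sheaf) E).obj G ⟶ (ModSite.sheafHom (O := X.sheaf) E').obj G :=
  (ExtSupp.sheafHomMap (O := X.sheaf) a).app G

theorem hMap_comp (G : X.Modules) {E E' E'' : X.Modules} (a : E'' ⟶ E') (b : E' ⟶ E) :
    hMap G (a ≫ b) = hMap G b ≫ hMap G a :=
  NatTrans.congr_app (sheafHomMap_comp (O := X.sheaf) a b) G

theorem hMap_id (G E : X.Modules) : hMap G (𝟙 E) = 𝟙 _ :=
  NatTrans.congr_app (sheafHomMap_id (O := X.sheaf) E) G

theorem hMap_sum (G : X.Modules) {E E' : X.Modules} {ι : Type*} (s : Finset ι)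
    (a : ι → (E' ⟶ E)) : hMap G (∑ j ∈ s, a j) = ∑ j ∈ s, hMap G (a j) :=
  sheafHomMap_sum_app (O := X.sheaf) s a G

theorem cMap_hMap {E E' : X.Modules} (a : E' ⟶ E) (G : X.Modules) :
    cMap E G ≫ hMap G a = dMap G a ≫ cMap E' G :=
  cMap_sheafHomMap a G

/-- if `𝟙_E = ∑ p_j ≫ i_j` and `cMap E_j G` is an isomorphism for all `j`, then so is `cMap E G` -/
theorem isIso_cMap_of_decomp {E G : X.Modules} {ι : Type*} (s : Finset ι) (Ej : ι → X.Modules)
    (i : ∀ j, Ej j ⟶ E) (p : ∀ j, E ⟶ Ej j) (hsum : ∑ j ∈ s, p j ≫ i j = 𝟙 E)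
    (h : ∀ j, IsIso (cMap (Ej j) G)) : IsIso (cMap E G) := by
  refine isIso_of_decomp s (cMap E G) _ _ (fun j => cMap (Ej j) G) h
    (fun j => dMap G (i j)) (fun j => dMap G (p j)) (fun j => hMap G (i j)) (fun j => hMap G (p j))
    (fun j => cMap_hMap (i j) G) (fun j => cMap_hMap (p j) G) ?_ ?_
  · refine Eq.trans (Finset.sum_congr rfl fun j _ => (dMap_comp G (p j) (i j)).symm) ?_
    refine (dMap_sum G s (fun j => p j ≫ i j)).symm.trans ?_
    rw [hsum]
    exact dMap_id G E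
  · refine Eq.trans (Finset.sum_congr rfl fun j _ => (hMap_comp G (p j) (i j)).symm) ?_
    refine (hMap_sum G s (fun j => p j ≫ i j)).symm.trans ?_
    rw [hsum]
    exact hMap_id G E

theorem isIso_evMod_unit : IsIso (evMod (Coh.structureModule X)) := by
  haveI := isIso_sheafHomAdj_unit_counit (O := X.sheaf)
  exact inferInstanceAs (IsIso ((ModSite.sheafHomAdj (O := X.sheaf)
    (ModSite.unit X.sheaf)).counit.app (ModSite.unit X.sheaf)))

theorem isIso_cMap_unit (G : X.Modules) : IsIso (cMap (Coh.structureModule X) G) := by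
  haveI := isIso_evMod_unit (X := X)
  haveI : IsIso (tensorMap (𝟙 G) (evMod (Coh.structureModule X))) :=
    (Groth.Agent.Lib.Lead.ModTensor.tensorIso (Iso.refl G)
      (asIso (evMod (Coh.structureModule X)))).isIso_hom
  have h1 : IsIso (evG (Coh.structureModule X) G) := by
    unfold evG
    infer_instance
  exact isIso_homEquiv_of_isIso (O := X.sheaf) (ModSite.unit X.sheaf)
    isIso_sheafHomAdj_unit_unit (T := CohB1.tensorMod G (dualMod (Coh.structureModule X))) (G := G)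
    (evG (Coh.structureModule X) G) h1

theorem isIso_hMap_of_iso {E E' : X.Modules} (e : E' ≅ E) (G : X.Modules) :
    IsIso (hMap G e.hom) :=
  isIso_of_inverse _ (hMap G e.inv)
    ((hMap_comp G e.inv e.hom).symm.trans (by rw [e.inv_hom_id]; exact hMap_id G E))
    ((hMap_comp G e.hom e.inv).symm.trans (by rw [e.hom_inv_id]; exact hMap_id G E'))

theorem isIso_dMap_of_iso {E E' : X.Modules} (e : E' ≅ E) (G : X.Modules) :
    IsIso (dMap G e.hom) :=
  isIso_of_inverse _ (dMap G e.inv)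
    ((dMap_comp G e.inv e.hom).symm.trans (by rw [e.inv_hom_id]; exact dMap_id G E))
    ((dMap_comp G e.hom e.inv).symm.trans (by rw [e.hom_inv_id]; exact dMap_id G E'))

theorem isIso_cMap_of_iso {E E' : X.Modules} (e : E' ≅ E) (G : X.Modules)
    (h : IsIso (cMap E G)) : IsIso (cMap E' G) :=
  isIso_of_sq _ _ _ _ (cMap_hMap e.hom G).symm (isIso_dMap_of_iso e G) h (isIso_hMap_of_iso e G)

attribute [local instance] Abelian.hasFiniteBiproducts

theorem isIso_cMap_biproduct (G : X.Modules) (n : ℕ) :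
    IsIso (cMap (⨁ fun _ : Fin n => Coh.structureModule X) G) :=
  isIso_cMap_of_decomp Finset.univ (fun _ : Fin n => Coh.structureModule X)
    (fun j => biproduct.ι (fun _ : Fin n => Coh.structureModule X) j)
    (fun j => biproduct.π (fun _ : Fin n => Coh.structureModule X) j) biproduct.total
    (fun _ => isIso_cMap_unit G)

theorem isIso_cMap_freeMod (G : X.Modules) (n : ℕ) : IsIso (cMap (FlatMod.freeMod X n) G) :=
  isIso_cMap_of_iso (biproduct.isoCoproduct _).symm G (isIso_cMap_biproduct G n)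

end Groth.Agent.Lib.helper21.FLFDual
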