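import Mathlib
import Groth.Agent.Lib.Helper21.FLFDual2
import Groth.Agent.Lib.Helper11.IsoLocus
import Groth.Agent.Lib.Helper16.FLF1

/-!
# `G ⊗ E^∨ ⟶ ℋom(E, G)` is an isomorphism for `E` finite locally free (helper21)

* `bijective_sheafHomMap_of_isIso_restr`: if `a|_V` is an isomorphism then `ℋom(a, G)(V)` is bijective.
* `le_isoLocus_hMap`, `le_isoLocus_dMap`: `ℋom(a, G)` and `𝟙_G ⊗ a^∨` are isomorphisms where `a` is.
* `isIso_cMap`: `cMap E G` is an isomorphism for `E` finite locally free.
-/

set_option autoImplicit false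
universe u

open CategoryTheory CategoryTheory.Limits Opposite AlgebraicGeometry TopologicalSpace MonoidalCategory

namespace Groth.Agent.Lib.helper21.FLFDual

open Groth.Agent.Lib.Helper21.TensorW Groth.Agent.Lib.Helper21.TensorAdj
  Groth.Agent.Lib.Helper21.TensorMon Groth.Agent.Lib.helper21.ModElt
  Groth.Agent.Lib.Helper21.ModFree Groth.Agent.Lib.Helper21.ExtZeroT
  Groth.Agent.Lib.helper21.SheafHomExact
open Groth.Agent.Lib.helper12.InvDual Groth.Agent.Lib.helper12.TensorPowAdd
  Groth.Agent.Lib.helper12.PullTensor Groth.Agent.Lib.helper12.TensorAssoc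
  Groth.Agent.Lib.helper12.TensorRestrict Groth.Agent.Lib.helper12.TensorSec
open Groth.Agent.Lib.Lead.ModTensor (tensorMap tensorMap_id tensorMap_comp)
open Groth.Agent.Lib.helper21.ExtShDelta
open Groth.Agent.Lib.helper11.IsoLocus
open Scheme.Modules

section general

variable {C : Type u} [SmallCategory C] {J : GrothendieckTopology C} {O : Sheaf J CommRingCat.{u}}

lemma isIso_tensL_freeOn_map {E E' : ModSite.Mod O} (a : E' ⟶ E) (V : C)
    (h : IsIso ((ModSite.restr O V).map a)) :
    IsIso ((tensL O (ModSite.freeOn O V)).map a) := by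
  rw [NatIso.isIso_map_iff (projFormula₂ O V (ModSite.unit (O.over V))) a]
  change IsIso ((ModSite.extZero O V).map
    ((tensL (O.over V) (ModSite.unit (O.over V))).map ((ModSite.restr O V).map a)))
  infer_instance

/-- if `a|_V` is an isomorphism then `ℋom(a, G)(V)` is bijective -/
lemma bijective_sheafHomMap_of_isIso_restr {E E' : ModSite.Mod O} [ModSite.HasSheafHom E]
    [ModSite.HasSheafHom E'] (a : E' ⟶ E) (G : ModSite.Mod O) (V : C)
    (h : IsIso ((ModSite.restr O V).map a)) :
    Function.Bijective (amap (pvMap ((ExtSupp.sheafHomMap a).app G)) (op V)) := by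
  haveI := isIso_tensL_freeOn_map a V h
  have key : ∀ s, secEquiv E' G V (amap (pvMap ((ExtSupp.sheafHomMap a).app G)) (op V) s) =
      (tensL O (ModSite.freeOn O V)).map a ≫ secEquiv E G V s :=
    fun s => secEquiv_sheafHomMap a G V s
  constructor
  · intro s s' hs
    have h1 := congrArg (secEquiv E' G V) hs
    rw [key, key] at h1
    exact (secEquiv E G V).injective ((cancel_epi _).1 h1)
  · intro t
    refine ⟨(secEquiv E G V).symm
      (inv ((tensL O (ModSite.freeOn O V)).map a) ≫ secEquiv E' G V t), ?_⟩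
    apply (secEquiv E' G V).injective
    rw [key, Equiv.apply_symm_apply, IsIso.hom_inv_id_assoc]

end general

variable {X : Scheme.{u}}

theorem isIso_restr_map {E E' : X.Modules} (a : E' ⟶ E) (U : X.Opens)
    (h : IsIso ((restrictFunctor U.ι).map a)) :
    IsIso ((ModSite.restr X.sheaf U).map a) := by
  have h1 : IsIso ((SheafOfModules.overFunctor X.ringCatSheaf U ⋙
      (Scheme.Modules.overEquiv U).functor).map a) :=
    (NatIso.isIso_map_iff (Scheme.Modules.overFunctorEquiv U) a).mpr h
  have h2 : IsIso ((Scheme.Modules.overEquiv U).functor.map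
      ((SheafOfModules.overFunctor X.ringCatSheaf U).map a)) := h1
  exact isIso_of_reflects_iso _ (Scheme.Modules.overEquiv U).functor

theorem le_isoLocus_hMap {E E' : X.Modules} (a : E' ⟶ E) (G : X.Modules) (V : X.Opens)
    (h : V ≤ isoLocus a) : V ≤ isoLocus (hMap G a) := by
  rw [le_isoLocus_iff, isIso_restrict_iff_app]
  intro W hW
  have hW' : IsIso ((restrictFunctor W.ι).map a) := (le_isoLocus_iff _ _).mp (hW.trans h)
  have h1 : IsIso ((ModSite.restr X.sheaf W).map a) := isIso_restr_map a W hW'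
  have h2 := bijective_sheafHomMap_of_isIso_restr (O := X.sheaf) a G W h1
  rw [ConcreteCategory.isIso_iff_bijective]
  exact h2

theorem le_isoLocus_dMap {E E' : X.Modules} (a : E' ⟶ E) (G : X.Modules) (V : X.Opens)
    (h : V ≤ isoLocus a) : V ≤ isoLocus (dMap G a) := by
  have h1 : V ≤ isoLocus (dualMap a) := le_isoLocus_hMap a (Coh.structureModule X) V h
  refine le_trans ?_ (isoLocus_inf_le_tensorMap (𝟙 G) (dualMap a))
  rw [isoLocus_id, top_inf_eq]
  exact h1

open Groth.Agent.Lib.helper16.FLF in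
/-- **`G ⊗ E^∨ ⟶ ℋom(E, G)` is an isomorphism for `E` finite locally free.** -/
theorem isIso_cMap {E : X.Modules} (hE : FlatMod.IsFinLocFree E) (G : X.Modules) :
    IsIso (cMap E G) := by
  rw [isIso_iff_stalk]
  intro y
  obtain ⟨V, n, hyV, ⟨e⟩⟩ := hE y
  let Et : X.Modules := (Scheme.Modules.pushforward V.ι).obj ((restrictFunctor V.ι).obj E)
  let a : E ⟶ Et := (restrictAdjunction V.ι).unit.app E
  let B : X.Modules := FlatMod.freeMod X n
  let c : (restrictFunctor V.ι).obj B ⟶ (restrictFunctor V.ι).obj E :=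
    (restrictFreeModIso V.ι n).hom ≫ e.inv
  let b : B ⟶ Et := (restrictAdjunction V.ι).unit.app B ≫ (Scheme.Modules.pushforward V.ι).map c
  have ha : V ≤ isoLocus a := le_isoLocus_restrictAdjunction_unit E V
  have hb : V ≤ isoLocus b := by
    rw [le_isoLocus_iff]
    have h1 : IsIso ((restrictFunctor V.ι).map ((restrictAdjunction V.ι).unit.app B)) :=
      (le_isoLocus_iff _ _).mp (le_isoLocus_restrictAdjunction_unit B V)
    change IsIso ((restrictFunctor V.ι).map (_ ≫ _))
    rw [Functor.map_comp]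
    infer_instance
  have hB : IsIso (cMap B G) := isIso_cMap_freeMod G n
  have h1 : IsIso (stalkMap (cMap Et G) y) :=
    isIso_stalkMap_of_square _ _ _ _ (cMap_hMap b G).symm y
      (isIso_stalkMap_of_le _ (le_isoLocus_dMap b G V hb) hyV) inferInstance
      (isIso_stalkMap_of_le _ (le_isoLocus_hMap b G V hb) hyV)
  exact isIso_stalkMap_of_square' _ _ _ _ (cMap_hMap a G).symm y
    (isIso_stalkMap_of_le _ (le_isoLocus_dMap a G V ha) hyV) h1
    (isIso_stalkMap_of_le _ (le_isoLocus_hMap a G V ha) hyV)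

/-- the natural isomorphism `- ⊗ E^∨ ≅ ℋom(E, -)` for `E` finite locally free -/
noncomputable def tensDualIso {E : X.Modules} (hE : FlatMod.IsFinLocFree E) :
    tens X.sheaf (dualMod E) ≅ ModSite.sheafHom (O := X.sheaf) E :=
  NatIso.ofComponents (fun G => @asIso _ _ _ _ (cMap E G) (isIso_cMap hE G))
    (fun {G G'} φ => (cMap_naturality E φ).symm)

/-- for `E` finite locally free, `- ⊗ E ⊣ - ⊗ E^∨` -/
noncomputable def tensDualAdj {E : X.Modules} (hE : FlatMod.IsFinLocFree E) :
    tens X.sheaf E ⊣ tens X.sheaf (dualMod E) :=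
  (ModSite.sheafHomAdj (O := X.sheaf) E).ofNatIsoRight (tensDualIso hE).symm

end Groth.Agent.Lib.helper21.FLFDual
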