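import Mathlib
import Groth.Agent.Lib.Helper21.FLFDual3
import Groth.Agent.Lib.Helper21.DerivedComm

/-!
# `ℰxt^q(F ⊗ L, G) ≅ ℰxt^q(F, G) ⊗ L^∨` for `L` finite locally free (helper21)
-/

set_option autoImplicit false
universe u

open CategoryTheory CategoryTheory.Limits Opposite AlgebraicGeometry TopologicalSpace MonoidalCategory

namespace Groth.Agent.Lib.helper21.FLFDual

open Groth.Agent.Lib.Helper21.TensorW Groth.Agent.Lib.Helper21.TensorAdj
  Groth.Agent.Lib.Helper21.TensorMon
open Groth.Agent.Lib.helper12.InvDual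
open Groth.Agent.Lib.helper21.ExtShDelta
open Groth.Agent.Lib.Helper21.DerivedComm

section general

variable {C : Type u} [SmallCategory C] {J : GrothendieckTopology C} {O : Sheaf J CommRingCat.{u}}

/-- `ℋom(F ⊗ L, -) ≅ ℋom(L, ℋom(F, -))` -/
noncomputable def sheafHomTensIso (F L : ModSite.Mod O) [ModSite.HasSheafHom F]
    [ModSite.HasSheafHom L] [ModSite.HasSheafHom ((tensL O F).obj L)] :
    ModSite.sheafHom ((tensL O F).obj L) ≅ ModSite.sheafHom F ⋙ ModSite.sheafHom L :=
  (ModSite.sheafHomAdj ((tensL O F).obj L)).rightAdjointUniq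
    (((ModSite.sheafHomAdj L).comp (ModSite.sheafHomAdj F)).ofNatIsoLeft (tensTensIso F L).symm)

variable [HasInjectiveResolutions (ModSite.Mod O)]

/-- if `ℋom(L, -) ≅ - ⊗ D` with `- ⊗ D` exact, then `ℰxt^q(F ⊗ L, -) ≅ ℰxt^q(F, -) ⊗ D` -/
noncomputable def extShTensIso (F L D : ModSite.Mod O) [ModSite.HasSheafHom F]
    [ModSite.HasSheafHom L] [ModSite.HasSheafHom ((tensL O F).obj L)]
    (e : tens O D ≅ ModSite.sheafHom L) [(tens O D).Additive] [(tens O D).PreservesHomology]
    (q : ℕ) :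
    ModSite.extSh ((tensL O F).obj L) q ≅ ModSite.extSh F q ⋙ tens O D :=
  rightDerivedIso (sheafHomTensIso F L ≪≫ Functor.isoWhiskerLeft (ModSite.sheafHom F) e.symm) q ≪≫
    rightDerivedPostIso (tens O D) (ModSite.sheafHom F) q

/-- `ℰxt^q(M, -) ≅ ℰxt^q(M', -)` for `M ≅ M'` -/
noncomputable def extShCongr {M M' : ModSite.Mod O} [ModSite.HasSheafHom M] [ModSite.HasSheafHom M']
    (e : M ≅ M') (q : ℕ) : ModSite.extSh M q ≅ ModSite.extSh M' q :=
  rightDerivedIso (conjugateIsoEquiv (ModSite.sheafHomAdj M) (ModSite.sheafHomAdj M')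
    ((ModSite.tensorBi O).flip.mapIso e).symm) q

end general

variable {X : Scheme.{u}}

theorem preservesFiniteLimits_tens_dualMod {E : X.Modules} (hE : FlatMod.IsFinLocFree E) :
    PreservesFiniteLimits (tens X.sheaf (dualMod E)) := by
  haveI := (tensDualAdj hE).rightAdjoint_preservesLimits
  exact PreservesLimitsOfSize.preservesFiniteLimits.{u, u} _

theorem preservesFiniteColimits_tens (E : X.Modules) :
    PreservesFiniteColimits (tens X.sheaf E) := by
  haveI : (tens X.sheaf E).IsLeftAdjoint := isLeftAdjoint_tens X.sheaf E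
  exact PreservesColimitsOfSize.preservesFiniteColimits.{u, u} _

/-- `ℰxt^q(F ⊗ L, G) ≅ ℰxt^q(F, G) ⊗ L^∨` for `L` finite locally free -/
theorem nonempty_extSh_tensor_iso [HasInjectiveResolutions (ModSite.Mod X.sheaf)]
    (F G L : X.Modules) (hL : FlatMod.IsFinLocFree L) (q : ℕ) :
    Nonempty ((ModSite.extSh (O := X.sheaf) (CohB1.tensorMod F L) q).obj G ≅
      CohB1.tensorMod ((ModSite.extSh (O := X.sheaf) F q).obj G) (dualMod L)) := by
  haveI := preservesFiniteLimits_tens_dualMod hL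
  haveI := preservesFiniteColimits_tens (dualMod L)
  haveI : (tens X.sheaf (dualMod L)).Additive := additive_tens' _
  exact ⟨(extShTensIso (O := X.sheaf) F L (dualMod L) (tensDualIso hL) q).app G⟩

end Groth.Agent.Lib.helper21.FLFDual
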