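import Mathlib
import Groth.Agent.Lib.Helper21.InjAcyc

/-!
# The extension property passes to right adjoints of exact functors (helper21)
-/

set_option autoImplicit false

universe u

open CategoryTheory CategoryTheory.Limits Opposite CategoryTheory.Abelian

namespace Groth.Agent.Lib.helper21.InjAcyc

variable {C D : Type u} [SmallCategory C] [SmallCategory D]
  {J : GrothendieckTopology C} {K : GrothendieckTopology D}

/-- if `Λ ⊣ ρ` with `Λ` exact, then `ρ` preserves the extension property -/
theorem extProp_rightAdjoint {Λ : Sheaf K AddCommGrpCat.{u} ⥤ Sheaf J AddCommGrpCat.{u}}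
    {ρ : Sheaf J AddCommGrpCat.{u} ⥤ Sheaf K AddCommGrpCat.{u}} (adj : Λ ⊣ ρ)
    [PreservesFiniteLimits Λ] {B : Sheaf J AddCommGrpCat.{u}} (hB : ExtProp B) :
    ExtProp (ρ.obj B) := by
  intro S hS hTF f
  haveI : ρ.Additive := by
    haveI : PreservesLimitsOfSize.{0, 0} ρ := adj.rightAdjoint_preservesLimits
    exact Functor.additive_of_preserves_binary_products _
  haveI : Λ.Additive := adj.left_adjoint_additive
  haveI : PreservesFiniteColimits Λ := by
    haveI := adj.leftAdjoint_preservesColimits
    infer_instance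
  have hS' : (S.map Λ).ShortExact := hS.map_of_exact Λ
  have hTF' : TF J (S.map Λ).X₃ := tf_map Λ hTF
  obtain ⟨g, hg⟩ := hB (S.map Λ) hS' hTF' ((adj.homEquiv _ _).symm f)
  refine ⟨adj.homEquiv _ _ g, ?_⟩
  rw [← Adjunction.homEquiv_naturality_left]
  have : Λ.map S.f ≫ g = (adj.homEquiv _ _).symm f := hg
  rw [this, Equiv.apply_symm_apply]

end Groth.Agent.Lib.helper21.InjAcyc
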