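import Mathlib

/-!
# Open base change for direct images of `O`-modules (helper21)

`(f_* M)|_V ≅ (f|_V)_* (M|_{f⁻¹V})`, naturally in `M`.
-/

set_option autoImplicit false

universe u

namespace Groth.Agent.Lib.helper21.ModOpenBC

open CategoryTheory CategoryTheory.Limits Opposite TopologicalSpace AlgebraicGeometry
open AlgebraicGeometry.Scheme.Modules

variable {X S : Scheme.{u}} (f : X ⟶ S) (V : S.Opens)

/-- `(f_* M)|_V ≅ (f|_V)_* (M|_{f⁻¹V})` -/
noncomputable def bcIsoApp (M : X.Modules) :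
    (restrictFunctor V.ι).obj ((pushforward f).obj M) ≅
      (pushforward (f ∣_ V)).obj ((restrictFunctor (f ⁻¹ᵁ V).ι).obj M) := by
  refine (SheafOfModules.fullyFaithfulForget _).preimageIso <|
    PresheafOfModules.isoMk (fun U ↦ ?_) ?_
  · refine ModuleCat.isoMk
      (M.presheaf.mapIso (eqToIso (image_morphismRestrict_preimage f V U.unop)).op) ?_
    intro r
    ext x
    have key : (f ∣_ V).app U.unop =
        f.app (V.ι ''ᵁ U.unop) ≫
          X.presheaf.map (eqToHom (image_morphismRestrict_preimage f V U.unop)).op :=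
      morphismRestrict_app f V U.unop
    have h1 := Scheme.Modules.map_smul M (eqToHom (image_morphismRestrict_preimage f V U.unop))
      ((f.app (V.ι ''ᵁ U.unop)).hom r) x
    have h2 : ((f ∣_ V).app U.unop).hom r =
        (X.presheaf.map (eqToHom (image_morphismRestrict_preimage f V U.unop)).op).hom
          ((f.app (V.ι ''ᵁ U.unop)).hom r) := by
      rw [key]
      rfl
    change @HSMul.hSMul Γ(X, (f ⁻¹ᵁ V).ι ''ᵁ ((f ∣_ V) ⁻¹ᵁ U.unop))
        Γ(M, (f ⁻¹ᵁ V).ι ''ᵁ ((f ∣_ V) ⁻¹ᵁ U.unop)) _ _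
        (((f ⁻¹ᵁ V).ι.appIso ((f ∣_ V) ⁻¹ᵁ U.unop)).inv.hom (((f ∣_ V).app U.unop).hom r))
        ((M.presheaf.map (eqToHom (image_morphismRestrict_preimage f V U.unop)).op).hom x) =
      (M.presheaf.map (eqToHom (image_morphismRestrict_preimage f V U.unop)).op).hom
        (@HSMul.hSMul Γ(X, f ⁻¹ᵁ (V.ι ''ᵁ U.unop)) Γ(M, f ⁻¹ᵁ (V.ι ''ᵁ U.unop)) _ _
          ((f.app (V.ι ''ᵁ U.unop)).hom ((V.ι.appIso U.unop).inv.hom r)) x)
    have e1 : (V.ι.appIso U.unop).inv.hom r = r := by
      rw [Scheme.Opens.ι_appIso]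
      rfl
    have e2 : ((f ⁻¹ᵁ V).ι.appIso ((f ∣_ V) ⁻¹ᵁ U.unop)).inv.hom (((f ∣_ V).app U.unop).hom r) =
        ((f ∣_ V).app U.unop).hom r := by
      rw [Scheme.Opens.ι_appIso]
      rfl
    rw [e1, e2, h2]
    exact h1.symm
  · intro U U' g
    ext x
    change (M.presheaf.map (eqToHom (image_morphismRestrict_preimage f V U'.unop)).op).hom
        ((M.presheaf.map ((Opens.map f.base).map (V.ι.opensFunctor.map g.unop)).op).hom x) =
      (M.presheaf.map ((f ⁻¹ᵁ V).ι.opensFunctor.map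
          ((Opens.map (f ∣_ V).base).map g.unop)).op).hom
        ((M.presheaf.map (eqToHom (image_morphismRestrict_preimage f V U.unop)).op).hom x)
    rw [← ConcreteCategory.comp_apply, ← ConcreteCategory.comp_apply, ← Functor.map_comp,
      ← Functor.map_comp]
    rfl

lemma bcIsoApp_hom_app (M : X.Modules) (U : (V : Scheme.{u}).Opens) :
    (bcIsoApp f V M).hom.app U =
      M.presheaf.map (eqToHom (image_morphismRestrict_preimage f V U)).op := rfl

/-- open base change in degree zero: `(f_* -)|_V ≅ (f|_V)_* (-|_{f⁻¹V})` -/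
noncomputable def bcIso :
    pushforward f ⋙ restrictFunctor V.ι ≅
      restrictFunctor (f ⁻¹ᵁ V).ι ⋙ pushforward (f ∣_ V) :=
  NatIso.ofComponents (bcIsoApp f V) (by
    intro M N φ
    refine Scheme.Modules.hom_ext _ _ fun U => ?_
    rw [Scheme.Modules.Hom.comp_app, Scheme.Modules.Hom.comp_app, bcIsoApp_hom_app,
      bcIsoApp_hom_app]
    exact (φ.mapPresheaf.naturality
      (eqToHom (image_morphismRestrict_preimage f V U)).op).symm)

end Groth.Agent.Lib.helper21.ModOpenBC
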