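import Mathlib
import Groth.Prelude.Def_Coh
import Groth.Agent.Lib.Helper21.DerivedComm
import Groth.Agent.Lib.Helper21.InjAcyc2
import Groth.Agent.Lib.Helper27.RpushNat

/-!
# `R^p f_*` on `O`-modules, as abelian sheaf, is the sheafification of `V ↦ H^p(f⁻¹V, -)`,
naturally (helper21)
-/

set_option autoImplicit false

universe u

namespace Groth.Agent.Lib.helper21.RpushTheta

open CategoryTheory CategoryTheory.Limits Opposite TopologicalSpace AlgebraicGeometry
open Groth.Agent.Lib.helper27 Groth.Agent.Lib.helper7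

variable {X S : Scheme.{u}} (f : X ⟶ S)

/-- the target functor : `M ↦ (V ↦ H^p(f⁻¹V, M))^#` -/
noncomputable abbrev Q (p : ℕ) :
    Sheaf (Opens.grothendieckTopology X) AddCommGrpCat.{u} ⥤
      Sheaf (Opens.grothendieckTopology S) AddCommGrpCat.{u} :=
  ExtPsh.Tp.{u} (FreeYoneda.freeSheaf (Opens.grothendieckTopology X)) p ⋙
    RpushSheafify.E (Opens.grothendieckTopology S) (Opens.map f.base)

/-- injective `O`-modules are acyclic for the direct image of abelian sheaves -/
lemma isZero_rpushAb_of_injective (I : X.Modules) (hI : Injective I) (i : ℕ) :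
    IsZero (((Coh.pushAb f).rightDerived (i + 1)).obj
      ((SheafOfModules.toSheaf.{u} X.ringCatSheaf).obj I)) := by
  obtain ⟨e⟩ := RpushSheafify.rpush_iso_top f.base
    ((SheafOfModules.toSheaf.{u} X.ringCatSheaf).obj I) (i + 1)
  refine IsZero.of_iso ?_ e
  refine Functor.map_isZero _ ?_
  refine Functor.isZero _ (fun W => ?_)
  have : Subsingleton (Abelian.Ext.{u}
      ((FreeYoneda.freeSheaf (Opens.grothendieckTopology X)).obj
        ((Opens.map f.base).obj W.unop)) ((SheafOfModules.toSheaf.{u} X.ringCatSheaf).obj I)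
          (i + 1)) :=
    subsingleton_of_forall_eq 0 fun x =>
      @InjAcyc.ext_toSheaf_eq_zero _ _ _ X.ringCatSheaf _ I hI _
        (InjAcyc.tf_free _) i x
  exact AddCommGrpCat.isZero_of_subsingleton (AddCommGrpCat.of (Abelian.Ext.{u}
      ((FreeYoneda.freeSheaf (Opens.grothendieckTopology X)).obj
        ((Opens.map f.base).obj W.unop)) ((SheafOfModules.toSheaf.{u} X.ringCatSheaf).obj I)
          (i + 1)))

/-- **natural** identification of the abelian sheaf underlying `R^p f_* M` -/
theorem nonempty_theta [HasInjectiveResolutions X.Modules] (p : ℕ) :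
    Nonempty (Coh.Rpush f p ⋙ SheafOfModules.toSheaf.{u} S.ringCatSheaf ≅
      SheafOfModules.toSheaf.{u} X.ringCatSheaf ⋙ Q f p) := by
  classical
  haveI : EnoughInjectives X.Modules :=
    SSGroth.enoughInjectives_of_hasInjectiveResolutions _
  haveI : PreservesFiniteLimits (Coh.pushAb f) := by
    have h : PreservesLimitsOfSize.{u, u} (Coh.pushAb f) :=
      (TopCat.Sheaf.pullbackPushforwardAdjunction AddCommGrpCat.{u}
        f.base).rightAdjoint_preservesLimits
    exact PreservesLimitsOfSize.preservesFiniteLimits.{u, u} _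
  let ΦX : X.Modules ⥤ Sheaf (Opens.grothendieckTopology X) AddCommGrpCat.{u} :=
    SheafOfModules.toSheaf.{u} X.ringCatSheaf
  let ΦS : S.Modules ⥤ Sheaf (Opens.grothendieckTopology S) AddCommGrpCat.{u} :=
    SheafOfModules.toSheaf.{u} S.ringCatSheaf
  haveI addX : ΦX.Additive := { map_add := by intros; rfl }
  haveI addS : ΦS.Additive := { map_add := by intros; rfl }
  haveI : PreservesFiniteLimits ΦX := InjAcyc.toSheaf_preservesFiniteLimits X.ringCatSheaf
  haveI : PreservesFiniteLimits ΦS := InjAcyc.toSheaf_preservesFiniteLimits S.ringCatSheaf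
  haveI : PreservesFiniteColimits ΦX := InjAcyc.toSheaf_preservesFiniteColimits X.ringCatSheaf
  haveI : PreservesFiniteColimits ΦS := InjAcyc.toSheaf_preservesFiniteColimits S.ringCatSheaf
  haveI : (Scheme.Modules.pushforward f ⋙ ΦS).Additive := inferInstance
  haveI : (ΦX ⋙ Coh.pushAb f).Additive := inferInstance
  obtain ⟨e3⟩ := DeltaFPre.rightDerived_comp_exact_iso ΦX (Coh.pushAb f)
    (fun I hI q => isZero_rpushAb_of_injective f I hI q) p
  obtain ⟨e4⟩ := RpushNat.rpush_natIso (Opens.grothendieckTopology X)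
    (Opens.grothendieckTopology S) (Opens.map f.base) p
  exact ⟨(Groth.Agent.Lib.Helper21.DerivedComm.rightDerivedPostIso ΦS (Scheme.Modules.pushforward f) p).symm ≪≫
    Groth.Agent.Lib.Helper21.DerivedComm.rightDerivedIso
      (Iso.refl _ : Scheme.Modules.pushforward f ⋙ ΦS ≅ ΦX ⋙ Coh.pushAb f) p ≪≫ e3 ≪≫
    Functor.isoWhiskerLeft ΦX e4⟩

end Groth.Agent.Lib.helper21.RpushTheta
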