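import Mathlib
import Groth.Prelude.Def_CohTop
import Groth.Agent.Lib.Helper21.AbShriek

/-!
# Restriction of abelian sheaves to an open subspace: exactness, injectives, base change with `f_*`
-/

open CategoryTheory Limits Opposite TopologicalSpace

universe u

namespace Groth.Agent.Lib.Helper21.TopRestr

variable {X : TopCat.{u}} (U : Opens X)

/-- `restrFunctor U` as the composite of restriction to the over-site and the equivalence. -/
lemma restrFunctor_eq : CohTop.restrFunctor U =
    AbShriek.jStar U (Opens.grothendieckTopology X) ⋙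
      (U.sheafEquivOver (A := AddCommGrpCat.{u})).functor := rfl

instance restr_preservesFiniteLimits : PreservesFiniteLimits (CohTop.restrFunctor U) := by
  rw [restrFunctor_eq]
  infer_instance

instance restr_preservesFiniteColimits : PreservesFiniteColimits (CohTop.restrFunctor U) := by
  rw [restrFunctor_eq]
  infer_instance

instance restr_preservesInjectiveObjects : (CohTop.restrFunctor U).PreservesInjectiveObjects := by
  rw [restrFunctor_eq]
  infer_instance

section baseChange

variable {Y : TopCat.{u}} (f : X ⟶ Y) (V : Opens Y)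

/-- the restriction of `f` over `V`. -/
abbrev gRestr : TopCat.of ((Opens.map f).obj V) ⟶ TopCat.of V :=
  TopCat.ofHom ⟨(V : Set Y).restrictPreimage f, f.hom.continuous.restrictPreimage⟩

lemma opens_eq (W : Opens (TopCat.of V)) :
    (Opens.map f).obj (V.isOpenEmbedding.isOpenMap.functor.obj W) =
      ((Opens.map f).obj V).isOpenEmbedding.isOpenMap.functor.obj ((Opens.map (gRestr f V)).obj W) := by
  ext x
  constructor
  · rintro ⟨w, hw, hwx⟩
    have hx : x ∈ (Opens.map f).obj V := by
      show f x ∈ V
      exact hwx ▸ w.2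
    refine ⟨⟨x, hx⟩, ?_, rfl⟩
    show (gRestr f V) ⟨x, hx⟩ ∈ W
    have : (gRestr f V) ⟨x, hx⟩ = w := by
      apply Subtype.ext
      exact hwx.symm
    rw [this]
    exact hw
  · rintro ⟨z, hz, rfl⟩
    exact ⟨(gRestr f V) z, hz, rfl⟩

/-- `(f_* F)|_V ≅ g_* (F|_{f⁻¹ V})` as presheaves. -/
noncomputable def midPresheafIso (F : CohTop.Ab X) :
    ((CohTop.push f ⋙ CohTop.restrFunctor V).obj F).obj ≅
      ((CohTop.restrFunctor ((Opens.map f).obj V) ⋙ CohTop.push (gRestr f V)).obj F).obj :=
  NatIso.ofComponents (fun W => F.obj.mapIso (eqToIso (congrArg op (opens_eq f V W.unop)))) (by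
    intro W W' a
    show F.obj.map _ ≫ F.obj.map _ = F.obj.map _ ≫ F.obj.map _
    rw [← F.obj.map_comp, ← F.obj.map_comp]
    congr 1)

/-- `(f_* -)|_V ≅ g_* (-|_{f⁻¹ V})`. -/
noncomputable def midIso :
    CohTop.push f ⋙ CohTop.restrFunctor V ≅
      CohTop.restrFunctor ((Opens.map f).obj V) ⋙ CohTop.push (gRestr f V) :=
  NatIso.ofComponents (fun F => (fullyFaithfulSheafToPresheaf _ _).preimageIso (midPresheafIso f V F)) (by
    intro F F' φ
    apply (sheafToPresheaf _ _).map_injective
    rw [Functor.map_comp, Functor.map_comp]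
    simp only [Functor.FullyFaithful.preimageIso_hom]
    apply NatTrans.ext
    funext W
    exact (φ.hom.naturality _).symm)

end baseChange

end Groth.Agent.Lib.Helper21.TopRestr
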