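import Mathlib
import Groth.Agent.Lib.Helper21.ModOpenBC
import Groth.Agent.Lib.Helper21.RpushTheta
import Groth.Agent.Lib.Helper21.TopRestr
import Groth.Agent.Lib.Helper21.InjAcyc5
import Groth.Agent.Lib.Helper21.ModGroth

/-!
# Open base change for higher direct images of `O`-modules (helper21)

`(R^p f_* M)|_V ≅ R^p (f|_V)_* (M|_{f⁻¹V})`.
-/

set_option autoImplicit false

universe u

namespace Groth.Agent.Lib.helper21.ModOpenBC

open CategoryTheory CategoryTheory.Limits Opposite TopologicalSpace AlgebraicGeometry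
open AlgebraicGeometry.Scheme.Modules Groth.Agent.Lib.helper27 Groth.Agent.Lib.helper7

section instances

variable {X Y : Scheme.{u}} (j : X ⟶ Y) [IsOpenImmersion j]

instance reflectsLimits_toPresheaf (X : Scheme.{u}) :
    ReflectsLimitsOfSize.{u, u} (Scheme.Modules.toPresheaf X) :=
  reflectsLimits_of_reflectsIsomorphisms

/-- (as in helper2's `ZClosLib`) restriction to an open subscheme preserves limits -/
instance restrict_preservesLimits : PreservesLimitsOfSize.{u, u} (restrictFunctor j) := by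
  haveI h1 : PreservesLimitsOfSize.{u, u} (Scheme.Modules.toPresheaf Y) := inferInstance
  haveI h2 : PreservesLimitsOfSize.{u, u}
      ((Functor.whiskeringLeft (Opens ↥X)ᵒᵖ (Opens ↥Y)ᵒᵖ Ab.{u}).obj j.opensFunctor.op) :=
    whiskeringLeft_preservesLimits _
  haveI h3 : PreservesLimitsOfSize.{u, u} (Scheme.Modules.toPresheaf Y ⋙
      (Functor.whiskeringLeft (Opens ↥X)ᵒᵖ (Opens ↥Y)ᵒᵖ Ab.{u}).obj j.opensFunctor.op) :=
    @comp_preservesLimits _ _ _ _ _ _ _ _ h1 h2
  haveI : PreservesLimitsOfSize.{u, u}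
      (restrictFunctor j ⋙ Scheme.Modules.toPresheaf X) :=
    preservesLimits_of_natIso (Iso.refl _ :
      Scheme.Modules.toPresheaf Y ⋙
        (Functor.whiskeringLeft _ _ _).obj j.opensFunctor.op ≅
      restrictFunctor j ⋙ Scheme.Modules.toPresheaf X)
  exact preservesLimits_of_reflects_of_preserves _ (Scheme.Modules.toPresheaf X)

instance restrict_preservesFiniteLimits : PreservesFiniteLimits (restrictFunctor j) :=
  PreservesLimitsOfSize.preservesFiniteLimits.{u, u} _

instance restrict_preservesFiniteColimits : PreservesFiniteColimits (restrictFunctor j) := by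
  haveI : PreservesColimitsOfSize.{u, u} (restrictFunctor j) :=
    (restrictAdjunction j).leftAdjoint_preservesColimits
  exact PreservesColimitsOfSize.preservesFiniteColimits.{u, u} _

instance restrict_additive : (restrictFunctor j).Additive :=
  (restrictAdjunction j).left_adjoint_additive

end instances

section acyc

/-- the extension property passes to the restriction to an open subspace -/
lemma extProp_restr {T : TopCat.{u}} (W : Opens T) {B : CohTop.Ab T} (hB : InjAcyc.ExtProp B) :
    InjAcyc.ExtProp ((CohTop.restrFunctor W).obj B) := by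
  have h1 : InjAcyc.ExtProp
      ((Groth.Agent.Lib.Helper21.AbShriek.jStar W (Opens.grothendieckTopology T)).obj B) :=
    InjAcyc.extProp_rightAdjoint
      (Groth.Agent.Lib.Helper21.AbShriek.jAdj W (Opens.grothendieckTopology T)) hB
  exact InjAcyc.extProp_rightAdjoint
    (W.sheafEquivOver (A := AddCommGrpCat.{u})).symm.toAdjunction h1

variable {X : Scheme.{u}}

lemma extProp_toAb_restrict (I : X.Modules) (hI : Injective I) (W : X.Opens) :
    InjAcyc.ExtProp ((SheafOfModules.toSheaf.{u} (W : Scheme.{u}).ringCatSheaf).obj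
      (I.restrict W.ι)) :=
  extProp_restr W (@InjAcyc.extProp_toSheaf _ _ _ X.ringCatSheaf I hI)

/-- `toSheaf` reflects zero objects -/
lemma isZero_of_isZero_toSheaf {Y : Scheme.{u}} (G : Y.Modules)
    (h : IsZero ((SheafOfModules.toSheaf.{u} Y.ringCatSheaf).obj G)) : IsZero G := by
  rw [IsZero.iff_id_eq_zero]
  apply (SheafOfModules.toSheaf.{u} Y.ringCatSheaf).map_injective
  exact h.eq_of_src _ _

/-- modules whose underlying abelian sheaf has the extension property are acyclic for direct
images -/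
lemma isZero_rpush_of_extProp {Y T : Scheme.{u}} (g : Y ⟶ T) [HasInjectiveResolutions Y.Modules]
    (N : Y.Modules)
    (hN : InjAcyc.ExtProp ((SheafOfModules.toSheaf.{u} Y.ringCatSheaf).obj N)) (i : ℕ) :
    IsZero ((Coh.Rpush g (i + 1)).obj N) := by
  obtain ⟨Θ⟩ := RpushTheta.nonempty_theta g (i + 1)
  apply isZero_of_isZero_toSheaf
  refine IsZero.of_iso ?_ (Θ.app N)
  show IsZero ((presheafToSheaf (Opens.grothendieckTopology T) AddCommGrpCat.{u}).obj
    ((Opens.map g.base).op ⋙
      (ExtPsh.Tp.{u} (FreeYoneda.freeSheaf (Opens.grothendieckTopology Y)) (i + 1)).obj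
        ((SheafOfModules.toSheaf.{u} Y.ringCatSheaf).obj N)))
  refine Functor.map_isZero _ ?_
  refine Functor.isZero _ (fun W => ?_)
  have : Subsingleton (Abelian.Ext.{u}
      ((FreeYoneda.freeSheaf (Opens.grothendieckTopology Y)).obj
        ((Opens.map g.base).obj W.unop)) ((SheafOfModules.toSheaf.{u} Y.ringCatSheaf).obj N)
          (i + 1)) :=
    subsingleton_of_forall_eq 0 fun x =>
      InjAcyc.ext_eq_zero_of_extProp _ hN i _ (InjAcyc.tf_free _) x
  exact AddCommGrpCat.isZero_of_subsingleton (AddCommGrpCat.of (Abelian.Ext.{u}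
      ((FreeYoneda.freeSheaf (Opens.grothendieckTopology Y)).obj
        ((Opens.map g.base).obj W.unop)) ((SheafOfModules.toSheaf.{u} Y.ringCatSheaf).obj N)
          (i + 1)))

end acyc

section star

variable {X S : Scheme.{u}} (f : X ⟶ S) (V : S.Opens)

instance hasInjectiveResolutions_modules (Y : Scheme.{u}) : HasInjectiveResolutions Y.Modules := by
  haveI : EnoughInjectives Y.Modules :=
    Groth.Agent.Lib.Helper21.ModGroth.enoughInjectives_mod Y.ringCatSheaf
  infer_instance

/-- **open base change**: `(R^p f_* M)|_V ≅ R^p (f|_V)_* (M|_{f⁻¹V})` -/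
theorem nonempty_restrict_rpush_iso [HasInjectiveResolutions X.Modules] (M : X.Modules) (p : ℕ) :
    Nonempty ((restrictFunctor V.ι).obj ((Coh.Rpush f p).obj M) ≅
      (Coh.Rpush (f ∣_ V) p).obj ((restrictFunctor (f ⁻¹ᵁ V).ι).obj M)) := by
  haveI : EnoughInjectives X.Modules :=
    SSGroth.enoughInjectives_of_hasInjectiveResolutions _
  haveI : EnoughInjectives (↑(f ⁻¹ᵁ V) : Scheme.{u}).Modules :=
    Groth.Agent.Lib.Helper21.ModGroth.enoughInjectives_mod _
  have hT : DeltaSeq.IsExSeq (fun n => Coh.Rpush f n ⋙ restrictFunctor V.ι) :=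
    (DeltaSeq.isExSeq_rightDerived (pushforward f)).comp (restrictFunctor V.ι)
  have hT' : DeltaSeq.IsExSeq
      (fun n => restrictFunctor (f ⁻¹ᵁ V).ι ⋙ Coh.Rpush (f ∣_ V) n) :=
    (DeltaSeq.isExSeq_rightDerived (pushforward (f ∣_ V))).precomp
      (restrictFunctor (f ⁻¹ᵁ V).ι) (fun I hI i =>
        isZero_rpush_of_extProp (f ∣_ V) _ (extProp_toAb_restrict I hI (f ⁻¹ᵁ V)) i)
  have e₀ : Coh.Rpush f 0 ⋙ restrictFunctor V.ι ≅
      restrictFunctor (f ⁻¹ᵁ V).ι ⋙ Coh.Rpush (f ∣_ V) 0 :=
    Functor.isoWhiskerRight (pushforward f).rightDerivedZeroIsoSelf (restrictFunctor V.ι) ≪≫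
      bcIso f V ≪≫
      (Functor.isoWhiskerLeft (restrictFunctor (f ⁻¹ᵁ V).ι)
        (pushforward (f ∣_ V)).rightDerivedZeroIsoSelf).symm
  exact DeltaSeq.iso hT hT' e₀ p M

end star

end Groth.Agent.Lib.helper21.ModOpenBC
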