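import Mathlib
import Groth.Agent.Lib.Helper8.PullbackUnit
import Groth.Agent.Lib.Helper27.CechLeray

/-!
# Finite products of base-change maps (helper21)

* `IsBC.pi_type`: a finite product (Π-type) of `IsBC` maps is `IsBC`;
* `IsBC.pi`: the same for categorical products in `AddCommGrpCat`;
* `IsBC.of_subsingleton`: zero modules;
* `flat_of_pi`: finite categorical products of flat modules are flat.
-/

set_option autoImplicit false
universe u

open CategoryTheory CategoryTheory.Limits

namespace Groth.Agent.Lib.helper21.IsBCPi

open Groth.Agent.Lib.helper8.PullbackUnit Groth.Agent.Lib.helper27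

section types

variable {A B : Type u} [CommRing A] [CommRing B] (φ : A →+* B)
variable {J : Type u} [Fintype J] [DecidableEq J] {N P : J → Type u}
  [∀ a, AddCommGroup (N a)] [∀ a, Module A (N a)] [∀ a, AddCommGroup (P a)] [∀ a, Module B (P a)]
  (k : ∀ a, N a →+ P a)

/-- the product map -/
def piMap : (∀ a, N a) →+ (∀ a, P a) where
  toFun n a := k a (n a)
  map_zero' := by funext a; exact map_zero _
  map_add' x y := by funext a; exact map_add _ _ _

lemma piMap_single (a : J) (n : N a) : piMap k (Pi.single a n) = Pi.single a (k a n) := by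
  funext b
  show k b (Pi.single a n b) = _
  by_cases h : b = a
  · subst h
    rw [Pi.single_eq_same, Pi.single_eq_same]
  · rw [Pi.single_eq_of_ne h, Pi.single_eq_of_ne h, map_zero]

theorem IsBC.pi_type (hk : ∀ a, IsBC φ (k a)) : IsBC φ (piMap k) := by
  constructor
  · intro r n
    funext a
    exact (hk a).map_smul r (n a)
  · intro T _ _ h hh
    have hha : ∀ a (r : A) (n : N a), (h.comp (AddMonoidHom.single N a)) (r • n) =
        φ r • (h.comp (AddMonoidHom.single N a)) n := by
      intro a r n
      show h (Pi.single a (r • n)) = φ r • h (Pi.single a n)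
      rw [← hh]
      congr 1
      exact Pi.single_smul a r n
    choose h' hh' hu using fun a => (hk a).existsUnique_lift T (h.comp (AddMonoidHom.single N a))
      (hha a)
    refine ⟨∑ a, (h' a) ∘ₗ (LinearMap.proj a), ?_, ?_⟩
    · intro n
      rw [LinearMap.sum_apply]
      have h1 : ∀ a, ((h' a) ∘ₗ (LinearMap.proj a : (∀ a, P a) →ₗ[B] P a)) (piMap k n) =
          h (Pi.single a (n a)) := fun a => hh' a (n a)
      rw [Finset.sum_congr rfl (fun a _ => h1 a), ← map_sum]
      congr 1
      exact Finset.univ_sum_single n
    · intro h'' hh''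
      have h2 : ∀ a, h'' ∘ₗ (LinearMap.single B P a) = h' a := by
        intro a
        apply hu a
        intro n
        show h'' (Pi.single a (k a n)) = h (Pi.single a n)
        rw [← piMap_single, hh'']
      apply LinearMap.ext
      intro x
      rw [LinearMap.sum_apply]
      have h3 : ∀ a, ((h' a) ∘ₗ (LinearMap.proj a : (∀ a, P a) →ₗ[B] P a)) x =
          h'' (Pi.single a (x a)) := by
        intro a
        rw [← h2 a]
        rfl
      rw [Finset.sum_congr rfl (fun a _ => h3 a), ← map_sum]
      congr 1
      exact (Finset.univ_sum_single x).symm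

end types

section zero

variable {A B : Type u} [CommRing A] [CommRing B] (φ : A →+* B)
variable {N P : Type u} [AddCommGroup N] [Module A N] [AddCommGroup P] [Module B P]

theorem IsBC.of_subsingleton [Subsingleton N] [Subsingleton P] (k : N →+ P) : IsBC φ k := by
  constructor
  · intro r n
    exact Subsingleton.elim _ _
  · intro T _ _ h hh
    refine ⟨0, ?_, ?_⟩
    · intro n
      rw [Subsingleton.elim n 0, map_zero, map_zero, map_zero]
    · intro h'' _
      apply LinearMap.ext
      intro x
      rw [Subsingleton.elim x 0, map_zero, map_zero]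

end zero

section cat

variable {A B : Type u} [CommRing A] [CommRing B] (φ : A →+* B)
variable {J : Type u} [Finite J] {N P : J → AddCommGrpCat.{u}}
  [∀ a, Module A (N a)] [∀ a, Module B (P a)]
  [Module A ↑(∏ᶜ N : AddCommGrpCat.{u})] [Module B ↑(∏ᶜ P : AddCommGrpCat.{u})]
  (hN : ∀ (r : A) (x : ↑(∏ᶜ N : AddCommGrpCat.{u})) (a : J), Pi.π N a (r • x) = r • Pi.π N a x)
  (hP : ∀ (r : B) (x : ↑(∏ᶜ P : AddCommGrpCat.{u})) (a : J), Pi.π P a (r • x) = r • Pi.π P a x)
  (k : ∀ a, N a ⟶ P a)

include hN in
/-- the categorical product is linearly equivalent to the Π-type -/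
noncomputable def piEquiv : ↑(∏ᶜ N : AddCommGrpCat.{u}) ≃ₗ[A] (∀ a, N a) where
  toFun := Concrete.productEquiv N
  invFun := (Concrete.productEquiv N).symm
  left_inv := (Concrete.productEquiv N).left_inv
  right_inv := (Concrete.productEquiv N).right_inv
  map_add' x y := by
    funext a
    show Concrete.productEquiv N (x + y) a = Concrete.productEquiv N x a + Concrete.productEquiv N y a
    rw [Concrete.productEquiv_apply_apply, Concrete.productEquiv_apply_apply,
      Concrete.productEquiv_apply_apply]
    exact map_add _ _ _
  map_smul' r x := by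
    funext a
    show Concrete.productEquiv N (r • x) a = r • Concrete.productEquiv N x a
    rw [Concrete.productEquiv_apply_apply, Concrete.productEquiv_apply_apply]
    exact hN r x a

lemma piEquiv_apply (x : ↑(∏ᶜ N : AddCommGrpCat.{u})) (a : J) :
    piEquiv hN x a = Pi.π N a x :=
  Concrete.productEquiv_apply_apply N x a

include hN hP in
theorem IsBC.pi (hk : ∀ a, IsBC φ (k a).hom) : IsBC φ (Limits.Pi.map k).hom := by
  classical
  cases nonempty_fintype J
  refine (IsBC.pi_type φ (fun a => (k a).hom) hk).of_equiv (piEquiv hN) (piEquiv hP) _ ?_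
  intro n
  funext a
  rw [piEquiv_apply]
  show _ = (k a).hom (piEquiv hN n a)
  rw [piEquiv_apply]
  exact CechLeray.π_map_apply _ _ k a n

include hN in
theorem flat_of_pi (hfl : ∀ a, Module.Flat A (N a)) : Module.Flat A ↑(∏ᶜ N : AddCommGrpCat.{u}) := by
  classical
  cases nonempty_fintype J
  have h1 : Module.Flat A (∀ a, N a) := by
    have e : (Π₀ a, N a) ≃ₗ[A] (∀ a, N a) := DFinsupp.linearEquivFunOnFintype
    exact Module.Flat.of_linearEquiv e.symm
  exact Module.Flat.of_linearEquiv (piEquiv hN)

end cat

end Groth.Agent.Lib.helper21.IsBCPi
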