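import Mathlib

/-!
# Complexes of abelian groups with a ring action as complexes of modules (helper21)

`K : HomologicalComplex AddCommGrpCat c`, `ρ : R →+* End K`.  Then `modCx K ρ` is the complex of
`R`-modules with the same terms, `r • x = (ρ r).f n x`.  Its homology is additively the homology of
`K`, and multiplication by `r` corresponds to `homologyMap (ρ r)` (`homEquiv`, `homEquiv_smul`).
-/

set_option autoImplicit false
universe u

open CategoryTheory CategoryTheory.Limits

namespace Groth.Agent.Lib.helper21.ModCx

variable {R : Type u} [CommRing R] {ι : Type} {c : ComplexShape ι}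
variable (K : HomologicalComplex AddCommGrpCat.{u} c) (ρ : R →+* End K)

/-- the action on the `n`-th term -/
def act (n : ι) : R →+* AddMonoid.End (K.X n) where
  toFun r := ((ρ r).f n).hom
  map_one' := by
    rw [map_one]
    rfl
  map_mul' r s := by
    rw [map_mul, End.mul_def]
    rfl
  map_zero' := by
    rw [map_zero]
    rfl
  map_add' r s := by
    rw [map_add]
    rfl

/-- the module structure on the `n`-th term -/
@[reducible] def modX (n : ι) : Module R (K.X n) := Module.compHom (K.X n) (act K ρ n)

lemma smul_def (n : ι) (r : R) (x : K.X n) :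
    letI := modX K ρ n
    r • x = ((ρ r).f n).hom x := rfl

/-- the differential as a linear map -/
def dLin (i j : ι) :
    letI := modX K ρ i
    letI := modX K ρ j
    K.X i →ₗ[R] K.X j :=
  letI := modX K ρ i
  letI := modX K ρ j
  { toFun := (K.d i j).hom
    map_add' := map_add _
    map_smul' := fun r x => by
      show (K.d i j).hom (((ρ r).f i).hom x) = ((ρ r).f j).hom ((K.d i j).hom x)
      have h := (ρ r).comm i j
      exact (ConcreteCategory.congr_hom h x) }

/-- the `n`-th term as an `R`-module -/
def modObj (n : ι) : ModuleCat.{u} R := @ModuleCat.of R _ (K.X n) _ (modX K ρ n)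

/-- the differential -/
def modD (i j : ι) : modObj K ρ i ⟶ modObj K ρ j :=
  @ModuleCat.ofHom R _ (K.X i) (K.X j) _ (modX K ρ i) _ (modX K ρ j) (dLin K ρ i j)

lemma modD_apply (i j : ι) (x : modObj K ρ i) :
    (modD K ρ i j).hom x = (K.d i j).hom x := rfl

/-- the complex of `R`-modules attached to a complex of abelian groups with an action of `R` -/
def modCx : HomologicalComplex (ModuleCat.{u} R) c where
  X n := modObj K ρ n
  d i j := modD K ρ i j
  shape i j h := by
    apply ModuleCat.hom_ext
    apply LinearMap.ext
    intro x
    rw [modD_apply, K.shape i j h]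
    rfl
  d_comp_d' i j k _ _ := by
    apply ModuleCat.hom_ext
    apply LinearMap.ext
    intro x
    rw [ModuleCat.comp_apply, modD_apply, modD_apply, ← ConcreteCategory.comp_apply, K.d_comp_d]
    rfl

section homology

variable [∀ n, (K.sc n).HasHomology]

/-- the forgetful functor to abelian groups -/
abbrev F : ModuleCat.{u} R ⥤ AddCommGrpCat.{u} := forget₂ (ModuleCat.{u} R) AddCommGrpCat.{u}

/-- forgetting the module structure gives back `K` -/
def forgetIso : ((F (R := R)).mapHomologicalComplex c).obj (modCx K ρ) ≅ K :=
  HomologicalComplex.Hom.isoOfComponents (fun n => Iso.refl _) (by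
    intro i j _
    rfl)

lemma forgetIso_hom_f (n : ι) : (forgetIso K ρ).hom.f n = 𝟙 _ := rfl

/-- the action of `r`, as an endomorphism of `modCx K ρ` -/
def smulHom (r : R) : modCx K ρ ⟶ modCx K ρ := r • 𝟙 _

lemma map_smulHom (r : R) :
    ((F (R := R)).mapHomologicalComplex c).map (smulHom K ρ r) ≫ (forgetIso K ρ).hom =
      (forgetIso K ρ).hom ≫ ρ r := by
  ext n x
  rfl

/-- homology of `modCx K ρ`, as an abelian group, is the homology of `K` -/
noncomputable def homIso (p : ι) : (F (R := R)).obj ((modCx K ρ).homology p) ≅ K.homology p :=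
  (((modCx K ρ).sc p).mapHomologyIso (F (R := R))).symm ≪≫
    (HomologicalComplex.homologyFunctor _ c p).mapIso (forgetIso K ρ)

/-- homology of `modCx K ρ`, as an abelian group, is the homology of `K` -/
noncomputable def homEquiv (p : ι) : (modCx K ρ).homology p ≃+ K.homology p :=
  (homIso K ρ p).addCommGroupIsoToAddEquiv

lemma homologyMap_smulHom (r : R) (p : ι) :
    HomologicalComplex.homologyMap (smulHom K ρ r) p = r • 𝟙 _ := by
  have h1 : (HomologicalComplex.shortComplexFunctor _ c p).map (smulHom K ρ r) =
      r • 𝟙 ((modCx K ρ).sc p) := by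
    ext <;> rfl
  show ShortComplex.homologyMap ((HomologicalComplex.shortComplexFunctor _ c p).map
    (smulHom K ρ r)) = _
  rw [h1, ShortComplex.homologyMap_smul, ShortComplex.homologyMap_id]
  rfl

lemma homEquiv_smul (p : ι) (r : R) (x : (modCx K ρ).homology p) :
    homEquiv K ρ p (r • x) = (HomologicalComplex.homologyMap (ρ r) p).hom (homEquiv K ρ p x) := by
  have h1 : r • x = (HomologicalComplex.homologyMap (smulHom K ρ r) p).hom x := by
    rw [homologyMap_smulHom]
    rfl
  rw [h1]
  have h2 := ShortComplex.mapHomologyIso_inv_naturality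
    ((HomologicalComplex.shortComplexFunctor _ c p).map (smulHom K ρ r)) (F (R := R))
  have h3 := congrArg (fun t => HomologicalComplex.homologyMap t p) (map_smulHom K ρ r)
  simp only [HomologicalComplex.homologyMap_comp] at h3
  have h4 : (F (R := R)).map (HomologicalComplex.homologyMap (smulHom K ρ r) p) ≫
      (homIso K ρ p).hom = (homIso K ρ p).hom ≫ HomologicalComplex.homologyMap (ρ r) p := by
    dsimp only [homIso, Iso.trans_hom, Iso.symm_hom, Functor.mapIso_hom,
      HomologicalComplex.homologyFunctor_map]
    rw [← Category.assoc]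
    erw [h2]
    rw [Category.assoc]
    exact congrArg (fun t => (((modCx K ρ).sc p).mapHomologyIso (F (R := R))).inv ≫ t) h3
  exact ConcreteCategory.congr_hom h4 x

end homology

end Groth.Agent.Lib.helper21.ModCx
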