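import Mathlib
import Groth.Prelude.Def_ega3
import Groth.Agent.Lib.Helper21.ModCx
import Groth.Agent.Lib.Helper8.PullbackUnit

/-!
# Base change of complexes of modules coming from complexes of abelian groups (helper21)

`K`, `K'` complexes of abelian groups with actions `ρ : A →+* End K`, `ρ' : B →+* End K'`,
`φ : A →+* B`, `κ : K ⟶ K'` a `φ`-equivariant morphism which is termwise a base change
(helper8's `IsBC`).  Then `bcCx φ (modCx K ρ) ≅ modCx K' ρ'` (`bcIso`).
-/

set_option autoImplicit false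
universe u

open CategoryTheory CategoryTheory.Limits

namespace Groth.Agent.Lib.helper21.ModCx

open Groth.Agent.Lib.helper8.PullbackUnit

variable {A B : Type u} [CommRing A] [CommRing B] (φ : A →+* B)
variable {ι : Type} {c : ComplexShape ι}
variable (K K' : HomologicalComplex AddCommGrpCat.{u} c) (ρ : A →+* End K) (ρ' : B →+* End K')
variable (κ : K ⟶ K') (hκ : ∀ a : A, ρ a ≫ κ = κ ≫ ρ' (φ a))

include hκ in
lemma κ_smul (n : ι) (a : A) (x : K.X n) :
    (κ.f n).hom (((ρ a).f n).hom x) = ((ρ' (φ a)).f n).hom ((κ.f n).hom x) := by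
  have h := congrArg (fun t => t.f n) (hκ a)
  exact ConcreteCategory.congr_hom h x

include hκ in
/-- `κ` in degree `n`, as a linear map to the restriction of scalars -/
noncomputable def κLin₀ (n : ι) :
    ↑(modObj K ρ n) →ₗ[A] ↑((ModuleCat.restrictScalars φ).obj (modObj K' ρ' n)) where
  toFun := (κ.f n).hom
  map_add' := map_add _
  map_smul' := fun a x => κ_smul φ K K' ρ ρ' κ hκ n a x

include hκ in
/-- `κ` in degree `n`, as a morphism to the restriction of scalars -/
noncomputable def κLin (n : ι) : modObj K ρ n ⟶ (ModuleCat.restrictScalars φ).obj (modObj K' ρ' n) :=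
  ModuleCat.ofHom (X := ↑(modObj K ρ n))
    (Y := ↑((ModuleCat.restrictScalars φ).obj (modObj K' ρ' n))) (κLin₀ φ K K' ρ ρ' κ hκ n)

include hκ in
/-- the comparison morphism in degree `n` -/
noncomputable def cmp (n : ι) : (ModuleCat.extendScalars φ).obj (modObj K ρ n) ⟶ modObj K' ρ' n :=
  ((ModuleCat.extendRestrictScalarsAdj φ).homEquiv _ _).symm (κLin φ K K' ρ ρ' κ hκ n)

lemma cmp_unit (n : ι) (x : modObj K ρ n) :
    (cmp φ K K' ρ ρ' κ hκ n).hom
      (((ModuleCat.extendRestrictScalarsAdj φ).unit.app (modObj K ρ n)).hom x) =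
      (κ.f n).hom x := by
  have h := ((ModuleCat.extendRestrictScalarsAdj φ).homEquiv _ _).apply_symm_apply
    (κLin φ K K' ρ ρ' κ hκ n)
  exact congrArg (fun t => t.hom x) h

/-- two morphisms out of an extension of scalars agreeing on the image of the unit are equal -/
lemma ext_of_unit {M : ModuleCat.{u} A} {P : ModuleCat.{u} B}
    (f g : (ModuleCat.extendScalars φ).obj M ⟶ P)
    (h : ∀ x : M, f.hom (((ModuleCat.extendRestrictScalarsAdj φ).unit.app M).hom x) =
      g.hom (((ModuleCat.extendRestrictScalarsAdj φ).unit.app M).hom x)) : f = g := by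
  apply ((ModuleCat.extendRestrictScalarsAdj φ).homEquiv _ _).injective
  apply ModuleCat.hom_ext
  apply LinearMap.ext
  intro x
  exact h x

variable (hBC : ∀ n : ι, @IsBC A B _ _ φ (K.X n) (K'.X n) _ (modX K ρ n) _ (modX K' ρ' n)
  (κ.f n).hom)

/-- the unit of the extension/restriction of scalars adjunction, as a function to the extension -/
noncomputable def toExt (M : ModuleCat.{u} A) (x : M) : ↑((ModuleCat.extendScalars φ).obj M) :=
  ((ModuleCat.extendRestrictScalarsAdj φ).unit.app M).hom x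

lemma toExt_smul (M : ModuleCat.{u} A) (a : A) (x : M) :
    toExt φ M (a • x) = φ a • toExt φ M x := by
  unfold toExt
  rw [map_smul]
  rfl

lemma toExt_add (M : ModuleCat.{u} A) (x y : M) :
    toExt φ M (x + y) = toExt φ M x + toExt φ M y := by
  unfold toExt
  rw [map_add]
  rfl

include hBC in
lemma exists_inv (n : ι) :
    ∃ inv : modObj K' ρ' n ⟶ (ModuleCat.extendScalars φ).obj (modObj K ρ n),
      cmp φ K K' ρ ρ' κ hκ n ≫ inv = 𝟙 _ ∧ inv ≫ cmp φ K K' ρ ρ' κ hκ n = 𝟙 _ := by
  letI := modX K ρ n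
  letI := modX K' ρ' n
  let T : Type u := ↑((ModuleCat.extendScalars φ).obj (modObj K ρ n))
  let h : K.X n →+ T :=
    { toFun := toExt φ (modObj K ρ n)
      map_zero' := by
        have := toExt_smul φ (modObj K ρ n) 0 0
        rw [zero_smul, map_zero, zero_smul] at this
        exact this
      map_add' := toExt_add φ (modObj K ρ n) }
  have hh : ∀ (a : A) (x : K.X n), h (a • x) = φ a • h x := fun a x =>
    toExt_smul φ (modObj K ρ n) a x
  obtain ⟨h', hh', -⟩ := (hBC n).existsUnique_lift T h hh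
  let inv : modObj K' ρ' n ⟶ (ModuleCat.extendScalars φ).obj (modObj K ρ n) :=
    ModuleCat.ofHom (X := ↑(modObj K' ρ' n)) (Y := T) h'
  refine ⟨inv, ?_, ?_⟩
  · apply ext_of_unit
    intro x
    rw [ModuleCat.comp_apply, cmp_unit]
    exact hh' x
  · obtain ⟨z, -, hz⟩ := (hBC n).existsUnique_lift (K'.X n) (κ.f n).hom (hBC n).map_smul
    have e1 : (inv ≫ cmp φ K K' ρ ρ' κ hκ n).hom = z := by
      apply hz
      intro x
      show (cmp φ K K' ρ ρ' κ hκ n).hom (h' ((κ.f n).hom x)) = _
      rw [hh' x]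
      exact cmp_unit φ K K' ρ ρ' κ hκ n x
    have e2 : (𝟙 (modObj K' ρ' n) : modObj K' ρ' n ⟶ modObj K' ρ' n).hom = z := by
      apply hz
      intro x
      rfl
    apply ModuleCat.hom_ext
    rw [e1, e2]

include hBC in
lemma isIso_cmp (n : ι) : IsIso (cmp φ K K' ρ ρ' κ hκ n) := by
  obtain ⟨inv, h1, h2⟩ := exists_inv φ K K' ρ ρ' κ hκ hBC n
  exact ⟨inv, h1, h2⟩

include hBC in
/-- **base change of the module complex** -/
noncomputable def bcIso : CohIII.bcCx φ (modCx K ρ) ≅ modCx K' ρ' :=
  HomologicalComplex.Hom.isoOfComponents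
    (fun n => @asIso _ _ _ _ (cmp φ K K' ρ ρ' κ hκ n) (isIso_cmp φ K K' ρ ρ' κ hκ hBC n)) (by
      intro i j _
      change cmp φ K K' ρ ρ' κ hκ i ≫ modD K' ρ' i j =
        (ModuleCat.extendScalars φ).map (modD K ρ i j) ≫ cmp φ K K' ρ ρ' κ hκ j
      apply ext_of_unit
      intro x
      have h1 : ((ModuleCat.extendScalars φ).map (modD K ρ i j)).hom
          (((ModuleCat.extendRestrictScalarsAdj φ).unit.app (modObj K ρ i)).hom x) =
          ((ModuleCat.extendRestrictScalarsAdj φ).unit.app (modObj K ρ j)).hom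
            ((modD K ρ i j).hom x) := by
        have := (ModuleCat.extendRestrictScalarsAdj φ).unit.naturality (modD K ρ i j)
        exact (congrArg (fun t => t.hom x) this).symm
      have h2 : (cmp φ K K' ρ ρ' κ hκ i ≫ modD K' ρ' i j).hom
          (((ModuleCat.extendRestrictScalarsAdj φ).unit.app (modObj K ρ i)).hom x) =
          (modD K' ρ' i j).hom ((cmp φ K K' ρ ρ' κ hκ i).hom
            (((ModuleCat.extendRestrictScalarsAdj φ).unit.app (modObj K ρ i)).hom x)) := rfl
      have h3 : ((ModuleCat.extendScalars φ).map (modD K ρ i j) ≫ cmp φ K K' ρ ρ' κ hκ j).hom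
          (((ModuleCat.extendRestrictScalarsAdj φ).unit.app (modObj K ρ i)).hom x) =
          (cmp φ K K' ρ ρ' κ hκ j).hom (((ModuleCat.extendScalars φ).map (modD K ρ i j)).hom
            (((ModuleCat.extendRestrictScalarsAdj φ).unit.app (modObj K ρ i)).hom x)) := rfl
      rw [h2, h3, h1, cmp_unit, cmp_unit]
      show (K'.d i j).hom ((κ.f i).hom x) = (κ.f j).hom ((K.d i j).hom x)
      exact ConcreteCategory.congr_hom (κ.comm i j) x)

include hBC in
@[simp] lemma bcIso_hom_f (n : ι) :
    (bcIso φ K K' ρ ρ' κ hκ hBC).hom.f n = cmp φ K K' ρ ρ' κ hκ n := rfl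

end Groth.Agent.Lib.helper21.ModCx
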