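import Mathlib
import Groth.Agent.Lib.Helper21.ModCxBC
import Groth.Agent.Lib.Helper21.IsBCPi

/-!
# Extending complexes of abelian groups with a ring action along an embedding (helper21)

`K : HomologicalComplex AddCommGrpCat c`, `ρ : R →+* End K`, `e : c.Embedding c'`.  Then
`extρ e K ρ : R →+* End (K.extend e)`; termwise `IsBC` passes to the extension (`isBC_extend`).
-/

set_option autoImplicit false
universe u v w

open CategoryTheory CategoryTheory.Limits

namespace Groth.Agent.Lib.helper21.ModCx

open Groth.Agent.Lib.helper8.PullbackUnit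

section mapEnd

variable {C : Type v} {D : Type w} [Category C] [Category D] [Preadditive C] [Preadditive D]

/-- an additive functor induces a ring homomorphism on endomorphism rings -/
def mapEndRing (G : C ⥤ D) [G.Additive] (X : C) : End X →+* End (G.obj X) where
  toFun f := G.map f
  map_one' := G.map_id X
  map_mul' f g := by
    rw [End.mul_def, End.mul_def]
    exact G.map_comp g f
  map_zero' := G.map_zero _ _
  map_add' f g := G.map_add

lemma mapEndRing_apply (G : C ⥤ D) [G.Additive] (X : C) (f : End X) :
    mapEndRing G X f = G.map f := rfl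

end mapEnd

variable {R : Type u} [CommRing R] {ι ι' : Type} {c : ComplexShape ι} {c' : ComplexShape ι'}
  (e : c.Embedding c')
variable (K : HomologicalComplex AddCommGrpCat.{u} c) (ρ : R →+* End K)

/-- the action on the extended complex -/
noncomputable def extρ : R →+* End (K.extend e) :=
  (mapEndRing (e.extendFunctor AddCommGrpCat.{u}) K).comp ρ

lemma extρ_apply (r : R) : extρ e K ρ r = HomologicalComplex.extendMap (ρ r) e := rfl

lemma extρ_f {i : ι} {i' : ι'} (h : e.f i = i') (r : R) :
    (extρ e K ρ r).f i' =
      (K.extendXIso e h).hom ≫ (ρ r).f i ≫ (K.extendXIso e h).inv :=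
  HomologicalComplex.extendMap_f (ρ r) e h

/-- the terms of the extension, linearly -/
noncomputable def extXEquiv {i : ι} {i' : ι'} (h : e.f i = i') :
    letI := modX (K.extend e) (extρ e K ρ) i'
    letI := modX K ρ i
    (K.extend e).X i' ≃ₗ[R] K.X i :=
  letI := modX (K.extend e) (extρ e K ρ) i'
  letI := modX K ρ i
  { (K.extendXIso e h).addCommGroupIsoToAddEquiv with
    map_smul' := fun r x => by
      show (K.extendXIso e h).hom.hom (((extρ e K ρ r).f i').hom x) =
        ((ρ r).f i).hom ((K.extendXIso e h).hom.hom x)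
      rw [extρ_f e K ρ h r]
      have h1 : ((K.extendXIso e h).hom ≫ (ρ r).f i ≫ (K.extendXIso e h).inv) ≫
          (K.extendXIso e h).hom = (K.extendXIso e h).hom ≫ (ρ r).f i := by
        rw [Category.assoc, Category.assoc, Iso.inv_hom_id, Category.comp_id]
      exact ConcreteCategory.congr_hom h1 x }

lemma extXEquiv_apply {i : ι} {i' : ι'} (h : e.f i = i') (x : (K.extend e).X i') :
    extXEquiv e K ρ h x = (K.extendXIso e h).hom.hom x := rfl

section BC

variable {A B : Type u} [CommRing A] [CommRing B] (φ : A →+* B)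
variable (K K' : HomologicalComplex AddCommGrpCat.{u} c) (ρ : A →+* End K) (ρ' : B →+* End K')
variable (κ : K ⟶ K')

include e in
theorem isBC_extend
    (hBC : ∀ n : ι, @IsBC A B _ _ φ (K.X n) (K'.X n) _ (modX K ρ n) _ (modX K' ρ' n) (κ.f n).hom)
    (n' : ι') :
    @IsBC A B _ _ φ ((K.extend e).X n') ((K'.extend e).X n') _
      (modX (K.extend e) (extρ e K ρ) n') _ (modX (K'.extend e) (extρ e K' ρ') n')
      ((HomologicalComplex.extendMap κ e).f n').hom := by
  letI := modX (K.extend e) (extρ e K ρ) n'
  letI := modX (K'.extend e) (extρ e K' ρ') n'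
  by_cases hn : ∃ n, e.f n = n'
  · obtain ⟨n, hn⟩ := hn
    letI := modX K ρ n
    letI := modX K' ρ' n
    refine (hBC n).of_equiv (extXEquiv e K ρ hn) (extXEquiv e K' ρ' hn) _ ?_
    intro x
    rw [extXEquiv_apply, extXEquiv_apply, HomologicalComplex.extendMap_f κ e hn]
    have h1 : ((K.extendXIso e hn).hom ≫ κ.f n ≫ (K'.extendXIso e hn).inv) ≫
        (K'.extendXIso e hn).hom = (K.extendXIso e hn).hom ≫ κ.f n := by
      rw [Category.assoc, Category.assoc, Iso.inv_hom_id, Category.comp_id]
    exact ConcreteCategory.congr_hom h1 x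
  · have hn' : ∀ n, e.f n ≠ n' := fun n h => hn ⟨n, h⟩
    haveI : Subsingleton ((K.extend e).X n') :=
      AddCommGrpCat.subsingleton_of_isZero (K.isZero_extend_X e n' hn')
    haveI : Subsingleton ((K'.extend e).X n') :=
      AddCommGrpCat.subsingleton_of_isZero (K'.isZero_extend_X e n' hn')
    exact Groth.Agent.Lib.helper21.IsBCPi.IsBC.of_subsingleton φ _

include e in
lemma extρ_comm (hκ : ∀ a : A, ρ a ≫ κ = κ ≫ ρ' (φ a)) (a : A) :
    extρ e K ρ a ≫ HomologicalComplex.extendMap κ e =
      HomologicalComplex.extendMap κ e ≫ extρ e K' ρ' (φ a) := by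
  rw [extρ_apply, extρ_apply, ← HomologicalComplex.extendMap_comp,
    ← HomologicalComplex.extendMap_comp, hκ a]

end BC

section homology

/-- homology of the extension -/
noncomputable def extHomEquiv {j : ι} {j' : ι'} (h : e.f j = j') :
    (K.extend e).homology j' ≃+ K.homology j :=
  (K.extendHomologyIso e h).addCommGroupIsoToAddEquiv

lemma extHomEquiv_natural {K L : HomologicalComplex AddCommGrpCat.{u} c} (ψ : K ⟶ L)
    {j : ι} {j' : ι'} (h : e.f j = j') (x : (K.extend e).homology j') :
    extHomEquiv e L h ((HomologicalComplex.homologyMap (HomologicalComplex.extendMap ψ e) j').hom x) =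
      (HomologicalComplex.homologyMap ψ j).hom (extHomEquiv e K h x) :=
  ConcreteCategory.congr_hom (HomologicalComplex.extendHomologyIso_hom_naturality ψ e h) x

end homology

end Groth.Agent.Lib.helper21.ModCx
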