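import Mathlib
import Groth.Agent.Lib.Helper21.ModCxExt

/-!
# Homology of `modCx` and of its base change, linearly (helper21)
-/

set_option autoImplicit false
universe u

open CategoryTheory CategoryTheory.Limits

namespace Groth.Agent.Lib.helper21.ModCx

open Groth.Agent.Lib.helper8.PullbackUnit

section

variable {R : Type u} [CommRing R] {ι : Type} {c : ComplexShape ι}
variable (K : HomologicalComplex AddCommGrpCat.{u} c) (ρ : R →+* End K)

/-- homology of `modCx K ρ`, linearly, given an equivariant identification of the homology of `K` -/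
noncomputable def homLinEquiv₀ (p : ι) {T : Type u} [AddCommGroup T] [Module R T]
    (E : K.homology p ≃+ T)
    (hE : ∀ (r : R) (x : K.homology p),
      E ((HomologicalComplex.homologyMap (ρ r) p).hom x) = r • E x) :
    (modCx K ρ).homology p ≃ₗ[R] T :=
  { (homEquiv K ρ p).trans E with
    map_smul' := fun r x => by
      show E (homEquiv K ρ p (r • x)) = r • E (homEquiv K ρ p x)
      rw [homEquiv_smul, hE] }

end

section

variable {A B : Type u} [CommRing A] [CommRing B] (φ : A →+* B)
variable {ι : Type} {c : ComplexShape ι}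
variable (K K' : HomologicalComplex AddCommGrpCat.{u} c) (ρ : A →+* End K) (ρ' : B →+* End K')
variable (κ : K ⟶ K') (hκ : ∀ a : A, ρ a ≫ κ = κ ≫ ρ' (φ a))
variable (hBC : ∀ n : ι, @IsBC A B _ _ φ (K.X n) (K'.X n) _ (modX K ρ n) _ (modX K' ρ' n)
  (κ.f n).hom)

include hBC in
/-- homology of the base change of `modCx K ρ`, linearly -/
noncomputable def homLinEquiv (p : ι) {T : Type u} [AddCommGroup T] [Module B T]
    (E : K'.homology p ≃+ T)
    (hE : ∀ (b : B) (x : K'.homology p),
      E ((HomologicalComplex.homologyMap (ρ' b) p).hom x) = b • E x) :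
    (CohIII.bcCx φ (modCx K ρ)).homology p ≃ₗ[B] T :=
  (((HomologicalComplex.homologyFunctor _ c p).mapIso
    (bcIso φ K K' ρ ρ' κ hκ hBC)).toLinearEquiv).trans (homLinEquiv₀ K' ρ' p E hE)

end

end Groth.Agent.Lib.helper21.ModCx
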