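import Mathlib

/-!
# Mayer–Vietoris induction principle for quasi-compact opens (helper21)

`qc_induction`: let `Q` be a property of opens of a scheme `X` which holds for affine opens and such
that `Q U`, `Q V`, `Q (U ⊓ V)` imply `Q (U ⊔ V)`.  Then `Q W` holds for every quasi-compact,
quasi-separated open `W`.  (No separatedness: intersections of affines are handled by a sub-induction
over finite unions of basic opens inside an affine open, `of_iSup_basicOpen`.)
-/

set_option autoImplicit false

universe u

namespace Groth.Agent.Lib.helper21.QcInduction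

open AlgebraicGeometry CategoryTheory TopologicalSpace Opposite

variable {X : Scheme.{u}}

lemma iSup_fin_succ' {α : Type*} [CompleteLattice α] {t : ℕ} (U : Fin (t + 1) → α) :
    (⨆ i, U i) = (⨆ i : Fin t, U i.castSucc) ⊔ U (Fin.last t) := by
  apply le_antisymm
  · refine iSup_le (fun i => ?_)
    refine Fin.lastCases ?_ (fun j => ?_) i
    · exact le_sup_right
    · exact (le_iSup (fun j : Fin t => U j.castSucc) j).trans le_sup_left
  · exact sup_le (iSup_le fun j => le_iSup U j.castSucc) (le_iSup U (Fin.last t))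

/-- a quasi-compact open inside an affine open is a finite union of basic opens -/
lemma exists_finite_basicOpen_cover {U : X.Opens} (hU : IsAffineOpen U) (W : X.Opens) (hWU : W ≤ U)
    (hW : IsCompact (W : Set X)) :
    ∃ (n : ℕ) (g : Fin n → Γ(X, U)), W = ⨆ i, X.basicOpen (g i) := by
  classical
  have hex : ∀ x : W, ∃ f : Γ(X, U), X.basicOpen f ≤ W ∧ (x : X) ∈ X.basicOpen f :=
    fun x => hU.exists_basicOpen_le x (hWU x.2)
  choose f hf₁ hf₂ using hex
  have hcov : (W : Set X) ⊆ ⋃ x : W, (X.basicOpen (f x) : Set X) := by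
    intro x hx
    exact Set.mem_iUnion.mpr ⟨⟨x, hx⟩, hf₂ ⟨x, hx⟩⟩
  obtain ⟨t, ht⟩ := hW.elim_finite_subcover (fun x : W => (X.basicOpen (f x) : Set X))
    (fun x => (X.basicOpen (f x)).isOpen) hcov
  refine ⟨t.card, fun i => f (t.equivFin.symm i).1, ?_⟩
  apply le_antisymm
  · intro x hx
    obtain ⟨y, hy⟩ := Set.mem_iUnion.mp (ht hx)
    obtain ⟨hyt, hxy⟩ := Set.mem_iUnion.mp hy
    refine Opens.mem_iSup.mpr ⟨t.equivFin ⟨y, hyt⟩, ?_⟩
    simpa using hxy
  · exact iSup_le fun i => hf₁ _

variable (Q : X.Opens → Prop)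

/-- sub-induction: finite unions of basic opens of an affine open -/
theorem of_iSup_basicOpen (haff : ∀ U : X.Opens, IsAffineOpen U → Q U)
    (hMV : ∀ U V : X.Opens, Q U → Q V → Q (U ⊓ V) → Q (U ⊔ V)) :
    ∀ (n : ℕ) (U : X.Opens) (_ : IsAffineOpen U) (g : Fin n → Γ(X, U)),
      Q (⨆ i, X.basicOpen (g i)) := by
  intro n
  induction n with
  | zero =>
    intro U hU g
    have : (⨆ i : Fin 0, X.basicOpen (g i)) = ⊥ := by
      rw [iSup_eq_bot]
      intro i
      exact i.elim0
    rw [this]
    exact haff ⊥ (isAffineOpen_bot X)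
  | succ n ih =>
    intro U hU g
    rw [iSup_fin_succ']
    refine hMV _ _ (ih U hU _) (haff _ (hU.basicOpen _)) ?_
    -- the intersection is a union of `n` basic opens of the affine open `D(g last)`
    have hU' : IsAffineOpen (X.basicOpen (g (Fin.last n))) := hU.basicOpen _
    have key : (⨆ i : Fin n, X.basicOpen (g i.castSucc)) ⊓ X.basicOpen (g (Fin.last n)) =
        ⨆ i : Fin n, X.basicOpen (X.presheaf.map
          (homOfLE (X.basicOpen_le (g (Fin.last n)))).op (g i.castSucc)) := by
      rw [iSup_inf_eq]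
      congr 1
      funext i
      rw [Scheme.basicOpen_res, inf_comm]
    rw [key]
    exact ih _ hU' _

/-- **Induction principle** for quasi-compact quasi-separated opens. -/
theorem qc_induction (haff : ∀ U : X.Opens, IsAffineOpen U → Q U)
    (hMV : ∀ U V : X.Opens, Q U → Q V → Q (U ⊓ V) → Q (U ⊔ V))
    (W : X.Opens) (hW : IsCompact (W : Set X)) (hqs : IsQuasiSeparated (W : Set X)) : Q W := by
  have main : W ≤ W → Q W := by
    refine compact_open_induction_on (P := fun T : X.Opens => T ≤ W → Q T) W hW ?_ ?_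
    · intro _
      exact haff ⊥ (isAffineOpen_bot X)
    · intro S hS U ih hSU
      have hS' : S ≤ W := le_sup_left.trans hSU
      have hU' : (U : X.Opens) ≤ W := le_sup_right.trans hSU
      have hc : IsCompact ((S ⊓ (U : X.Opens) : X.Opens) : Set X) :=
        hqs S U hS' S.2 hS hU' (U : X.Opens).2 U.2.isCompact
      obtain ⟨n, g, hg⟩ := exists_finite_basicOpen_cover U.2 (S ⊓ (U : X.Opens)) inf_le_right hc
      refine hMV S U (ih hS') (haff U U.2) ?_
      rw [hg]
      exact of_iSup_basicOpen Q haff hMV n U U.2 g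
  exact main le_rfl

end Groth.Agent.Lib.helper21.QcInduction
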