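import Mathlib
import Groth.Agent.Lib.Lead.LocHomology

/-!
# Five lemma for localisation-type maps (helper21)

`IsLocMap μ ν φ` (lead's `LocHomology`) says that `φ : A → B` exhibits `B` as `A[μ⁻¹]`.  Given a map of
five-term exact sequences, equivariant for endomorphisms `μᵢ`, `νᵢ`, whose outer four vertical maps are
`IsLocMap`, the middle one is `IsLocMap` too.
-/

set_option autoImplicit false

namespace Groth.Agent.Lib.helper21.LocFive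

open Groth.Agent.Lib.Lead.LocHomology

variable {A₁ A₂ A₃ A₄ A₅ B₁ B₂ B₃ B₄ B₅ : Type*}
  [AddCommGroup A₁] [AddCommGroup A₂] [AddCommGroup A₃] [AddCommGroup A₄] [AddCommGroup A₅]
  [AddCommGroup B₁] [AddCommGroup B₂] [AddCommGroup B₃] [AddCommGroup B₄] [AddCommGroup B₅]

lemma iterate_semiconj {A B : Type*} [AddCommGroup A] [AddCommGroup B] {μ : A →+ A} {ν : B →+ B}
    {a : A →+ B} (h : ∀ x, a (μ x) = ν (a x)) (N : ℕ) (x : A) : a ((μ^[N]) x) = (ν^[N]) (a x) := by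
  have hs : Function.Semiconj a μ ν := fun x => h x
  exact (hs.iterate_right N) x

lemma iterate_map_add' {A : Type*} [AddCommGroup A] (μ : A →+ A) (N : ℕ) (x y : A) :
    (μ^[N]) (x + y) = (μ^[N]) x + (μ^[N]) y := by
  induction N generalizing x y with
  | zero => rfl
  | succ n ih => simp only [Function.iterate_succ, Function.comp_apply, map_add, ih]

lemma iterate_map_sub' {A : Type*} [AddCommGroup A] (μ : A →+ A) (N : ℕ) (x y : A) :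
    (μ^[N]) (x - y) = (μ^[N]) x - (μ^[N]) y := by
  induction N generalizing x y with
  | zero => rfl
  | succ n ih => simp only [Function.iterate_succ, Function.comp_apply, map_sub, ih]

lemma iterate_map_zero' {A : Type*} [AddCommGroup A] (μ : A →+ A) (N : ℕ) :
    (μ^[N]) (0 : A) = 0 := by
  induction N with
  | zero => rfl
  | succ n ih => simp only [Function.iterate_succ, Function.comp_apply, map_zero, ih]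

/-- **Five lemma** for `IsLocMap`. -/
theorem isLocMap_five
    {a₁ : A₁ →+ A₂} {a₂ : A₂ →+ A₃} {a₃ : A₃ →+ A₄} {a₄ : A₄ →+ A₅}
    {b₁ : B₁ →+ B₂} {b₂ : B₂ →+ B₃} {b₃ : B₃ →+ B₄} {b₄ : B₄ →+ B₅}
    {μ₁ : A₁ →+ A₁} {μ₂ : A₂ →+ A₂} {μ₃ : A₃ →+ A₃} {μ₄ : A₄ →+ A₄} {μ₅ : A₅ →+ A₅}
    {ν₁ : B₁ →+ B₁} {ν₂ : B₂ →+ B₂} {ν₃ : B₃ →+ B₃} {ν₄ : B₄ →+ B₄} {ν₅ : B₅ →+ B₅}
    {φ₁ : A₁ →+ B₁} {φ₂ : A₂ →+ B₂} {φ₃ : A₃ →+ B₃} {φ₄ : A₄ →+ B₄} {φ₅ : A₅ →+ B₅}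
    -- the top row
    (ha₁₂ : ∀ x, a₂ (a₁ x) = 0)
    (ha₃ : ∀ x, a₃ x = 0 → ∃ y, a₂ y = x)
    (ha₄ : ∀ x, a₄ x = 0 → ∃ y, a₃ y = x)
    -- the bottom row
    (hb₁₂ : ∀ x, b₂ (b₁ x) = 0)
    (hb₃₄ : ∀ x, b₄ (b₃ x) = 0)
    (hb₂ : ∀ x, b₂ x = 0 → ∃ y, b₁ y = x)
    (hb₃ : ∀ x, b₃ x = 0 → ∃ y, b₂ y = x)
    (hb₄ : ∀ x, b₄ x = 0 → ∃ y, b₃ y = x)
    -- equivariance of the rows
    (hμ₂ : ∀ x, a₂ (μ₂ x) = μ₃ (a₂ x)) (hμ₃ : ∀ x, a₃ (μ₃ x) = μ₄ (a₃ x))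
    (hμ₄ : ∀ x, a₄ (μ₄ x) = μ₅ (a₄ x))
    (hν₁ : ∀ x, b₁ (ν₁ x) = ν₂ (b₁ x)) (hν₂ : ∀ x, b₂ (ν₂ x) = ν₃ (b₂ x))
    (hν₃ : ∀ x, b₃ (ν₃ x) = ν₄ (b₃ x)) (hν₄ : ∀ x, b₄ (ν₄ x) = ν₅ (b₄ x))
    -- the vertical maps commute with the rows
    (hφ₁ : ∀ x, φ₂ (a₁ x) = b₁ (φ₁ x)) (hφ₂ : ∀ x, φ₃ (a₂ x) = b₂ (φ₂ x))
    (hφ₃ : ∀ x, φ₄ (a₃ x) = b₃ (φ₃ x)) (hφ₄ : ∀ x, φ₅ (a₄ x) = b₄ (φ₄ x))
    (hcomm : ∀ x, φ₃ (μ₃ x) = ν₃ (φ₃ x))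
    (h₁ : IsLocMap μ₁ ν₁ φ₁) (h₂ : IsLocMap μ₂ ν₂ φ₂) (h₄ : IsLocMap μ₄ ν₄ φ₄)
    (h₅ : IsLocMap μ₅ ν₅ φ₅) :
    IsLocMap μ₃ ν₃ φ₃ := by
  have hcommN : ∀ (N : ℕ) (x : A₃), φ₃ ((μ₃^[N]) x) = (ν₃^[N]) (φ₃ x) :=
    fun N x => iterate_semiconj hcomm N x
  refine ⟨hcomm, ⟨?_, ?_⟩, ?_, ?_⟩
  · -- injectivity of ν₃
    rw [injective_iff_map_eq_zero]
    intro y hy
    have h1 : b₃ y = 0 := by
      apply h₄.bij.1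
      rw [← hν₃, hy, map_zero, map_zero]
    obtain ⟨y₂, rfl⟩ := hb₃ y h1
    have h2 : b₂ (ν₂ y₂) = 0 := by rw [hν₂, hy]
    obtain ⟨y₁, hy₁⟩ := hb₂ _ h2
    obtain ⟨y₁', rfl⟩ := h₁.bij.2 y₁
    have h3 : y₂ = b₁ y₁' := by
      apply h₂.bij.1
      rw [← hy₁, hν₁]
    rw [h3, hb₁₂]
  · -- surjectivity of ν₃
    intro y
    obtain ⟨z₄, hz₄⟩ := h₄.bij.2 (b₃ y)
    have h1 : b₄ z₄ = 0 := by
      apply h₅.bij.1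
      rw [← hν₄, hz₄, hb₃₄, map_zero]
    obtain ⟨z₃, rfl⟩ := hb₄ z₄ h1
    have h2 : b₃ (y - ν₃ z₃) = 0 := by
      rw [map_sub, hν₃, hz₄, sub_self]
    obtain ⟨w₂, hw₂⟩ := hb₃ _ h2
    obtain ⟨w₂', rfl⟩ := h₂.bij.2 w₂
    refine ⟨z₃ + b₂ w₂', ?_⟩
    rw [map_add, ← hν₂, hw₂, add_sub_cancel]
  · -- every element is in the image after applying ν₃ often enough
    intro y
    obtain ⟨N, x₄, hx₄⟩ := h₄.surj (b₃ y)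
    have h1 : φ₅ (a₄ x₄) = 0 := by
      rw [hφ₄, hx₄, ← iterate_semiconj hν₃, hb₃₄]
    obtain ⟨K, hK⟩ := h₅.ker _ h1
    have h2 : a₄ ((μ₄^[K]) x₄) = 0 := by rw [iterate_semiconj hμ₄, hK]
    obtain ⟨x₃, hx₃⟩ := ha₄ _ h2
    have h3 : b₃ ((ν₃^[K + N]) y - φ₃ x₃) = 0 := by
      rw [map_sub, ← hφ₃, hx₃, h₄.comm_iterate, hx₄, iterate_semiconj hν₃,
        ← Function.iterate_add_apply, sub_self]
    obtain ⟨y₂, hy₂⟩ := hb₃ _ h3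
    obtain ⟨L, x₂, hx₂⟩ := h₂.surj y₂
    refine ⟨L + (K + N), (μ₃^[L]) x₃ + a₂ x₂, ?_⟩
    rw [map_add, hcommN, hφ₂, hx₂, iterate_semiconj hν₂, hy₂, iterate_map_sub',
      ← Function.iterate_add_apply, add_sub_cancel]
  · -- the kernel is killed by iterates of μ₃
    intro x hx
    have h1 : φ₄ (a₃ x) = 0 := by rw [hφ₃, hx, map_zero]
    obtain ⟨N, hN⟩ := h₄.ker _ h1
    have h2 : a₃ ((μ₃^[N]) x) = 0 := by rw [iterate_semiconj hμ₃, hN]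
    obtain ⟨x₂, hx₂⟩ := ha₃ _ h2
    have h3 : b₂ (φ₂ x₂) = 0 := by
      rw [← hφ₂, hx₂, hcommN, hx, iterate_map_zero']
    obtain ⟨y₁, hy₁⟩ := hb₂ _ h3
    obtain ⟨K, x₁, hx₁⟩ := h₁.surj y₁
    have h4 : φ₂ ((μ₂^[K]) x₂ - a₁ x₁) = 0 := by
      rw [map_sub, h₂.comm_iterate, ← hy₁, ← iterate_semiconj hν₁, ← hx₁, hφ₁, sub_self]
    obtain ⟨L, hL⟩ := h₂.ker _ h4
    refine ⟨L + K + N, ?_⟩
    rw [Function.iterate_add_apply, ← hx₂, Function.iterate_add_apply,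
      ← iterate_semiconj hμ₂, ← iterate_semiconj hμ₂]
    have h5 : (μ₂^[L]) ((μ₂^[K]) x₂) = (μ₂^[L]) (a₁ x₁) := by
      have := hL
      rw [iterate_map_sub', sub_eq_zero] at this
      exact this
    rw [h5]
    -- a₂ (μ₂^L (a₁ x₁)) = μ₃^L (a₂ (a₁ x₁)) = 0
    rw [iterate_semiconj hμ₂, ha₁₂, iterate_map_zero']

end Groth.Agent.Lib.helper21.LocFive
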