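import Mathlib
import Groth.Agent.Lib.Helper21.LocFive
import Groth.Agent.Lib.Lead.LocPi

/-!
# Localisation-type maps on `Ext`-groups in the first variable (helper21)

Fix an object `F` of an abelian category with an endomorphism `σ`.  For a morphism `ρ : Z' ⟶ Z` we say
`LocAt σ ρ` if for every `q` the precomposition `Ext Z F q → Ext Z' F q` is a localisation-type map
(`IsLocMap` of lead's `LocHomology`) with respect to postcomposition with `σ`.

* `locAt_τ₃`: for a morphism of short exact sequences `τ : S' ⟶ S`, `LocAt σ τ.τ₁` and `LocAt σ τ.τ₂`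
  imply `LocAt σ τ.τ₃` (five lemma on the contravariant long exact `Ext`-sequences).
* `locAt_biprod_map`: `LocAt` is stable under binary biproducts.
* `locAt_of_isZero`: morphisms between zero objects.
-/

set_option autoImplicit false

universe w v u

namespace Groth.Agent.Lib.helper21.LocExt

open CategoryTheory CategoryTheory.Abelian CategoryTheory.Limits
open Groth.Agent.Lib.Lead.LocHomology Groth.Agent.Lib.helper21.LocFive

lemma isLocMap_of_subsingleton {A B : Type*} [AddCommGroup A] [AddCommGroup B]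
    [Subsingleton A] [Subsingleton B] (μ : A →+ A) (ν : B →+ B) (φ : A →+ B) :
    IsLocMap μ ν φ where
  comm _ := Subsingleton.elim _ _
  bij := ⟨fun _ _ _ => Subsingleton.elim _ _, fun y => ⟨0, Subsingleton.elim _ _⟩⟩
  surj y := ⟨0, 0, Subsingleton.elim _ _⟩
  ker x _ := ⟨0, Subsingleton.elim _ _⟩

/-- binary products of localisation-type maps -/
lemma isLocMap_prod {A A' B B' : Type*} [AddCommGroup A] [AddCommGroup A'] [AddCommGroup B]
    [AddCommGroup B'] {μ : A →+ A} {ν : B →+ B} {φ : A →+ B} {μ' : A' →+ A'} {ν' : B' →+ B'}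
    {φ' : A' →+ B'} (h : IsLocMap μ ν φ) (h' : IsLocMap μ' ν' φ') :
    IsLocMap (μ.prodMap μ') (ν.prodMap ν') (φ.prodMap φ') := by
  have hit : ∀ (N : ℕ) (y : B × B'), ((ν.prodMap ν')^[N]) y = ((ν^[N]) y.1, (ν'^[N]) y.2) := by
    intro N
    induction N with
    | zero => intro y; rfl
    | succ n ih => intro y; rw [Function.iterate_succ_apply, ih]; rfl
  have hit' : ∀ (N : ℕ) (x : A × A'), ((μ.prodMap μ')^[N]) x = ((μ^[N]) x.1, (μ'^[N]) x.2) := by
    intro N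
    induction N with
    | zero => intro y; rfl
    | succ n ih => intro y; rw [Function.iterate_succ_apply, ih]; rfl
  refine ⟨?_, ⟨?_, ?_⟩, ?_, ?_⟩
  · rintro ⟨x, x'⟩
    exact Prod.ext (h.comm x) (h'.comm x')
  · rintro ⟨y, y'⟩ ⟨z, z'⟩ hyz
    have h1 := congrArg Prod.fst hyz
    have h2 := congrArg Prod.snd hyz
    exact Prod.ext (h.bij.1 h1) (h'.bij.1 h2)
  · rintro ⟨y, y'⟩
    obtain ⟨x, hx⟩ := h.bij.2 y
    obtain ⟨x', hx'⟩ := h'.bij.2 y'
    exact ⟨(x, x'), Prod.ext hx hx'⟩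
  · rintro ⟨y, y'⟩
    obtain ⟨N, hN⟩ := h.surj_ge y
    obtain ⟨N', hN'⟩ := h'.surj_ge y'
    obtain ⟨x, hx⟩ := hN (max N N') (le_max_left _ _)
    obtain ⟨x', hx'⟩ := hN' (max N N') (le_max_right _ _)
    refine ⟨max N N', (x, x'), ?_⟩
    rw [hit]
    exact Prod.ext hx hx'
  · rintro ⟨x, x'⟩ hx
    have h1 := congrArg Prod.fst hx
    have h2 := congrArg Prod.snd hx
    obtain ⟨N, hN⟩ := h.ker_ge x h1
    obtain ⟨N', hN'⟩ := h'.ker_ge x' h2
    refine ⟨max N N', ?_⟩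
    rw [hit']
    exact Prod.ext (hN _ (le_max_left _ _)) (hN' _ (le_max_right _ _))

variable {C : Type u} [Category.{v} C] [Abelian C] [HasExt.{w} C]

section defs

variable {F : C} (σ : F ⟶ F)

/-- postcomposition with `σ` on `Ext Z F q` -/
noncomputable abbrev post (Z : C) (q : ℕ) : Ext.{w} Z F q →+ Ext.{w} Z F q :=
  (Ext.mk₀ σ).postcomp Z (add_zero q)

/-- precomposition with `ρ` -/
noncomputable abbrev pre (F : C) {Z' Z : C} (ρ : Z' ⟶ Z) (q : ℕ) : Ext.{w} Z F q →+ Ext.{w} Z' F q :=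
  (Ext.mk₀ ρ).precomp F (zero_add q)

/-- `ρ : Z' ⟶ Z` induces localisation-type maps `Ext Z F q → Ext Z' F q` with respect to `σ`. -/
def LocAt {Z' Z : C} (ρ : Z' ⟶ Z) : Prop :=
  ∀ q : ℕ, IsLocMap (post.{w} σ Z q) (post.{w} σ Z' q) (pre.{w} F ρ q)

lemma pre_post {Z' Z : C} (ρ : Z' ⟶ Z) (q : ℕ) (x : Ext.{w} Z F q) :
    pre.{w} F ρ q (post.{w} σ Z q x) = post.{w} σ Z' q (pre.{w} F ρ q x) := by
  show (Ext.mk₀ ρ).comp (x.comp (Ext.mk₀ σ) (add_zero q)) (zero_add q) =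
    ((Ext.mk₀ ρ).comp x (zero_add q)).comp (Ext.mk₀ σ) (add_zero q)
  exact (Ext.comp_assoc _ _ _ (zero_add q) (add_zero q) (by omega)).symm

lemma locAt_of_isZero {Z' Z : C} (ρ : Z' ⟶ Z) (hZ' : IsZero Z') (hZ : IsZero Z) : LocAt.{w} σ ρ := by
  intro q
  haveI : Subsingleton (Ext.{w} Z F q) := by
    refine subsingleton_of_forall_eq 0 fun x => ?_
    have h1 : x = (Ext.mk₀ (𝟙 Z)).comp x (zero_add q) := (Ext.mk₀_id_comp x).symm
    rw [h1, hZ.eq_of_src (𝟙 Z) 0, Ext.mk₀_zero, Ext.zero_comp]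
  haveI : Subsingleton (Ext.{w} Z' F q) := by
    refine subsingleton_of_forall_eq 0 fun x => ?_
    have h1 : x = (Ext.mk₀ (𝟙 Z')).comp x (zero_add q) := (Ext.mk₀_id_comp x).symm
    rw [h1, hZ'.eq_of_src (𝟙 Z') 0, Ext.mk₀_zero, Ext.zero_comp]
  exact isLocMap_of_subsingleton _ _ _

end defs

section two_of_three

variable {F : C} (σ : F ⟶ F) {S' S : ShortComplex C} (hS' : S'.ShortExact) (hS : S.ShortExact)
  (τ : S' ⟶ S)

include hS' hS in
/-- **Two out of three**: for a morphism of short exact sequences, if the first two components are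
`LocAt`, so is the third. -/
theorem locAt_τ₃ (h₁ : LocAt.{w} σ τ.τ₁) (h₂ : LocAt.{w} σ τ.τ₂) : LocAt.{w} σ τ.τ₃ := by
  haveI := hS.epi_g
  haveI := hS'.epi_g
  intro q
  -- common facts
  have hcomm : ∀ (q : ℕ) (x : Ext.{w} S.X₃ F q),
      pre.{w} F τ.τ₃ q (post.{w} σ S.X₃ q x) = post.{w} σ S'.X₃ q (pre.{w} F τ.τ₃ q x) :=
    fun q x => pre_post σ τ.τ₃ q x
  have hsq₁ : ∀ (n : ℕ) (x : Ext.{w} S.X₂ F n),
      pre.{w} F τ.τ₁ n (pre.{w} F S.f n x) = pre.{w} F S'.f n (pre.{w} F τ.τ₂ n x) := by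
    intro n x
    show (Ext.mk₀ τ.τ₁).comp ((Ext.mk₀ S.f).comp x (zero_add n)) (zero_add n) =
      (Ext.mk₀ S'.f).comp ((Ext.mk₀ τ.τ₂).comp x (zero_add n)) (zero_add n)
    rw [Ext.mk₀_comp_mk₀_assoc, Ext.mk₀_comp_mk₀_assoc, τ.comm₁₂]
  have hsq₂ : ∀ (n : ℕ) (x : Ext.{w} S.X₃ F n),
      pre.{w} F τ.τ₂ n (pre.{w} F S.g n x) = pre.{w} F S'.g n (pre.{w} F τ.τ₃ n x) := by
    intro n x
    show (Ext.mk₀ τ.τ₂).comp ((Ext.mk₀ S.g).comp x (zero_add n)) (zero_add n) =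
      (Ext.mk₀ S'.g).comp ((Ext.mk₀ τ.τ₃).comp x (zero_add n)) (zero_add n)
    rw [Ext.mk₀_comp_mk₀_assoc, Ext.mk₀_comp_mk₀_assoc, τ.comm₂₃]
  have hfg : ∀ (T : ShortComplex C) (n : ℕ) (x : Ext.{w} T.X₃ F n),
      pre.{w} F T.f n (pre.{w} F T.g n x) = 0 := by
    intro T n x
    show (Ext.mk₀ T.f).comp ((Ext.mk₀ T.g).comp x (zero_add n)) (zero_add n) = 0
    rw [Ext.mk₀_comp_mk₀_assoc, T.zero, Ext.mk₀_zero, Ext.zero_comp]
  cases q with
  | zero =>
    -- the sequence `0 → 0 → Ext⁰(X₃) → Ext⁰(X₂) → Ext⁰(X₁)`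
    refine isLocMap_five
      (A₁ := PUnit.{1}) (A₂ := PUnit.{1}) (B₁ := PUnit.{1}) (B₂ := PUnit.{1})
      (a₁ := 0) (a₂ := 0) (a₃ := pre.{w} F S.g 0) (a₄ := pre.{w} F S.f 0)
      (b₁ := 0) (b₂ := 0) (b₃ := pre.{w} F S'.g 0) (b₄ := pre.{w} F S'.f 0)
      (μ₁ := 0) (μ₂ := 0) (μ₃ := post.{w} σ S.X₃ 0) (μ₄ := post.{w} σ S.X₂ 0)
      (μ₅ := post.{w} σ S.X₁ 0)
      (ν₁ := 0) (ν₂ := 0) (ν₃ := post.{w} σ S'.X₃ 0) (ν₄ := post.{w} σ S'.X₂ 0)
      (ν₅ := post.{w} σ S'.X₁ 0)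
      (φ₁ := 0) (φ₂ := 0) (φ₃ := pre.{w} F τ.τ₃ 0) (φ₄ := pre.{w} F τ.τ₂ 0)
      (φ₅ := pre.{w} F τ.τ₁ 0)
      ?_ ?_ ?_ ?_ ?_ ?_ ?_ ?_ ?_ ?_ ?_ ?_ ?_ ?_ ?_ ?_ ?_ ?_ ?_ (hcomm 0)
      (isLocMap_of_subsingleton _ _ _) (isLocMap_of_subsingleton _ _ _) (h₂ 0) (h₁ 0)
    · intro x; rfl
    · intro x hx
      refine ⟨0, ?_⟩
      have := Ext.precomp_mk₀_injective_of_epi F S.g
      exact (this (hx.trans (map_zero _).symm)).symm
    · intro x hx
      exact Ext.contravariant_sequence_exact₂ hS F x hx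
    · intro x; rfl
    · intro x; exact hfg S' 0 x
    · intro x hx; exact ⟨0, Subsingleton.elim _ _⟩
    · intro x hx
      refine ⟨0, ?_⟩
      have := Ext.precomp_mk₀_injective_of_epi F S'.g
      exact (this (hx.trans (map_zero _).symm)).symm
    · intro x hx
      exact Ext.contravariant_sequence_exact₂ hS' F x hx
    · intro x; exact (map_zero _).symm
    · intro x; exact pre_post σ S.g 0 x
    · intro x; exact pre_post σ S.f 0 x
    · intro x; rfl
    · intro x; exact (map_zero _).symm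
    · intro x; exact pre_post σ S'.g 0 x
    · intro x; exact pre_post σ S'.f 0 x
    · intro x; rfl
    · intro x; exact (map_zero _)
    · intro x; exact hsq₂ 0 x
    · intro x; exact hsq₁ 0 x
  | succ n =>
    have hn : 1 + n = n + 1 := by omega
    have hδσ : ∀ (T : ShortComplex C) (hT : T.ShortExact) (x : Ext.{w} T.X₁ F n),
        hT.extClass.precomp F hn (post.{w} σ T.X₁ n x) =
          post.{w} σ T.X₃ (n + 1) (hT.extClass.precomp F hn x) := by
      intro T hT x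
      show hT.extClass.comp (x.comp (Ext.mk₀ σ) (add_zero n)) hn =
        (hT.extClass.comp x hn).comp (Ext.mk₀ σ) (add_zero (n + 1))
      exact (Ext.comp_assoc _ _ _ hn (add_zero n) (by omega)).symm
    refine isLocMap_five
      (a₁ := pre.{w} F S.f n) (a₂ := hS.extClass.precomp F hn) (a₃ := pre.{w} F S.g (n + 1))
      (a₄ := pre.{w} F S.f (n + 1))
      (b₁ := pre.{w} F S'.f n) (b₂ := hS'.extClass.precomp F hn) (b₃ := pre.{w} F S'.g (n + 1))
      (b₄ := pre.{w} F S'.f (n + 1))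
      (μ₁ := post.{w} σ S.X₂ n) (μ₂ := post.{w} σ S.X₁ n) (μ₃ := post.{w} σ S.X₃ (n + 1))
      (μ₄ := post.{w} σ S.X₂ (n + 1)) (μ₅ := post.{w} σ S.X₁ (n + 1))
      (ν₁ := post.{w} σ S'.X₂ n) (ν₂ := post.{w} σ S'.X₁ n) (ν₃ := post.{w} σ S'.X₃ (n + 1))
      (ν₄ := post.{w} σ S'.X₂ (n + 1)) (ν₅ := post.{w} σ S'.X₁ (n + 1))
      (φ₁ := pre.{w} F τ.τ₂ n) (φ₂ := pre.{w} F τ.τ₁ n) (φ₃ := pre.{w} F τ.τ₃ (n + 1))
      (φ₄ := pre.{w} F τ.τ₂ (n + 1)) (φ₅ := pre.{w} F τ.τ₁ (n + 1))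
      ?_ ?_ ?_ ?_ ?_ ?_ ?_ ?_ ?_ ?_ ?_ ?_ ?_ ?_ ?_ ?_ ?_ ?_ ?_ (hcomm (n + 1))
      (h₂ n) (h₁ n) (h₂ (n + 1)) (h₁ (n + 1))
    · intro x
      exact hS.extClass_comp_assoc x (h := hn)
    · intro x hx
      exact Ext.contravariant_sequence_exact₃ hS F x hx hn
    · intro x hx
      exact Ext.contravariant_sequence_exact₂ hS F x hx
    · intro x
      exact hS'.extClass_comp_assoc x (h := hn)
    · intro x; exact hfg S' (n + 1) x
    · intro x hx
      exact Ext.contravariant_sequence_exact₁ hS' F x hn hx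
    · intro x hx
      exact Ext.contravariant_sequence_exact₃ hS' F x hx hn
    · intro x hx
      exact Ext.contravariant_sequence_exact₂ hS' F x hx
    · intro x; exact hδσ S hS x
    · intro x; exact pre_post σ S.g (n + 1) x
    · intro x; exact pre_post σ S.f (n + 1) x
    · intro x; exact pre_post σ S'.f n x
    · intro x; exact hδσ S' hS' x
    · intro x; exact pre_post σ S'.g (n + 1) x
    · intro x; exact pre_post σ S'.f (n + 1) x
    · intro x; exact hsq₁ n x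
    · intro x
      show (Ext.mk₀ τ.τ₃).comp (hS.extClass.comp x hn) (zero_add (n + 1)) =
        hS'.extClass.comp ((Ext.mk₀ τ.τ₁).comp x (zero_add n)) hn
      rw [← Ext.comp_assoc (Ext.mk₀ τ.τ₃) hS.extClass x (zero_add 1) hn (by omega),
        ← ShortComplex.ShortExact.extClass_naturality hS' hS τ,
        Ext.comp_assoc hS'.extClass (Ext.mk₀ τ.τ₁) x (add_zero 1) (zero_add n) (by omega)]
    · intro x; exact hsq₂ (n + 1) x
    · intro x; exact hsq₁ (n + 1) x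

end two_of_three

section biprod

variable {F : C} (σ : F ⟶ F) {Z₁' Z₁ Z₂' Z₂ : C} (ρ₁ : Z₁' ⟶ Z₁) (ρ₂ : Z₂' ⟶ Z₂)

theorem locAt_biprod_map (h₁ : LocAt.{w} σ ρ₁) (h₂ : LocAt.{w} σ ρ₂) :
    LocAt.{w} σ (biprod.map ρ₁ ρ₂) := by
  intro q
  have h := isLocMap_prod (h₁ q) (h₂ q)
  refine h.of_equiv (Ext.biprodAddEquiv (X₁ := Z₁) (X₂ := Z₂) (Y := F) (n := q)).symm
    (Ext.biprodAddEquiv (X₁ := Z₁') (X₂ := Z₂') (Y := F) (n := q)).symm ?_ ?_ ?_
  · rintro ⟨x, y⟩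
    apply (Ext.biprodAddEquiv (X₁ := Z₁) (X₂ := Z₂) (Y := F) (n := q)).injective
    rw [AddEquiv.apply_symm_apply]
    refine Prod.ext ?_ ?_
    · show x.comp (Ext.mk₀ σ) (add_zero q) = (Ext.mk₀ biprod.inl).comp
        ((Ext.biprodAddEquiv.symm (x, y)).comp (Ext.mk₀ σ) (add_zero q)) (zero_add q)
      rw [← Ext.comp_assoc _ _ _ (zero_add q) (add_zero q) (by omega)]
      have : (Ext.mk₀ biprod.inl).comp (Ext.biprodAddEquiv.symm (x, y)) (zero_add q) = x := by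
        have := congrArg Prod.fst (Ext.biprodAddEquiv.apply_symm_apply (x, y))
        exact this
      rw [this]
    · show y.comp (Ext.mk₀ σ) (add_zero q) = (Ext.mk₀ biprod.inr).comp
        ((Ext.biprodAddEquiv.symm (x, y)).comp (Ext.mk₀ σ) (add_zero q)) (zero_add q)
      rw [← Ext.comp_assoc _ _ _ (zero_add q) (add_zero q) (by omega)]
      have : (Ext.mk₀ biprod.inr).comp (Ext.biprodAddEquiv.symm (x, y)) (zero_add q) = y := by
        have := congrArg Prod.snd (Ext.biprodAddEquiv.apply_symm_apply (x, y))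
        exact this
      rw [this]
  · rintro ⟨x, y⟩
    apply (Ext.biprodAddEquiv (X₁ := Z₁') (X₂ := Z₂') (Y := F) (n := q)).injective
    rw [AddEquiv.apply_symm_apply]
    refine Prod.ext ?_ ?_
    · show x.comp (Ext.mk₀ σ) (add_zero q) = (Ext.mk₀ biprod.inl).comp
        ((Ext.biprodAddEquiv.symm (x, y)).comp (Ext.mk₀ σ) (add_zero q)) (zero_add q)
      rw [← Ext.comp_assoc _ _ _ (zero_add q) (add_zero q) (by omega)]
      have : (Ext.mk₀ biprod.inl).comp (Ext.biprodAddEquiv.symm (x, y)) (zero_add q) = x := by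
        have := congrArg Prod.fst (Ext.biprodAddEquiv.apply_symm_apply (x, y))
        exact this
      rw [this]
    · show y.comp (Ext.mk₀ σ) (add_zero q) = (Ext.mk₀ biprod.inr).comp
        ((Ext.biprodAddEquiv.symm (x, y)).comp (Ext.mk₀ σ) (add_zero q)) (zero_add q)
      rw [← Ext.comp_assoc _ _ _ (zero_add q) (add_zero q) (by omega)]
      have : (Ext.mk₀ biprod.inr).comp (Ext.biprodAddEquiv.symm (x, y)) (zero_add q) = y := by
        have := congrArg Prod.snd (Ext.biprodAddEquiv.apply_symm_apply (x, y))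
        exact this
      rw [this]
  · rintro ⟨x, y⟩
    apply (Ext.biprodAddEquiv (X₁ := Z₁') (X₂ := Z₂') (Y := F) (n := q)).injective
    rw [AddEquiv.apply_symm_apply]
    refine Prod.ext ?_ ?_
    · show (Ext.mk₀ ρ₁).comp x (zero_add q) = (Ext.mk₀ biprod.inl).comp
        ((Ext.mk₀ (biprod.map ρ₁ ρ₂)).comp (Ext.biprodAddEquiv.symm (x, y)) (zero_add q)) (zero_add q)
      rw [Ext.mk₀_comp_mk₀_assoc, biprod.inl_map, ← Ext.mk₀_comp_mk₀_assoc]
      have : (Ext.mk₀ biprod.inl).comp (Ext.biprodAddEquiv.symm (x, y)) (zero_add q) = x := by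
        have := congrArg Prod.fst (Ext.biprodAddEquiv.apply_symm_apply (x, y))
        exact this
      rw [this]
    · show (Ext.mk₀ ρ₂).comp y (zero_add q) = (Ext.mk₀ biprod.inr).comp
        ((Ext.mk₀ (biprod.map ρ₁ ρ₂)).comp (Ext.biprodAddEquiv.symm (x, y)) (zero_add q)) (zero_add q)
      rw [Ext.mk₀_comp_mk₀_assoc, biprod.inr_map, ← Ext.mk₀_comp_mk₀_assoc]
      have : (Ext.mk₀ biprod.inr).comp (Ext.biprodAddEquiv.symm (x, y)) (zero_add q) = y := by
        have := congrArg Prod.snd (Ext.biprodAddEquiv.apply_symm_apply (x, y))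
        exact this
      rw [this]

end biprod

end Groth.Agent.Lib.helper21.LocExt
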