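import Mathlib
import Groth.Prelude.Def_CohTop
import Groth.Agent.Lib.Helper21.LocExt
import Groth.Agent.Lib.Helper7.FreeYoneda

/-!
# Mayer–Vietoris for localisation-type restriction maps in sheaf cohomology (helper21)

`X` a topological space, `F` an abelian sheaf with an endomorphism `σ`, `D` an open.  `Loc σ D W` says
that for every `q` the restriction map `H^q(W, F) → H^q(W ⊓ D, F)` is a localisation-type map
(`IsLocMap`) with respect to the endomorphisms induced by `σ`.

* `loc_iff_locAt`: translation to `LocExt.LocAt` for `ℤ_{W ⊓ D} ⟶ ℤ_W`.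
* `loc_sup`: `Loc U`, `Loc V`, `Loc (U ⊓ V)` imply `Loc (U ⊔ V)`.
-/

set_option autoImplicit false

universe u

namespace Groth.Agent.Lib.helper21.LocMV

open CategoryTheory CategoryTheory.Abelian CategoryTheory.Limits Opposite TopologicalSpace
open Groth.Agent.Lib.Lead.LocHomology Groth.Agent.Lib.helper21.LocExt
open Groth.Agent.Lib.helper7

variable {X : TopCat.{u}} {F : CohTop.Ab X} (σ : F ⟶ F) (D : Opens X)

/-- the free abelian sheaf functor on `Opens X` -/
noncomputable abbrev Zf (X : TopCat.{u}) : Opens X ⥤ CohTop.Ab X :=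
  FreeYoneda.freeSheaf (Opens.grothendieckTopology X)

/-- `H^q(W, F) → H^q(W ⊓ D, F)` is a localisation with respect to `σ`, for all `q`. -/
def Loc (W : Opens X) : Prop :=
  ∀ q : ℕ, IsLocMap (CohTop.HUmap σ q W) (CohTop.HUmap σ q (W ⊓ D))
    (CohTop.res F q (inf_le_left : W ⊓ D ≤ W))

lemma loc_iff_locAt (W : Opens X) :
    Loc σ D W ↔ LocAt.{u} σ ((Zf X).map (homOfLE (inf_le_left : W ⊓ D ≤ W))) :=
  Iff.rfl

/-- the Mayer–Vietoris square of `U ⊓ D`, `V ⊓ D` -/
noncomputable def sqD (U V : Opens X) : (Opens.grothendieckTopology X).MayerVietorisSquare :=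
  Opens.mayerVietorisSquare'
    { X₁ := (U ⊓ V) ⊓ D
      X₂ := U ⊓ D
      X₃ := V ⊓ D
      X₄ := (U ⊔ V) ⊓ D
      f₁₂ := homOfLE (inf_le_inf_right D inf_le_left)
      f₁₃ := homOfLE (inf_le_inf_right D inf_le_right)
      f₂₄ := homOfLE (inf_le_inf_right D le_sup_left)
      f₃₄ := homOfLE (inf_le_inf_right D le_sup_right)
      fac := Subsingleton.elim _ _ }
    (by
      show (U ⊔ V) ⊓ D = (U ⊓ D) ⊔ (V ⊓ D)
      exact inf_sup_right U V D)
    (by
      show (U ⊓ V) ⊓ D = (U ⊓ D) ⊓ (V ⊓ D)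
      exact inf_inf_distrib_right U V D)

/-- the morphism of Mayer–Vietoris short exact sequences induced by the inclusions -/
noncomputable def τ (U V : Opens X) :
    (sqD D U V).shortComplex ⟶ (Opens.mayerVietorisSquare U V).shortComplex where
  τ₁ := (Zf X).map (homOfLE (inf_le_left : (U ⊓ V) ⊓ D ≤ U ⊓ V))
  τ₂ := biprod.map ((Zf X).map (homOfLE (inf_le_left : U ⊓ D ≤ U)))
    ((Zf X).map (homOfLE (inf_le_left : V ⊓ D ≤ V)))
  τ₃ := (Zf X).map (homOfLE (inf_le_left : (U ⊔ V) ⊓ D ≤ U ⊔ V))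
  comm₁₂ := by
    show (Zf X).map _ ≫ biprod.lift ((Zf X).map _) (-(Zf X).map _) =
      biprod.lift ((Zf X).map _) (-(Zf X).map _) ≫ biprod.map _ _
    apply biprod.hom_ext
    · simp only [Category.assoc, biprod.lift_fst, biprod.map_fst, biprod.lift_fst_assoc,
        ← Functor.map_comp]
      congr 1
    · simp only [Category.assoc, biprod.lift_snd, biprod.map_snd, biprod.lift_snd_assoc,
        Preadditive.comp_neg, Preadditive.neg_comp, ← Functor.map_comp]
      congr 2
  comm₂₃ := by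
    show biprod.map _ _ ≫ biprod.desc ((Zf X).map _) ((Zf X).map _) =
      biprod.desc ((Zf X).map _) ((Zf X).map _) ≫ (Zf X).map _
    apply biprod.hom_ext'
    · simp only [biprod.inl_map_assoc, biprod.inl_desc, biprod.inl_desc_assoc, ← Functor.map_comp]
      congr 1
    · simp only [biprod.inr_map_assoc, biprod.inr_desc, biprod.inr_desc_assoc, ← Functor.map_comp]
      congr 1

/-- **Mayer–Vietoris step.** -/
theorem loc_sup (U V : Opens X) (hU : Loc σ D U) (hV : Loc σ D V) (hUV : Loc σ D (U ⊓ V)) :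
    Loc σ D (U ⊔ V) := by
  rw [loc_iff_locAt] at hU hV hUV ⊢
  exact locAt_τ₃ σ (sqD D U V).shortComplex_shortExact
    (Opens.mayerVietorisSquare U V).shortComplex_shortExact (τ D U V) hUV
    (locAt_biprod_map σ _ _ hU hV)

end Groth.Agent.Lib.helper21.LocMV
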