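import Mathlib
import Groth.Prelude.Def_Coh
import Groth.Prelude.Def_ega3
import Groth.Agent.Lib.Helper21.ModCxHom
import Groth.Agent.Lib.Helper8.FlatCohBC4
import Groth.Agent.Lib.Helper20.CechNatTop
import Groth.Agent.Lib.Helper20.ProjTopFin
import Groth.Agent.Lib.Lead.CechLoc
import Groth.Agent.Lib.Helper17.FlatOver1

/-!
# The Čech complex of a quasi-coherent module and base change (helper21)

`X` over `Spec A`, `U` a finite cover by affine opens with affine finite intersections, `M` quasi-coherent.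
The Čech complex of `M` is a complex of `A`-modules `cechMod` (indexed by `ℤ`) such that for every
`A`-algebra `B` and pullback square `X' = X ×_A B`, `H^p(X', g'^* M) ≃ₗ[B] H^p(cechMod ⊗_A B)`.
-/

set_option autoImplicit false
universe u

open CategoryTheory CategoryTheory.Limits Opposite TopologicalSpace AlgebraicGeometry

namespace Groth.Agent.Lib.helper21.GCCech

open Groth.Agent.Lib.helper8.PullbackUnit Groth.Agent.Lib.helper8.FlatCohBC
open Groth.Agent.Lib.helper27 Groth.Agent.Lib.Helper18 Groth.Agent.Lib.helper21.ModCx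
open Groth.Agent.Lib.Helper20 Groth.Agent.Lib.Helper20.CechNatTop

section Sections

variable {A B : Type u} [CommRing A] [CommRing B] [Algebra A B]
variable {X X' : Scheme.{u}} (fX : X ⟶ Spec (CommRingCat.of A)) (fX' : X' ⟶ Spec (CommRingCat.of B))
  (g' : X' ⟶ X)
  (h : IsPullback g' fX' fX (Spec.map (CommRingCat.ofHom (algebraMap A B))))
  (M : X.Modules)

/-- the `A`-module structure on sections of `M` -/
@[reducible] noncomputable def modSec (W : X.Opens) : Module A ((Coh.toAb M).obj.obj (op W)) :=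
  Module.compHom Γ(M, W) (secAlg fX W)

/-- the `B`-module structure on sections of `g'_* g'^* M` -/
@[reducible] noncomputable def modSec' (W : X.Opens) :
    Module B ((Coh.toAb ((Coh.push g').obj ((Scheme.Modules.pullback g').obj M))).obj.obj (op W)) :=
  Module.compHom Γ((Scheme.Modules.pullback g').obj M, g' ⁻¹ᵁ W) (secAlg fX' (g' ⁻¹ᵁ W))

lemma modSec_smul (W : X.Opens) (a : A) (m : (Coh.toAb M).obj.obj (op W)) :
    letI := modSec fX M W
    a • m = ((αM fX M a).hom.app (op W)).hom m :=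
  (Coh.smulAb_app M _ (op W) m).symm

lemma modSec'_smul (W : X.Opens) (b : B)
    (m : (Coh.toAb ((Coh.push g').obj ((Scheme.Modules.pullback g').obj M))).obj.obj (op W)) :
    letI := modSec' fX' g' M W
    b • m = ((βM fX' g' M b).hom.app (op W)).hom m :=
  (Coh.smulAb_app ((Scheme.Modules.pullback g').obj M) _ (op (g' ⁻¹ᵁ W)) m).symm

variable [M.IsQuasicoherent]

include h in
/-- sections over an affine open: base change -/
theorem isBC_sections (W : X.Opens) (hW : IsAffineOpen W) :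
    @IsBC A B _ _ (algebraMap A B) _ _ _ (modSec fX M W) _ (modSec' fX' g' M W)
      ((ηM g' M).hom.app (op W)).hom := by
  haveI : IsAffineHom g' := MorphismProperty.of_isPullback h.flip inferInstance
  have hW' : IsAffineOpen (g' ⁻¹ᵁ W) := hW.preimage g'
  letI mA := modSec fX M W
  letI mB := modSec' fX' g' M W
  have hK := isBC_ρ g' hW hW' le_rfl M
  have h2 := @IsBC.cancel' _ _ _ _ _ _ _ _ _ _ _ _
    (isPushout_sections fX fX' g' h W hW) Γ(M, W)
    Γ((Scheme.Modules.pullback g').obj M, g' ⁻¹ᵁ W) _ _ mA _ _ mB (fun r n => rfl)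
    (fun r p => rfl) _ hK
  have h3 : ρ g' (le_refl (g' ⁻¹ᵁ W)) M = ((ηM g' M).hom.app (op W)).hom := by
    ext a
    rw [ρ_apply]
    have e1 : (homOfLE (le_refl (g' ⁻¹ᵁ W))).op = 𝟙 (op (g' ⁻¹ᵁ W)) := rfl
    rw [e1, CategoryTheory.Functor.map_id]
    rfl
  rw [← h3]
  exact h2

end Sections

section Cech

variable {A B : Type u} [CommRing A] [CommRing B] [Algebra A B]
variable {X X' : Scheme.{u}} (fX : X ⟶ Spec (CommRingCat.of A)) (fX' : X' ⟶ Spec (CommRingCat.of B))
  (g' : X' ⟶ X)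
  (h : IsPullback g' fX' fX (Spec.map (CommRingCat.ofHom (algebraMap A B))))
  (M : X.Modules)
variable {ι : Type u} [Finite ι] (U : ι → X.Opens)

/-- the Čech complex of `M` -/
noncomputable abbrev KM : CochainComplex AddCommGrpCat.{u} ℕ :=
  (Č (X := X.toTopCat) U).obj (Coh.toAb M)

/-- the action of `A` on the Čech complex of `M` -/
noncomputable def ρM : A →+* End (KM M U) :=
  (mapEndRing (Č (X := X.toTopCat) U) (Coh.toAb M)).comp (αM fX M)

/-- the Čech complex of `g'_* g'^* M` -/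
noncomputable abbrev KN : CochainComplex AddCommGrpCat.{u} ℕ :=
  (Č (X := X.toTopCat) U).obj (Coh.toAb ((Coh.push g').obj ((Scheme.Modules.pullback g').obj M)))

/-- the action of `B` on the Čech complex of `g'_* g'^* M` -/
noncomputable def ρN : B →+* End (KN g' M U) :=
  (mapEndRing (Č (X := X.toTopCat) U) _).comp (βM fX' g' M)

/-- the comparison map of Čech complexes -/
noncomputable def κC : KM M U ⟶ KN g' M U := (Č (X := X.toTopCat) U).map (ηM g' M)

include h in
lemma hκC (a : A) : ρM fX M U a ≫ κC g' M U = κC g' M U ≫ ρN fX' g' M U (algebraMap A B a) := by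
  show (Č (X := X.toTopCat) U).map (αM fX M a) ≫ (Č (X := X.toTopCat) U).map (ηM g' M) =
    (Č (X := X.toTopCat) U).map (ηM g' M) ≫
      (Č (X := X.toTopCat) U).map (βM fX' g' M (algebraMap A B a))
  rw [← Functor.map_comp, ← Functor.map_comp, hηM fX fX' g' h M a]

lemma ρM_smul (n : ℕ) (r : A) (x : (KM M U).X n) (a : Fin (n + 1) → ι) :
    letI := modX (KM M U) (ρM fX M U) n
    letI := modSec fX M (∏ᶜ (U ∘ a) : X.Opens)
    Pi.π (Cech.Z U (Coh.toAb M).obj n) a (r • x) = r • Pi.π (Cech.Z U (Coh.toAb M).obj n) a x := by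
  letI := modX (KM M U) (ρM fX M U) n
  letI := modSec fX M (∏ᶜ (U ∘ a) : X.Opens)
  rw [modSec_smul]
  exact CechLeray.π_map_apply _ _ (fun a : Fin (n + 1) → ι =>
    (αM fX M r).hom.app (op (∏ᶜ (U ∘ a)))) a x

lemma ρN_smul (n : ℕ) (r : B) (x : (KN g' M U).X n) (a : Fin (n + 1) → ι) :
    letI := modX (KN g' M U) (ρN fX' g' M U) n
    letI := modSec' fX' g' M (∏ᶜ (U ∘ a) : X.Opens)
    Pi.π (Cech.Z U (Coh.toAb ((Coh.push g').obj ((Scheme.Modules.pullback g').obj M))).obj n) a
        (r • x) =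
      r • Pi.π (Cech.Z U (Coh.toAb ((Coh.push g').obj ((Scheme.Modules.pullback g').obj M))).obj n)
        a x := by
  letI := modX (KN g' M U) (ρN fX' g' M U) n
  letI := modSec' fX' g' M (∏ᶜ (U ∘ a) : X.Opens)
  rw [modSec'_smul]
  exact CechLeray.π_map_apply _ _ (fun a : Fin (n + 1) → ι =>
    (βM fX' g' M r).hom.app (op (∏ᶜ (U ∘ a)))) a x

variable [M.IsQuasicoherent]

include h in
theorem hBC_cech (hU : ∀ (n : ℕ) (a : Fin (n + 1) → ι), IsAffineOpen (∏ᶜ (U ∘ a) : X.Opens))
    (n : ℕ) :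
    @IsBC A B _ _ (algebraMap A B) ((KM M U).X n) ((KN g' M U).X n) _
      (modX (KM M U) (ρM fX M U) n) _ (modX (KN g' M U) (ρN fX' g' M U) n)
      ((κC g' M U).f n).hom := by
  have h1 := @IsBCPi.IsBC.pi A B _ _ (algebraMap A B) (Fin (n + 1) → ι) _
    (Cech.Z U (Coh.toAb M).obj n)
    (Cech.Z U (Coh.toAb ((Coh.push g').obj ((Scheme.Modules.pullback g').obj M))).obj n)
    (fun a => modSec fX M (∏ᶜ (U ∘ a) : X.Opens))
    (fun a => modSec' fX' g' M (∏ᶜ (U ∘ a) : X.Opens))
    (modX (KM M U) (ρM fX M U) n) (modX (KN g' M U) (ρN fX' g' M U) n)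
    (fun r x a => ρM_smul fX M U n r x a) (fun r x a => ρN_smul fX' g' M U n r x a)
    (fun a => (ηM g' M).hom.app (op (∏ᶜ (U ∘ a))))
    (fun a => isBC_sections fX fX' g' h M _ (hU n a))
  exact h1

end Cech

section Flat

/-- flatness is invariant under a bijective change of rings -/
lemma flat_of_bijective {R R' : Type u} [CommRing R] [CommRing R'] (ψ : R →+* R')
    (hψ : Function.Bijective ψ) (N : Type u) [AddCommGroup N] [Module R N] [Module R' N]
    (hsm : ∀ (r : R) (m : N), r • m = ψ r • m) [Module.Flat R' N] : Module.Flat R N := by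
  letI : Algebra R R' := ψ.toAlgebra
  haveI : IsScalarTower R R' N := IsScalarTower.of_algebraMap_smul (fun r m => (hsm r m).symm)
  haveI : Module.Flat R R' :=
    Module.Flat.of_linearEquiv (LinearEquiv.ofBijective (Algebra.linearMap R R') hψ).symm
  exact Module.Flat.trans R R' N

variable {A : Type u} [CommRing A] {X : Scheme.{u}} (fX : X ⟶ Spec (CommRingCat.of A))
  (M : X.Modules) [M.IsQuasicoherent]

theorem flat_modSec (hfl : FlatMod.IsFlatOver fX M) (W : X.Opens) (hW : IsAffineOpen W) :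
    @Module.Flat A ((Coh.toAb M).obj.obj (op W)) _ _ (modSec fX M W) := by
  have hUV : W ≤ fX ⁻¹ᵁ ⊤ := le_top
  have h1 := Groth.Agent.Lib.helper17.FlatOver1.flat_sections_of_isFlatOverAt fX M hUV hW
    (isAffineOpen_top _) (fun x _ => hfl x)
  let ψ : A →+* Γ(Spec (CommRingCat.of A), ⊤) := (Scheme.ΓSpecIso (CommRingCat.of A)).inv.hom
  have hψ : Function.Bijective ψ :=
    ConcreteCategory.bijective_of_isIso (Scheme.ΓSpecIso (CommRingCat.of A)).inv
  exact @flat_of_bijective A Γ(Spec (CommRingCat.of A), ⊤) _ _ ψ hψ Γ(M, W) _ (modSec fX M W)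
    (Groth.Agent.Lib.helper17.FlatOver1.modSecBase fX M hUV) (fun r m => rfl) h1

variable {ι : Type u} [Finite ι] (U : ι → X.Opens)

theorem flat_KM (hfl : FlatMod.IsFlatOver fX M)
    (hU : ∀ (n : ℕ) (a : Fin (n + 1) → ι), IsAffineOpen (∏ᶜ (U ∘ a) : X.Opens)) (n : ℕ) :
    @Module.Flat A ((KM M U).X n) _ _ (modX (KM M U) (ρM fX M U) n) :=
  @IsBCPi.flat_of_pi A _ (Fin (n + 1) → ι) _ (Cech.Z U (Coh.toAb M).obj n)
    (fun a => modSec fX M (∏ᶜ (U ∘ a) : X.Opens)) (modX (KM M U) (ρM fX M U) n)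
    (fun r x a => ρM_smul fX M U n r x a) (fun a => flat_modSec fX M hfl _ (hU n a))

end Flat

end Groth.Agent.Lib.helper21.GCCech
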