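import Mathlib
import Groth.Agent.Lib.Helper21.GCCech

/-!
# The Čech module complex and its homology after base change (helper21)
-/

set_option autoImplicit false
universe u

open CategoryTheory CategoryTheory.Limits Opposite TopologicalSpace AlgebraicGeometry

namespace Groth.Agent.Lib.helper21.GCCech

open Groth.Agent.Lib.helper8.PullbackUnit Groth.Agent.Lib.helper8.FlatCohBC
open Groth.Agent.Lib.helper27 Groth.Agent.Lib.Helper18 Groth.Agent.Lib.helper21.ModCx
open Groth.Agent.Lib.Helper20 Groth.Agent.Lib.Helper20.CechNatTop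

/-- the embedding `ℕ → ℤ` -/
abbrev eN : ComplexShape.Embedding (ComplexShape.up ℕ) (ComplexShape.up ℤ) :=
  ComplexShape.embeddingUpNat

section

variable {A B : Type u} [CommRing A] [CommRing B] [Algebra A B]
variable {X X' : Scheme.{u}} (fX : X ⟶ Spec (CommRingCat.of A)) (fX' : X' ⟶ Spec (CommRingCat.of B))
  (g' : X' ⟶ X)
  (h : IsPullback g' fX' fX (Spec.map (CommRingCat.ofHom (algebraMap A B))))
  (M : X.Modules)
variable {ι : Type u} [Finite ι] (U : ι → X.Opens)

/-- **the Čech complex of `M` as a complex of `A`-modules indexed by `ℤ`** -/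
noncomputable def cechMod : CochainComplex (ModuleCat.{u} A) ℤ :=
  modCx ((KM M U).extend eN) (extρ eN (KM M U) (ρM fX M U))

/-- the module structure on `H^p(X', N)` through `fX'` -/
@[reducible] noncomputable def modHH (N : X'.Modules) (p : ℕ) : Module B (Coh.HH X' N p) :=
  Module.compHom (Coh.HH X' N p) (Coh.toGlobal fX')

variable [M.IsQuasicoherent]
variable (hU : ∀ (n : ℕ) (a : Fin (n + 1) → ι), IsAffineOpen (∏ᶜ (U ∘ a) : X.Opens))
  (hcov : iSup U = ⊤)

include hU in
lemma isAcyc (N : X.Modules) [N.IsQuasicoherent] : IsAcyc U (Coh.toAb N) :=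
  fun n a q => SerreVan.subsingleton_HU_of_isAffineOpen N _ (hU n a) q

/-- homology of the Čech complex of `M` -/
noncomputable def EM (p : ℕ) : ((KM M U).extend eN).homology (p : ℤ) ≃+ Coh.HH X M p :=
  (extHomEquiv eN (KM M U) (j := p) (j' := (p : ℤ)) rfl).trans
    (cechIso (X := X.toTopCat) U hcov p (Coh.toAb M)
      (isAcyc U hU M)).addCommGroupIsoToAddEquiv

lemma EM_smul (p : ℕ) (a : A) (x : ((KM M U).extend eN).homology (p : ℤ)) :
    letI := modHH fX M p
    EM M U hU hcov p ((HomologicalComplex.homologyMap (extρ eN (KM M U) (ρM fX M U) a) (p : ℤ)).hom x) =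
      a • EM M U hU hcov p x := by
  letI := modHH fX M p
  show (cechIso (X := X.toTopCat) U hcov p (Coh.toAb M) (isAcyc U hU M)).hom.hom
    (extHomEquiv eN (KM M U) (j := p) (j' := (p : ℤ)) rfl
      ((HomologicalComplex.homologyMap (HomologicalComplex.extendMap (ρM fX M U a) eN) (p : ℤ)).hom x)) = _
  rw [extHomEquiv_natural]
  exact ConcreteCategory.congr_hom
    (cechIso_natural (X := X.toTopCat) U hcov p _ _ (isAcyc U hU M) (isAcyc U hU M) (αM fX M a)) _

/-- **homology of the Čech module complex** -/
noncomputable def cechModHomology (p : ℕ) :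
    letI := modHH fX M p
    (cechMod fX M U).homology (p : ℤ) ≃ₗ[A] Coh.HH X M p :=
  letI := modHH fX M p
  homLinEquiv₀ ((KM M U).extend eN) (extρ eN (KM M U) (ρM fX M U)) (p : ℤ) (EM M U hU hcov p)
    (fun a x => EM_smul fX M U hU hcov p a x)

include h in
lemma isAffineHom_g' : IsAffineHom g' := MorphismProperty.of_isPullback h.flip inferInstance

include h in
lemma qcoh_pull : ((Scheme.Modules.pullback g').obj M).IsQuasicoherent :=
  Groth.Agent.Lib.helper16.QCohPullback.isQuasicoherent_pullback g' M

include h in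
lemma qcoh_push : ((Coh.push g').obj ((Scheme.Modules.pullback g').obj M)).IsQuasicoherent := by
  haveI := isAffineHom_g' fX fX' g' h
  haveI := qcoh_pull fX fX' g' h M
  exact Groth.Agent.Lib.helper16.QCohAffinePush.isQuasicoherent_push g' _

/-- homology of the Čech complex of `g'_* g'^* M` -/
noncomputable def EN (p : ℕ) :
    ((KN g' M U).extend eN).homology (p : ℤ) ≃+
      Coh.HH X' ((Scheme.Modules.pullback g').obj M) p :=
  haveI := isAffineHom_g' fX fX' g' h
  haveI := qcoh_pull fX fX' g' h M
  haveI := qcoh_push fX fX' g' h M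
  ((extHomEquiv eN (KN g' M U) (j := p) (j' := (p : ℤ)) rfl).trans
    (cechIso (X := X.toTopCat) U hcov p
      (Coh.toAb ((Coh.push g').obj ((Scheme.Modules.pullback g').obj M)))
      (isAcyc U hU _)).addCommGroupIsoToAddEquiv).trans
    (HH.pushEquivAdd g' ((Scheme.Modules.pullback g').obj M) p)

lemma EN_smul (p : ℕ) (b : B) (x : ((KN g' M U).extend eN).homology (p : ℤ)) :
    letI := modHH fX' ((Scheme.Modules.pullback g').obj M) p
    EN fX fX' g' h M U hU hcov p
      ((HomologicalComplex.homologyMap (extρ eN (KN g' M U) (ρN fX' g' M U) b) (p : ℤ)).hom x) =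
      b • EN fX fX' g' h M U hU hcov p x := by
  haveI := isAffineHom_g' fX fX' g' h
  haveI := qcoh_pull fX fX' g' h M
  haveI := qcoh_push fX fX' g' h M
  letI := modHH fX' ((Scheme.Modules.pullback g').obj M) p
  show HH.pushEquivAdd g' ((Scheme.Modules.pullback g').obj M) p
    ((cechIso (X := X.toTopCat) U hcov p
      (Coh.toAb ((Coh.push g').obj ((Scheme.Modules.pullback g').obj M))) (isAcyc U hU _)).hom.hom
    (extHomEquiv eN (KN g' M U) (j := p) (j' := (p : ℤ)) rfl
      ((HomologicalComplex.homologyMap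
        (HomologicalComplex.extendMap (ρN fX' g' M U b) eN) (p : ℤ)).hom x))) = _
  rw [extHomEquiv_natural]
  have h1 := ConcreteCategory.congr_hom
    (cechIso_natural (X := X.toTopCat) U hcov p _ _ (isAcyc U hU _) (isAcyc U hU _)
      (βM fX' g' M b)) (extHomEquiv eN (KN g' M U) (j := p) (j' := (p : ℤ)) rfl x)
  refine (congrArg (HH.pushEquivAdd g' ((Scheme.Modules.pullback g').obj M) p) h1).trans ?_
  exact HH.pushEquivAdd_natural g' ((Scheme.Modules.pullback g').obj M)
    (Coh.smulAb ((Scheme.Modules.pullback g').obj M) (Coh.toGlobal fX' b)) p _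

/-- **homology of the base change of the Čech module complex** is the cohomology of the pullback -/
noncomputable def cechModBCHomology (p : ℕ) :
    letI := modHH fX' ((Scheme.Modules.pullback g').obj M) p
    (CohIII.bcCx (algebraMap A B) (cechMod fX M U)).homology (p : ℤ) ≃ₗ[B]
      Coh.HH X' ((Scheme.Modules.pullback g').obj M) p :=
  letI := modHH fX' ((Scheme.Modules.pullback g').obj M) p
  homLinEquiv (algebraMap A B) ((KM M U).extend eN) ((KN g' M U).extend eN)
    (extρ eN (KM M U) (ρM fX M U)) (extρ eN (KN g' M U) (ρN fX' g' M U))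
    (HomologicalComplex.extendMap (κC g' M U) eN)
    (extρ_comm eN (algebraMap A B) _ _ _ _ _ (hκC fX fX' g' h M U))
    (isBC_extend eN (algebraMap A B) _ _ _ _ _ (hBC_cech fX fX' g' h M U hU)) (p : ℤ)
    (EN fX fX' g' h M U hU hcov p) (fun b x => EN_smul fX fX' g' h M U hU hcov p b x)

end

end Groth.Agent.Lib.helper21.GCCech
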