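import Mathlib
import Groth.Prelude.Def_Coh
import Groth.Agent.Lib.Helper7.QCohPushQC
import Groth.Agent.Lib.Helper16.CohFinite

/-!
# Coherence of a direct image from finiteness of sections over an affine cover (S0002 plan, T4)
-/

set_option autoImplicit false
universe u
open CategoryTheory CategoryTheory.Limits AlgebraicGeometry Opposite TopologicalSpace

namespace Groth.Agent.Lib.helper21.PushCoh

/-- T4: `p : Y ⟶ Z` qcqs, `F` quasi-coherent on `Y`.  If `Z` is covered by affine opens `V` with
`Γ(p⁻¹V, F)` a finite `Γ(V, O_Z)`-module, then `p_* F` is coherent (qcoh of finite type). -/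
theorem isCoh_push_of_affine_cover {Y Z : Scheme.{u}} (p : Y ⟶ Z) [QuasiCompact p] [QuasiSeparated p]
    (F : Y.Modules) [F.IsQuasicoherent]
    (h : ∀ z : Z, ∃ V : Z.Opens, IsAffineOpen V ∧ z ∈ V ∧
      Module.Finite Γ(Z, V) Γ((Scheme.Modules.pushforward p).obj F, V)) :
    Coh.IsCoh ((Scheme.Modules.pushforward p).obj F) := by
  haveI : ((Scheme.Modules.pushforward p).obj F).IsQuasicoherent :=
    Groth.Agent.Lib.helper7.QCohPushQC.isQuasicoherent_pushforward p F
  choose W hW hz hfin using h
  refine Groth.Agent.Lib.helper16.CohFinite.isCoh_of_finite_sections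
    ((Scheme.Modules.pushforward p).obj F) W hW ?_ hfin
  apply le_antisymm le_top
  intro z _
  exact Opens.mem_iSup.2 ⟨z, hz z⟩

end Groth.Agent.Lib.helper21.PushCoh
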