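import Mathlib
import Groth.Agent.Lib.Helper21.GCHom
import Groth.Agent.Lib.Helper27.SerreVan4
import Groth.Agent.S0002

/-!
# The Grothendieck complex, geometric half (helper21)

`A` Noetherian, `X` proper over `Spec A`, `F` coherent and flat over `A`.  Then there is a complex `K` of flat
`A`-modules, zero in negative degrees, with finite homology, such that `H^p(X', g'^*F) ≃ₗ[B] H^p(K ⊗_A B)`
for every `A`-algebra `B` and every pullback square; the latter vanish for `p ≥ N` (`exists_flat_complex`).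
-/

set_option autoImplicit false
universe u

open CategoryTheory CategoryTheory.Limits Opposite TopologicalSpace AlgebraicGeometry

namespace Groth.Agent.Lib.helper21.GCCech

open Groth.Agent.Lib.helper8.PullbackUnit Groth.Agent.Lib.helper8.FlatCohBC
open Groth.Agent.Lib.helper27 Groth.Agent.Lib.Helper18 Groth.Agent.Lib.helper21.ModCx
open Groth.Agent.Lib.Helper20 Groth.Agent.Lib.Helper20.CechNatTop

section terms

variable {A : Type u} [CommRing A]
variable {X : Scheme.{u}} (fX : X ⟶ Spec (CommRingCat.of A)) (M : X.Modules)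
variable {ι : Type u} [Finite ι] (U : ι → X.Opens)

lemma isZero_cechMod_X (i : ℤ) (hi : i < 0) : IsZero ((cechMod fX M U).X i) := by
  have h1 : IsZero (((KM M U).extend eN).X i) := by
    apply HomologicalComplex.isZero_extend_X
    intro n hn
    have : (n : ℤ) = i := hn
    omega
  haveI : Subsingleton (((KM M U).extend eN).X i) := AddCommGrpCat.subsingleton_of_isZero h1
  exact @ModuleCat.isZero_of_subsingleton A _ (modObj ((KM M U).extend eN) _ i) this

lemma isZero_cechMod_homology (i : ℤ) (hi : i < 0) : IsZero ((cechMod fX M U).homology i) := by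
  have h1 := isZero_cechMod_X fX M U i hi
  exact ShortComplex.isZero_homology_of_isZero_X₂ _ h1

variable [M.IsQuasicoherent]

theorem flat_cechMod (hfl : FlatMod.IsFlatOver fX M)
    (hU : ∀ (n : ℕ) (a : Fin (n + 1) → ι), IsAffineOpen (∏ᶜ (U ∘ a) : X.Opens)) (i : ℤ) :
    Module.Flat A ((cechMod fX M U).X i) := by
  by_cases hi : i < 0
  · haveI : Subsingleton ((cechMod fX M U).X i) :=
      ModuleCat.subsingleton_of_isZero (isZero_cechMod_X fX M U i hi)
    infer_instance
  · obtain ⟨n, rfl⟩ : ∃ n : ℕ, (n : ℤ) = i := ⟨i.toNat, by omega⟩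
    letI := modX ((KM M U).extend eN) (extρ eN (KM M U) (ρM fX M U)) (n : ℤ)
    letI := modX (KM M U) (ρM fX M U) n
    haveI := flat_KM fX M U hfl hU n
    exact Module.Flat.of_linearEquiv
      (extXEquiv eN (KM M U) (ρM fX M U) (i := n) (i' := (n : ℤ)) rfl)

end terms

section cover

lemma affine_inf_of_isSeparated {X S : Scheme.{u}} (f : X ⟶ S) [IsSeparated f] [IsAffine S]
    (V W : X.Opens) (hV : IsAffineOpen V) (hW : IsAffineOpen W) : IsAffineOpen (V ⊓ W) := by
  have hdiag : IsAffineHom (pullback.diagonal f) := inferInstance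
  exact isAffineHom_diagonal_iff.mp hdiag ⊤ (isAffineOpen_top _) V
    (by rw [Scheme.Hom.preimage_top]; exact le_top) W
    (by rw [Scheme.Hom.preimage_top]; exact le_top) hV hW

lemma exists_finite_affine_cover (X : Scheme.{u}) [CompactSpace X] :
    ∃ (ι : Type u) (_ : Finite ι) (U : ι → X.Opens), (∀ i, IsAffineOpen (U i)) ∧ iSup U = ⊤ := by
  have hc : (Set.univ : Set X) ⊆ ⋃ V : X.affineOpens, ((V : X.Opens) : Set X) := by
    intro x _
    have h1 : x ∈ (⨆ i : X.affineOpens, (i : X.Opens)) := by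
      rw [iSup_affineOpens_eq_top]; trivial
    obtain ⟨V, hV⟩ := Opens.mem_iSup.1 h1
    exact Set.mem_iUnion.2 ⟨V, hV⟩
  obtain ⟨t, ht⟩ := isCompact_univ.elim_finite_subcover
    (fun V : X.affineOpens => ((V : X.Opens) : Set X)) (fun V => V.1.2) hc
  refine ⟨↥t, inferInstance, fun i => i.1.1, fun i => i.1.2, ?_⟩
  apply top_unique
  intro x _
  obtain ⟨V, hV⟩ := Set.mem_iUnion.1 (ht (Set.mem_univ x))
  obtain ⟨hVt, hxV⟩ := Set.mem_iUnion.1 hV
  exact Opens.mem_iSup.2 ⟨⟨V, hVt⟩, hxV⟩

lemma isAffineOpen_biInf {X : Scheme.{u}}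
    (hd : ∀ V W : X.Opens, IsAffineOpen V → IsAffineOpen W → IsAffineOpen (V ⊓ W))
    {ι : Type u} (U : ι → X.Opens) (hU : ∀ i, IsAffineOpen (U i)) (s : Finset ι)
    (hs : s.Nonempty) : IsAffineOpen (⨅ i ∈ s, U i) := by
  classical
  induction hs using Finset.Nonempty.cons_induction with
  | singleton a =>
    simp only [Finset.mem_singleton, iInf_iInf_eq_left]
    exact hU a
  | cons a s ha hs ih =>
    rw [Finset.cons_eq_insert, Finset.iInf_insert]
    exact hd _ _ (hU a) ih

end cover

section vanishing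

variable {X' : Scheme.{u}} (N : X'.Modules) [N.IsQuasicoherent]

/-- vanishing of cohomology in degrees `≥` the size of a finite affine cover -/
theorem subsingleton_HH_of_cover
    (hd : ∀ V W : X'.Opens, IsAffineOpen V → IsAffineOpen W → IsAffineOpen (V ⊓ W))
    {ι : Type u} [Finite ι] (U : ι → X'.Opens) (hU : ∀ i, IsAffineOpen (U i))
    (hcov : iSup U = ⊤) (n : ℕ) (hn : Nat.card ι ≤ n) : Subsingleton (Coh.HH X' N n) := by
  let e := Finite.equivFin ι
  have h1 := SerreVan.subsingleton_HU_iSup hd N (Nat.card ι) (fun k => U (e.symm k))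
    (fun k => hU _) n hn
  have h2 : (⨆ k, U (e.symm k)) = ⊤ := by
    rw [← hcov]
    exact e.symm.iSup_comp (g := U)
  rw [h2] at h1
  exact (SerreVan.HEquivHU (Coh.toAb N) n).symm.toEquiv.subsingleton

end vanishing

section main

variable (A : Type u) [CommRing A] [IsNoetherianRing A] (X : Scheme.{u})
  [X.Over (Spec (CommRingCat.of A))] [IsProper (X ↘ Spec (CommRingCat.of A))]
  (F : X.Modules) (hF : Coh.IsCoh F)
  (hfl : FlatMod.IsFlatOver (X ↘ Spec (CommRingCat.of A)) F)

include hF hfl in
/-- **The Grothendieck complex, geometric half** (with the identification of `H^p(K)`). -/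
theorem exists_flat_complex' :
    ∃ K : CochainComplex (ModuleCat.{u} A) ℤ,
      (∀ i, Module.Flat A (K.X i)) ∧ (∀ i : ℤ, i < 0 → IsZero (K.X i)) ∧
      (∀ i, Module.Finite A (K.homology i)) ∧
      (∀ p : ℕ, Nonempty (K.homology (p : ℤ) ≃ₗ[A] Coh.HH X F p)) ∧
      ∃ N : ℕ,
        (∀ (B : Type u) [CommRing B] [Algebra A B] (i : ℤ), (N : ℤ) ≤ i →
          IsZero ((CohIII.bcCx (algebraMap A B) K).homology i)) ∧
        ∀ (B : Type u) [CommRing B] [Algebra A B] (X' : Scheme.{u})
          [X'.Over (Spec (CommRingCat.of B))] (g' : X' ⟶ X)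
          (_ : IsPullback g' (X' ↘ Spec (CommRingCat.of B)) (X ↘ Spec (CommRingCat.of A))
            (Spec.map (CommRingCat.ofHom (algebraMap A B)))) (p : ℕ),
          Nonempty ((CohIII.bcCx (algebraMap A B) K).homology (p : ℤ) ≃ₗ[B]
            Coh.HH X' ((Scheme.Modules.pullback g').obj F) p) := by
  haveI : F.IsQuasicoherent := hF.1
  haveI : CompactSpace X :=
    QuasiCompact.compactSpace_of_compactSpace (X ↘ Spec (CommRingCat.of A))
  have hd := affine_inf_of_isSeparated (X ↘ Spec (CommRingCat.of A))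
  obtain ⟨ι, hfin, U, hUa, hcov⟩ := exists_finite_affine_cover X
  have hU : ∀ (n : ℕ) (a : Fin (n + 1) → ι), IsAffineOpen (∏ᶜ (U ∘ a) : X.Opens) :=
    fun n a => Groth.Agent.Lib.Lead.CechLoc.isAffineOpen_prod U (isAffineOpen_biInf hd U hUa) n a
  refine ⟨cechMod (X ↘ Spec (CommRingCat.of A)) F U,
    flat_cechMod _ F U hfl hU, isZero_cechMod_X _ F U, ?_,
    fun p => ⟨cechModHomology (X ↘ Spec (CommRingCat.of A)) F U hU hcov p⟩, Nat.card ι, ?_, ?_⟩
  · intro i
    by_cases hi : i < 0
    · haveI : Subsingleton ((cechMod (X ↘ Spec (CommRingCat.of A)) F U).homology i) :=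
        ModuleCat.subsingleton_of_isZero (isZero_cechMod_homology _ F U i hi)
      infer_instance
    · obtain ⟨p, rfl⟩ : ∃ n : ℕ, (n : ℤ) = i := ⟨i.toNat, by omega⟩
      haveI := Groth.Agent.S0002.result A X F hF p
      exact Module.Finite.equiv
        (cechModHomology (X ↘ Spec (CommRingCat.of A)) F U hU hcov p).symm
  · intro B _ _ i hi
    obtain ⟨p, rfl⟩ : ∃ n : ℕ, (n : ℤ) = i := ⟨i.toNat, by omega⟩
    have hp : Nat.card ι ≤ p := by exact_mod_cast hi
    let fX := X ↘ Spec (CommRingCat.of A)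
    let sB := Spec.map (CommRingCat.ofHom (algebraMap A B))
    let X' := pullback fX sB
    let g' : X' ⟶ X := pullback.fst fX sB
    let fX' : X' ⟶ Spec (CommRingCat.of B) := pullback.snd fX sB
    have h : IsPullback g' fX' fX sB := IsPullback.of_hasPullback fX sB
    haveI : IsSeparated fX' := MorphismProperty.of_isPullback (P := @IsSeparated) h inferInstance
    haveI : IsAffineHom g' := isAffineHom_g' fX fX' g' h
    haveI := qcoh_pull fX fX' g' h F
    have hd' := affine_inf_of_isSeparated fX'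
    have hsub : Subsingleton (Coh.HH X' ((Scheme.Modules.pullback g').obj F) p) :=
      subsingleton_HH_of_cover _ hd' (fun i => g' ⁻¹ᵁ U i) (fun i => (hUa i).preimage g')
        (by
          rw [← Scheme.Hom.preimage_iSup, hcov]
          rfl) p hp
    letI := modHH fX' ((Scheme.Modules.pullback g').obj F) p
    have e := cechModBCHomology fX fX' g' h F U hU hcov p
    haveI : Subsingleton ((CohIII.bcCx (algebraMap A B)
        (cechMod (X ↘ Spec (CommRingCat.of A)) F U)).homology (p : ℤ)) :=
      e.toEquiv.subsingleton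
    exact ModuleCat.isZero_of_subsingleton _
  · intro B _ _ X' _ g' h p
    exact ⟨cechModBCHomology (X ↘ Spec (CommRingCat.of A)) (X' ↘ Spec (CommRingCat.of B)) g' h F U
      hU hcov p⟩

include hF hfl in
/-- **The Grothendieck complex, geometric half.** -/
theorem exists_flat_complex :
    ∃ K : CochainComplex (ModuleCat.{u} A) ℤ,
      (∀ i, Module.Flat A (K.X i)) ∧ (∀ i : ℤ, i < 0 → IsZero (K.X i)) ∧
      (∀ i, Module.Finite A (K.homology i)) ∧
      ∃ N : ℕ,
        (∀ (B : Type u) [CommRing B] [Algebra A B] (i : ℤ), (N : ℤ) ≤ i →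
          IsZero ((CohIII.bcCx (algebraMap A B) K).homology i)) ∧
        ∀ (B : Type u) [CommRing B] [Algebra A B] (X' : Scheme.{u})
          [X'.Over (Spec (CommRingCat.of B))] (g' : X' ⟶ X)
          (_ : IsPullback g' (X' ↘ Spec (CommRingCat.of B)) (X ↘ Spec (CommRingCat.of A))
            (Spec.map (CommRingCat.ofHom (algebraMap A B)))) (p : ℕ),
          Nonempty ((CohIII.bcCx (algebraMap A B) K).homology (p : ℤ) ≃ₗ[B]
            Coh.HH X' ((Scheme.Modules.pullback g').obj F) p) := by
  obtain ⟨K, h1, h2, h3, -, N, h4, h5⟩ := exists_flat_complex' A X F hF hfl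
  exact ⟨K, h1, h2, h3, N, h4, h5⟩

end main

end Groth.Agent.Lib.helper21.GCCech
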