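import Mathlib
import Groth.Agent.Lib.Helper21.GCMain
import Groth.Agent.Lib.Helper11.GCAlg4

/-!
# The Grothendieck complex (helper21; algebra half by helper11)

`A` Noetherian, `X` proper over `Spec A`, `F` coherent and flat over `A`.  Then there is a bounded above complex
`L` of finite free `A`-modules such that `H^p(L ⊗_A B) ≃ₗ[B] H^p(X', g'^*F)` for every `A`-algebra `B` and every
pullback square `X' = X ×_A Spec B` (`exists_grothendieck_complex`).
-/

set_option autoImplicit false
universe u

open CategoryTheory CategoryTheory.Limits Opposite TopologicalSpace AlgebraicGeometry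

namespace Groth.Agent.Lib.helper21.GCCech

section main

variable (A : Type u) [CommRing A] [IsNoetherianRing A] (X : Scheme.{u})
  [X.Over (Spec (CommRingCat.of A))] [IsProper (X ↘ Spec (CommRingCat.of A))]
  (F : X.Modules) (hF : Coh.IsCoh F)
  (hfl : FlatMod.IsFlatOver (X ↘ Spec (CommRingCat.of A)) F)

include hF hfl in
/-- **The Grothendieck complex**, with the identification of `H^p(L)` (EGA III 6.10.5 / 7.7.5, Mumford §5): the cohomology of all base changes of a flat
coherent sheaf on a proper `A`-scheme is computed, compatibly with the module structures, by one bounded above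
complex of finite free `A`-modules. -/
theorem exists_grothendieck_complex' :
    ∃ L : CochainComplex (ModuleCat.{u} A) ℤ,
      (∀ i, Module.Finite A (L.X i) ∧ Module.Free A (L.X i)) ∧
      (∃ N : ℕ, ∀ i : ℤ, (N : ℤ) ≤ i → IsZero (L.X i)) ∧
      (∀ p : ℕ, Nonempty (L.homology (p : ℤ) ≃ₗ[A] Coh.HH X F p)) ∧
      (∀ i : ℤ, i < 0 → IsZero (L.homology i)) ∧
      (∀ (B : Type u) [CommRing B] [Algebra A B] (i : ℤ), i < 0 →
        IsZero ((CohIII.bcCx (algebraMap A B) L).homology i)) ∧
      ∀ (B : Type u) [CommRing B] [Algebra A B] (X' : Scheme.{u})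
        [X'.Over (Spec (CommRingCat.of B))] (g' : X' ⟶ X)
        (_ : IsPullback g' (X' ↘ Spec (CommRingCat.of B)) (X ↘ Spec (CommRingCat.of A))
          (Spec.map (CommRingCat.ofHom (algebraMap A B)))) (p : ℕ),
        Nonempty ((CohIII.bcCx (algebraMap A B) L).homology (p : ℤ) ≃ₗ[B]
          Coh.HH X' ((Scheme.Modules.pullback g').obj F) p) := by
  obtain ⟨K, hflat, hneg, hfin, hK0, N, hN, hK⟩ := exists_flat_complex' A X F hF hfl
  obtain ⟨L, φ, hL, hLN, hφ0, hφ, -⟩ :=
    Groth.Agent.Lib.helper11.GCAlg.exists_finite_free_quasiIso_bc_tensor A K hflat hfin (N : ℤ) hN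
  refine ⟨L, hL, ⟨N, hLN⟩, ?_, ?_, ?_, ?_⟩
  · intro p
    obtain ⟨e2⟩ := hK0 p
    exact ⟨(asIso (HomologicalComplex.homologyMap φ (p : ℤ))).toLinearEquiv.trans e2⟩
  · intro i hi
    refine IsZero.of_iso ?_ (asIso (HomologicalComplex.homologyMap φ i))
    exact ShortComplex.isZero_homology_of_isZero_X₂ _ (hneg i hi)
  · intro B _ _ i hi
    haveI := hφ B (algebraMap A B)
    have e : (CohIII.bcCx (algebraMap A B) L).homology i ≅
        (CohIII.bcCx (algebraMap A B) K).homology i :=
      asIso (HomologicalComplex.homologyMap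
        (((ModuleCat.extendScalars.{u, u, u} (algebraMap A B)).mapHomologicalComplex
          (ComplexShape.up ℤ)).map φ) i)
    refine IsZero.of_iso ?_ e
    have h1 : IsZero ((CohIII.bcCx (algebraMap A B) K).X i) :=
      Functor.map_isZero (ModuleCat.extendScalars.{u, u, u} (algebraMap A B)) (hneg i hi)
    exact ShortComplex.isZero_homology_of_isZero_X₂ _ h1
  · intro B _ _ X' _ g' h p
    haveI := hφ B (algebraMap A B)
    have e : (CohIII.bcCx (algebraMap A B) L).homology (p : ℤ) ≅
        (CohIII.bcCx (algebraMap A B) K).homology (p : ℤ) :=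
      asIso (HomologicalComplex.homologyMap
        (((ModuleCat.extendScalars.{u, u, u} (algebraMap A B)).mapHomologicalComplex
          (ComplexShape.up ℤ)).map φ) (p : ℤ))
    obtain ⟨e2⟩ := hK B X' g' h p
    exact ⟨e.toLinearEquiv.trans e2⟩

include hF hfl in
/-- **The Grothendieck complex** (EGA III 6.10.5 / 7.7.5, Mumford §5): the cohomology of all base changes of a flat
coherent sheaf on a proper `A`-scheme is computed, compatibly with the module structures, by one bounded above
complex of finite free `A`-modules. -/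
theorem exists_grothendieck_complex :
    ∃ L : CochainComplex (ModuleCat.{u} A) ℤ,
      (∀ i, Module.Finite A (L.X i) ∧ Module.Free A (L.X i)) ∧
      (∃ N : ℕ, ∀ i : ℤ, (N : ℤ) ≤ i → IsZero (L.X i)) ∧
      (∀ (B : Type u) [CommRing B] [Algebra A B] (i : ℤ), i < 0 →
        IsZero ((CohIII.bcCx (algebraMap A B) L).homology i)) ∧
      ∀ (B : Type u) [CommRing B] [Algebra A B] (X' : Scheme.{u})
        [X'.Over (Spec (CommRingCat.of B))] (g' : X' ⟶ X)
        (_ : IsPullback g' (X' ↘ Spec (CommRingCat.of B)) (X ↘ Spec (CommRingCat.of A))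
          (Spec.map (CommRingCat.ofHom (algebraMap A B)))) (p : ℕ),
        Nonempty ((CohIII.bcCx (algebraMap A B) L).homology (p : ℤ) ≃ₗ[B]
          Coh.HH X' ((Scheme.Modules.pullback g').obj F) p) := by
  obtain ⟨L, h1, h2, -, -, h3, h4⟩ := exists_grothendieck_complex' A X F hF hfl
  exact ⟨L, h1, h2, h3, h4⟩

end main

end Groth.Agent.Lib.helper21.GCCech
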