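import Mathlib

/-!
# Homology classes of cycles in complexes of modules and of abelian groups (helper21; Mathlib only)

* `scCls S : ker S.g →ₗ[R] S.homology` (short complexes of modules), `abCls S : ker S.g →+ S.homology`
  (short complexes of abelian groups): surjective, natural (`scCls_map`, `abCls_map`).
* `forget_cls`: the comparison `(S.mapHomologyIso (forget₂ _ Ab))` respects classes.
-/

set_option autoImplicit false
universe u

open CategoryTheory CategoryTheory.Limits

namespace Groth.Agent.Lib.helper21.CxClass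

section General

variable {C D : Type*} [Category C] [Category D] [HasZeroMorphisms C] [HasZeroMorphisms D]
  (F : C ⥤ D) [F.PreservesZeroMorphisms] (S : ShortComplex C)

/-- compatibility of `mapCyclesIso`, `mapHomologyIso` with the projection from cycles to homology -/
lemma mapCyclesIso_hom_map_homologyπ [S.HasHomology] [(S.map F).HasHomology]
    [F.PreservesLeftHomologyOf S] :
    (S.mapCyclesIso F).hom ≫ F.map S.homologyπ =
      (S.map F).homologyπ ≫ (S.mapHomologyIso F).hom := by
  let hl := S.homologyData.left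
  rw [hl.mapCyclesIso_eq F, hl.mapHomologyIso_eq F]
  simp only [Iso.trans_hom, Functor.mapIso_hom, Iso.symm_hom, Category.assoc]
  have e1 : F.map hl.cyclesIso.inv ≫ F.map S.homologyπ = F.map hl.π ≫ F.map hl.homologyIso.inv := by
    rw [← F.map_comp, ← F.map_comp, hl.π_comp_homologyIso_inv]
  have e2 : (S.map F).homologyπ ≫ (hl.map F).homologyIso.hom =
      (hl.map F).cyclesIso.hom ≫ (hl.map F).π := (hl.map F).homologyπ_comp_homologyIso_hom
  have e4 : (S.map F).homologyπ ≫ (hl.map F).homologyIso.hom ≫ F.map hl.homologyIso.inv =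
      (hl.map F).cyclesIso.hom ≫ (hl.map F).π ≫ F.map hl.homologyIso.inv := by
    rw [← Category.assoc, e2, Category.assoc]
  refine (congrArg (fun t => (hl.map F).cyclesIso.hom ≫ t) e1).trans ?_
  exact e4.symm

end General

section ModuleCat

variable {R : Type u} [Ring R]

/-- the homology class of a cycle -/
noncomputable def scCls (S : ShortComplex (ModuleCat.{u} R)) :
    LinearMap.ker S.g.hom →ₗ[R] S.homology :=
  (S.moduleCatCyclesIso.inv ≫ S.homologyπ).hom

lemma scCls_apply (S : ShortComplex (ModuleCat.{u} R)) (z : LinearMap.ker S.g.hom) :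
    scCls S z = S.homologyπ.hom (S.moduleCatCyclesIso.inv.hom z) := rfl

lemma scCls_surjective (S : ShortComplex (ModuleCat.{u} R)) : Function.Surjective (scCls S) := by
  have : Epi (S.moduleCatCyclesIso.inv ≫ S.homologyπ) := inferInstance
  exact (ModuleCat.epi_iff_surjective _).1 this

lemma iCycles_cyclesIso_inv (S : ShortComplex (ModuleCat.{u} R)) (z : LinearMap.ker S.g.hom) :
    S.iCycles.hom (S.moduleCatCyclesIso.inv.hom z) = z.1 :=
  congrArg (fun t : S.moduleCatLeftHomologyData.K ⟶ S.X₂ => t.hom z) S.moduleCatCyclesIso_inv_iCycles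

lemma iCycles_injective (S : ShortComplex (ModuleCat.{u} R)) : Function.Injective S.iCycles.hom :=
  (ModuleCat.mono_iff_injective S.iCycles).1 inferInstance

lemma map_mem_ker {S S' : ShortComplex (ModuleCat.{u} R)} (ψ : S ⟶ S')
    (z : LinearMap.ker S.g.hom) : ψ.τ₂.hom z.1 ∈ LinearMap.ker S'.g.hom := by
  rw [LinearMap.mem_ker]
  have h := congrArg (fun t : S.X₂ ⟶ S'.X₃ => t.hom z.1) ψ.comm₂₃
  have hz : S.g.hom z.1 = 0 := z.2
  simp only [ModuleCat.hom_comp, LinearMap.comp_apply] at h
  rw [h, hz, map_zero]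

/-- naturality of classes -/
lemma scCls_map {S S' : ShortComplex (ModuleCat.{u} R)} (ψ : S ⟶ S') (z : LinearMap.ker S.g.hom) :
    (ShortComplex.homologyMap ψ).hom (scCls S z) = scCls S' ⟨ψ.τ₂.hom z.1, map_mem_ker ψ z⟩ := by
  rw [scCls_apply, scCls_apply]
  have h1 := congrArg (fun t : S.cycles ⟶ S'.homology => t.hom (S.moduleCatCyclesIso.inv.hom z))
    (ShortComplex.homologyπ_naturality ψ)
  simp only [ModuleCat.hom_comp, LinearMap.comp_apply] at h1
  rw [h1]
  congr 1
  apply iCycles_injective S'
  have h2 := congrArg (fun t : S.cycles ⟶ S'.X₂ => t.hom (S.moduleCatCyclesIso.inv.hom z))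
    (ShortComplex.cyclesMap_i ψ)
  simp only [ModuleCat.hom_comp, LinearMap.comp_apply] at h2
  rw [h2, iCycles_cyclesIso_inv, iCycles_cyclesIso_inv]

/-- the class in terms of the concrete model of homology -/
lemma homologyIso_hom_scCls (S : ShortComplex (ModuleCat.{u} R)) (z : LinearMap.ker S.g.hom) :
    S.moduleCatHomologyIso.hom.hom (scCls S z) =
      (LinearMap.range S.moduleCatToCycles).mkQ z := by
  have h := congrArg (fun t : S.moduleCatLeftHomologyData.K ⟶ S.homology => t.hom z)
    S.moduleCatCyclesIso_inv_π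
  simp only [ModuleCat.hom_comp, LinearMap.comp_apply] at h
  rw [scCls_apply, h]
  have h2 := congrArg (fun t : S.moduleCatLeftHomologyData.H ⟶ S.moduleCatLeftHomologyData.H =>
    t.hom (S.moduleCatLeftHomologyData.π.hom z)) S.moduleCatHomologyIso.inv_hom_id
  simp only [ModuleCat.hom_comp, LinearMap.comp_apply] at h2
  exact h2

lemma homologyIso_inv_mkQ (S : ShortComplex (ModuleCat.{u} R)) (z : LinearMap.ker S.g.hom) :
    S.moduleCatHomologyIso.inv.hom ((LinearMap.range S.moduleCatToCycles).mkQ z) = scCls S z := by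
  rw [← homologyIso_hom_scCls]
  have h2 := congrArg (fun t : S.homology ⟶ S.homology => t.hom (scCls S z))
    S.moduleCatHomologyIso.hom_inv_id
  simp only [ModuleCat.hom_comp, LinearMap.comp_apply] at h2
  exact h2

end ModuleCat

section Ab

/-- the homology class of a cycle (abelian groups) -/
noncomputable def abCls (S : ShortComplex Ab.{u}) : AddMonoidHom.ker S.g.hom →+ S.homology :=
  (S.abCyclesIso.inv ≫ S.homologyπ).hom

lemma abCls_apply (S : ShortComplex Ab.{u}) (z : AddMonoidHom.ker S.g.hom) :
    abCls S z = S.homologyπ (S.abCyclesIso.inv z) := rfl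

lemma ab_iCycles_injective (S : ShortComplex Ab.{u}) : Function.Injective S.iCycles :=
  (AddCommGrpCat.mono_iff_injective S.iCycles).1 inferInstance

lemma ab_map_mem_ker {S S' : ShortComplex Ab.{u}} (ψ : S ⟶ S')
    (z : AddMonoidHom.ker S.g.hom) : ψ.τ₂ z.1 ∈ AddMonoidHom.ker S'.g.hom := by
  rw [AddMonoidHom.mem_ker]
  have h := ConcreteCategory.congr_hom ψ.comm₂₃ z.1
  have hz : S.g z.1 = 0 := z.2
  rw [ConcreteCategory.comp_apply, ConcreteCategory.comp_apply, hz, map_zero] at h
  exact h

/-- naturality of classes (abelian groups) -/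
lemma abCls_map {S S' : ShortComplex Ab.{u}} (ψ : S ⟶ S') (z : AddMonoidHom.ker S.g.hom) :
    ShortComplex.homologyMap ψ (abCls S z) = abCls S' ⟨ψ.τ₂ z.1, ab_map_mem_ker ψ z⟩ := by
  rw [abCls_apply, abCls_apply]
  have h1 := ConcreteCategory.congr_hom (ShortComplex.homologyπ_naturality ψ) (S.abCyclesIso.inv z)
  rw [ConcreteCategory.comp_apply, ConcreteCategory.comp_apply] at h1
  rw [h1]
  congr 1
  apply ab_iCycles_injective S'
  have h2 := ConcreteCategory.congr_hom (ShortComplex.cyclesMap_i ψ) (S.abCyclesIso.inv z)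
  rw [ConcreteCategory.comp_apply, ConcreteCategory.comp_apply] at h2
  rw [h2, S.abCyclesIso_inv_apply_iCycles, S'.abCyclesIso_inv_apply_iCycles]

end Ab

section Forget

variable {R : Type u} [Ring R]

/-- the forgetful functor respects classes -/
lemma forget_cls (S : ShortComplex (ModuleCat.{u} R)) (z : LinearMap.ker S.g.hom) :
    (S.mapHomologyIso (forget₂ (ModuleCat.{u} R) Ab.{u})).inv (scCls S z) =
      abCls (S.map (forget₂ (ModuleCat.{u} R) Ab.{u})) ⟨z.1, z.2⟩ := by
  let F := forget₂ (ModuleCat.{u} R) Ab.{u}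
  have h0 := mapCyclesIso_hom_map_homologyπ F S
  have h1 : F.map S.homologyπ ≫ (S.mapHomologyIso F).inv =
      (S.mapCyclesIso F).inv ≫ (S.map F).homologyπ := by
    rw [← cancel_epi (S.mapCyclesIso F).hom, ← Category.assoc, h0, Category.assoc,
      Iso.hom_inv_id, Category.comp_id, Iso.hom_inv_id_assoc]
  have h2 := ConcreteCategory.congr_hom h1 (S.moduleCatCyclesIso.inv.hom z)
  rw [ConcreteCategory.comp_apply, ConcreteCategory.comp_apply] at h2
  rw [abCls_apply]
  refine h2.trans ?_
  congr 1
  apply ab_iCycles_injective (S.map F)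
  rw [(S.map F).abCyclesIso_inv_apply_iCycles]
  have h3 : (S.mapCyclesIso F).inv ≫ (S.map F).iCycles = F.map S.iCycles :=
    (Iso.inv_comp_eq (S.mapCyclesIso F)).2 (S.mapCyclesIso_hom_iCycles F).symm
  have h4 := ConcreteCategory.congr_hom h3 (S.moduleCatCyclesIso.inv.hom z)
  rw [ConcreteCategory.comp_apply] at h4
  refine h4.trans ?_
  exact iCycles_cyclesIso_inv S z

end Forget

end Groth.Agent.Lib.helper21.CxClass
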