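import Mathlib
import Groth.Prelude.Def_ega3
import Groth.Agent.Lib.Helper21.CxClass
import Groth.Agent.Lib.Helper21.ModCxBC

/-!
# The base change map on homology `H_p(C) → H_p(C ⊗_A B)` (helper21)

For a complex `C` of `A`-modules and `φ : A →+* B`: `bcMap φ C p : C.homology p →+ (bcCx φ C).homology p`,
the map induced by `x ↦ 1 ⊗ x`; it is `φ`-semilinear (`bcMap_smul`), natural in `C` (`bcMap_natural`), sends the
class of a cycle `z` to the class of `1 ⊗ z` (`bcMap_cls`), and for `C = modCx K ρ` it corresponds to `H_p(κ)`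
under `ModCx.bcIso` and `ModCx.homEquiv` (`homEquiv_bcIso_bcMap`).
-/

set_option autoImplicit false
universe u

open CategoryTheory CategoryTheory.Limits

namespace Groth.Agent.Lib.helper21.BcMap

open Groth.Agent.Lib.helper21.CxClass Groth.Agent.Lib.helper21.ModCx

variable {A B : Type u} [CommRing A] [CommRing B] (φ : A →+* B)

lemma ext_map_toExt {M N : ModuleCat.{u} A} (f : M ⟶ N) (x : M) :
    ((ModuleCat.extendScalars φ).map f).hom (toExt φ M x) = toExt φ N (f.hom x) := by
  have h := (ModuleCat.extendRestrictScalarsAdj φ).unit.naturality f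
  exact (congrArg (fun t : M ⟶ (ModuleCat.restrictScalars φ).obj
    ((ModuleCat.extendScalars φ).obj N) => t.hom x) h).symm

lemma toExt_zero (M : ModuleCat.{u} A) : toExt φ M 0 = 0 := by
  unfold toExt
  exact map_zero _

variable {ι : Type} {c : ComplexShape ι}
variable (C : HomologicalComplex (ModuleCat.{u} A) c) (p : ι)

/-- `z ↦ 1 ⊗ z` on cycles -/
noncomputable def kerMap :
    LinearMap.ker (C.sc p).g.hom →ₛₗ[φ] LinearMap.ker ((CohIII.bcCx φ C).sc p).g.hom where
  toFun z := ⟨toExt φ _ z.1, by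
    rw [LinearMap.mem_ker]
    show ((ModuleCat.extendScalars φ).map (C.d p (c.next p))).hom (toExt φ _ z.1) = 0
    rw [ext_map_toExt]
    have hz : (C.d p (c.next p)).hom z.1 = 0 := z.2
    rw [hz, toExt_zero]⟩
  map_add' z w := Subtype.ext (toExt_add φ _ z.1 w.1)
  map_smul' a z := Subtype.ext (toExt_smul φ _ a z.1)

lemma kerMap_coe (z : LinearMap.ker (C.sc p).g.hom) : (kerMap φ C p z).1 = toExt φ _ z.1 := rfl

lemma range_le_comap :
    LinearMap.range (C.sc p).moduleCatToCycles ≤
      Submodule.comap (kerMap φ C p) (LinearMap.range ((CohIII.bcCx φ C).sc p).moduleCatToCycles) := by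
  rintro _ ⟨y, rfl⟩
  rw [Submodule.mem_comap]
  refine ⟨toExt φ _ y, ?_⟩
  apply Subtype.ext
  show ((ModuleCat.extendScalars φ).map (C.d (c.prev p) p)).hom (toExt φ _ y) = _
  rw [ext_map_toExt]
  rfl

/-- the base change map on the concrete models of homology -/
noncomputable def bcMapConc :
    (LinearMap.ker (C.sc p).g.hom ⧸ LinearMap.range (C.sc p).moduleCatToCycles) →ₛₗ[φ]
      (LinearMap.ker ((CohIII.bcCx φ C).sc p).g.hom ⧸
        LinearMap.range ((CohIII.bcCx φ C).sc p).moduleCatToCycles) :=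
  Submodule.mapQ _ _ (kerMap φ C p) (range_le_comap φ C p)

/-- **the base change map on homology** -/
noncomputable def bcMap : C.homology p →+ (CohIII.bcCx φ C).homology p :=
  (((CohIII.bcCx φ C).sc p).moduleCatHomologyIso.inv.hom.toAddMonoidHom).comp
    ((bcMapConc φ C p).toAddMonoidHom.comp
      ((C.sc p).moduleCatHomologyIso.hom.hom.toAddMonoidHom))

/-- the base change map on classes -/
lemma bcMap_cls (z : LinearMap.ker (C.sc p).g.hom) :
    bcMap φ C p (scCls (C.sc p) z) = scCls ((CohIII.bcCx φ C).sc p) (kerMap φ C p z) := by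
  show ((CohIII.bcCx φ C).sc p).moduleCatHomologyIso.inv.hom
    (bcMapConc φ C p ((C.sc p).moduleCatHomologyIso.hom.hom (scCls (C.sc p) z))) = _
  rw [homologyIso_hom_scCls]
  exact homologyIso_inv_mkQ _ _

lemma bcMap_smul (a : A) (y : C.homology p) : bcMap φ C p (a • y) = φ a • bcMap φ C p y := by
  obtain ⟨z, rfl⟩ := scCls_surjective (C.sc p) y
  have e1 : a • scCls (C.sc p) z = scCls (C.sc p) (a • z) := (map_smul (scCls (C.sc p)) a z).symm
  have e2 := bcMap_cls φ C p (a • z)
  have e3 := bcMap_cls φ C p z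
  refine (congrArg (bcMap φ C p) e1).trans (e2.trans ?_)
  rw [map_smulₛₗ (kerMap φ C p), map_smul]
  exact congrArg (fun t => φ a • t) e3.symm

/-- naturality of the base change map -/
lemma bcMap_natural {D : HomologicalComplex (ModuleCat.{u} A) c} (ψ : C ⟶ D) (y : C.homology p) :
    bcMap φ D p ((HomologicalComplex.homologyMap ψ p).hom y) =
      (HomologicalComplex.homologyMap
        (((ModuleCat.extendScalars φ).mapHomologicalComplex c).map ψ) p).hom (bcMap φ C p y) := by
  obtain ⟨z, rfl⟩ := scCls_surjective (C.sc p) y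
  rw [bcMap_cls]
  show bcMap φ D p ((ShortComplex.homologyMap
    ((HomologicalComplex.shortComplexFunctor _ c p).map ψ)).hom (scCls (C.sc p) z)) =
    (ShortComplex.homologyMap ((HomologicalComplex.shortComplexFunctor _ c p).map
      (((ModuleCat.extendScalars φ).mapHomologicalComplex c).map ψ))).hom _
  rw [scCls_map, scCls_map]
  have h1 := bcMap_cls φ D p
    ⟨((HomologicalComplex.shortComplexFunctor _ c p).map ψ).τ₂.hom z.1, map_mem_ker _ z⟩
  refine h1.trans ?_
  congr 1

section ModCx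

variable {ι : Type} {c : ComplexShape ι}
variable (K K' : HomologicalComplex AddCommGrpCat.{u} c) (ρ : A →+* End K) (ρ' : B →+* End K')

/-- `homEquiv` on classes -/
lemma homEquiv_cls (p : ι) (z : LinearMap.ker ((modCx K ρ).sc p).g.hom) :
    homEquiv K ρ p (scCls ((modCx K ρ).sc p) z) = abCls (K.sc p) ⟨z.1, z.2⟩ := by
  let S := (modCx K ρ).sc p
  show (HomologicalComplex.homologyMap (forgetIso K ρ).hom p)
    ((S.mapHomologyIso (forget₂ (ModuleCat.{u} A) Ab.{u})).inv (scCls S z)) = _
  rw [forget_cls]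
  exact abCls_map (S := S.map (forget₂ (ModuleCat.{u} A) Ab.{u})) (S' := K.sc p)
    ((HomologicalComplex.shortComplexFunctor _ c p).map (forgetIso K ρ).hom) ⟨z.1, z.2⟩

variable (κ : K ⟶ K') (hκ : ∀ a : A, ρ a ≫ κ = κ ≫ ρ' (φ a))
variable (hBC : ∀ n : ι, @Groth.Agent.Lib.helper8.PullbackUnit.IsBC A B _ _ φ (K.X n) (K'.X n) _
  (modX K ρ n) _ (modX K' ρ' n) (κ.f n).hom)

/-- under `bcIso` and `homEquiv`, the base change map of `modCx K ρ` is `H_p(κ)` -/
lemma homEquiv_bcIso_bcMap (p : ι) (y : (modCx K ρ).homology p) :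
    homEquiv K' ρ' p ((HomologicalComplex.homologyMap (bcIso φ K K' ρ ρ' κ hκ hBC).hom p).hom
      (bcMap φ (modCx K ρ) p y)) =
    (HomologicalComplex.homologyMap κ p) (homEquiv K ρ p y) := by
  obtain ⟨z, rfl⟩ := scCls_surjective ((modCx K ρ).sc p) y
  rw [bcMap_cls, homEquiv_cls]
  have h1 : (HomologicalComplex.homologyMap (bcIso φ K K' ρ ρ' κ hκ hBC).hom p).hom
      (scCls ((CohIII.bcCx φ (modCx K ρ)).sc p) (kerMap φ (modCx K ρ) p z)) =
      scCls ((modCx K' ρ').sc p) ⟨_, map_mem_ker ((HomologicalComplex.shortComplexFunctor _ c p).map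
        (bcIso φ K K' ρ ρ' κ hκ hBC).hom) (kerMap φ (modCx K ρ) p z)⟩ :=
    scCls_map ((HomologicalComplex.shortComplexFunctor _ c p).map
      (bcIso φ K K' ρ ρ' κ hκ hBC).hom) (kerMap φ (modCx K ρ) p z)
  rw [h1, homEquiv_cls]
  have h2 : (HomologicalComplex.homologyMap κ p) (abCls (K.sc p) ⟨z.1, z.2⟩) =
      abCls (K'.sc p) ⟨_, ab_map_mem_ker ((HomologicalComplex.shortComplexFunctor _ c p).map κ)
        ⟨z.1, z.2⟩⟩ :=
    abCls_map ((HomologicalComplex.shortComplexFunctor _ c p).map κ) ⟨z.1, z.2⟩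
  rw [h2]
  congr 1
  apply Subtype.ext
  exact cmp_unit φ K K' ρ ρ' κ hκ p z.1

end ModCx

end Groth.Agent.Lib.helper21.BcMap
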