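import Mathlib
import Groth.Agent.Lib.Helper21.GCHom
import Groth.Agent.Lib.Helper21.BcMap

/-!
# `H^0` of the Čech module complex, its base change, and the restriction of sections (helper21)

`sec0M : H^0(cechMod) ≃+ Γ(X, M)`, `sec0N : H^0(cechMod ⊗_A B) ≃+ Γ(X, g'_* g'^* M)` and the compatibility
`sec0N (bcMap z) = η (sec0M z)` with the unit `η : M ⟶ g'_* g'^* M` (`sec0N_bcMap`); both are (semi)linear.
-/

set_option autoImplicit false
universe u

open CategoryTheory CategoryTheory.Limits Opposite TopologicalSpace AlgebraicGeometry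

namespace Groth.Agent.Lib.helper21.GCCech

open Groth.Agent.Lib.helper8.PullbackUnit Groth.Agent.Lib.helper8.FlatCohBC
open Groth.Agent.Lib.helper27 Groth.Agent.Lib.Helper18 Groth.Agent.Lib.helper21.ModCx
open Groth.Agent.Lib.Helper20 Groth.Agent.Lib.Helper20.CechNatTop
open Groth.Agent.Lib.helper21.BcMap

section

variable {A B : Type u} [CommRing A] [CommRing B] [Algebra A B]
variable {X X' : Scheme.{u}} (fX : X ⟶ Spec (CommRingCat.of A)) (fX' : X' ⟶ Spec (CommRingCat.of B))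
  (g' : X' ⟶ X)
  (h : IsPullback g' fX' fX (Spec.map (CommRingCat.ofHom (algebraMap A B))))
  (M : X.Modules)
variable {ι : Type u} [Finite ι] (U : ι → X.Opens)
variable [M.IsQuasicoherent]
variable (hU : ∀ (n : ℕ) (a : Fin (n + 1) → ι), IsAffineOpen (∏ᶜ (U ∘ a) : X.Opens))
  (hcov : iSup U = ⊤)

/-- `H^0` of an acyclic Čech complex is the group of global sections -/
noncomputable def cech0 (F : CohTop.Ab X.toTopCat) (hF : IsAcyc U F) :
    (((Č (X := X.toTopCat) U).obj F).extend eN).homology ((0 : ℕ) : ℤ) ≃+ F.obj.obj (op ⊤) :=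
  (extHomEquiv eN ((Č (X := X.toTopCat) U).obj F) (j := 0) (j' := ((0 : ℕ) : ℤ)) rfl).trans
    ((cechIso (X := X.toTopCat) U hcov 0 F hF).addCommGroupIsoToAddEquiv.trans
      (Sheaf.H.equiv₀ F (isTerminalTop (α := Opens X))))

lemma cech0_natural (F G : CohTop.Ab X.toTopCat) (hF : IsAcyc U F) (hG : IsAcyc U G) (φ : F ⟶ G)
    (x : (((Č (X := X.toTopCat) U).obj F).extend eN).homology ((0 : ℕ) : ℤ)) :
    cech0 U hcov G hG ((HomologicalComplex.homologyMap
      (HomologicalComplex.extendMap ((Č (X := X.toTopCat) U).map φ) eN) ((0 : ℕ) : ℤ)).hom x) =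
      (φ.hom.app (op ⊤)).hom (cech0 U hcov F hF x) := by
  have h0 := extHomEquiv_natural eN ((Č (X := X.toTopCat) U).map φ) (j := 0)
    (j' := ((0 : ℕ) : ℤ)) rfl x
  refine (congrArg (fun t => Sheaf.H.equiv₀ G (isTerminalTop (α := Opens X))
    ((cechIso (X := X.toTopCat) U hcov 0 G hG).hom.hom t)) h0).trans ?_
  have h1 := ConcreteCategory.congr_hom (cechIso_natural (X := X.toTopCat) U hcov 0 F G hF hG φ)
    (extHomEquiv eN ((Č (X := X.toTopCat) U).obj F) (j := 0) (j' := ((0 : ℕ) : ℤ)) rfl x)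
  refine (congrArg (Sheaf.H.equiv₀ G (isTerminalTop (α := Opens X))) h1).trans ?_
  exact (Sheaf.H.equiv₀_naturality (isTerminalTop (α := Opens X)) φ _).symm

/-- `H^0(cechMod) ≃ Γ(X, M)` -/
noncomputable def sec0M :
    (cechMod fX M U).homology ((0 : ℕ) : ℤ) ≃+ (Coh.toAb M).obj.obj (op ⊤) :=
  (homEquiv ((KM M U).extend eN) (extρ eN (KM M U) (ρM fX M U)) ((0 : ℕ) : ℤ)).trans
    (cech0 U hcov (Coh.toAb M) (isAcyc U hU M))

include h hU in
lemma isAcycN : IsAcyc U (Coh.toAb ((Coh.push g').obj ((Scheme.Modules.pullback g').obj M))) := by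
  haveI := qcoh_push fX fX' g' h M
  exact isAcyc U hU _

/-- `H^0(cechMod ⊗_A B) ≃ Γ(X, g'_* g'^* M)` -/
noncomputable def sec0N :
    (CohIII.bcCx (algebraMap A B) (cechMod fX M U)).homology ((0 : ℕ) : ℤ) ≃+
      (Coh.toAb ((Coh.push g').obj ((Scheme.Modules.pullback g').obj M))).obj.obj (op ⊤) :=
  (((HomologicalComplex.homologyFunctor _ (ComplexShape.up ℤ) ((0 : ℕ) : ℤ)).mapIso
    (bcIso (algebraMap A B) ((KM M U).extend eN) ((KN g' M U).extend eN)
      (extρ eN (KM M U) (ρM fX M U)) (extρ eN (KN g' M U) (ρN fX' g' M U))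
      (HomologicalComplex.extendMap (κC g' M U) eN)
      (extρ_comm eN (algebraMap A B) _ _ _ _ _ (hκC fX fX' g' h M U))
      (isBC_extend eN (algebraMap A B) _ _ _ _ _
        (hBC_cech fX fX' g' h M U hU)))).toLinearEquiv.toAddEquiv).trans
    ((homEquiv ((KN g' M U).extend eN) (extρ eN (KN g' M U) (ρN fX' g' M U)) ((0 : ℕ) : ℤ)).trans
      (cech0 U hcov _ (isAcycN fX fX' g' h M U hU)))

/-- **compatibility with the restriction of sections** -/
theorem sec0N_bcMap (z : (cechMod fX M U).homology ((0 : ℕ) : ℤ)) :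
    sec0N fX fX' g' h M U hU hcov (bcMap (algebraMap A B) (cechMod fX M U) ((0 : ℕ) : ℤ) z) =
      ((ηM g' M).hom.app (op ⊤)).hom (sec0M fX M U hU hcov z) := by
  show cech0 U hcov _ (isAcycN fX fX' g' h M U hU)
    (homEquiv ((KN g' M U).extend eN) (extρ eN (KN g' M U) (ρN fX' g' M U)) ((0 : ℕ) : ℤ)
      ((HomologicalComplex.homologyMap (bcIso (algebraMap A B) ((KM M U).extend eN)
        ((KN g' M U).extend eN)
        (extρ eN (KM M U) (ρM fX M U)) (extρ eN (KN g' M U) (ρN fX' g' M U))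
        (HomologicalComplex.extendMap (κC g' M U) eN)
        (extρ_comm eN (algebraMap A B) _ _ _ _ _ (hκC fX fX' g' h M U))
        (isBC_extend eN (algebraMap A B) _ _ _ _ _
          (hBC_cech fX fX' g' h M U hU))).hom ((0 : ℕ) : ℤ)).hom
        (bcMap (algebraMap A B) (cechMod fX M U) ((0 : ℕ) : ℤ) z))) = _
  have h1 := homEquiv_bcIso_bcMap (algebraMap A B) ((KM M U).extend eN) ((KN g' M U).extend eN)
    (extρ eN (KM M U) (ρM fX M U)) (extρ eN (KN g' M U) (ρN fX' g' M U))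
    (HomologicalComplex.extendMap (κC g' M U) eN)
    (extρ_comm eN (algebraMap A B) _ _ _ _ _ (hκC fX fX' g' h M U))
    (isBC_extend eN (algebraMap A B) _ _ _ _ _ (hBC_cech fX fX' g' h M U hU)) ((0 : ℕ) : ℤ) z
  refine (congrArg (cech0 U hcov _ (isAcycN fX fX' g' h M U hU)) h1).trans ?_
  exact cech0_natural U hcov (Coh.toAb M) _ (isAcyc U hU M) (isAcycN fX fX' g' h M U hU)
    (ηM g' M) _

/-- `sec0N` is `B`-linear -/
theorem sec0N_smul (b : B)
    (w : (CohIII.bcCx (algebraMap A B) (cechMod fX M U)).homology ((0 : ℕ) : ℤ)) :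
    letI := modSec' fX' g' M (⊤ : X.Opens)
    sec0N fX fX' g' h M U hU hcov (b • w) = b • sec0N fX fX' g' h M U hU hcov w := by
  letI := modSec' fX' g' M (⊤ : X.Opens)
  rw [modSec'_smul]
  let e1 := ((HomologicalComplex.homologyFunctor _ (ComplexShape.up ℤ) ((0 : ℕ) : ℤ)).mapIso
    (bcIso (algebraMap A B) ((KM M U).extend eN) ((KN g' M U).extend eN)
      (extρ eN (KM M U) (ρM fX M U)) (extρ eN (KN g' M U) (ρN fX' g' M U))
      (HomologicalComplex.extendMap (κC g' M U) eN)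
      (extρ_comm eN (algebraMap A B) _ _ _ _ _ (hκC fX fX' g' h M U))
      (isBC_extend eN (algebraMap A B) _ _ _ _ _
        (hBC_cech fX fX' g' h M U hU)))).toLinearEquiv
  show cech0 U hcov _ (isAcycN fX fX' g' h M U hU)
    (homEquiv ((KN g' M U).extend eN) (extρ eN (KN g' M U) (ρN fX' g' M U)) ((0 : ℕ) : ℤ)
      (e1 (b • w))) = _
  have h1 : e1 (b • w) = b • e1 w := e1.map_smul b w
  have h2 := homEquiv_smul ((KN g' M U).extend eN) (extρ eN (KN g' M U) (ρN fX' g' M U))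
    ((0 : ℕ) : ℤ) b (e1 w)
  refine (congrArg (cech0 U hcov _ (isAcycN fX fX' g' h M U hU))
    ((congrArg (homEquiv ((KN g' M U).extend eN) (extρ eN (KN g' M U) (ρN fX' g' M U))
      ((0 : ℕ) : ℤ)) h1).trans h2)).trans ?_
  exact cech0_natural U hcov _ _ (isAcycN fX fX' g' h M U hU) (isAcycN fX fX' g' h M U hU)
    (βM fX' g' M b) _

end

end Groth.Agent.Lib.helper21.GCCech
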