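import Mathlib

/-!
# Lifting cycles from the fibre (helper21; Mathlib only)

`d : M → N` linear over `A`, `x` a prime at which `N / im d` is free.  Then every element of `ker (κ(x) ⊗ d)` is,
up to a unit of `κ(x)` coming from `A ∖ x`, of the form `1 ⊗ z` with `z ∈ ker d` (`exists_lift_of_mem_freeLocus`).
-/

set_option autoImplicit false
universe u

open TensorProduct

namespace Groth.Agent.Lib.helper21.LiftAlg

variable {A : Type u} [CommRing A]

/-- "`Tor₁` is local": if `S ⊗ W` is `S`-flat (`S` flat over `A`) then `Q ⊗ R → Q ⊗ N` is injective for every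
`S`-module `Q`, where `0 → R → N → W → 0` is exact. -/
lemma lTensor_injective_of_flat_baseChange (S : Type u) [CommRing S] [Algebra A S] [Module.Flat A S]
    {R N W : Type u} [AddCommGroup R] [Module A R] [AddCommGroup N] [Module A N]
    [AddCommGroup W] [Module A W] (i : R →ₗ[A] N) (q : N →ₗ[A] W)
    (hi : Function.Injective i) (hq : Function.Surjective q) (hex : Function.Exact i q)
    [Module.Flat S (S ⊗[A] W)]
    (Q : Type u) [AddCommGroup Q] [Module A Q] [Module S Q] [IsScalarTower A S Q] :
    Function.Injective (i.lTensor Q) := by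
  have hiS : Function.Injective (i.baseChange S) :=
    Module.Flat.lTensor_preserves_injective_linearMap i hi
  have hqS : Function.Surjective (q.baseChange S) := LinearMap.lTensor_surjective S hq
  have hexS : Function.Exact (i.baseChange S) (q.baseChange S) := lTensor_exact S hex hq
  have h1 : Function.Injective ((i.baseChange S).lTensor Q) :=
    LinearMap.lTensor_injective_of_exact_of_flat (q.baseChange S) hqS (i.baseChange S) hiS hexS Q
  let eR := TensorProduct.AlgebraTensorModule.cancelBaseChange A S S Q R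
  let eN := TensorProduct.AlgebraTensorModule.cancelBaseChange A S S Q N
  have h2 : ∀ t : Q ⊗[S] (S ⊗[A] R), eN ((i.baseChange S).lTensor Q t) = i.lTensor Q (eR t) := by
    intro t
    induction t using TensorProduct.induction_on with
    | zero => simp
    | tmul m y =>
      induction y using TensorProduct.induction_on with
      | zero => simp
      | tmul a n => rfl
      | add y₁ y₂ h₁ h₂ =>
        rw [TensorProduct.tmul_add, map_add, map_add, map_add, map_add, h₁, h₂]
    | add t₁ t₂ h₁ h₂ => rw [map_add, map_add, map_add, map_add, h₁, h₂]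
  intro a b hab
  have h3 : (i.baseChange S).lTensor Q (eR.symm a) = (i.baseChange S).lTensor Q (eR.symm b) := by
    apply eN.injective
    rw [h2, h2, LinearEquiv.apply_symm_apply, LinearEquiv.apply_symm_apply, hab]
  exact eR.symm.injective (h1 h3)

/-- if `Q ⊗ im d → Q ⊗ N` is injective, every element of `ker (Q ⊗ d)` comes from `Q ⊗ ker d` -/
lemma mem_range_of_mem_ker {M N : Type u} [AddCommGroup M] [Module A M] [AddCommGroup N] [Module A N]
    (d : M →ₗ[A] N) (Q : Type u) [AddCommGroup Q] [Module A Q]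
    (hinj : Function.Injective ((LinearMap.range d).subtype.lTensor Q))
    (c : Q ⊗[A] M) (hc : d.lTensor Q c = 0) :
    c ∈ LinearMap.range ((LinearMap.ker d).subtype.lTensor Q) := by
  have hex : Function.Exact (LinearMap.ker d).subtype d.rangeRestrict := by
    intro m
    constructor
    · intro h
      exact ⟨⟨m, by
        rw [LinearMap.mem_ker]
        exact congrArg Subtype.val h⟩, rfl⟩
    · rintro ⟨⟨m', hm'⟩, rfl⟩
      exact Subtype.ext hm'
  have hsurj : Function.Surjective d.rangeRestrict := LinearMap.surjective_rangeRestrict d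
  have h1 := lTensor_exact Q hex hsurj
  have h2 : d.lTensor Q = ((LinearMap.range d).subtype.lTensor Q) ∘ₗ (d.rangeRestrict.lTensor Q) := by
    rw [← LinearMap.lTensor_comp]
    rfl
  rw [h2, LinearMap.comp_apply] at hc
  have h3 : d.rangeRestrict.lTensor Q c = 0 := hinj (by rw [hc, map_zero])
  exact (h1 c).1 h3

/-- clearing denominators in `κ(p) ⊗ Z` -/
lemma exists_smul_eq_one_tmul (p : Ideal A) [p.IsPrime] {Z : Type u} [AddCommGroup Z] [Module A Z]
    (u : p.ResidueField ⊗[A] Z) :
    ∃ a : A, a ∉ p ∧ ∃ z : Z, algebraMap A p.ResidueField a • u = (1 : p.ResidueField) ⊗ₜ[A] z := by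
  induction u using TensorProduct.induction_on with
  | zero => exact ⟨1, fun h => (Ideal.ne_top_iff_one p).1 Ideal.IsPrime.ne_top' h, 0, by simp⟩
  | tmul k z =>
    obtain ⟨b, s, hk⟩ := IsLocalization.exists_mk'_eq (nonZeroDivisors (A ⧸ p)) k
    obtain ⟨b', rfl⟩ := Ideal.Quotient.mk_surjective b
    obtain ⟨s', hs'⟩ := Ideal.Quotient.mk_surjective (s : A ⧸ p)
    have hs'p : s' ∉ p := by
      intro h
      have h0 : (s : A ⧸ p) = 0 := by rw [← hs']; exact Ideal.Quotient.eq_zero_iff_mem.2 h
      exact nonZeroDivisors.coe_ne_zero s h0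
    refine ⟨s', hs'p, b' • z, ?_⟩
    have h1 : algebraMap A p.ResidueField s' * k = algebraMap A p.ResidueField b' := by
      have e1 : algebraMap A p.ResidueField s' = algebraMap (A ⧸ p) p.ResidueField (s : A ⧸ p) := by
        rw [← hs']; rfl
      have e2 : algebraMap A p.ResidueField b' =
          algebraMap (A ⧸ p) p.ResidueField (Ideal.Quotient.mk p b') := rfl
      rw [e1, e2, ← hk, IsLocalization.mk'_spec']
    rw [TensorProduct.smul_tmul', smul_eq_mul, h1, ← TensorProduct.smul_tmul,
      ← Algebra.algebraMap_eq_smul_one]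
  | add u₁ u₂ h₁ h₂ =>
    obtain ⟨a₁, ha₁, z₁, e₁⟩ := h₁
    obtain ⟨a₂, ha₂, z₂, e₂⟩ := h₂
    refine ⟨a₁ * a₂, fun h => (Ideal.IsPrime.mem_or_mem inferInstance h).elim ha₁ ha₂,
      a₂ • z₁ + a₁ • z₂, ?_⟩
    have t1 : algebraMap A p.ResidueField (a₁ * a₂) • u₁ = (1 : p.ResidueField) ⊗ₜ[A] (a₂ • z₁) := by
      rw [map_mul, mul_comm, mul_smul, e₁, TensorProduct.smul_tmul', smul_eq_mul, mul_one,
        ← TensorProduct.smul_tmul, ← Algebra.algebraMap_eq_smul_one]
    have t2 : algebraMap A p.ResidueField (a₁ * a₂) • u₂ = (1 : p.ResidueField) ⊗ₜ[A] (a₁ • z₂) := by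
      rw [map_mul, mul_smul, e₂, TensorProduct.smul_tmul', smul_eq_mul, mul_one,
        ← TensorProduct.smul_tmul, ← Algebra.algebraMap_eq_smul_one]
    rw [smul_add, t1, t2, TensorProduct.tmul_add]

/-- **lifting cycles from the fibre** -/
theorem exists_lift_of_mem_freeLocus {M N : Type u} [AddCommGroup M] [Module A M]
    [AddCommGroup N] [Module A N] (d : M →ₗ[A] N) (x : PrimeSpectrum A)
    (hx : x ∈ Module.freeLocus A (N ⧸ LinearMap.range d))
    (c : x.asIdeal.ResidueField ⊗[A] M) (hc : d.lTensor x.asIdeal.ResidueField c = 0) :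
    ∃ a : A, a ∉ x.asIdeal ∧ ∃ z : M, d z = 0 ∧
      algebraMap A x.asIdeal.ResidueField a • c = (1 : x.asIdeal.ResidueField) ⊗ₜ[A] z := by
  haveI : Module.Free (Localization.AtPrime x.asIdeal)
      (Localization.AtPrime x.asIdeal ⊗[A] (N ⧸ LinearMap.range d)) :=
    (Module.mem_freeLocus_iff_tensor x (Localization.AtPrime x.asIdeal)).1 hx
  have hinj : Function.Injective ((LinearMap.range d).subtype.lTensor x.asIdeal.ResidueField) :=
    lTensor_injective_of_flat_baseChange (Localization.AtPrime x.asIdeal)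
      (LinearMap.range d).subtype (LinearMap.range d).mkQ (Submodule.subtype_injective _)
      (Submodule.mkQ_surjective _) (LinearMap.exact_subtype_mkQ _) x.asIdeal.ResidueField
  obtain ⟨u, hu⟩ := mem_range_of_mem_ker d x.asIdeal.ResidueField hinj c hc
  obtain ⟨a, ha, z, hz⟩ := exists_smul_eq_one_tmul x.asIdeal u
  refine ⟨a, ha, z.1, z.2, ?_⟩
  rw [algebraMap_smul] at hz ⊢
  rw [← hu, ← map_smul, hz]
  rfl

end Groth.Agent.Lib.helper21.LiftAlg
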