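import Mathlib
import Groth.Agent.Lib.Helper21.LiftAlg
import Groth.Agent.Lib.Helper21.BcMap
import Groth.Agent.Lib.Helper11.GCLocAlg
import Groth.Agent.S2380

/-!
# Lifting homology classes from the fibre for a complex of finite flat modules (helper21)

`L` a cochain complex of finite flat modules over a Noetherian ring `A`, `x ∈ Spec A` with
`H^{p+1}(L ⊗ κ(x)) = 0`.  Then every class in `H^p(L ⊗ κ(x))` is, up to a unit coming from `A ∖ x`, the image of
a class in `H^p(L)` under the base change map (`exists_lift_class`).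
-/

set_option autoImplicit false
universe u

open CategoryTheory CategoryTheory.Limits TensorProduct

namespace Groth.Agent.Lib.helper21.LiftL

open Groth.Agent.Lib.helper21.CxClass Groth.Agent.Lib.helper21.BcMap Groth.Agent.Lib.helper21.ModCx
open Groth.Agent.Lib.helper21.LiftAlg

variable {A : Type u} [CommRing A]

section eM

variable {κ : Type u} [CommRing κ] [Algebra A κ]

lemma e₁_natural {M N : ModuleCat.{u} A} (f : M ⟶ N)
    (x : Groth.Agent.S2380.Kr A κ ⊗[A] M) :
    Groth.Agent.S2380.e₁ (κ := κ) N (f.hom.lTensor (Groth.Agent.S2380.Kr A κ) x) =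
      f.hom.lTensor κ (Groth.Agent.S2380.e₁ (κ := κ) M x) := by
  induction x using TensorProduct.induction_on with
  | zero => rw [map_zero, map_zero, map_zero, map_zero]
  | tmul a m => rfl
  | add x y hx hy => rw [map_add, map_add, map_add, map_add, hx, hy]

lemma eM_natural {M N : ModuleCat.{u} A} (f : M ⟶ N)
    (x : (ModuleCat.extendScalars (algebraMap A κ)).obj M) :
    Groth.Agent.S2380.eM (κ := κ) N (((ModuleCat.extendScalars (algebraMap A κ)).map f).hom x) =
      f.hom.lTensor κ (Groth.Agent.S2380.eM (κ := κ) M x) :=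
  e₁_natural f x

lemma eM_toExt (M : ModuleCat.{u} A) (m : M) :
    Groth.Agent.S2380.eM (κ := κ) M (toExt (algebraMap A κ) M m) = (1 : κ) ⊗ₜ[A] m := rfl

end eM

/-- reindexing a cokernel -/
def quotEquivOfIdx (L : CochainComplex (ModuleCat.{u} A) ℤ) {i i' j j' : ℤ} (hi : i = i')
    (hj : j = j') :
    (L.X j ⧸ LinearMap.range (L.d i j).hom) ≃ₗ[A] (L.X j' ⧸ LinearMap.range (L.d i' j').hom) := by
  subst hi hj
  exact LinearEquiv.refl _ _

variable [IsNoetherianRing A] (L : CochainComplex (ModuleCat.{u} A) ℤ)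
  (hL : ∀ i, Module.Finite A (L.X i) ∧ Module.Flat A (L.X i))

include hL in
/-- the cokernel of `d^p` is free at the points where `H^{p+1}(L ⊗ κ(x)) = 0` -/
lemma mem_freeLocus_coker (p : ℤ) (x : PrimeSpectrum A) (h1 : CohIII.dRank L (p + 1) x = 0) :
    x ∈ Module.freeLocus A
      (L.X ((ComplexShape.up ℤ).next p) ⧸ LinearMap.range (L.sc p).g.hom) := by
  have h' : CohIII.dRank (Groth.Agent.Lib.helper11.NegCx.neg L) (-(p + 1)) x = 0 := by
    rw [Groth.Agent.Lib.helper11.GCLoc.dRank_neg_apply]; exact h1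
  have h2 := Groth.Agent.Lib.helper11.GCLoc.mem_freeLocus_W_of_dRank_eq_zero
    (Groth.Agent.Lib.helper11.NegCx.neg L)
    (Groth.Agent.Lib.helper11.NegCx.neg_fin_flat L hL) x (-(p + 1)) h'
  have e : Groth.Agent.Lib.helper2.TpLib.W (Groth.Agent.Lib.helper11.NegCx.neg L) (-(p + 1)) ≃ₗ[A]
      (L.X ((ComplexShape.up ℤ).next p) ⧸ LinearMap.range (L.sc p).g.hom) :=
    quotEquivOfIdx L (i := -((ComplexShape.down ℤ).prev (-(p + 1)))) (i' := p)
      (j := -(-(p + 1))) (j' := (ComplexShape.up ℤ).next p)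
      (by simp) (by simp)
  rwa [Module.freeLocus_congr e] at h2

include hL in
/-- **lifting classes from the fibre** -/
theorem exists_lift_class (p : ℤ) (x : PrimeSpectrum A) (h1 : CohIII.dRank L (p + 1) x = 0)
    (w : (CohIII.bcCx (algebraMap A x.asIdeal.ResidueField) L).homology p) :
    ∃ a : A, a ∉ x.asIdeal ∧ ∃ z : L.homology p,
      bcMap (algebraMap A x.asIdeal.ResidueField) L p z =
        algebraMap A x.asIdeal.ResidueField a • w := by
  have hfree := mem_freeLocus_coker L hL p x h1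
  obtain ⟨c, rfl⟩ := scCls_surjective
    ((CohIII.bcCx (algebraMap A x.asIdeal.ResidueField) L).sc p) w
  have hc : ((ModuleCat.extendScalars (algebraMap A x.asIdeal.ResidueField)).map (L.sc p).g).hom c.1
      = 0 := c.2
  have e1 := eM_natural (κ := x.asIdeal.ResidueField) (L.sc p).g c.1
  have hc' : (L.sc p).g.hom.lTensor x.asIdeal.ResidueField
      (Groth.Agent.S2380.eM (κ := x.asIdeal.ResidueField) (L.X p) c.1) = 0 :=
    e1.symm.trans ((congrArg (Groth.Agent.S2380.eM (κ := x.asIdeal.ResidueField)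
      (L.X ((ComplexShape.up ℤ).next p))) hc).trans (map_zero _))
  obtain ⟨a, ha, z0, hz0, hz⟩ := exists_lift_of_mem_freeLocus (L.sc p).g.hom x hfree _ hc'
  refine ⟨a, ha, scCls (L.sc p) ⟨z0, hz0⟩, ?_⟩
  refine (bcMap_cls _ L p ⟨z0, hz0⟩).trans ?_
  refine Eq.trans ?_ (map_smul (scCls ((CohIII.bcCx (algebraMap A x.asIdeal.ResidueField) L).sc p))
    (algebraMap A x.asIdeal.ResidueField a) c)
  congr 1
  apply Subtype.ext
  apply (Groth.Agent.S2380.eM (κ := x.asIdeal.ResidueField) (L.X p)).injective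
  show Groth.Agent.S2380.eM (κ := x.asIdeal.ResidueField) (L.X p)
    (toExt (algebraMap A x.asIdeal.ResidueField) (L.X p) z0) =
    Groth.Agent.S2380.eM (κ := x.asIdeal.ResidueField) (L.X p)
      (algebraMap A x.asIdeal.ResidueField a • c.1)
  rw [eM_toExt]
  refine hz.symm.trans ?_
  exact ((Groth.Agent.S2380.eM (κ := x.asIdeal.ResidueField) (L.X p)).map_smul _ _).symm

end Groth.Agent.Lib.helper21.LiftL
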