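import Mathlib
import Groth.Agent.Lib.Helper21.GCB

/-!
# Fibres and the Grothendieck complex over an affine base (helper21)

For `X` over `Spec A`, `x` a point of `Spec A` and `B = κ(x) = x.asIdeal.ResidueField` (or any `A`-algebra `B`
identified with the residue field of the scheme `Spec A` at `x`, e.g. `A ⧸ m`), the fibre `X_x` is a pullback
`X ×_A Spec B`; hence `H^p(L ⊗_A κ(x))` and `H^p(X_x, F_x)` have the same dimension (`dRank_eq_fiberRank`).
-/

set_option autoImplicit false
universe u

open CategoryTheory CategoryTheory.Limits Opposite TopologicalSpace AlgebraicGeometry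

namespace Groth.Agent.Lib.helper21.GCFibre

section square

variable (A : Type u) [CommRing A] (X : Scheme.{u}) [X.Over (Spec (CommRingCat.of A))]
variable (x : ↑(Spec (CommRingCat.of A)))
variable (B : Type u) [CommRing B] [Algebra A B]
  (ψ : CommRingCat.of B ⟶ (Spec (CommRingCat.of A)).residueField x) [IsIso ψ]
  (hψ : Spec.map ψ ≫ Spec.map (CommRingCat.ofHom (algebraMap A B)) =
    (Spec (CommRingCat.of A)).fromSpecResidueField x)

/-- the structure morphism of the fibre over `Spec B` -/
noncomputable def fibreTo :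
    (X ↘ Spec (CommRingCat.of A)).fiber x ⟶ Spec (CommRingCat.of B) :=
  (X ↘ Spec (CommRingCat.of A)).fiberToSpecResidueField x ≫ Spec.map ψ

/-- the fibre as a scheme over `Spec B` -/
@[reducible] noncomputable def fibreOver :
    ((X ↘ Spec (CommRingCat.of A)).fiber x).Over (Spec (CommRingCat.of B)) :=
  ⟨fibreTo A X x B ψ⟩

include hψ in
theorem isPullback_fibre :
    IsPullback ((X ↘ Spec (CommRingCat.of A)).fiberι x) (fibreTo A X x B ψ)
      (X ↘ Spec (CommRingCat.of A))
      (Spec.map (CommRingCat.ofHom (algebraMap A B))) := by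
  have h0 : IsPullback ((X ↘ Spec (CommRingCat.of A)).fiberι x)
      ((X ↘ Spec (CommRingCat.of A)).fiberToSpecResidueField x) (X ↘ Spec (CommRingCat.of A))
      ((Spec (CommRingCat.of A)).fromSpecResidueField x) :=
    IsPullback.of_hasPullback _ _
  refine IsPullback.of_iso h0 (Iso.refl _) (Iso.refl _) (asIso (Spec.map ψ)) (Iso.refl _)
    ?_ ?_ ?_ ?_
  · simp
  · simp [fibreTo]
  · simp
  · rw [asIso_hom, Iso.refl_hom, Category.comp_id]
    exact hψ.symm

/-- global sections: the two structure maps differ by `ψ` -/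
theorem toGlobal_fibreTo (b : B) :
    Coh.toGlobal (fibreTo A X x B ψ) b =
      Coh.toGlobal ((X ↘ Spec (CommRingCat.of A)).fiberToSpecResidueField x) (ψ.hom b) := by
  have h1 : (Scheme.ΓSpecIso (CommRingCat.of B)).inv ≫ (fibreTo A X x B ψ).appTop =
      ψ ≫ (Scheme.ΓSpecIso ((Spec (CommRingCat.of A)).residueField x)).inv ≫
        ((X ↘ Spec (CommRingCat.of A)).fiberToSpecResidueField x).appTop := by
    unfold fibreTo
    rw [Scheme.Hom.comp_appTop, ← Category.assoc, ← Scheme.ΓSpecIso_inv_naturality,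
      Category.assoc]
  exact congr($(h1).hom b)

end square

section instances

variable (A : Type u) [CommRing A] (x : ↑(Spec (CommRingCat.of A)))

/-- the isomorphism `κ(x) ≅ residue field of the scheme Spec A at x` -/
noncomputable abbrev σ :
    CommRingCat.of x.asIdeal.ResidueField ⟶ (Spec (CommRingCat.of A)).residueField x :=
  (Scheme.Spec.residueFieldIso (CommRingCat.of A) x).inv

lemma hσ : Spec.map (σ A x) ≫
    Spec.map (CommRingCat.ofHom (algebraMap A x.asIdeal.ResidueField)) =
    (Spec (CommRingCat.of A)).fromSpecResidueField x :=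
  Scheme.Spec.map_residueFieldIso_inv_eq_fromSpecResidueField (CommRingCat.of A) x

/-- for a maximal ideal: `A ⧸ m ≅ residue field of the scheme Spec A at m` -/
noncomputable def σQ (m : Ideal A) [m.IsMaximal] :
    CommRingCat.of (A ⧸ m) ⟶
      (Spec (CommRingCat.of A)).residueField (⟨m, inferInstance⟩ : PrimeSpectrum A) :=
  CommRingCat.ofHom (algebraMap (A ⧸ m) m.ResidueField) ≫
    σ A (⟨m, inferInstance⟩ : PrimeSpectrum A)

instance (m : Ideal A) [m.IsMaximal] : IsIso (σQ A m) := by
  haveI : IsIso (CommRingCat.ofHom (algebraMap (A ⧸ m) m.ResidueField)) := by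
    rw [ConcreteCategory.isIso_iff_bijective]
    exact Ideal.bijective_algebraMap_quotient_residueField m
  unfold σQ
  infer_instance

lemma hσQ (m : Ideal A) [m.IsMaximal] :
    Spec.map (σQ A m) ≫ Spec.map (CommRingCat.ofHom (algebraMap A (A ⧸ m))) =
      (Spec (CommRingCat.of A)).fromSpecResidueField (⟨m, inferInstance⟩ : PrimeSpectrum A) := by
  rw [← hσ A (⟨m, inferInstance⟩ : PrimeSpectrum A), σQ, Spec.map_comp, Category.assoc,
    ← Spec.map_comp]
  rfl

end instances

section dictionary

variable (A : Type u) [CommRing A] (X : Scheme.{u}) [X.Over (Spec (CommRingCat.of A))]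
  (F : X.Modules) (L : CochainComplex (ModuleCat.{u} A) ℤ)

/-- the base-change property of a complex `L` computing the cohomology of `F` universally -/
def Computes : Prop :=
  ∀ (B : Type u) [CommRing B] [Algebra A B] (X' : Scheme.{u})
    [X'.Over (Spec (CommRingCat.of B))] (g' : X' ⟶ X)
    (_ : IsPullback g' (X' ↘ Spec (CommRingCat.of B)) (X ↘ Spec (CommRingCat.of A))
      (Spec.map (CommRingCat.ofHom (algebraMap A B)))) (p : ℕ),
    Nonempty ((CohIII.bcCx (algebraMap A B) L).homology (p : ℤ) ≃ₗ[B]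
      Coh.HH X' ((Scheme.Modules.pullback g').obj F) p)

variable {A X F L} (hL : Computes A X F L) (x : ↑(Spec (CommRingCat.of A)))

section gen

variable (B : Type u) [CommRing B] [Algebra A B]
  (ψ : CommRingCat.of B ⟶ (Spec (CommRingCat.of A)).residueField x) [IsIso ψ]
  (hψ : Spec.map ψ ≫ Spec.map (CommRingCat.ofHom (algebraMap A B)) =
    (Spec (CommRingCat.of A)).fromSpecResidueField x)

include hL hψ in
/-- `H^p(L ⊗ B) ≃ H^p(X_x, F_x)`, semilinearly w.r.t. `ψ : B ≅ residue field of Spec A at x` -/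
theorem exists_fiberH_equiv_gen (p : ℕ) :
    ∃ e : (CohIII.bcCx (algebraMap A B) L).homology (p : ℤ) ≃+
        CohIII.fiberH (X ↘ Spec (CommRingCat.of A)) F x p,
      ∀ (b : B) z, e (b • z) = (ψ.hom b) • e z := by
  letI := fibreOver A X x B ψ
  obtain ⟨e⟩ := hL B ((X ↘ Spec (CommRingCat.of A)).fiber x)
    ((X ↘ Spec (CommRingCat.of A)).fiberι x) (isPullback_fibre A X x B ψ hψ) p
  refine ⟨e.toAddEquiv, fun b z => ?_⟩
  have h1 : e (b • z) = b • e z := e.map_smul b z
  refine h1.trans ?_
  show Coh.toGlobal (fibreTo A X x B ψ) b • e z = _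
  rw [toGlobal_fibreTo]
  rfl

include hL hψ in
theorem subsingleton_fiberH_iff_gen (p : ℕ) :
    Subsingleton (CohIII.fiberH (X ↘ Spec (CommRingCat.of A)) F x p) ↔
      IsZero ((CohIII.bcCx (algebraMap A B) L).homology (p : ℤ)) := by
  obtain ⟨e, -⟩ := exists_fiberH_equiv_gen hL x B ψ hψ p
  constructor
  · intro h
    haveI : Subsingleton ((CohIII.bcCx (algebraMap A B) L).homology (p : ℤ)) :=
      e.toEquiv.subsingleton
    exact ModuleCat.isZero_of_subsingleton _
  · intro h
    haveI := ModuleCat.subsingleton_of_isZero h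
    exact e.symm.toEquiv.subsingleton

end gen

include hL in
/-- `H^p(L ⊗ κ(x)) ≃ H^p(X_x, F_x)`, semilinearly w.r.t. `σ : κ(x) ≅ residue field of Spec A at x` -/
theorem exists_fiberH_equiv (p : ℕ) :
    ∃ e : (CohIII.bcCx (algebraMap A x.asIdeal.ResidueField) L).homology (p : ℤ) ≃+
        CohIII.fiberH (X ↘ Spec (CommRingCat.of A)) F x p,
      ∀ (b : x.asIdeal.ResidueField) z, e (b • z) = ((σ A x).hom b) • e z :=
  exists_fiberH_equiv_gen hL x x.asIdeal.ResidueField (σ A x) (hσ A x) p

include hL in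
theorem dRank_eq_fiberRank (p : ℕ) :
    CohIII.dRank L (p : ℤ) x = CohIII.fiberRank (X ↘ Spec (CommRingCat.of A)) F p x := by
  obtain ⟨e, he⟩ := exists_fiberH_equiv hL x p
  unfold CohIII.dRank CohIII.fiberRank Module.finrank
  congr 1
  exact rank_eq_of_equiv_equiv (fun b => (σ A x).hom b) e
    (ConcreteCategory.bijective_of_isIso (σ A x)) he

include hL in
theorem subsingleton_fiberH_iff (p : ℕ) :
    Subsingleton (CohIII.fiberH (X ↘ Spec (CommRingCat.of A)) F x p) ↔
      IsZero ((CohIII.bcCx (algebraMap A x.asIdeal.ResidueField) L).homology (p : ℤ)) :=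
  subsingleton_fiberH_iff_gen hL x x.asIdeal.ResidueField (σ A x) (hσ A x) p

include hL in
/-- the fibre over a maximal ideal `m`, computed with `B = A ⧸ m` -/
theorem subsingleton_fiberH_iff_quot (m : Ideal A) [m.IsMaximal] (p : ℕ) :
    Subsingleton (CohIII.fiberH (X ↘ Spec (CommRingCat.of A)) F
        (⟨m, inferInstance⟩ : PrimeSpectrum A) p) ↔
      IsZero ((CohIII.bcCx (algebraMap A (A ⧸ m)) L).homology (p : ℤ)) :=
  subsingleton_fiberH_iff_gen hL (⟨m, inferInstance⟩ : PrimeSpectrum A) (A ⧸ m) (σQ A m)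
    (hσQ A m) p

end dictionary

end Groth.Agent.Lib.helper21.GCFibre
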