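import Mathlib
import Groth.Agent.Lib.Helper21.GCFibre
import Groth.Agent.Lib.Helper18.HHLin

/-!
# Fibres of `f : X ⟶ Y` over an affine chart `k : Spec A ⟶ Y` and the Grothendieck complex (helper21)

`k : Spec A ⟶ Y` an open immersion, `X_A = X ×_Y Spec A` (`i : X_A ⟶ X`), `F_A ≅ i^* F`, `L` a complex computing the
cohomology of `F_A` universally (`GCFibre.Computes`).  Then for every `x ∈ Spec A`:
`dRank L p x = fiberRank f F p (k x)` and `H^p(X_{k x}, F_{k x}) = 0 ↔ H^p(L ⊗ κ(x)) = 0`.
-/

set_option autoImplicit false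
universe u

open CategoryTheory CategoryTheory.Limits Opposite TopologicalSpace AlgebraicGeometry

namespace Groth.Agent.Lib.helper21.GCChart

open Groth.Agent.Lib.helper21.GCFibre Groth.Agent.Lib.Helper18

section

variable {X Y : Scheme.{u}} (f : X ⟶ Y) (A : Type u) [CommRing A]
  (k : Spec (CommRingCat.of A) ⟶ Y) [IsOpenImmersion k]
  {XA : Scheme.{u}} [XA.Over (Spec (CommRingCat.of A))] (i : XA ⟶ X)
  (hsq : IsPullback i (XA ↘ Spec (CommRingCat.of A)) f k)
  (x : ↑(Spec (CommRingCat.of A)))

/-- `κ(x) ≅ residue field of Y at k x` -/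
noncomputable def ψ : CommRingCat.of x.asIdeal.ResidueField ⟶ Y.residueField (k x) :=
  σ A x ≫ inv (k.residueFieldMap x)

instance : IsIso (ψ A k x) := by
  unfold ψ
  infer_instance

lemma hψ : Spec.map (ψ A k x) ≫
    Spec.map (CommRingCat.ofHom (algebraMap A x.asIdeal.ResidueField)) ≫ k =
    Y.fromSpecResidueField (k x) := by
  have h1 := Scheme.Hom.SpecMap_residueFieldMap_fromSpecResidueField k x
  have h2 := hσ A x
  unfold ψ
  rw [Spec.map_comp, Category.assoc, ← Category.assoc (Spec.map (σ A x)), h2, ← h1,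
    ← Category.assoc, ← Spec.map_comp, IsIso.hom_inv_id, Spec.map_id, Category.id_comp]

/-- the structure morphism of the fibre `X_{k x}` over `Spec κ(x)` -/
noncomputable def fibreTo : f.fiber (k x) ⟶ Spec (CommRingCat.of x.asIdeal.ResidueField) :=
  f.fiberToSpecResidueField (k x) ≫ Spec.map (ψ A k x)

/-- the fibre as a scheme over `Spec κ(x)` -/
@[reducible] noncomputable def fibreOver :
    (f.fiber (k x)).Over (Spec (CommRingCat.of x.asIdeal.ResidueField)) :=
  ⟨fibreTo f A k x⟩

lemma isPullback_big :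
    IsPullback (f.fiberι (k x)) (fibreTo f A k x) f
      (Spec.map (CommRingCat.ofHom (algebraMap A x.asIdeal.ResidueField)) ≫ k) := by
  have h0 : IsPullback (f.fiberι (k x)) (f.fiberToSpecResidueField (k x)) f
      (Y.fromSpecResidueField (k x)) := IsPullback.of_hasPullback _ _
  refine IsPullback.of_iso h0 (Iso.refl _) (Iso.refl _) (asIso (Spec.map (ψ A k x))) (Iso.refl _)
    ?_ ?_ ?_ ?_
  · simp
  · simp [fibreTo]
  · simp
  · rw [asIso_hom, Iso.refl_hom, Category.comp_id]
    exact (hψ A k x).symm

/-- the lift of the fibre to `X_A` -/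
noncomputable def lift : f.fiber (k x) ⟶ XA :=
  hsq.lift (f.fiberι (k x))
    (fibreTo f A k x ≫ Spec.map (CommRingCat.ofHom (algebraMap A x.asIdeal.ResidueField)))
    (by rw [(isPullback_big f A k x).w, Category.assoc])

lemma lift_i : lift f A k i hsq x ≫ i = f.fiberι (k x) := hsq.lift_fst _ _ _

theorem isPullback_lift :
    IsPullback (lift f A k i hsq x) (fibreTo f A k x) (XA ↘ Spec (CommRingCat.of A))
      (Spec.map (CommRingCat.ofHom (algebraMap A x.asIdeal.ResidueField))) :=
  IsPullback.of_right' (isPullback_big f A k x) hsq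

/-- global sections: the two structure maps differ by `ψ` -/
theorem toGlobal_fibreTo (b : x.asIdeal.ResidueField) :
    Coh.toGlobal (fibreTo f A k x) b =
      Coh.toGlobal (f.fiberToSpecResidueField (k x)) ((ψ A k x).hom b) := by
  have h1 : (Scheme.ΓSpecIso (CommRingCat.of x.asIdeal.ResidueField)).inv ≫
      (fibreTo f A k x).appTop =
      ψ A k x ≫ (Scheme.ΓSpecIso (Y.residueField (k x))).inv ≫
        (f.fiberToSpecResidueField (k x)).appTop := by
    unfold fibreTo
    rw [Scheme.Hom.comp_appTop, ← Category.assoc, ← Scheme.ΓSpecIso_inv_naturality,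
      Category.assoc]
  exact congr($(h1).hom b)

variable (F : X.Modules) (FA : XA.Modules) (eF : FA ≅ (Scheme.Modules.pullback i).obj F)

/-- the pullback of `F_A` to the fibre is the restriction of `F` to the fibre -/
noncomputable def fibreModIso :
    (Scheme.Modules.pullback (lift f A k i hsq x)).obj FA ≅ CohIII.fiberMod f F (k x) :=
  (Scheme.Modules.pullback (lift f A k i hsq x)).mapIso eF ≪≫
    (Scheme.Modules.pullbackComp (lift f A k i hsq x) i).app F ≪≫
    (Scheme.Modules.pullbackCongr (lift_i f A k i hsq x)).app F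

variable (L : CochainComplex (ModuleCat.{u} A) ℤ) (hL : Computes A XA FA L)

include hL eF hsq in
/-- `H^p(L ⊗ κ(x)) ≃ H^p(X_{k x}, F_{k x})`, semilinearly w.r.t. `ψ` -/
theorem exists_fiberH_equiv (p : ℕ) :
    ∃ e : (CohIII.bcCx (algebraMap A x.asIdeal.ResidueField) L).homology (p : ℤ) ≃+
        CohIII.fiberH f F (k x) p,
      ∀ (b : x.asIdeal.ResidueField) z, e (b • z) = ((ψ A k x).hom b) • e z := by
  letI := fibreOver f A k x
  obtain ⟨e⟩ := hL x.asIdeal.ResidueField (f.fiber (k x)) (lift f A k i hsq x)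
    (isPullback_lift f A k i hsq x) p
  let α := fibreModIso f A k i hsq x F FA eF
  let m : Coh.HH (f.fiber (k x)) ((Scheme.Modules.pullback (lift f A k i hsq x)).obj FA) p ≃+
      CohIII.fiberH f F (k x) p :=
    { toFun := HH.map α.hom p
      invFun := HH.map α.inv p
      left_inv := fun z => by
        rw [← HH.map_comp_apply, Iso.hom_inv_id, HH.map_id]; rfl
      right_inv := fun z => by
        rw [← HH.map_comp_apply, Iso.inv_hom_id, HH.map_id]; rfl
      map_add' := fun a b => map_add _ a b }
  refine ⟨e.toAddEquiv.trans m, fun b z => ?_⟩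
  show HH.map α.hom p (e (b • z)) = _
  rw [e.map_smul b z]
  have h1 : b • e z = Coh.toGlobal (fibreTo f A k x) b • e z := rfl
  rw [h1, (HH.map α.hom p).map_smul, toGlobal_fibreTo]
  rfl

include hL eF hsq in
theorem dRank_eq_fiberRank (p : ℕ) :
    CohIII.dRank L (p : ℤ) x = CohIII.fiberRank f F p (k x) := by
  obtain ⟨e, he⟩ := exists_fiberH_equiv f A k i hsq x F FA eF L hL p
  unfold CohIII.dRank CohIII.fiberRank Module.finrank
  congr 1
  exact rank_eq_of_equiv_equiv (fun b => (ψ A k x).hom b) e
    (ConcreteCategory.bijective_of_isIso (ψ A k x)) he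

include hL eF hsq in
theorem subsingleton_fiberH_iff (p : ℕ) :
    Subsingleton (CohIII.fiberH f F (k x) p) ↔
      IsZero ((CohIII.bcCx (algebraMap A x.asIdeal.ResidueField) L).homology (p : ℤ)) := by
  obtain ⟨e, -⟩ := exists_fiberH_equiv f A k i hsq x F FA eF L hL p
  constructor
  · intro h
    haveI : Subsingleton ((CohIII.bcCx (algebraMap A x.asIdeal.ResidueField) L).homology (p : ℤ)) :=
      e.toEquiv.subsingleton
    exact ModuleCat.isZero_of_subsingleton _
  · intro h
    haveI := ModuleCat.subsingleton_of_isZero h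
    exact e.symm.toEquiv.subsingleton

end

end Groth.Agent.Lib.helper21.GCChart
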