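import Mathlib

/-!
# The centre of a category acts through derived functors (helper21)

If `α : 𝟭 C ⟶ 𝟭 C` and `β : 𝟭 D ⟶ 𝟭 D` are natural endomorphisms of the identity functors which an
additive functor `F : C ⥤ D` intertwines (`F.map (α.app X) = β.app (F.obj X)`), then every right
derived functor of `F` intertwines them as well.
-/

set_option autoImplicit false

universe v u v' u'

namespace Groth.Agent.Lib.helper21.CenterDerived

open CategoryTheory CategoryTheory.Limits

/-- naturality of an endomorphism of the identity functor, in usable form -/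
lemma nat {D : Type u'} [Category.{v'} D] (β : 𝟭 D ⟶ 𝟭 D) {A B : D} (f : A ⟶ B) :
    f ≫ β.app B = β.app A ≫ f := β.naturality f

section complex

variable {D : Type u'} [Category.{v'} D] [Abelian D] {ι : Type*} {c : ComplexShape ι}

/-- a natural endomorphism of the identity acts termwise on complexes -/
@[simps]
def centerMap (β : 𝟭 D ⟶ 𝟭 D) (K : HomologicalComplex D c) : K ⟶ K where
  f i := β.app (K.X i)
  comm' i j _ := (nat β (K.d i j)).symm

lemma homologyMap_centerMap (β : 𝟭 D ⟶ 𝟭 D) (K : HomologicalComplex D c) (n : ι) :
    HomologicalComplex.homologyMap (centerMap β K) n = β.app (K.homology n) := by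
  have h1 : HomologicalComplex.cyclesMap (centerMap β K) n = β.app (K.cycles n) := by
    rw [← cancel_mono (K.iCycles n), HomologicalComplex.cyclesMap_i]
    exact nat β (K.iCycles n)
  rw [← cancel_epi (K.homologyπ n), HomologicalComplex.homologyπ_naturality, h1]
  exact (nat β (K.homologyπ n)).symm

end complex

variable {C : Type u} [Category.{v} C] [Abelian C] [HasInjectiveResolutions C]
  {D : Type u'} [Category.{v'} D] [Abelian D] (F : C ⥤ D) [F.Additive]

/-- **the centre acts through right derived functors** -/
theorem rightDerived_map_center (α : 𝟭 C ⟶ 𝟭 C) (β : 𝟭 D ⟶ 𝟭 D)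
    (h : ∀ X, F.map (α.app X) = β.app (F.obj X)) (n : ℕ) (X : C) :
    (F.rightDerived n).map (α.app X) = β.app ((F.rightDerived n).obj X) := by
  let I : InjectiveResolution X := injectiveResolution X
  have w : I.ι ≫ centerMap α I.cocomplex = (CochainComplex.single₀ C).map (α.app X) ≫ I.ι := by
    apply HomologicalComplex.from_single_hom_ext
    rw [HomologicalComplex.comp_f, HomologicalComplex.comp_f]
    simp only [centerMap_f]
    erw [CochainComplex.single₀_map_f_zero]
    exact nat α (I.ι.f 0)
  rw [Functor.rightDerived_map_eq F n (α.app X) (centerMap α I.cocomplex) w]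
  have h2 : (F.mapHomologicalComplex (ComplexShape.up ℕ)).map (centerMap α I.cocomplex) =
      centerMap β ((F.mapHomologicalComplex (ComplexShape.up ℕ)).obj I.cocomplex) := by
    ext i
    exact h _
  rw [Functor.comp_map, h2]
  show _ ≫ HomologicalComplex.homologyMap _ n ≫ _ = _
  rw [homologyMap_centerMap]
  have h3 : (I.isoRightDerivedObj F n).hom ≫
      β.app (((F.mapHomologicalComplex (ComplexShape.up ℕ)).obj I.cocomplex).homology n) =
      β.app ((F.rightDerived n).obj X) ≫ (I.isoRightDerivedObj F n).hom :=
    nat β (I.isoRightDerivedObj F n).hom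
  rw [← Category.assoc]
  exact ((I.isoRightDerivedObj F n).comp_inv_eq).2 h3

end Groth.Agent.Lib.helper21.CenterDerived
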