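import Mathlib
import Groth.Prelude.Def_KLin
import Groth.Agent.Lib.Helper21.CenterDerived

/-!
# `R^p f_*` is linear over the global functions of the base (helper21)

`(R^p f_*)(multiplication by f^♯ a on M) = multiplication by a on R^p f_* M` for `a ∈ Γ(S, ⊤)`.
-/

set_option autoImplicit false

universe u

namespace Groth.Agent.Lib.helper21.RpushLinear

open CategoryTheory CategoryTheory.Limits Opposite TopologicalSpace AlgebraicGeometry

variable {X S : Scheme.{u}} (f : X ⟶ S)

/-- pullback of global functions, typed for `Coh.smulAb` -/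
noncomputable def φ : Coh.Γtop S →+* Coh.Γtop X := f.appTop.hom

/-- multiplication by a global function as an endomorphism of the identity functor -/
noncomputable def smulNat (r : Coh.Γtop X) : 𝟭 X.Modules ⟶ 𝟭 X.Modules where
  app M := Formal.smulModΓ M r
  naturality _ _ g := KLin.comp_smulModΓ g r

lemma pushforward_map_smul (N : X.Modules) (a : Coh.Γtop S) :
    (Scheme.Modules.pushforward f).map (Formal.smulModΓ N (φ f a)) =
      Formal.smulModΓ ((Scheme.Modules.pushforward f).obj N) a := by
  refine Scheme.Modules.hom_ext _ _ fun U => ?_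
  ext m
  change (Formal.smulModΓ N (φ f a)).app (f ⁻¹ᵁ U) m =
    (Formal.smulModΓ ((Scheme.Modules.pushforward f).obj N) a).app U m
  rw [KLin.smulModΓ_app_apply, KLin.smulModΓ_app_apply]
  have key : X.presheaf.map (homOfLE (le_top : f ⁻¹ᵁ U ≤ ⊤)).op (φ f a) =
      (f.app U).hom (S.presheaf.map (homOfLE (le_top : U ≤ ⊤)).op a) := by
    have := f.naturality (homOfLE (le_top : U ≤ ⊤)).op
    exact (congr($this a)).symm
  rw [key]
  rfl

theorem rpush_map_smul [HasInjectiveResolutions X.Modules] (p : ℕ) (M : X.Modules)
    (a : Coh.Γtop S) :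
    (Coh.Rpush f p).map (Formal.smulModΓ M (φ f a)) =
      Formal.smulModΓ ((Coh.Rpush f p).obj M) a :=
  CenterDerived.rightDerived_map_center (Scheme.Modules.pushforward f) (smulNat (φ f a))
    (smulNat a) (fun N => pushforward_map_smul f N a) p M

end Groth.Agent.Lib.helper21.RpushLinear
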