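import Mathlib
import Groth.Agent.Lib.Lead.LocHomology

/-!
# Presheaves on an "affine" space whose restrictions to basic opens are localisations (helper21)

Abstract form of "the presheaf `D(g) ↦ H_g` is a sheaf on the basis of basic opens".  Let `T` be a
space with a family of opens `D : A → Opens T` indexed by a commutative ring, behaving like the basic
opens of `Spec A` (`BasicData`).  Let `P` be a presheaf of abelian groups on `T` with an action
`m : A → End P` (`m 1 = 𝟙`, `m (a * b) = m b ≫ m a`, `m (a + b) = m a + m b`) such that `g` acts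
bijectively on `P(D g)` and `P(D g) → P(D (g * h))` is a localisation at `h` (`IsLocMap`).  Then
`P(D g) → P^#(D g)` is bijective for every `g` (`bijective_toSheafify`).
-/

set_option autoImplicit false

universe u

namespace Groth.Agent.Lib.helper21.BasisSheafify

open CategoryTheory Opposite TopologicalSpace Groth.Agent.Lib.Lead.LocHomology

variable {T : TopCat.{u}} {A : Type u} [CommRing A]

/-- `D` behaves like the basic opens of an affine scheme -/
structure BasicData (D : A → Opens T) : Prop where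
  basis : ∀ (V : Opens T) (x : T), x ∈ V → ∃ g : A, x ∈ D g ∧ D g ≤ V
  mul : ∀ g h, D (g * h) = D g ⊓ D h
  compact : ∀ g, IsCompact (D g : Set T)
  span : ∀ {ι : Type u} [Fintype ι] (h : ι → A) (g : A) (e : ℕ), D g ≤ ⨆ i, D (h i) →
    ∃ n : ℕ, g ^ n ∈ Ideal.span (Set.range fun i => h i ^ e)

variable {D : A → Opens T} (P : (Opens T)ᵒᵖ ⥤ AddCommGrpCat.{u}) (m : A → (P ⟶ P))

section module

variable (m_one : m 1 = 𝟙 P) (m_mul : ∀ a b, m (a * b) = m b ≫ m a)
  (m_add : ∀ a b, m (a + b) = m a + m b)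

include m_add in
lemma m_zero : m 0 = 0 := by
  have h := m_add 0 0
  rw [add_zero] at h
  exact left_eq_add.mp h

/-- the `A`-module structure on the sections of `P` -/
@[reducible] def modV (V : Opens T) : Module A (P.obj (op V)) where
  smul a x := (m a).app (op V) x
  one_smul x := by
    show (m 1).app (op V) x = x
    rw [m_one]; rfl
  mul_smul a b x := by
    show (m (a * b)).app (op V) x = (m a).app (op V) ((m b).app (op V) x)
    rw [m_mul]; rfl
  smul_zero a := map_zero _
  smul_add a x y := map_add _ _ _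
  add_smul a b x := by
    show (m (a + b)).app (op V) x = (m a).app (op V) x + (m b).app (op V) x
    rw [m_add]; rfl
  zero_smul x := by
    show (m 0).app (op V) x = 0
    rw [m_zero P m m_add]; rfl

end module

/-- restriction -/
noncomputable abbrev r {V V' : Opens T} (h : V' ≤ V) : P.obj (op V) →+ P.obj (op V') :=
  (P.map (homOfLE h).op).hom

lemma r_r {V V' V'' : Opens T} (h : V' ≤ V) (h' : V'' ≤ V') (x : P.obj (op V)) :
    r P h' (r P h x) = r P (h'.trans h) x := by
  show (P.map (homOfLE h').op) ((P.map (homOfLE h).op) x) = _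
  rw [← ConcreteCategory.comp_apply, ← Functor.map_comp]
  rfl

lemma r_m {V V' : Opens T} (h : V' ≤ V) (a : A) (x : P.obj (op V)) :
    r P h ((m a).app (op V) x) = (m a).app (op V') (r P h x) := by
  have := (m a).naturality (homOfLE h).op
  exact (ConcreteCategory.congr_hom this x).symm

lemma iterate_eq_pow_smul' {R M : Type*} [Monoid R] [MulAction R M] (g : M → M) (a : R)
    (h : ∀ x, g x = a • x) (n : ℕ) (x : M) : g^[n] x = a ^ n • x := by
  induction n generalizing x with
  | zero => simp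
  | succ n ih => rw [Function.iterate_succ_apply', ih, h, pow_succ', mul_smul]

variable (hD : BasicData D)

include hD in
lemma mul_le_left (g h : A) : D (g * h) ≤ D g := (hD.mul g h).le.trans inf_le_left

include hD in
lemma mul_le_right (g h : A) : D (g * h) ≤ D h := (hD.mul g h).le.trans inf_le_right

include hD in
/-- finite subcovers of `D g` by basic opens -/
lemma exists_finite_subcover (g : A) (h : ↥(D g) → A)
    (hh : ∀ y : ↥(D g), (y : T) ∈ D (h y)) :
    ∃ t : Finset ↥(D g), D g ≤ ⨆ k : {y // y ∈ t}, D (h k.1) := by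
  have hcov : (D g : Set T) ⊆ ⋃ y : ↥(D g), (D (h y) : Set T) := by
    intro x hx
    exact Set.mem_iUnion.mpr ⟨⟨x, hx⟩, hh ⟨x, hx⟩⟩
  obtain ⟨t, ht⟩ := (hD.compact g).elim_finite_subcover (fun y : ↥(D g) => (D (h y) : Set T))
    (fun y => (D (h y)).isOpen) hcov
  refine ⟨t, fun x hx => ?_⟩
  obtain ⟨y, hy⟩ := Set.mem_iUnion.mp (ht hx)
  obtain ⟨hyt, hxy⟩ := Set.mem_iUnion.mp hy
  exact Opens.mem_iSup.mpr ⟨⟨y, hyt⟩, hxy⟩

section main

variable (m_one : m 1 = 𝟙 P) (m_mul : ∀ a b, m (a * b) = m b ≫ m a)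
  (m_add : ∀ a b, m (a + b) = m a + m b)
  (hinv : ∀ g, Function.Bijective ((m g).app (op (D g))).hom)
  (hloc : ∀ (g h : A) (hle : D (g * h) ≤ D g),
    IsLocMap ((m h).app (op (D g))).hom ((m h).app (op (D (g * h)))).hom (r P hle))

local notation "J" => Opens.grothendieckTopology T
local notation "ι" => toSheafify (Opens.grothendieckTopology T) P
local notation "Q" => sheafify (Opens.grothendieckTopology T) P

lemma ι_r {V V' : Opens T} (h : V' ≤ V) (x : P.obj (op V)) :
    (ι).app (op V') (r P h x) = (Q).map (homOfLE h).op ((ι).app (op V) x) := by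
  have := (ι).naturality (homOfLE h).op
  exact ConcreteCategory.congr_hom this x

include hD m_one m_mul m_add hinv hloc in
/-- injectivity -/
theorem injective_toSheafify (g : A) :
    Function.Injective ((ι).app (op (D g))).hom := by
  letI := fun V : Opens T => modV P m m_one m_mul m_add V
  have hsm : ∀ (V : Opens T) (a : A) (x : P.obj (op V)), (m a).app (op V) x = a • x :=
    fun _ _ _ => rfl
  rw [injective_iff_map_eq_zero]
  intro x hx
  have h0 : (ι).app (op (D g)) x = (ι).app (op (D g)) 0 := by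
    rw [map_zero]; exact hx
  have hs := Presheaf.equalizerSieve_mem (J) (ι) x 0 h0
  have hloc' : ∀ y : ↥(D g), ∃ h : A, (y : T) ∈ D h ∧
      r P (mul_le_left hD g h) x = 0 := by
    intro y
    obtain ⟨U, i, hi, hyU⟩ := hs y.1 y.2
    obtain ⟨h, hyh, hhU⟩ := hD.basis U y.1 hyU
    refine ⟨h, hyh, ?_⟩
    have hle : D (g * h) ≤ U := (mul_le_right hD g h).trans hhU
    have h1 : r P (mul_le_left hD g h) x = r P hle (r P (leOfHom i) x) := (r_r P _ _ x).symm
    rw [h1]
    have h2 : r P (leOfHom i) x = 0 := by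
      have : P.map i.op x = P.map i.op 0 := hi
      rw [map_zero] at this
      exact this
    rw [h2, map_zero]
  choose h hyh hx0 using hloc'
  obtain ⟨t, ht⟩ := exists_finite_subcover hD g h hyh
  -- uniform exponent
  have hker : ∀ k : {y // y ∈ t}, ∃ N₀ : ℕ, ∀ N, N₀ ≤ N → (h k.1) ^ N • x = 0 := by
    intro k
    obtain ⟨N₀, hN₀⟩ := (hloc g (h k.1) (mul_le_left hD g (h k.1))).ker_ge x (hx0 k.1)
    refine ⟨N₀, fun N hN => ?_⟩
    rw [← iterate_eq_pow_smul' _ (h k.1) (hsm (D g) (h k.1)) N x]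
    exact hN₀ N hN
  choose N₀ hN₀ using hker
  let N := Finset.univ.sup N₀
  obtain ⟨n, hn⟩ := hD.span (fun k : {y // y ∈ t} => h k.1) g N ht
  obtain ⟨c, hc⟩ := Ideal.mem_span_range_iff_exists_fun.mp hn
  have hgx : g ^ n • x = 0 := by
    rw [← hc, Finset.sum_smul]
    refine Finset.sum_eq_zero fun k _ => ?_
    rw [mul_smul, hN₀ k N (Finset.le_sup (f := N₀) (Finset.mem_univ k)), smul_zero]
  -- `g` acts injectively on `P(D g)`
  have hinj : Function.Injective (((m g).app (op (D g))).hom^[n]) := (hinv g).1.iterate n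
  apply hinj
  rw [iterate_eq_pow_smul' _ g (hsm (D g) g) n x, iterate_eq_pow_smul' _ g (hsm (D g) g) n 0, hgx,
    smul_zero]

include hD m_one m_mul m_add hinv hloc in
/-- surjectivity -/
theorem surjective_toSheafify (g : A) :
    Function.Surjective ((ι).app (op (D g))).hom := by
  classical
  letI := fun V : Opens T => modV P m m_one m_mul m_add V
  have hsm : ∀ (V : Opens T) (a : A) (x : P.obj (op V)), (m a).app (op V) x = a • x :=
    fun _ _ _ => rfl
  have hr_smul : ∀ {V V' : Opens T} (hle : V' ≤ V) (a : A) (x : P.obj (op V)),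
      r P hle (a • x) = a • r P hle x := fun hle a x => r_m P m hle a x
  intro s
  have hs := Presheaf.imageSieve_mem (J) (ι) s
  have hloc' : ∀ y : ↥(D g), ∃ (h : A) (xk : P.obj (op (D (g * h)))), (y : T) ∈ D h ∧
      (ι).app (op (D (g * h))) xk = (Q).map (homOfLE (mul_le_left hD g h)).op s := by
    intro y
    obtain ⟨U, i, ⟨t, ht⟩, hyU⟩ := hs y.1 y.2
    obtain ⟨h, hyh, hhU⟩ := hD.basis U y.1 hyU
    have hle : D (g * h) ≤ U := (mul_le_right hD g h).trans hhU
    refine ⟨h, r P hle t, hyh, ?_⟩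
    rw [ι_r, ht, ← ConcreteCategory.comp_apply, ← Functor.map_comp]
    rfl
  choose h xk hyh hxk using hloc'
  obtain ⟨t, ht⟩ := exists_finite_subcover hD g h hyh
  -- notation for the finite index set
  let I := {y // y ∈ t}
  let hh : I → A := fun k => h k.1
  let xx : ∀ k : I, P.obj (op (D (g * hh k))) := fun k => xk k.1
  have hxx : ∀ k : I, (ι).app (op (D (g * hh k))) (xx k) =
      (Q).map (homOfLE (mul_le_left hD g (hh k))).op s := fun k => hxk k.1
  -- the pairwise intersections
  have hVkl_k : ∀ k l : I, D (g * (hh k * hh l)) ≤ D (g * hh k) := by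
    intro k l
    rw [hD.mul, hD.mul, hD.mul]
    exact inf_le_inf_left _ inf_le_left
  have hVkl_l : ∀ k l : I, D (g * (hh k * hh l)) ≤ D (g * hh l) := by
    intro k l
    rw [hD.mul, hD.mul, hD.mul]
    exact inf_le_inf_left _ inf_le_right
  have hagree : ∀ k l : I, r P (hVkl_k k l) (xx k) = r P (hVkl_l k l) (xx l) := by
    intro k l
    apply injective_toSheafify P m hD m_one m_mul m_add hinv hloc (g * (hh k * hh l))
    show (ι).app _ (r P (hVkl_k k l) (xx k)) = (ι).app _ (r P (hVkl_l k l) (xx l))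
    rw [ι_r, ι_r, hxx, hxx, ← ConcreteCategory.comp_apply, ← ConcreteCategory.comp_apply,
      ← Functor.map_comp, ← Functor.map_comp]
    rfl
  -- lifts to `D g`
  have hlift : ∀ k : I, ∃ N₀ : ℕ, ∀ N, N₀ ≤ N → ∃ y : P.obj (op (D g)),
      r P (mul_le_left hD g (hh k)) y = (hh k) ^ N • xx k := by
    intro k
    obtain ⟨N₀, hN₀⟩ := (hloc g (hh k) (mul_le_left hD g (hh k))).surj_ge (xx k)
    refine ⟨N₀, fun N hN => ?_⟩
    obtain ⟨y, hy⟩ := hN₀ N hN
    exact ⟨y, hy.trans (iterate_eq_pow_smul' _ (hh k) (hsm _ (hh k)) N (xx k))⟩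
  choose N₀ hN₀ using hlift
  let N := Finset.univ.sup N₀
  have hlift' : ∀ k : I, ∃ y : P.obj (op (D g)),
      r P (mul_le_left hD g (hh k)) y = (hh k) ^ N • xx k :=
    fun k => hN₀ k N (Finset.le_sup (f := N₀) (Finset.mem_univ k))
  choose yy hyy using hlift'
  -- comparison on overlaps
  have hz : ∀ k l : I, r P (mul_le_left hD g (hh k * hh l))
      ((hh l) ^ N • yy k - (hh k) ^ N • yy l) = 0 := by
    intro k l
    rw [map_sub, hr_smul, hr_smul]
    have h1 : r P (mul_le_left hD g (hh k * hh l)) (yy k) =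
        r P (hVkl_k k l) (r P (mul_le_left hD g (hh k)) (yy k)) := (r_r P _ _ _).symm
    have h2 : r P (mul_le_left hD g (hh k * hh l)) (yy l) =
        r P (hVkl_l k l) (r P (mul_le_left hD g (hh l)) (yy l)) := (r_r P _ _ _).symm
    rw [h1, h2, hyy, hyy, hr_smul, hr_smul, hagree k l, smul_smul, smul_smul, mul_comm (hh l ^ N) (hh k ^ N), sub_self]
  have hK : ∀ kl : I × I, ∃ K₀ : ℕ, ∀ K, K₀ ≤ K →
      (hh kl.1 * hh kl.2) ^ K • ((hh kl.2) ^ N • yy kl.1 - (hh kl.1) ^ N • yy kl.2) = 0 := by
    rintro ⟨k, l⟩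
    obtain ⟨K₀, hK₀⟩ := (hloc g (hh k * hh l) (mul_le_left hD g (hh k * hh l))).ker_ge _ (hz k l)
    refine ⟨K₀, fun K hK => ?_⟩
    rw [← iterate_eq_pow_smul' _ (hh k * hh l) (hsm (D g) (hh k * hh l)) K]
    exact hK₀ K hK
  choose K₀ hK₀ using hK
  let K := Finset.univ.sup K₀
  have hK' : ∀ k l : I, (hh k * hh l) ^ K • ((hh l) ^ N • yy k - (hh k) ^ N • yy l) = 0 :=
    fun k l => hK₀ (k, l) K (Finset.le_sup (f := K₀) (Finset.mem_univ (k, l)))
  -- corrected lifts
  let y' : I → P.obj (op (D g)) := fun k => (hh k) ^ K • yy k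
  have hy' : ∀ k l : I, (hh l) ^ (N + K) • y' k = (hh k) ^ (N + K) • y' l := by
    intro k l
    have h1 := hK' k l
    rw [smul_sub, sub_eq_zero, smul_smul, smul_smul] at h1
    show (hh l) ^ (N + K) • ((hh k) ^ K • yy k) = (hh k) ^ (N + K) • ((hh l) ^ K • yy l)
    rw [smul_smul, smul_smul]
    have e1 : hh l ^ (N + K) * hh k ^ K = (hh k * hh l) ^ K * hh l ^ N := by ring
    have e2 : hh k ^ (N + K) * hh l ^ K = (hh k * hh l) ^ K * hh k ^ N := by ring
    rw [e1, e2]
    exact h1
  obtain ⟨n, hn⟩ := hD.span hh g (N + K) ht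
  obtain ⟨c, hc⟩ := Ideal.mem_span_range_iff_exists_fun.mp hn
  let x : P.obj (op (D g)) := ∑ k, c k • y' k
  have hx : ∀ l : I, (hh l) ^ (N + K) • x = g ^ n • y' l := by
    intro l
    show (hh l) ^ (N + K) • (∑ k, c k • y' k) = g ^ n • y' l
    rw [Finset.smul_sum, ← hc, Finset.sum_smul]
    refine Finset.sum_congr rfl fun k _ => ?_
    rw [smul_comm, hy' k l, smul_smul]
  -- divide by `g ^ n`
  obtain ⟨x', hx'⟩ := ((hinv g).2.iterate n) x
  rw [iterate_eq_pow_smul' _ g (hsm (D g) g) n x'] at hx'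
  refine ⟨x', ?_⟩
  -- `x'` restricts to `xx l` on `D (g * hh l)`
  have hres : ∀ l : I, r P (mul_le_left hD g (hh l)) x' = xx l := by
    intro l
    have h1 : (g ^ n * (hh l) ^ (N + K)) • (r P (mul_le_left hD g (hh l)) x' - xx l) = 0 := by
      rw [smul_sub, sub_eq_zero]
      calc (g ^ n * (hh l) ^ (N + K)) • r P (mul_le_left hD g (hh l)) x'
          = (hh l) ^ (N + K) • (g ^ n • r P (mul_le_left hD g (hh l)) x') := by
            rw [smul_smul, mul_comm (hh l ^ (N + K)) (g ^ n)]
        _ = r P (mul_le_left hD g (hh l)) ((hh l) ^ (N + K) • x) := by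
            rw [← hr_smul, hx', ← hr_smul]
        _ = g ^ n • r P (mul_le_left hD g (hh l)) ((hh l) ^ K • yy l) := by
            rw [hx l, hr_smul]
        _ = g ^ n • ((hh l) ^ K • ((hh l) ^ N • xx l)) := by
            rw [hr_smul, hyy]
        _ = (g ^ n * (hh l) ^ (N + K)) • xx l := by
            rw [smul_smul, smul_smul, pow_add, mul_assoc, mul_comm (hh l ^ K) (hh l ^ N)]
    -- `g * hh l` acts injectively on `P(D (g * hh l))`
    have h2 : (g * hh l) ^ (n + (N + K)) •
        (r P (mul_le_left hD g (hh l)) x' - xx l) = 0 := by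
      have e : (g * hh l) ^ (n + (N + K)) = (g ^ (N + K) * (hh l) ^ n) * (g ^ n * (hh l) ^ (N + K)) := by
        ring
      rw [e, mul_smul, h1, smul_zero]
    have hinj : Function.Injective (((m (g * hh l)).app (op (D (g * hh l)))).hom^[n + (N + K)]) :=
      (hinv (g * hh l)).1.iterate _
    have h3 : r P (mul_le_left hD g (hh l)) x' - xx l = 0 := by
      apply hinj
      rw [iterate_eq_pow_smul' _ (g * hh l) (hsm _ (g * hh l)),
        iterate_eq_pow_smul' _ (g * hh l) (hsm _ (g * hh l)), h2, smul_zero]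
    exact sub_eq_zero.mp h3
  -- conclude by the sheaf property
  have hQ : TopCat.Presheaf.IsSheaf (Q : TopCat.Presheaf AddCommGrpCat.{u} T) :=
    ((presheafToSheaf (Opens.grothendieckTopology T) AddCommGrpCat.{u}).obj P).property
  refine TopCat.Presheaf.IsSheaf.section_ext hQ (U := op (D g)) (fun y hy => ?_)
  obtain ⟨l, hl⟩ := Opens.mem_iSup.mp (ht hy)
  refine ⟨D (g * hh l), mul_le_left hD g (hh l), ?_, ?_⟩
  · rw [hD.mul]
    exact ⟨hy, hl⟩
  · have := ι_r P (mul_le_left hD g (hh l)) x'
    rw [hres l, hxx l] at this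
    exact this.symm

include hD m_one m_mul m_add hinv hloc in
theorem bijective_toSheafify (g : A) :
    Function.Bijective ((ι).app (op (D g))).hom :=
  ⟨injective_toSheafify P m hD m_one m_mul m_add hinv hloc g,
    surjective_toSheafify P m hD m_one m_mul m_add hinv hloc g⟩

end main

end Groth.Agent.Lib.helper21.BasisSheafify
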