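import Mathlib
import Groth.Agent.Lib.Helper21.LocMV
import Groth.Agent.Lib.Helper21.QcInduction
import Groth.Agent.Lib.Lead.LocModule
import Groth.Agent.Lib.Helper27.SerreVan3

/-!
# Localisation of cohomology on quasi-compact quasi-separated opens (helper21)

`X` a scheme, `M` a quasi-coherent `O_X`-module, `f` a global function.  For every quasi-compact
quasi-separated open `W` of `X` and every `q`, the restriction map
`H^q(W, M) → H^q(W ⊓ X_f, M)` (Prelude's `CohTop.HU`, `CohTop.res`) is a localisation at `f`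
(`IsLocMap` for multiplication by `f`): `loc_of_isCompact`.  No separatedness assumption
(Mayer–Vietoris induction `QcInduction.qc_induction` + `LocMV.loc_sup`); the affine case is
`loc_of_isAffineOpen`.
-/

set_option autoImplicit false

universe u

namespace Groth.Agent.Lib.helper21.LocAffine

open CategoryTheory CategoryTheory.Abelian CategoryTheory.Limits Opposite TopologicalSpace
open AlgebraicGeometry
open Groth.Agent.Lib.Lead.LocHomology Groth.Agent.Lib.helper21.LocExt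
open Groth.Agent.Lib.helper21.LocMV Groth.Agent.Lib.helper7

/-- transport of `IsLocMap` along bijections preserving zero -/
theorem isLocMap_of_equiv' {A B A' B' : Type*} [AddCommGroup A] [AddCommGroup B] [AddCommGroup A']
    [AddCommGroup B'] {μ : A →+ A} {ν : B →+ B} {φ : A →+ B} {μ' : A' →+ A'} {ν' : B' →+ B'}
    {φ' : A' →+ B'} (h : IsLocMap μ ν φ) (eA : A ≃ A') (eB : B ≃ B')
    (hA0 : eA 0 = 0) (hB0 : eB 0 = 0)
    (hμ : ∀ x, eA (μ x) = μ' (eA x)) (hν : ∀ y, eB (ν y) = ν' (eB y))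
    (hφ : ∀ x, eB (φ x) = φ' (eA x)) : IsLocMap μ' ν' φ' := by
  have hμi : ∀ (N : ℕ) x, eA ((μ^[N]) x) = (μ'^[N]) (eA x) := fun N x =>
    (Function.Semiconj.iterate_right (f := eA) (ga := μ) (gb := μ') hμ N) x
  have hνi : ∀ (N : ℕ) y, eB ((ν^[N]) y) = (ν'^[N]) (eB y) := fun N y =>
    (Function.Semiconj.iterate_right (f := eB) (ga := ν) (gb := ν') hν N) y
  refine ⟨?_, ⟨?_, ?_⟩, ?_, ?_⟩
  · intro x'
    obtain ⟨x, rfl⟩ := eA.surjective x'
    rw [← hμ, ← hφ, ← hφ, ← hν, h.comm]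
  · intro y₁ y₂ hy
    obtain ⟨z₁, rfl⟩ := eB.surjective y₁
    obtain ⟨z₂, rfl⟩ := eB.surjective y₂
    rw [← hν, ← hν] at hy
    rw [h.bij.1 (eB.injective hy)]
  · intro y'
    obtain ⟨y, rfl⟩ := eB.surjective y'
    obtain ⟨z, rfl⟩ := h.bij.2 y
    exact ⟨eB z, (hν z).symm⟩
  · intro y'
    obtain ⟨y, rfl⟩ := eB.surjective y'
    obtain ⟨N, x, hx⟩ := h.surj y
    exact ⟨N, eA x, by rw [← hφ, hx, hνi]⟩
  · intro x' hx'
    obtain ⟨x, rfl⟩ := eA.surjective x'
    rw [← hφ] at hx'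
    have : φ x = 0 := eB.injective (by rw [hx', hB0])
    obtain ⟨N, hN⟩ := h.ker x this
    exact ⟨N, by rw [← hμi, hN, hA0]⟩

section top

variable {X : TopCat.{u}} (F : CohTop.Ab X)

/-- `H^0(W, F) ≃ F(W)` -/
noncomputable def e₀ (W : Opens X) : CohTop.HU F 0 W ≃ F.obj.obj (op W) :=
  (Ext.addEquiv₀ (X := (Zf X).obj W) (Y := F)).toEquiv.trans
    (FreeYoneda.homEquiv (Opens.grothendieckTopology X) W F)

lemma e₀_zero (W : Opens X) : e₀ F W 0 = 0 := by
  have h := FreeYoneda.homEquiv_naturality_right (Opens.grothendieckTopology X) W (0 : F ⟶ F)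
    (0 : (Zf X).obj W ⟶ F)
  rw [comp_zero] at h
  show FreeYoneda.homEquiv (Opens.grothendieckTopology X) W F (Ext.addEquiv₀ 0) = 0
  rw [map_zero, h]
  rfl

lemma e₀_HUmap {G : CohTop.Ab X} (φ : F ⟶ G) (W : Opens X) (x : CohTop.HU F 0 W) :
    e₀ G W (CohTop.HUmap φ 0 W x) = φ.hom.app (op W) (e₀ F W x) := by
  obtain ⟨a, rfl⟩ := (Ext.addEquiv₀ (X := (Zf X).obj W) (Y := F)).symm.surjective x
  have h1 : CohTop.HUmap φ 0 W (Ext.addEquiv₀.symm a) = Ext.addEquiv₀.symm (a ≫ φ) := by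
    show (Ext.mk₀ a).comp (Ext.mk₀ φ) (add_zero 0) = Ext.mk₀ (a ≫ φ)
    rw [Ext.mk₀_comp_mk₀]
  rw [h1]
  show FreeYoneda.homEquiv _ W G (Ext.addEquiv₀ (Ext.addEquiv₀.symm (a ≫ φ))) =
    φ.hom.app (op W) (FreeYoneda.homEquiv _ W F (Ext.addEquiv₀ (Ext.addEquiv₀.symm a)))
  rw [AddEquiv.apply_symm_apply, AddEquiv.apply_symm_apply]
  exact FreeYoneda.homEquiv_naturality_right _ W φ a

lemma e₀_res {W W' : Opens X} (h : W' ≤ W) (x : CohTop.HU F 0 W) :
    e₀ F W' (CohTop.res F 0 h x) = F.obj.map (homOfLE h).op (e₀ F W x) := by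
  obtain ⟨a, rfl⟩ := (Ext.addEquiv₀ (X := (Zf X).obj W) (Y := F)).symm.surjective x
  have h1 : CohTop.res F 0 h (Ext.addEquiv₀.symm a) =
      Ext.addEquiv₀.symm ((Zf X).map (homOfLE h) ≫ a) := by
    show (Ext.mk₀ ((Zf X).map (homOfLE h))).comp (Ext.mk₀ a) (zero_add 0) =
      Ext.mk₀ ((Zf X).map (homOfLE h) ≫ a)
    rw [Ext.mk₀_comp_mk₀]
  rw [h1]
  show FreeYoneda.homEquiv _ W' F (Ext.addEquiv₀ (Ext.addEquiv₀.symm _)) =
    F.obj.map (homOfLE h).op (FreeYoneda.homEquiv _ W F (Ext.addEquiv₀ (Ext.addEquiv₀.symm a)))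
  rw [AddEquiv.apply_symm_apply, AddEquiv.apply_symm_apply]
  exact FreeYoneda.homEquiv_naturality_left _ (homOfLE h) F a

end top

section scheme

variable {X : Scheme.{u}} (M : X.Modules) [M.IsQuasicoherent] (f : Γ(X, ⊤))

omit [M.IsQuasicoherent] in
lemma bijective_smul_of_isUnit {V : X.Opens} (r : Γ(X, V)) (hr : IsUnit r) :
    Function.Bijective (fun y : Γ(M, V) => r • y) := by
  obtain ⟨v, rfl⟩ := hr
  refine Function.bijective_iff_has_inverse.2
    ⟨fun y => (↑v⁻¹ : Γ(X, V)) • y, fun x => ?_, fun x => ?_⟩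
  · show (↑v⁻¹ : Γ(X, V)) • ((↑v : Γ(X, V)) • x) = x
    rw [← mul_smul, Units.inv_mul, one_smul]
  · show (↑v : Γ(X, V)) • ((↑v⁻¹ : Γ(X, V)) • x) = x
    rw [← mul_smul, Units.mul_inv, one_smul]

/-- the sections-level statement: `Γ(W, M) → Γ(W ⊓ X_f, M)` is a localisation at `f`, `W` affine -/
theorem isLocMap_sections_res (W : X.Opens) (hW : IsAffineOpen W) :
    IsLocMap ((Coh.smulAb M f).hom.app (op W)).hom
      ((Coh.smulAb M f).hom.app (op (W ⊓ X.basicOpen f))).hom
      ((Coh.toAb M).obj.map (homOfLE (inf_le_left : W ⊓ X.basicOpen f ≤ W)).op).hom where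
  comm x := by
    have := (Coh.smulAb M f).hom.naturality (homOfLE (inf_le_left : W ⊓ X.basicOpen f ≤ W)).op
    exact (ConcreteCategory.congr_hom this x).symm
  bij := by
    -- `f` is a unit on `W ⊓ X_f`
    have hu : IsUnit (res f (W ⊓ X.basicOpen f)) := by
      have h := RingedSpace.isUnit_res_basicOpen X.toRingedSpace f
      have h2 := h.map (X.presheaf.map
        (homOfLE (inf_le_right : W ⊓ X.basicOpen f ≤ X.basicOpen f)).op).hom
      have e : res f (W ⊓ X.basicOpen f) = (X.presheaf.map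
          (homOfLE (inf_le_right : W ⊓ X.basicOpen f ≤ X.basicOpen f)).op).hom
          ((X.toRingedSpace.presheaf.map
            (homOfLE (X.toRingedSpace.basicOpen_le f)).op).hom f) := by
        have := X.presheaf.map_comp (homOfLE (X.toRingedSpace.basicOpen_le f)).op
          (homOfLE (inf_le_right : W ⊓ X.basicOpen f ≤ X.basicOpen f)).op
        exact congrArg (fun φ => φ.hom f) this
      rw [e]
      exact h2
    exact bijective_smul_of_isUnit M _ hu
  surj y := by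
    obtain ⟨n, s, hs⟩ := exists_res_pow_smul_eq_map M hW f y
    exact ⟨n, s, hs.trans (Groth.Agent.Lib.Lead.LocModule.smulAb_iterate M f _ n y).symm⟩
  ker x hx := by
    obtain ⟨n, hn⟩ := exists_res_pow_smul_eq_zero M hW.isCompact f x hx
    exact ⟨n, (Groth.Agent.Lib.Lead.LocModule.smulAb_iterate M f W n x).trans hn⟩

/-- the affine case -/
theorem loc_of_isAffineOpen (W : X.Opens) (hW : IsAffineOpen W) :
    Loc (Coh.smulAb M f) (X.basicOpen f) W := by
  intro q
  cases q with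
  | zero =>
    refine isLocMap_of_equiv' (isLocMap_sections_res M f W hW) (e₀ (Coh.toAb M) W).symm
      (e₀ (Coh.toAb M) (W ⊓ X.basicOpen f)).symm ?_ ?_ ?_ ?_ ?_
    · rw [Equiv.symm_apply_eq, e₀_zero]
    · rw [Equiv.symm_apply_eq, e₀_zero]
    · intro x
      rw [Equiv.symm_apply_eq, e₀_HUmap, Equiv.apply_symm_apply]
    · intro x
      rw [Equiv.symm_apply_eq, e₀_HUmap, Equiv.apply_symm_apply]
    · intro x
      rw [Equiv.symm_apply_eq, e₀_res, Equiv.apply_symm_apply]
  | succ q =>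
    have hW' : IsAffineOpen (W ⊓ X.basicOpen f) := by
      rw [← basicOpen_res_eq f W]
      exact hW.basicOpen _
    haveI := Groth.Agent.Lib.helper27.SerreVan.subsingleton_HU_of_isAffineOpen M W hW q
    haveI := Groth.Agent.Lib.helper27.SerreVan.subsingleton_HU_of_isAffineOpen M _ hW' q
    exact isLocMap_of_subsingleton _ _ _

/-- **Localisation of cohomology**, quasi-compact quasi-separated case. -/
theorem loc_of_isCompact (W : X.Opens) (hW : IsCompact (W : Set X))
    (hqs : IsQuasiSeparated (W : Set X)) : Loc (Coh.smulAb M f) (X.basicOpen f) W :=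
  QcInduction.qc_induction (Loc (Coh.smulAb M f) (X.basicOpen f))
    (fun U hU => loc_of_isAffineOpen M f U hU)
    (fun U V hU hV hUV => loc_sup (Coh.smulAb M f) (X.basicOpen f) U V hU hV hUV) W hW hqs

end scheme

end Groth.Agent.Lib.helper21.LocAffine
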