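import Mathlib
import Groth.Agent.Lib.Helper21.LocAffine
import Groth.Agent.Lib.Helper21.BasisSheafify
import Groth.Agent.Lib.Helper27.RpushSheafify
import Groth.Agent.Lib.Helper27.SerreVan

/-!
# Sections of higher direct images over an affine base (helper21)

`f : X ⟶ S` quasi-compact quasi-separated, `S` affine, `M` quasi-coherent on `X`.  Then for every
`g ∈ Γ(S, ⊤)` the canonical map `H^q(f⁻¹ D(g), M) → Γ(D(g), (V ↦ H^q(f⁻¹V, M))^#)` is bijective
(`bijective_toSheafify_P`), hence `H^q(X, M) ≃+ Γ(S, R^q f_* M)` (`sectionsEquiv`).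
-/

set_option autoImplicit false

universe u

namespace Groth.Agent.Lib.helper21.RpushSections

open CategoryTheory CategoryTheory.Limits Opposite TopologicalSpace AlgebraicGeometry
open Groth.Agent.Lib.Lead.LocHomology Groth.Agent.Lib.helper21.LocMV
open Groth.Agent.Lib.helper21.BasisSheafify

section affine

variable (S : Scheme.{u}) [IsAffine S]

/-- the basic opens of an affine scheme form `BasicData` -/
theorem basicData : BasicData (T := S.toTopCat) (fun g : Γ(S, ⊤) => S.basicOpen g) where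
  basis V x hx := by
    obtain ⟨_, ⟨g, rfl⟩, hxg, hgV⟩ := Opens.isBasis_iff_nbhd.mp (isBasis_basicOpen S) hx
    exact ⟨g, hxg, hgV⟩
  mul g h := S.basicOpen_mul g h
  compact g := ((isAffineOpen_top S).basicOpen g).isCompact
  span {ι} _ h g e hle := by
    have hg : g ∈ (Ideal.span (Set.range fun i => h i ^ e)).radical := by
      rw [← PrimeSpectrum.vanishingIdeal_zeroLocus_eq_radical, PrimeSpectrum.mem_vanishingIdeal]
      intro x hx
      by_contra hgx
      have hxg : x ∈ (PrimeSpectrum.basicOpen g : Opens (PrimeSpectrum Γ(S, ⊤))) := hgx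
      rw [← (isAffineOpen_top S).fromSpec_preimage_basicOpen] at hxg
      obtain ⟨i, hi⟩ := Opens.mem_iSup.1 (hle hxg)
      have hxi : x ∈ ((isAffineOpen_top S).fromSpec ⁻¹ᵁ S.basicOpen (h i)) := hi
      rw [(isAffineOpen_top S).fromSpec_preimage_basicOpen] at hxi
      apply hxi
      have : h i ^ e ∈ x.asIdeal := by
        rw [PrimeSpectrum.mem_zeroLocus] at hx
        exact hx (Ideal.subset_span ⟨i, rfl⟩)
      exact x.isPrime.mem_of_pow_mem _ this
    exact hg

end affine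

section top

variable {X : TopCat.{u}} {F : CohTop.Ab X} (σ : F ⟶ F) (D : Opens X)

lemma isLocMap_of_eq (W W' : Opens X) (h : W' = W ⊓ D) (hle : W' ≤ W) (hL : Loc σ D W) (q : ℕ) :
    IsLocMap (CohTop.HUmap σ q W) (CohTop.HUmap σ q W') (CohTop.res F q hle) := by
  subst h
  exact hL q

end top

variable {X S : Scheme.{u}} (f : X ⟶ S) (M : X.Modules) (q : ℕ)

/-- the presheaf `V ↦ H^q(f⁻¹V, M)` on `S` -/
noncomputable abbrev P : (Opens S)ᵒᵖ ⥤ AddCommGrpCat.{u} :=
  (Opens.map f.base).op ⋙ Sheaf.cohomologyPresheaf.{u} (Coh.toAb M) q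

/-- pullback of global functions, typed for `Coh.smulAb` -/
noncomputable def φ : Γ(S, ⊤) →+* Coh.Γtop X := f.appTop.hom

/-- the action of `Γ(S, ⊤)` on `P` -/
noncomputable def m (a : Γ(S, ⊤)) : P f M q ⟶ P f M q :=
  Functor.whiskerLeft (Opens.map f.base).op
    ((Sheaf.cohomologyPresheafFunctor (Opens.grothendieckTopology X) q).map
      (Coh.smulAb M (φ f a)))

lemma m_app (a : Γ(S, ⊤)) (V : Opens S) :
    ((m f M q a).app (op V)).hom = CohTop.HUmap (Coh.smulAb M (φ f a)) q (f ⁻¹ᵁ V) := rfl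

lemma m_one : m f M q 1 = 𝟙 _ := by
  unfold m
  rw [map_one, Coh.smulAb_one, CategoryTheory.Functor.map_id]
  rfl

lemma m_mul (a b : Γ(S, ⊤)) : m f M q (a * b) = m f M q b ≫ m f M q a := by
  unfold m
  rw [map_mul, Coh.smulAb_mul, CategoryTheory.Functor.map_comp]
  rfl

lemma m_add (a b : Γ(S, ⊤)) : m f M q (a + b) = m f M q a + m f M q b := by
  unfold m
  rw [map_add, Coh.smulAb_add]
  ext V x
  show Abelian.Ext.comp x (Abelian.Ext.mk₀ (Coh.smulAb M (φ f a) + Coh.smulAb M (φ f b)))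
      (add_zero q) =
    Abelian.Ext.comp x (Abelian.Ext.mk₀ (Coh.smulAb M (φ f a))) (add_zero q) +
      Abelian.Ext.comp x (Abelian.Ext.mk₀ (Coh.smulAb M (φ f b))) (add_zero q)
  rw [Abelian.Ext.mk₀_add]
  exact Abelian.Ext.comp_add x _ _ (add_zero q)

variable [QuasiCompact f] [QuasiSeparated f] [IsAffine S] [M.IsQuasicoherent]

lemma isCompact_preimage_basicOpen (g : Γ(S, ⊤)) : IsCompact ((f ⁻¹ᵁ S.basicOpen g : X.Opens) : Set X) :=
  QuasiCompact.isCompact_preimage (f := f) _ (S.basicOpen g).isOpen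
    ((isAffineOpen_top S).basicOpen g).isCompact

lemma isQuasiSeparated_preimage_basicOpen (g : Γ(S, ⊤)) :
    IsQuasiSeparated ((f ⁻¹ᵁ S.basicOpen g : X.Opens) : Set X) :=
  f.isQuasiSeparated_preimage ((isAffineOpen_top S).basicOpen g).isQuasiSeparated

lemma preimage_basicOpen_mul (g h : Γ(S, ⊤)) :
    f ⁻¹ᵁ S.basicOpen (g * h) = f ⁻¹ᵁ S.basicOpen g ⊓ X.basicOpen (φ f h) := by
  rw [S.basicOpen_mul]
  have : f ⁻¹ᵁ S.basicOpen h = X.basicOpen (φ f h) := Scheme.preimage_basicOpen f h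
  rw [← this]
  rfl

theorem hloc (g h : Γ(S, ⊤)) (hle : S.basicOpen (g * h) ≤ S.basicOpen g) :
    IsLocMap ((m f M q h).app (op (S.basicOpen g))).hom
      ((m f M q h).app (op (S.basicOpen (g * h)))).hom
      (r (P f M q) hle) :=
  isLocMap_of_eq (Coh.smulAb M (φ f h)) (X.basicOpen (φ f h))
    (f ⁻¹ᵁ S.basicOpen g) (f ⁻¹ᵁ S.basicOpen (g * h)) (preimage_basicOpen_mul f g h)
    (f.preimage_mono hle)
    (LocAffine.loc_of_isCompact M (φ f h) _ (isCompact_preimage_basicOpen f g)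
      (isQuasiSeparated_preimage_basicOpen f g)) q

theorem hinv (g : Γ(S, ⊤)) :
    Function.Bijective ((m f M q g).app (op (S.basicOpen g))).hom := by
  have h1 := hloc f M q 1 g ((S.basicOpen_mul 1 g).le.trans inf_le_left)
  have h2 := h1.bij
  have e : (1 : Γ(S, ⊤)) * g = g := one_mul g
  rw [e] at h2
  exact h2

/-- `H^q(f⁻¹ D(g), M) → Γ(D(g), (V ↦ H^q(f⁻¹ V, M))^#)` is bijective. -/
theorem bijective_toSheafify_P (g : Γ(S, ⊤)) :
    Function.Bijective ((toSheafify (Opens.grothendieckTopology S) (P f M q)).app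
      (op (S.basicOpen g))).hom :=
  bijective_toSheafify (T := S.toTopCat) (P f M q) (m f M q) (basicData S) (m_one f M q)
    (m_mul f M q) (m_add f M q) (hinv f M q) (hloc f M q) g

theorem bijective_toSheafify_P_top :
    Function.Bijective ((toSheafify (Opens.grothendieckTopology S) (P f M q)).app
      (op (⊤ : Opens S))).hom := by
  have h := bijective_toSheafify_P f M q 1
  have e : S.basicOpen (1 : Γ(S, ⊤)) = ⊤ := S.basicOpen_one
  rw [e] at h
  exact h

/-- `H^q(X, M) ≃+ Γ(S, R^q f_* M)` for `f` qcqs, `S` affine, `M` quasi-coherent. -/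
theorem nonempty_sectionsEquiv :
    Nonempty (Coh.HH X M q ≃+ ↑(((Coh.RpushAb f q).obj (Coh.toAb M)).obj.obj (op ⊤))) := by
  obtain ⟨e⟩ := Groth.Agent.Lib.helper27.RpushSheafify.rpush_iso_top f.base (Coh.toAb M) q
  let e1 : CohTop.HU (Coh.toAb M) q ⊤ ≃+ Coh.HH X M q :=
    Groth.Agent.Lib.helper27.SerreVan.HEquivHU (Coh.toAb M) q
  let e2 : (P f M q).obj (op (⊤ : Opens S)) ≃+
      (sheafify (Opens.grothendieckTopology S) (P f M q)).obj (op (⊤ : Opens S)) :=
    AddEquiv.ofBijective _ (bijective_toSheafify_P_top f M q)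
  let e3 := (((sheafToPresheaf _ _).mapIso e).app (op (⊤ : Opens S))).addCommGroupIsoToAddEquiv
  exact ⟨(e1.symm.trans e2).trans e3.symm⟩

end Groth.Agent.Lib.helper21.RpushSections
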