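import Mathlib
import Groth.Agent.Lib.Helper21.RpushSections
import Groth.Agent.Lib.Helper21.RpushTheta
import Groth.Agent.Lib.Helper21.RpushLinear
import Groth.Agent.Lib.Helper16.QCohPushLoc

/-!
# Higher direct images of quasi-coherent modules over an affine base are quasi-coherent (helper21)
-/

set_option autoImplicit false

universe u

namespace Groth.Agent.Lib.helper21.RpushQCohAffine

open CategoryTheory CategoryTheory.Limits Opposite TopologicalSpace AlgebraicGeometry
open Groth.Agent.Lib.Lead.LocHomology Groth.Agent.Lib.helper21.LocMV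
open Groth.Agent.Lib.helper21.BasisSheafify Groth.Agent.Lib.helper21.RpushSections

variable {X S : Scheme.{u}} (f : X ⟶ S) (M : X.Modules) (q : ℕ)

section P

variable [QuasiCompact f] [QuasiSeparated f] [IsAffine S] [M.IsQuasicoherent]

lemma isCompact_preimage_top : IsCompact ((f ⁻¹ᵁ (⊤ : S.Opens) : X.Opens) : Set X) :=
  QuasiCompact.isCompact_preimage (f := f) _ (⊤ : S.Opens).isOpen (isAffineOpen_top S).isCompact

lemma isQuasiSeparated_preimage_top :
    IsQuasiSeparated ((f ⁻¹ᵁ (⊤ : S.Opens) : X.Opens) : Set X) :=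
  f.isQuasiSeparated_preimage (isAffineOpen_top S).isQuasiSeparated

lemma preimage_basicOpen_eq (a : Γ(S, ⊤)) :
    f ⁻¹ᵁ S.basicOpen a = f ⁻¹ᵁ (⊤ : S.Opens) ⊓ X.basicOpen (φ f a) := by
  have : f ⁻¹ᵁ S.basicOpen a = X.basicOpen (φ f a) := Scheme.preimage_basicOpen f a
  rw [this]
  exact (top_inf_eq _).symm

/-- localisation for the presheaf `V ↦ H^q(f⁻¹V, M)` between `⊤` and `D(a)` -/
theorem isLocMap_P (a : Γ(S, ⊤)) :
    IsLocMap ((m f M q a).app (op (⊤ : S.Opens))).hom
      ((m f M q a).app (op (S.basicOpen a))).hom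
      (r (P f M q) (le_top : S.basicOpen a ≤ ⊤)) :=
  isLocMap_of_eq (Coh.smulAb M (φ f a)) (X.basicOpen (φ f a))
    (f ⁻¹ᵁ (⊤ : S.Opens)) (f ⁻¹ᵁ S.basicOpen a) (preimage_basicOpen_eq f a)
    (f.preimage_mono le_top)
    (LocAffine.loc_of_isCompact M (φ f a) _ (isCompact_preimage_top f)
      (isQuasiSeparated_preimage_top f)) q

/-- localisation for the sheafification of `V ↦ H^q(f⁻¹V, M)` between `⊤` and `D(a)` -/
theorem isLocMap_sheafify (a : Γ(S, ⊤)) :
    IsLocMap ((sheafifyMap (Opens.grothendieckTopology S) (m f M q a)).app (op (⊤ : S.Opens))).hom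
      ((sheafifyMap (Opens.grothendieckTopology S) (m f M q a)).app (op (S.basicOpen a))).hom
      (r (sheafify (Opens.grothendieckTopology S) (P f M q)) (le_top : S.basicOpen a ≤ ⊤)) := by
  refine LocAffine.isLocMap_of_equiv' (isLocMap_P f M q a)
    (Equiv.ofBijective _ (bijective_toSheafify_P_top f M q))
    (Equiv.ofBijective _ (bijective_toSheafify_P f M q a))
    (map_zero ((toSheafify (Opens.grothendieckTopology S) (P f M q)).app (op (⊤ : S.Opens))).hom)
    (map_zero ((toSheafify (Opens.grothendieckTopology S) (P f M q)).app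
      (op (S.basicOpen a))).hom) ?_ ?_ ?_
  · intro x
    have := toSheafify_naturality (Opens.grothendieckTopology S) (m f M q a)
    exact ConcreteCategory.congr_hom (congrArg (fun t => t.app (op (⊤ : S.Opens))) this) x
  · intro x
    have := toSheafify_naturality (Opens.grothendieckTopology S) (m f M q a)
    exact ConcreteCategory.congr_hom (congrArg (fun t => t.app (op (S.basicOpen a))) this) x
  · intro x
    exact ι_r (P f M q) (le_top : S.basicOpen a ≤ ⊤) x

end P

section G

variable [HasInjectiveResolutions X.Modules]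

/-- the natural identification intertwines multiplication by `a` with the action on the presheaf
`V ↦ H^q(f⁻¹V, M)` -/
lemma theta_smul
    (Θ : Coh.Rpush f q ⋙ SheafOfModules.toSheaf.{u} S.ringCatSheaf ≅
      SheafOfModules.toSheaf.{u} X.ringCatSheaf ⋙ RpushTheta.Q f q) (a : Γ(S, ⊤)) :
    Coh.smulAb ((Coh.Rpush f q).obj M) a ≫ Θ.hom.app M =
      Θ.hom.app M ≫ (RpushTheta.Q f q).map (Coh.smulAb M (φ f a)) := by
  have h1 := Θ.hom.naturality (Formal.smulModΓ M (φ f a))
  have h2 : (Coh.Rpush f q).map (Formal.smulModΓ M (φ f a)) =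
      Formal.smulModΓ ((Coh.Rpush f q).obj M) a := RpushLinear.rpush_map_smul f q M a
  rw [Functor.comp_map, h2] at h1
  exact h1

lemma theta_smul_apply
    (Θ : Coh.Rpush f q ⋙ SheafOfModules.toSheaf.{u} S.ringCatSheaf ≅
      SheafOfModules.toSheaf.{u} X.ringCatSheaf ⋙ RpushTheta.Q f q) (a : Γ(S, ⊤)) (V : S.Opens)
    (x : (Coh.toAb ((Coh.Rpush f q).obj M)).obj.obj (op V)) :
    ((Θ.hom.app M).hom.app (op V)).hom
        (((Coh.smulAb ((Coh.Rpush f q).obj M) a).hom.app (op V)).hom x) =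
      ((sheafifyMap (Opens.grothendieckTopology S) (m f M q a)).app (op V)).hom
        (((Θ.hom.app M).hom.app (op V)).hom x) := by
  have h := theta_smul f M q Θ a
  have h' := congrArg (fun t => (t.hom.app (op V)).hom x) h
  exact h'

lemma theta_res
    (Θ : Coh.Rpush f q ⋙ SheafOfModules.toSheaf.{u} S.ringCatSheaf ≅
      SheafOfModules.toSheaf.{u} X.ringCatSheaf ⋙ RpushTheta.Q f q) {V V' : S.Opens} (h : V' ≤ V)
    (x : (Coh.toAb ((Coh.Rpush f q).obj M)).obj.obj (op V)) :
    ((Θ.hom.app M).hom.app (op V')).hom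
        (((Coh.toAb ((Coh.Rpush f q).obj M)).obj.map (homOfLE h).op).hom x) =
      r (sheafify (Opens.grothendieckTopology S) (P f M q)) h
        (((Θ.hom.app M).hom.app (op V)).hom x) := by
  have := (Θ.hom.app M).hom.naturality (homOfLE h).op
  exact ConcreteCategory.congr_hom this x

/-- the sections of `Θ` as a bijection -/
noncomputable def thetaEquiv
    (Θ : Coh.Rpush f q ⋙ SheafOfModules.toSheaf.{u} S.ringCatSheaf ≅
      SheafOfModules.toSheaf.{u} X.ringCatSheaf ⋙ RpushTheta.Q f q) (V : S.Opens) :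
    (Coh.toAb ((Coh.Rpush f q).obj M)).obj.obj (op V) ≃+
      (sheafify (Opens.grothendieckTopology S) (P f M q)).obj (op V) :=
  (((sheafToPresheaf _ _).mapIso (Θ.app M)).app (op V)).addCommGroupIsoToAddEquiv

lemma thetaEquiv_apply
    (Θ : Coh.Rpush f q ⋙ SheafOfModules.toSheaf.{u} S.ringCatSheaf ≅
      SheafOfModules.toSheaf.{u} X.ringCatSheaf ⋙ RpushTheta.Q f q) (V : S.Opens)
    (x : (Coh.toAb ((Coh.Rpush f q).obj M)).obj.obj (op V)) :
    thetaEquiv f M q Θ V x = ((Θ.hom.app M).hom.app (op V)).hom x := rfl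

variable [QuasiCompact f] [QuasiSeparated f] [IsAffine S] [M.IsQuasicoherent]

/-- **localisation for `R^q f_* M`** between `⊤` and `D(a)` -/
theorem isLocMap_rpush (a : Γ(S, ⊤)) :
    IsLocMap ((Coh.smulAb ((Coh.Rpush f q).obj M) a).hom.app (op (⊤ : S.Opens))).hom
      ((Coh.smulAb ((Coh.Rpush f q).obj M) a).hom.app (op (S.basicOpen a))).hom
      ((Coh.toAb ((Coh.Rpush f q).obj M)).obj.map
        (homOfLE (le_top : S.basicOpen a ≤ ⊤)).op).hom := by
  obtain ⟨Θ⟩ := RpushTheta.nonempty_theta f q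
  refine LocAffine.isLocMap_of_equiv' (isLocMap_sheafify f M q a)
    (thetaEquiv f M q Θ ⊤).symm.toEquiv (thetaEquiv f M q Θ (S.basicOpen a)).symm.toEquiv
    (map_zero (thetaEquiv f M q Θ ⊤).symm) (map_zero (thetaEquiv f M q Θ (S.basicOpen a)).symm)
    ?_ ?_ ?_
  · intro x
    show (thetaEquiv f M q Θ ⊤).symm _ = _
    rw [AddEquiv.symm_apply_eq, thetaEquiv_apply, theta_smul_apply]
    congr 1
    exact ((thetaEquiv f M q Θ ⊤).apply_symm_apply x).symm
  · intro x
    show (thetaEquiv f M q Θ (S.basicOpen a)).symm _ = _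
    rw [AddEquiv.symm_apply_eq, thetaEquiv_apply, theta_smul_apply]
    congr 1
    exact ((thetaEquiv f M q Θ (S.basicOpen a)).apply_symm_apply x).symm
  · intro x
    show (thetaEquiv f M q Θ (S.basicOpen a)).symm _ = _
    rw [AddEquiv.symm_apply_eq, thetaEquiv_apply, theta_res]
    congr 1
    exact ((thetaEquiv f M q Θ ⊤).apply_symm_apply x).symm

/-- **`R^q f_* M` is quasi-coherent** for `f` qcqs, `M` quasi-coherent and an affine base. -/
theorem isQuasicoherent_rpush : ((Coh.Rpush f q).obj M).IsQuasicoherent := by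
  refine Groth.Agent.Lib.helper16.QCohPushLoc.isQuasicoherent_of_loc_cover
    ((Coh.Rpush f q).obj M) (fun _ : PUnit.{u + 1} => (⊤ : S.Opens))
    (fun _ => isAffineOpen_top S) (by simp) ?_ ?_
  · intro _ a s hs
    obtain ⟨N, hN⟩ := (isLocMap_rpush f M q a).ker s hs
    refine ⟨N, ?_⟩
    refine Eq.trans ?_ hN
    refine (iterate_eq_pow_smul' _ a (fun x => ?_) N s).symm
    rw [Coh.smulAb_app]
    have h1 : Coh.resTop S (op (⊤ : S.Opens)) a = a := by
      show (S.ringCatSheaf.obj.map (𝟙 (op (⊤ : S.Opens)))).hom a = a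
      rw [CategoryTheory.Functor.map_id]
      rfl
    rw [h1]
    rfl
  · intro _ a t
    obtain ⟨N, x, hx⟩ := (isLocMap_rpush f M q a).surj t
    refine ⟨N, x, ?_⟩
    refine Eq.trans hx ?_
    refine iterate_eq_pow_smul' _ (S.presheaf.map (homOfLE (S.basicOpen_le a)).op a)
      (fun y => ?_) N t
    rw [Coh.smulAb_app]
    rfl

end G

end Groth.Agent.Lib.helper21.RpushQCohAffine
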