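import Mathlib
import Groth.Agent.Lib.Helper21.GCChart
import Groth.Agent.Lib.Helper17.FlatOver6
import Groth.Agent.Lib.Helper17.FlatOver7
import Groth.Agent.Lib.Helper11.CounitEpi
import Groth.Agent.Lib.Lead.RpushCoh

/-!
# The Grothendieck complex over an affine open of a locally Noetherian base (helper21)

`f : X ⟶ Y` proper, `Y` locally Noetherian, `F` coherent on `X` and flat over `Y`, `V ⊆ Y` an affine open,
`A = Γ(Y, V)`.  Then there is a bounded above complex `L` of finite free `A`-modules with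
* `Γ(V, R^p f_* F) ≃ₗ[A] H^p(L)`;
* `dRank L p x = fiberRank f F p (hV.fromSpec x)` and `H^p(X_y, F_y) = 0 ↔ H^p(L ⊗ κ(x)) = 0` (`y = hV.fromSpec x`).
-/

set_option autoImplicit false
universe u

open CategoryTheory CategoryTheory.Limits Opposite TopologicalSpace AlgebraicGeometry

namespace Groth.Agent.Lib.helper21.GCBase

open Groth.Agent.Lib.helper21.GCFibre AlgebraicGeometry.Scheme.Modules

section chart

variable {X Y : Scheme.{u}} (f : X ⟶ Y) {V : Y.Opens} (hV : IsAffineOpen V)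

/-- the structure morphism of `f⁻¹V` over `Spec Γ(Y, V)` -/
noncomputable def fA : (↑(f ⁻¹ᵁ V) : Scheme.{u}) ⟶ Spec (CommRingCat.of Γ(Y, V)) :=
  (f ∣_ V) ≫ hV.isoSpec.hom

/-- `f⁻¹V` as a scheme over `Spec Γ(Y, V)` -/
@[reducible] noncomputable def overA :
    (↑(f ⁻¹ᵁ V) : Scheme.{u}).Over (Spec (CommRingCat.of Γ(Y, V))) := ⟨fA f hV⟩

theorem isPullback_chart :
    IsPullback (f ⁻¹ᵁ V).ι (fA f hV) f hV.fromSpec := by
  have h0 : IsPullback (f ⁻¹ᵁ V).ι (f ∣_ V) f V.ι := (isPullback_morphismRestrict f V).flip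
  refine IsPullback.of_iso h0 (Iso.refl _) (Iso.refl _) hV.isoSpec (Iso.refl _) ?_ ?_ ?_ ?_
  · simp
  · simp [fA]
  · simp
  · rw [Iso.refl_hom, Category.comp_id]
    exact (hV.isoSpec_hom_fromSpec).symm

instance [IsProper f] : IsProper (fA f hV) := by
  unfold fA
  haveI : IsProper (f ∣_ V) := MorphismProperty.of_isPullback (isPullback_morphismRestrict f V).flip
    inferInstance
  infer_instance

variable (F : X.Modules)

/-- the restriction of `F` to `f⁻¹V` -/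
noncomputable abbrev FA : (↑(f ⁻¹ᵁ V) : Scheme.{u}).Modules := (restrictFunctor (f ⁻¹ᵁ V).ι).obj F

/-- `F_A ≅ i^* F` -/
noncomputable def eF : FA f (V := V) F ≅ (Scheme.Modules.pullback (f ⁻¹ᵁ V).ι).obj F :=
  (restrictFunctorIsoPullback (f ⁻¹ᵁ V).ι).app F

theorem isCoh_FA (hF : Coh.IsCoh F) : Coh.IsCoh (FA f (V := V) F) :=
  Groth.Agent.Lib.helper11.CounitEpi.isCoh_restrict hF (f ⁻¹ᵁ V)

theorem isFlatOver_FA [F.IsQuasicoherent] (hfl : FlatMod.IsFlatOver f F) :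
    FlatMod.IsFlatOver (fA f hV) (FA f (V := V) F) := by
  rw [Groth.Agent.Lib.helper17.FlatOver7.isFlatOver_iff_of_iso (fA f hV) (eF f (V := V) F)]
  intro x'
  exact (Groth.Agent.Lib.helper17.FlatOver6.isFlatOverAt_baseChange_both
    (isPullback_chart f hV) F x').1 (hfl _)

end chart

section complex

variable {X Y : Scheme.{u}} (f : X ⟶ Y) [IsProper f] [IsLocallyNoetherian Y]
  {V : Y.Opens} (hV : IsAffineOpen V)
  (F : X.Modules) (hF : Coh.IsCoh F) (hfl : FlatMod.IsFlatOver f F)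

include hF hfl in
/-- **the Grothendieck complex over an affine open `V` of the base**, with the fibre dictionary -/
theorem exists_complex_chart :
    letI := overA f hV
    ∃ L : CochainComplex (ModuleCat.{u} Γ(Y, V)) ℤ,
      (∀ i, Module.Finite Γ(Y, V) (L.X i) ∧ Module.Free Γ(Y, V) (L.X i)) ∧
      (∃ N : ℕ, ∀ i : ℤ, (N : ℤ) ≤ i → IsZero (L.X i)) ∧
      (∀ p : ℕ, Nonempty (L.homology (p : ℤ) ≃ₗ[Γ(Y, V)]
        Coh.HH (↑(f ⁻¹ᵁ V) : Scheme.{u}) (FA f (V := V) F) p)) ∧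
      (∀ i : ℤ, i < 0 → IsZero (L.homology i)) ∧
      (∀ (B : Type u) [CommRing B] [Algebra Γ(Y, V) B] (i : ℤ), i < 0 →
        IsZero ((CohIII.bcCx (algebraMap Γ(Y, V) B) L).homology i)) ∧
      Computes Γ(Y, V) (↑(f ⁻¹ᵁ V) : Scheme.{u}) (FA f (V := V) F) L ∧
      (∀ (x : ↑(Spec (CommRingCat.of Γ(Y, V)))) (p : ℕ),
        CohIII.dRank L (p : ℤ) x = CohIII.fiberRank f F p (hV.fromSpec x)) ∧
      (∀ (x : ↑(Spec (CommRingCat.of Γ(Y, V)))) (p : ℕ),
        Subsingleton (CohIII.fiberH f F (hV.fromSpec x) p) ↔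
          IsZero ((CohIII.bcCx (algebraMap Γ(Y, V) x.asIdeal.ResidueField) L).homology (p : ℤ))) := by
  letI := overA f hV
  haveI : IsNoetherianRing Γ(Y, V) := IsLocallyNoetherian.component_noetherian ⟨V, hV⟩
  haveI : F.IsQuasicoherent := hF.1
  haveI : IsProper ((↑(f ⁻¹ᵁ V) : Scheme.{u}) ↘ Spec (CommRingCat.of Γ(Y, V))) :=
    inferInstanceAs (IsProper (fA f hV))
  obtain ⟨L, h1, h2, h3, h4, h5, h6⟩ :=
    Groth.Agent.Lib.helper21.GCCech.exists_grothendieck_complex' Γ(Y, V)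
      (↑(f ⁻¹ᵁ V) : Scheme.{u}) (FA f (V := V) F) (isCoh_FA f F hF) (isFlatOver_FA f hV F hfl)
  have h6' : Computes Γ(Y, V) (↑(f ⁻¹ᵁ V) : Scheme.{u}) (FA f (V := V) F) L := h6
  refine ⟨L, h1, h2, h3, h4, h5, h6', ?_, ?_⟩
  · intro x p
    exact Groth.Agent.Lib.helper21.GCChart.dRank_eq_fiberRank f Γ(Y, V) hV.fromSpec (f ⁻¹ᵁ V).ι
      (isPullback_chart f hV) x F (FA f (V := V) F) (eF f (V := V) F) L h6' p
  · intro x p
    exact Groth.Agent.Lib.helper21.GCChart.subsingleton_fiberH_iff f Γ(Y, V) hV.fromSpec (f ⁻¹ᵁ V).ι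
      (isPullback_chart f hV) x F (FA f (V := V) F) (eF f (V := V) F) L h6' p

end complex

section sections

open Groth.Agent.Lib.Lead.RpushCoh Groth.Agent.Lib.helper21.RpushSections
  Groth.Agent.Lib.helper21.RpushQCohAffine Groth.Agent.Lib.helper21

variable {X Y : Scheme.{u}} (f : X ⟶ Y) [QuasiCompact f] [QuasiSeparated f]
  [HasInjectiveResolutions X.Modules]
  {V : Y.Opens} (hV : IsAffineOpen V) (F : X.Modules) [F.IsQuasicoherent] (p : ℕ)

/-- restriction of sections from `V` to `V.ι ''ᵁ ⊤` (the same open) -/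
noncomputable def toTop (G : Y.Modules) : Γ(G, V) →+ Γ(G.restrict V.ι, ⊤) :=
  (G.presheaf.map (homOfLE (le_of_eq V.ι_image_top)).op).hom

lemma toTop_bijective (G : Y.Modules) : Function.Bijective (toTop (V := V) G) := by
  have : IsIso (G.presheaf.map (homOfLE (le_of_eq V.ι_image_top)).op) := by
    have : IsIso (homOfLE (le_of_eq V.ι_image_top)) :=
      ⟨homOfLE (le_of_eq V.ι_image_top.symm), rfl, rfl⟩
    infer_instance
  exact ConcreteCategory.bijective_of_isIso (G.presheaf.map (homOfLE (le_of_eq V.ι_image_top)).op)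

lemma toTop_smul (G : Y.Modules) (a : Γ(Y, V)) (s : Γ(G, V)) :
    toTop (V := V) G (a • s) =
      (V.topIso.inv.hom a : Γ((↑V : Scheme.{u}), ⊤)) • toTop (V := V) G s := by
  have h1 := Scheme.Modules.map_smul G (homOfLE (le_of_eq V.ι_image_top)) a s
  have h2 : (V.topIso.inv.hom a : Γ((↑V : Scheme.{u}), ⊤)) • toTop (V := V) G s =
      ((G.restrict V.ι).smul (V.topIso.inv.hom a)).hom (toTop (V := V) G s) := rfl
  rw [h2]
  have h3 : (G.restrict V.ι).smul (V.topIso.inv.hom a) =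
      G.smul ((V.ι.appIso ⊤).inv (V.topIso.inv.hom a)) := rfl
  rw [h3, Scheme.Opens.ι_appIso]
  exact h1

lemma toGlobal_fA (a : Γ(Y, V)) :
    Coh.toGlobal (A := Γ(Y, V)) (fA f hV) a = φ (f ∣_ V) (V.topIso.inv.hom a) := by
  show ((fA f hV).appTop).hom ((Scheme.ΓSpecIso (CommRingCat.of Γ(Y, V))).inv.hom a) =
    (f ∣_ V).appTop.hom (V.topIso.inv.hom a)
  unfold fA
  rw [Scheme.Hom.comp_appTop, hV.isoSpec_hom_appTop]
  show (f ∣_ V).appTop.hom (V.topIso.inv.hom ((Scheme.ΓSpecIso Γ(Y, V)).hom.hom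
    ((Scheme.ΓSpecIso Γ(Y, V)).inv.hom a))) = _
  congr 2
  exact ConcreteCategory.congr_hom (Scheme.ΓSpecIso Γ(Y, V)).inv_hom_id a

/-- **sections of `R^p f_* F` over an affine open `V`** are `H^p(f⁻¹V, F)`, linearly over `Γ(Y, V)` -/
theorem nonempty_sections_rpush_equiv :
    letI := overA f hV
    Nonempty (Γ((Coh.Rpush f p).obj F, V) ≃ₗ[Γ(Y, V)]
      Coh.HH (↑(f ⁻¹ᵁ V) : Scheme.{u}) (FA f (V := V) F) p) := by
  letI := overA f hV
  haveI : IsAffine (↑V : Scheme.{u}) := hV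
  obtain ⟨e₁⟩ := ModOpenBC.nonempty_restrict_rpush_iso f V F p
  obtain ⟨Θ⟩ := RpushTheta.nonempty_theta (f ∣_ V) p
  let G := (Coh.Rpush f p).obj F
  let N := FA f (V := V) F
  let E₀ := secEquiv (f ∣_ V) N p Θ
  have hE₀ : ∀ (r : Γ((↑V : Scheme.{u}), ⊤)) (x : Γ((Coh.Rpush (f ∣_ V) p).obj N, ⊤)),
      E₀ (r • x) = Sheaf.H.map (Coh.smulAb N (φ (f ∣_ V) r)) p (E₀ x) := by
    intro r x
    have h1 : r • x = ((Coh.smulAb ((Coh.Rpush (f ∣_ V) p).obj N) r).hom.app (op ⊤)).hom x := by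
      have := Coh.smulAb_app ((Coh.Rpush (f ∣_ V) p).obj N) r (op ⊤) x
      refine Eq.trans ?_ this.symm
      have h1 : Coh.resTop (↑V : Scheme.{u}) (op (⊤ : (↑V : Scheme.{u}).Opens)) r = r := by
        show ((↑V : Scheme.{u}).ringCatSheaf.obj.map (𝟙 (op (⊤ : (↑V : Scheme.{u}).Opens)))).hom r = r
        rw [CategoryTheory.Functor.map_id]
        rfl
      rw [h1]
      rfl
    rw [h1]
    exact secEquiv_smul (f ∣_ V) N p Θ r x
  let E : Γ(G, V) ≃+ Coh.HH (↑(f ⁻¹ᵁ V) : Scheme.{u}) N p :=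
    ((AddEquiv.ofBijective (toTop (V := V) G) (toTop_bijective G)).trans
      ((asIso (e₁.hom.app ⊤)).addCommGroupIsoToAddEquiv)).trans E₀
  refine ⟨{ E with map_smul' := fun a s => ?_ }⟩
  show E₀ ((e₁.hom.app ⊤).hom (toTop (V := V) G (a • s))) =
    a • E₀ ((e₁.hom.app ⊤).hom (toTop (V := V) G s))
  rw [toTop_smul, Scheme.Modules.Hom.app_smul, hE₀]
  show _ = Sheaf.H.map (Coh.smulAb N (Coh.toGlobal (A := Γ(Y, V)) (fA f hV) a)) p _
  rw [toGlobal_fA]

end sections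

section main

variable {X Y : Scheme.{u}} (f : X ⟶ Y) [IsProper f] [IsLocallyNoetherian Y]
  [HasInjectiveResolutions X.Modules]
  {V : Y.Opens} (hV : IsAffineOpen V)
  (F : X.Modules) (hF : Coh.IsCoh F) (hfl : FlatMod.IsFlatOver f F)

include hF hfl in
/-- **Cohomology and base change, local structure**: over an affine open `V` of a locally Noetherian base, the
higher direct images of a flat coherent sheaf along a proper morphism are computed by a bounded above complex `L`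
of finite free `Γ(Y, V)`-modules, whose fibre ranks are the dimensions of the cohomology of the fibres. -/
theorem exists_complex_rpush :
    ∃ L : CochainComplex (ModuleCat.{u} Γ(Y, V)) ℤ,
      (∀ i, Module.Finite Γ(Y, V) (L.X i) ∧ Module.Free Γ(Y, V) (L.X i)) ∧
      (∃ N : ℕ, ∀ i : ℤ, (N : ℤ) ≤ i → IsZero (L.X i)) ∧
      (∀ p : ℕ, Nonempty (Γ((Coh.Rpush f p).obj F, V) ≃ₗ[Γ(Y, V)] L.homology (p : ℤ))) ∧
      (∀ i : ℤ, i < 0 → IsZero (L.homology i)) ∧
      (∀ (B : Type u) [CommRing B] [Algebra Γ(Y, V) B] (i : ℤ), i < 0 →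
        IsZero ((CohIII.bcCx (algebraMap Γ(Y, V) B) L).homology i)) ∧
      (∀ (x : ↑(Spec (CommRingCat.of Γ(Y, V)))) (p : ℕ),
        CohIII.dRank L (p : ℤ) x = CohIII.fiberRank f F p (hV.fromSpec x)) ∧
      (∀ (x : ↑(Spec (CommRingCat.of Γ(Y, V)))) (p : ℕ),
        Subsingleton (CohIII.fiberH f F (hV.fromSpec x) p) ↔
          IsZero ((CohIII.bcCx (algebraMap Γ(Y, V) x.asIdeal.ResidueField) L).homology (p : ℤ))) := by
  haveI : F.IsQuasicoherent := hF.1
  obtain ⟨L, h1, h2, h3, h4, h5, -, h7, h8⟩ := exists_complex_chart f hV F hF hfl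
  refine ⟨L, h1, h2, fun p => ?_, h4, h5, h7, h8⟩
  obtain ⟨e⟩ := h3 p
  obtain ⟨e'⟩ := nonempty_sections_rpush_equiv f hV F p
  exact ⟨e'.trans e.symm⟩

end main

end Groth.Agent.Lib.helper21.GCBase
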