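import Mathlib

/-!
# helper21: a local freeness criterion avoiding base-change compatibilities

* `bijective_of_addEquiv`: a ring map `φ : R → S` such that `S ≃ R` as `R`-modules is bijective.
* `core_local`: over a local ring, `δ : W → F` between finite free modules with
  `dim ker (δ ⊗ k) = 1` and `ker δ` a faithful module has `ker δ ≃ R`.
-/

set_option autoImplicit false
universe u
open TensorProduct

namespace Groth.Agent.Lib.helper21.LocFree1

/-- **Ring argument**: if `S` is free of rank one over `R` (through `φ`), then `φ` is bijective. -/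
theorem bijective_of_addEquiv {R S : Type*} [CommRing R] [CommRing S] (φ : R →+* S)
    (e : S ≃+ R) (he : ∀ r s, e (φ r * s) = r * e s) : Function.Bijective φ := by
  set b0 := e.symm 1 with hb0
  have heb0 : e b0 = 1 := e.apply_symm_apply 1
  have hgen : ∀ s : S, s = φ (e s) * b0 := fun s => by
    apply e.injective
    rw [he, heb0, mul_one]
  set a1 := e 1 with ha1
  set a2 := e (b0 * b0) with ha2
  have h1 : (1 : S) = φ a1 * b0 := hgen 1
  have h2 : b0 * b0 = φ a2 * b0 := hgen _
  have h3 : b0 = φ (a1 * a2) * b0 := by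
    calc b0 = b0 * 1 := (mul_one _).symm
      _ = b0 * (φ a1 * b0) := by rw [← h1]
      _ = φ a1 * (b0 * b0) := by ring
      _ = φ a1 * (φ a2 * b0) := by rw [h2]
      _ = φ (a1 * a2) * b0 := by rw [map_mul]; ring
  have h4 : a1 * a2 = 1 := by
    have := congrArg e h3
    rw [he, heb0, mul_one] at this
    exact this.symm
  have h5 : b0 = φ a2 := by
    calc b0 = φ (a1 * a2) * b0 := h3
      _ = φ a2 * (φ a1 * b0) := by rw [map_mul]; ring
      _ = φ a2 := by rw [← h1, mul_one]
  constructor
  · rw [injective_iff_map_eq_zero]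
    intro r hr
    have := he r b0
    rw [hr, zero_mul, map_zero, heb0, mul_one] at this
    exact this.symm
  · intro s
    refine ⟨e s * a2, ?_⟩
    rw [map_mul, ← h5]
    exact (hgen s).symm

section Local

variable {R : Type u} [CommRing R] [IsLocalRing R]
  {W F : Type u} [AddCommGroup W] [Module R W] [Module.Finite R W] [Module.Free R W]
  [AddCommGroup F] [Module R F] [Module.Finite R F] [Module.Free R F]

local notation "k" => IsLocalRing.ResidueField R

/-- a nonzero vector of `k ⊗ W` (with `W` free) is detected by a coordinate functional. -/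
lemma exists_functional_ne_zero (v : k ⊗[R] W) (hv : v ≠ 0) :
    ∃ l : W →ₗ[R] R, (l.lTensor k) v ≠ 0 := by
  classical
  let b := Module.Free.chooseBasis R W
  let bk := b.baseChange k
  have hrepr : bk.repr v ≠ 0 := fun h => hv (bk.repr.map_eq_zero_iff.mp h)
  obtain ⟨i, hi⟩ : ∃ i, bk.repr v i ≠ 0 := by
    by_contra hcon
    exact hrepr (Finsupp.ext fun i => by
      by_contra hne
      exact hcon ⟨i, hne⟩)
  refine ⟨b.coord i, fun h => hi ?_⟩
  -- the `k`-linear functional `rid ∘ (coord i ⊗ k)` is the `i`-th coordinate of `bk`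
  have key : (AlgebraTensorModule.rid R k k).toLinearMap ∘ₗ ((b.coord i).baseChange k) =
      bk.coord i := by
    apply bk.ext
    intro j
    simp only [bk, LinearMap.comp_apply, Module.Basis.baseChange_apply, LinearMap.baseChange_tmul,
      LinearEquiv.coe_coe, AlgebraTensorModule.rid_tmul, Module.Basis.coord_apply,
      Module.Basis.repr_self]
    rw [← Module.Basis.baseChange_apply, Module.Basis.repr_self]
    by_cases hij : j = i
    · subst hij; simp
    · simp [Finsupp.single_apply, hij]
  have h2 := LinearMap.congr_fun key v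
  simp only [LinearMap.comp_apply, LinearEquiv.coe_coe, Module.Basis.coord_apply] at h2
  rw [← h2]
  have h3 : ((b.coord i).baseChange k) v = ((b.coord i).lTensor k) v := rfl
  rw [h3, h, map_zero]

/-- **Core lemma.** Over a local ring, let `δ : W → F` be a map of finite free modules whose
reduction modulo the maximal ideal has a one-dimensional kernel, and suppose `ker δ` is a faithful
module.  Then `ker δ` is free of rank one. -/
theorem core_local (δ : W →ₗ[R] F)
    (h1 : Module.finrank k (LinearMap.ker (δ.baseChange k)) = 1)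
    (h2 : ∀ a : R, (∀ z ∈ LinearMap.ker δ, a • z = 0) → a = 0) :
    Nonempty (LinearMap.ker δ ≃ₗ[R] R) := by
  classical
  -- a generator of the kernel of `δ ⊗ k`
  haveI : Module.Free k (LinearMap.ker (δ.baseChange k)) := Module.Free.of_divisionRing k (LinearMap.ker (δ.baseChange k))
  obtain ⟨v, hv0, hv⟩ := (finrank_eq_one_iff' (K := k)
    (V := LinearMap.ker (δ.baseChange k))).mp h1
  have hv0' : (v : k ⊗[R] W) ≠ 0 := fun h => hv0 (Subtype.ext h)
  obtain ⟨l, hl⟩ := exists_functional_ne_zero (v : k ⊗[R] W) hv0'
  -- `(δ, l)` is injective modulo the maximal ideal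
  let δp : W →ₗ[R] F × R := δ.prod l
  have hinj : Function.Injective (δp.lTensor k) := by
    rw [injective_iff_map_eq_zero]
    intro u hu
    have hu1 : (δ.lTensor k) u = 0 := by
      have : δ = LinearMap.fst R F R ∘ₗ δp := (LinearMap.fst_prod δ l).symm
      rw [this, LinearMap.lTensor_comp, LinearMap.comp_apply, hu, map_zero]
    have hu2 : (l.lTensor k) u = 0 := by
      have : l = LinearMap.snd R F R ∘ₗ δp := (LinearMap.snd_prod δ l).symm
      rw [this, LinearMap.lTensor_comp, LinearMap.comp_apply, hu, map_zero]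
    have humem : u ∈ LinearMap.ker (δ.baseChange k) := hu1
    obtain ⟨c, hc⟩ := hv ⟨u, humem⟩
    have hc' : c • (v : k ⊗[R] W) = u := congrArg Subtype.val hc
    rw [← hc'] at hu2
    have h3 : (l.lTensor k) (c • (v : k ⊗[R] W)) = c • (l.lTensor k) (v : k ⊗[R] W) :=
      (l.baseChange k).map_smul c _
    rw [h3] at hu2
    rcases smul_eq_zero.mp hu2 with hc0 | hc0
    · rw [← hc', hc0, zero_smul]
    · exact absurd hc0 hl
  obtain ⟨ρ, hρ⟩ :=
    (IsLocalRing.split_injective_iff_lTensor_residueField_injective δp).mpr hinj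
  have hρ' : ∀ w, ρ (δ w, l w) = w := fun w => LinearMap.congr_fun hρ w
  set z1 := ρ (0, 1) with hz1
  have hker : ∀ z ∈ LinearMap.ker δ, z = l z • z1 := by
    intro z hz
    have := hρ' z
    rw [LinearMap.mem_ker.mp hz] at this
    rw [hz1, ← map_smul, Prod.smul_mk, smul_zero, smul_eq_mul, mul_one]
    exact this.symm
  -- `δ z1 = 0`
  have hδz1 : δ z1 = 0 := by
    let bF := Module.Free.chooseBasis R F
    apply bF.repr.map_eq_zero_iff.mp
    ext j
    rw [Finsupp.zero_apply]
    apply h2
    intro z hz
    have hz' := hker z hz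
    have h4 : l z • δ z1 = 0 := by
      rw [← map_smul, ← hz']
      exact hz
    have h5 : l z * bF.repr (δ z1) j = 0 := by
      have := congrArg (fun t => bF.repr t j) h4
      simpa using this
    rw [hz', smul_smul, mul_comm, h5, zero_smul]
  have hz1mem : z1 ∈ LinearMap.ker δ := hδz1
  let φ : R →ₗ[R] LinearMap.ker δ := LinearMap.toSpanSingleton R _ ⟨z1, hz1mem⟩
  have hφ : Function.Bijective φ := by
    constructor
    · rw [injective_iff_map_eq_zero]
      intro a ha
      have ha' : a • z1 = 0 := congrArg Subtype.val ha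
      apply h2
      intro z hz
      rw [hker z hz, smul_comm, ha', smul_zero]
    · intro z
      refine ⟨l z.1, Subtype.ext ?_⟩
      exact (hker z.1 z.2).symm
  exact ⟨(LinearEquiv.ofBijective φ hφ).symm⟩

end Local

section Global

variable {A : Type u} [CommRing A]

/-- a common denominator for finitely many annihilation conditions -/
lemma exists_common_annihilator {W : Type u} [AddCommGroup W] [Module A W] (S : Submonoid A)
    (K : Submodule A W) (hK : K.FG) (a : A)
    (h : ∀ z ∈ K, ∃ c ∈ S, (c * a) • z = 0) : ∃ c ∈ S, ∀ z ∈ K, (c * a) • z = 0 := by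
  classical
  obtain ⟨T, hT⟩ := hK
  have hTK : ∀ z ∈ T, z ∈ K := fun z hz => hT ▸ Submodule.subset_span hz
  choose! c hcS hc using fun z (hz : z ∈ T) => h z (hTK z hz)
  refine ⟨∏ z ∈ T, c z, Submonoid.prod_mem S hcS, ?_⟩
  intro z hz
  rw [← hT] at hz
  refine Submodule.span_induction (p := fun z _ => ((∏ z ∈ T, c z) * a) • z = 0)
    ?_ ?_ ?_ ?_ hz
  · intro w hw
    have hw' : w ∈ T := hw
    rw [← Finset.mul_prod_erase T c hw', mul_comm (c w), mul_assoc, mul_smul, hc w hw', smul_zero]
  · exact smul_zero _
  · intro u v _ _ hu hv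
    rw [smul_add, hu, hv, add_zero]
  · intro r u _ hu
    rw [smul_comm, hu, smul_zero]

variable [IsNoetherianRing A]
  {W F : Type u} [AddCommGroup W] [Module A W] [Module.Finite A W] [Module.Projective A W]
  [AddCommGroup F] [Module A F] [Module.Finite A F] [Module.Projective A F]

/-- **Core lemma, global form.** `δ : W → F` a map of finite projective modules over a Noetherian
ring, `x` a prime such that `ker (δ ⊗ κ(x))` is one-dimensional and `ker δ` is faithful at `x`.
Then `(ker δ)_x` is free of rank one over `A_x`. -/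
theorem core_global (δ : W →ₗ[A] F) (x : PrimeSpectrum A)
    (h1 : Module.finrank x.asIdeal.ResidueField
      (LinearMap.ker (δ.baseChange x.asIdeal.ResidueField)) = 1)
    (h2 : ∀ a : A, (∀ z ∈ LinearMap.ker δ, a • z = 0) → ∃ s : A, s ∉ x.asIdeal ∧ s * a = 0) :
    Nonempty ((Localization.AtPrime x.asIdeal ⊗[A] LinearMap.ker δ)
      ≃ₗ[Localization.AtPrime x.asIdeal] Localization.AtPrime x.asIdeal) := by
  set R := Localization.AtPrime x.asIdeal with hR
  set k := x.asIdeal.ResidueField with hk
  let δR : R ⊗[A] W →ₗ[R] R ⊗[A] F := δ.baseChange R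
  haveI : Module.Flat A W := inferInstance
  haveI : Module.Flat A F := inferInstance
  haveI : Module.Free R (R ⊗[A] W) := Module.free_of_flat_of_isLocalRing
  haveI : Module.Free R (R ⊗[A] F) := Module.free_of_flat_of_isLocalRing
  -- the kernel of `δR` is the localization of the kernel of `δ`
  let eK : R ⊗[A] LinearMap.ker δ ≃ₗ[R] LinearMap.ker δR := LinearMap.tensorKerEquiv R R δ
  -- fibre kernels agree
  let e := AlgebraTensorModule.cancelBaseChange A R k k W
  let e' := AlgebraTensorModule.cancelBaseChange A R k k F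
  have hnat : e'.toLinearMap ∘ₗ (δR.baseChange k) = (δ.baseChange k) ∘ₗ e.toLinearMap := by
    apply LinearMap.restrictScalars_injective R
    apply TensorProduct.ext'
    intro c y
    induction y using TensorProduct.induction_on with
    | zero => simp
    | tmul r w =>
      simp only [LinearMap.coe_restrictScalars, LinearMap.comp_apply, LinearEquiv.coe_coe,
        LinearMap.baseChange_tmul, δR, e, e', AlgebraTensorModule.cancelBaseChange_tmul]
    | add y z hy hz =>
      rw [TensorProduct.tmul_add, map_add, map_add, hy, hz]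
  have hker : Module.finrank k (LinearMap.ker (δR.baseChange k)) = 1 := by
    rw [← h1]
    refine LinearEquiv.finrank_eq (LinearEquiv.ofSubmodules e _ _ ?_)
    ext z
    rw [Submodule.mem_map_equiv, LinearMap.mem_ker, LinearMap.mem_ker]
    have hz := LinearMap.congr_fun hnat (e.symm z)
    simp only [LinearMap.comp_apply, LinearEquiv.coe_coe, LinearEquiv.apply_symm_apply] at hz
    rw [← hz]
    exact (e'.map_eq_zero_iff).symm
  -- faithfulness
  have hfaith : ∀ r : R, (∀ z ∈ LinearMap.ker δR, r • z = 0) → r = 0 := by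
    intro r hr
    obtain ⟨a, t, rfl⟩ := IsLocalization.exists_mk'_eq x.asIdeal.primeCompl r
    have hloc : ∀ z ∈ LinearMap.ker δ, ∃ c ∈ x.asIdeal.primeCompl, (c * a) • z = 0 := by
      intro z hz
      have hzR : (1 : R) ⊗ₜ[A] z ∈ LinearMap.ker δR := by
        rw [LinearMap.mem_ker]
        show (δ.baseChange R) ((1 : R) ⊗ₜ[A] z) = 0
        rw [LinearMap.baseChange_tmul, LinearMap.mem_ker.mp hz, TensorProduct.tmul_zero]
      have h3 := hr _ hzR
      have h4 : (algebraMap A R a) • ((1 : R) ⊗ₜ[A] z) = 0 := by
        rw [← IsLocalization.mk'_spec R a t, mul_comm, mul_smul, h3, smul_zero]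
      have h5 : (1 : R) ⊗ₜ[A] (a • z) = 0 := by
        rw [TensorProduct.tmul_smul, ← algebraMap_smul R a ((1 : R) ⊗ₜ[A] z)]
        exact h4
      have h6 : (TensorProduct.mk A R W 1) (a • z) = 0 := h5
      rw [IsLocalizedModule.eq_zero_iff x.asIdeal.primeCompl] at h6
      obtain ⟨c, hc⟩ := h6
      refine ⟨c.1, c.2, ?_⟩
      rw [mul_smul]
      exact hc
    haveI : IsNoetherian A W := isNoetherian_of_isNoetherianRing_of_finite A W
    obtain ⟨c, hcS, hc⟩ := exists_common_annihilator x.asIdeal.primeCompl (LinearMap.ker δ)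
      (IsNoetherian.noetherian _) a hloc
    obtain ⟨s, hs, hsa⟩ := h2 (c * a) hc
    rw [IsLocalization.mk'_eq_zero_iff]
    exact ⟨⟨s * c, Submonoid.mul_mem _ hs hcS⟩, by rw [mul_assoc]; exact hsa⟩
  obtain ⟨e0⟩ := core_local δR hker hfaith
  exact ⟨eK.trans e0⟩

/-- **Core lemma, spread out**: under the hypotheses of `core_global`, any module `N ≃ ker δ` is
free of rank one after inverting some `s ∉ x`. -/
theorem exists_basis_away (δ : W →ₗ[A] F) (x : PrimeSpectrum A)
    (h1 : Module.finrank x.asIdeal.ResidueField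
      (LinearMap.ker (δ.baseChange x.asIdeal.ResidueField)) = 1)
    (h2 : ∀ a : A, (∀ z ∈ LinearMap.ker δ, a • z = 0) → ∃ s : A, s ∉ x.asIdeal ∧ s * a = 0)
    {N : Type u} [AddCommGroup N] [Module A N] (eN : N ≃ₗ[A] LinearMap.ker δ) :
    ∃ s : A, s ∉ x.asIdeal ∧
      Nonempty (Module.Basis (Fin 1) (Localization (Submonoid.powers s))
        (LocalizedModule (Submonoid.powers s) N)) := by
  obtain ⟨e0⟩ := core_global δ x h1 h2
  set R := Localization.AtPrime x.asIdeal with hR
  haveI : IsNoetherian A W := isNoetherian_of_isNoetherianRing_of_finite A W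
  haveI : Module.Finite A (LinearMap.ker δ) := Module.Finite.of_fg (IsNoetherian.noetherian _)
  haveI : Module.Finite A N := Module.Finite.equiv eN.symm
  haveI : Module.FinitePresentation A N := Module.finitePresentation_of_finite A N
  let e1 : R ⊗[A] N ≃ₗ[R] R := (LinearEquiv.baseChange A R N _ eN).trans e0
  haveI : Module.Free R (R ⊗[A] N) := Module.Free.of_equiv e1.symm
  obtain ⟨s, hs, hfree, hrank⟩ := Module.FinitePresentation.exists_free_localizedModule_powers
    x.asIdeal.primeCompl (TensorProduct.mk A R N 1) R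
  have hsx : s ∉ x.asIdeal := hs
  haveI : Nontrivial (Localization (Submonoid.powers s)) := by
    rw [← not_subsingleton_iff_nontrivial,
      IsLocalization.subsingleton_iff (M := Submonoid.powers s)]
    rintro ⟨n, hn⟩
    have hn' : s ^ n = 0 := hn
    exact hsx (x.2.mem_of_pow_mem n (hn' ▸ Ideal.zero_mem _))
  haveI := hfree
  haveI : Module.Finite (Localization (Submonoid.powers s))
      (LocalizedModule (Submonoid.powers s) N) :=
    Module.Finite.of_isLocalizedModule (Submonoid.powers s)
      (LocalizedModule.mkLinearMap (Submonoid.powers s) N)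
  have h1' : Module.finrank R (R ⊗[A] N) = 1 := by
    rw [e1.finrank_eq, Module.finrank_self]
  exact ⟨s, hsx, ⟨Module.finBasisOfFinrankEq _ _ (hrank.trans h1')⟩⟩

end Global

end Groth.Agent.Lib.helper21.LocFree1
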