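import Mathlib
import Groth.Agent.Lib.Helper21.LocFree1
import Groth.Agent.Lib.Helper13.GCTrunc
import Groth.Agent.Lib.Helper2.TpBC

/-!
# helper21: `H^0` of a Grothendieck-type complex is free of rank one near a prime `x` when
`dRank L 0 x = 1` and `H^0(L)` is faithful at `x`.
-/

set_option autoImplicit false
universe u
open CategoryTheory CategoryTheory.Limits TensorProduct

namespace Groth.Agent.Lib.helper21.GCStein

open Groth.Agent.Lib.helper2.TpLib Groth.Agent.Lib.helper13.GCTrunc

variable {A : Type u} [CommRing A]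

lemma projective_sc_quot (L : CochainComplex (ModuleCat.{u} A) ℤ) (i : ℤ)
    (hi : (ComplexShape.up ℤ).prev 0 = i)
    (h : Module.Projective A (L.X 0 ⧸ LinearMap.range (L.d i 0).hom)) :
    Module.Projective A ((L.sc 0).X₂ ⧸ LinearMap.range (L.sc 0).f.hom) := by
  subst hi
  exact h

variable [IsNoetherianRing A]

/-- **`H^0` is free of rank one near `x`.** -/
theorem exists_basis_away_homology_zero (L : CochainComplex (ModuleCat.{u} A) ℤ)
    (h1 : ∀ i, Module.Finite A (L.X i) ∧ Module.Free A (L.X i))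
    (h5 : ∀ (B : Type u) [CommRing B] [Algebra A B] (i : ℤ), i < 0 →
      IsZero ((CohIII.bcCx (algebraMap A B) L).homology i))
    (x : PrimeSpectrum A) (hx : CohIII.dRank L 0 x = 1)
    {N : Type u} [AddCommGroup N] [Module A N] (eN : N ≃ₗ[A] L.homology 0)
    (hfaith : ∀ a : A, (∀ z : N, a • z = 0) → ∃ s : A, s ∉ x.asIdeal ∧ s * a = 0) :
    ∃ s : A, s ∉ x.asIdeal ∧
      Nonempty (Module.Basis (Fin 1) (Localization (Submonoid.powers s))
        (LocalizedModule (Submonoid.powers s) N)) := by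
  have hfib : FibExact L (-1) := fibExact_of_bcCx L (-1) (fun m _ =>
    (HomologicalComplex.exactAt_iff_isZero_homology _ _).mpr (h5 (A ⧸ m) (-1) (by norm_num)))
  haveI := (h1 0).1
  haveI := (h1 0).2
  have hproj0 : Module.Projective A (L.X 0 ⧸ LinearMap.range (L.d (-1) 0).hom) :=
    projective_coker_of_fibExact L (-1) 0 (by norm_num) (h1 0).1 inferInstance hfib
  haveI : Module.Projective A ((L.sc 0).X₂ ⧸ LinearMap.range (L.sc 0).f.hom) :=
    projective_sc_quot L (-1) (by simp) hproj0
  haveI : Module.Finite A ((L.sc 0).X₂) := (h1 0).1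
  haveI : Module.Finite A ((L.sc 0).X₃) := (h1 _).1
  haveI : Module.Free A ((L.sc 0).X₃) := (h1 _).2
  set δ := scFromQ (L.sc 0) with hδ
  let e_hom : L.homology 0 ≃ₗ[A] LinearMap.ker δ := scHomologyEquivKer (L.sc 0)
  let κ := x.asIdeal.ResidueField
  let e_bc : (CohIII.bcCx (algebraMap A κ) L).homology 0 ≃ₗ[κ] LinearMap.ker (δ.baseChange κ) :=
    ((ShortComplex.homologyMapIso (bcSCIso κ (L.sc 0))).toLinearEquiv).trans
      (homologyBCEquivKer κ (L.sc 0))
  have hdim : Module.finrank κ (LinearMap.ker (δ.baseChange κ)) = 1 := by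
    rw [← e_bc.finrank_eq]
    exact hx
  have h2 : ∀ a : A, (∀ z ∈ LinearMap.ker δ, a • z = 0) → ∃ s : A, s ∉ x.asIdeal ∧ s * a = 0 := by
    intro a ha
    refine hfaith a (fun z => ?_)
    apply (eN.trans e_hom).injective
    rw [map_smul, map_zero]
    exact Subtype.ext (ha _ ((eN.trans e_hom) z).2)
  exact LocFree1.exists_basis_away δ x hdim h2 (eN.trans e_hom)

end Groth.Agent.Lib.helper21.GCStein
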