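import Mathlib
import Groth.Agent.Lib.Helper21.GCStein1
import Groth.Agent.Lib.Helper21.GCBase
import Groth.Agent.Lib.Helper16.FLF9
import Groth.Agent.Lib.Helper18.HHZero
import Groth.Agent.Lib.Helper11.InvMod
import Groth.Agent.Lib.Helper7.QCohPushQC

/-!
# helper21: `O_Y → f_* O_X` is an isomorphism near `y` when `κ(y) = H^0(X_y, O)` (S2393)
-/

set_option autoImplicit false
universe u
open CategoryTheory CategoryTheory.Limits AlgebraicGeometry TopologicalSpace Opposite TensorProduct

namespace Groth.Agent.Lib.helper21.GCStein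

open Scheme.Modules Groth.Agent.Lib.helper16.FLF

variable {X Y : Scheme.{u}} (f : X ⟶ Y)

/-- the stalk maps of a flat morphism are injective -/
theorem stalkMap_injective [Flat f] (x : X) : Function.Injective (f.stalkMap x).hom := by
  algebraize [(f.stalkMap x).hom]
  have : Module.FaithfullyFlat (Y.presheaf.stalk (f x)) (X.presheaf.stalk x) :=
    @Module.FaithfullyFlat.of_flat_of_isLocalHom _ _ _ _ _ _ _
      (Flat.stalkMap f x) (f.toLRSHom.prop x)
  exact ‹RingHom.FaithfullyFlat _›.injective

/-- the structure sheaf of the source of a flat morphism is flat over the base -/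
theorem isFlatOver_structureModule [Flat f] : FlatMod.IsFlatOver f (Coh.structureModule X) := by
  intro x
  unfold FlatMod.IsFlatOverAt
  letI := FlatMod.moduleStalkOver f (Coh.structureModule X) x
  letI : Algebra (Y.presheaf.stalk (f.base x)) (X.presheaf.stalk x) :=
    (f.stalkMap x).hom.toAlgebra
  haveI : IsScalarTower (Y.presheaf.stalk (f.base x)) (X.presheaf.stalk x)
      ((Coh.structureModule X).presheaf.stalk x) :=
    IsScalarTower.of_algebraMap_smul (fun r m => rfl)
  obtain ⟨hfree, hfin⟩ := free_stalk_of_isFinLocFree _ (isFinLocFree_structureModule X) x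
  haveI : Module.Flat (X.presheaf.stalk x) ((Coh.structureModule X).presheaf.stalk x) :=
    inferInstance
  haveI : Module.Flat (Y.presheaf.stalk (f.base x)) (X.presheaf.stalk x) := Flat.stalkMap f x
  exact Module.Flat.trans _ (X.presheaf.stalk x) _

/-- if `κ(y) → Γ(X_y, O)` is bijective then `dim H^0(X_y, O_X|_{X_y}) = 1` -/
theorem fiberRank_structureModule_zero (y : Y)
    (hy : Function.Bijective (algebraMap (Y.residueField y) Γ(f.fiber y, ⊤))) :
    CohIII.fiberRank f (Coh.structureModule X) 0 y = 1 := by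
  unfold CohIII.fiberRank
  let φ : (Y.residueField y) →+* Coh.Γtop (f.fiber y) :=
    Coh.toGlobal (X := f.fiber y) (A := Y.residueField y) (f.fiberToSpecResidueField y)
  have hφ : Function.Bijective φ := hy
  let ψ : (Y.residueField y) ≃+* Coh.Γtop (f.fiber y) := RingEquiv.ofBijective φ hφ
  let e0 := Groth.Agent.Lib.Helper18.HH.equiv₀ (CohIII.fiberMod f (Coh.structureModule X) y)
  let i0 := Groth.Agent.Lib.helper11.InvMod.pullbackUnitIso (f.fiberι y)
  let e1 : (CohIII.fiberMod f (Coh.structureModule X) y).val.obj (op ⊤) ≃ₗ[Coh.Γtop (f.fiber y)]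
      (Coh.structureModule (f.fiber y)).val.obj (op ⊤) :=
    ((SheafOfModules.evaluation _ (op ⊤)).mapIso i0).toLinearEquiv
  let e2 : CohIII.fiberH f (Coh.structureModule X) y 0 ≃ₗ[Coh.Γtop (f.fiber y)]
      Coh.Γtop (f.fiber y) := e0.trans e1
  let E : CohIII.fiberH f (Coh.structureModule X) y 0 ≃ₗ[Y.residueField y] (Y.residueField y) :=
    { toFun := fun z => ψ.symm (e2 z)
      invFun := fun c => e2.symm (ψ c)
      map_add' := fun a b => by rw [map_add, map_add]
      map_smul' := fun c z => by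
        have h1 : c • z = φ c • z := rfl
        rw [h1, e2.map_smul, RingHom.id_apply, smul_eq_mul, map_mul, smul_eq_mul]
        congr 1
        exact ψ.symm_apply_apply c
      left_inv := fun z => by
        show e2.symm (ψ (ψ.symm (e2 z))) = z
        rw [ψ.apply_symm_apply, e2.symm_apply_apply]
      right_inv := fun c => by
        show ψ.symm (e2 (e2.symm (ψ c))) = c
        rw [e2.apply_symm_apply, ψ.symm_apply_apply] }
  exact E.finrank_eq.trans (Module.finrank_self _)

section sections

variable {V : Y.Opens} (hV : IsAffineOpen V)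

lemma app_topIso_inv :
    f.app V ≫ (f ⁻¹ᵁ V).topIso.inv = V.topIso.inv ≫ (f ∣_ V).appTop := by
  rw [morphismRestrict_appTop]
  show (f.app V ≫ X.presheaf.map (eqToHom (f ⁻¹ᵁ V).ι_image_top).op :
      Γ(Y, V) ⟶ Γ(X, (f ⁻¹ᵁ V).ι ''ᵁ ⊤)) =
    Y.presheaf.map (eqToHom V.ι_image_top).op ≫ (f.app (V.ι ''ᵁ ⊤) ≫
      X.presheaf.map (eqToHom (image_morphismRestrict_preimage f V ⊤)).op)
  rw [← Category.assoc, f.naturality, Category.assoc, ← Functor.map_comp]
  congr 1

lemma topIso_inv_app (a : Γ(Y, V)) :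
    (f ⁻¹ᵁ V).topIso.inv.hom ((f.app V).hom a) = (f ∣_ V).appTop.hom (V.topIso.inv.hom a) :=
  congrArg (fun g => g.hom a) (app_topIso_inv f (V := V))

/-- sections of `f_* F` over `V` are the global sections of `F|_{f⁻¹V}`, linearly over `Γ(Y, V)` -/
noncomputable def secPushEquiv [QuasiCompact f] [QuasiSeparated f] (F : X.Modules) :
    letI := GCBase.overA f hV
    letI := Groth.Agent.Lib.Helper18.HH.sectionsModuleOver Γ(Y, V) (GCBase.FA f (V := V) F)
    Γ((pushforward f).obj F, V) ≃ₗ[Γ(Y, V)] (GCBase.FA f (V := V) F).val.obj (op ⊤) :=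
  letI := GCBase.overA f hV
  letI := Groth.Agent.Lib.Helper18.HH.sectionsModuleOver Γ(Y, V) (GCBase.FA f (V := V) F)
  { (AddEquiv.ofBijective (GCBase.toTop (V := f ⁻¹ᵁ V) F) (GCBase.toTop_bijective F)) with
    map_smul' := fun a s => by
      show GCBase.toTop (V := f ⁻¹ᵁ V) F (((f.app V).hom a) • (show Γ(F, f ⁻¹ᵁ V) from s)) = _
      rw [GCBase.toTop_smul, topIso_inv_app]
      have h : (f ∣_ V).appTop.hom (V.topIso.inv.hom a) =
          Coh.toGlobal (A := Γ(Y, V)) (GCBase.fA f hV) a := (GCBase.toGlobal_fA f hV a).symm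
      rw [h]
      rfl }

end sections

section free

open Groth.Agent.Lib.helper16.CohFinite

/-- a quasi-coherent module whose sections over an affine `V` become free of rank `r` after
inverting `s` is free of rank `r` over `D(s)`. -/
theorem restrict_iso_freeMod_of_basis_away (E : Y.Modules) [E.IsQuasicoherent] {V : Y.Opens}
    (hV : IsAffineOpen V) (s : Γ(Y, V)) {r : ℕ}
    (b : Module.Basis (Fin r) (Localization (Submonoid.powers s))
      (LocalizedModule (Submonoid.powers s) Γ(E, V))) :
    Nonempty (E.restrict (Y.basicOpen s).ι ≅ FlatMod.freeMod (↑(Y.basicOpen s)) r) := by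
  have h : Y.basicOpen s ≤ V := Y.basicOpen_le s
  letI := algOfLE (X := Y) h
  letI := modOfLE E h
  haveI := isScalarTower_ofLE E h
  haveI : IsLocalization.Away s Γ(Y, Y.basicOpen s) := hV.isLocalization_basicOpen s
  haveI := isLocalizedModule_of_eq_basicOpen E hV s h rfl
  obtain ⟨e⟩ := nonempty_equivFun_of_basis_localizedModule (Submonoid.powers s)
    Γ(Y, Y.basicOpen s) (resLin E h) b
  exact restrict_iso_freeMod_of_sections E (hV.basicOpen s) _ e

end free

section main

variable [IsProper f] [Flat f] [IsLocallyNoetherian Y]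

/-- **`f_* O_X` is free of rank one near `y`** when `κ(y) → Γ(X_y, O)` is bijective. -/
theorem exists_nhd_push_free (y : Y)
    (hy : Function.Bijective (algebraMap (Y.residueField y) Γ(f.fiber y, ⊤))) :
    ∃ U : Y.Opens, y ∈ U ∧
      Nonempty (((pushforward f).obj (Coh.structureModule X)).restrict U.ι ≅
        FlatMod.freeMod (↑U) 1) := by
  obtain ⟨V, hV, hyV⟩ : ∃ V : Y.Opens, IsAffineOpen V ∧ y ∈ V := by
    obtain ⟨_, ⟨V, hV, rfl⟩, hyV, -⟩ :=
      Y.isBasis_affineOpens.exists_subset_of_mem_open (Set.mem_univ y) isOpen_univ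
    exact ⟨V, hV, hyV⟩
  haveI : IsNoetherianRing Γ(Y, V) := IsLocallyNoetherian.component_noetherian ⟨V, hV⟩
  have hF : Coh.IsCoh (Coh.structureModule X) :=
    Groth.Agent.Lib.helper11.AmpleInv.isCoh_structureModule X
  have hfl := isFlatOver_structureModule f
  letI := GCBase.overA f hV
  obtain ⟨L, h1, h2, h3, h4, h5, h6, h7, h8⟩ :=
    GCBase.exists_complex_chart f hV (Coh.structureModule X) hF hfl
  set x := hV.primeIdealOf ⟨y, hyV⟩ with hxdef
  have hx : CohIII.dRank L 0 x = 1 := by
    have h := h7 x 0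
    rw [hV.fromSpec_primeIdealOf, fiberRank_structureModule_zero f y hy] at h
    exact h
  haveI : ((pushforward f).obj (Coh.structureModule X)).IsQuasicoherent :=
    Groth.Agent.Lib.helper7.QCohPushQC.isQuasicoherent_pushforward f (Coh.structureModule X)
  obtain ⟨e3⟩ := h3 0
  letI := Groth.Agent.Lib.Helper18.HH.sectionsModuleOver Γ(Y, V)
    (GCBase.FA f (V := V) (Coh.structureModule X))
  let eM : Γ((pushforward f).obj (Coh.structureModule X), V) ≃ₗ[Γ(Y, V)] L.homology 0 :=
    (secPushEquiv f hV (Coh.structureModule X)).trans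
      ((Groth.Agent.Lib.Helper18.HH.equiv₀Over Γ(Y, V)
        (GCBase.FA f (V := V) (Coh.structureModule X))).symm.trans e3.symm)
  -- faithfulness at `x`
  have hfaith : ∀ a : Γ(Y, V),
      (∀ z : Γ((pushforward f).obj (Coh.structureModule X), V), a • z = 0) →
      ∃ s : Γ(Y, V), s ∉ x.asIdeal ∧ s * a = 0 := by
    intro a ha
    have ha1 : (f.app V).hom a = 0 := by
      have h := ha (show Γ((pushforward f).obj (Coh.structureModule X), V) from
        (1 : Γ(X, f ⁻¹ᵁ V)))
      have h' : ((f.app V).hom a) * (1 : Γ(X, f ⁻¹ᵁ V)) = 0 := h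
      rwa [mul_one] at h'
    -- a point of the fibre
    obtain ⟨ξ, hξ⟩ : ∃ ξ : X, f ξ = y := by
      haveI : Nontrivial Γ(f.fiber y, ⊤) := hy.1.nontrivial
      have hne : Nonempty (f.fiber y) := by
        by_contra hemp
        rw [not_nonempty_iff] at hemp
        exact not_subsingleton Γ(f.fiber y, ⊤) inferInstance
      obtain ⟨z⟩ := hne
      have hz : (f.fiberι y) z ∈ Set.range (f.fiberι y) := ⟨z, rfl⟩
      rw [f.range_fiberι y] at hz
      exact ⟨_, hz⟩
    subst hξ
    have hgerm : (Y.presheaf.germ V (f ξ) hyV).hom a = 0 := by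
      apply stalkMap_injective f ξ
      rw [map_zero]
      have h := Scheme.Hom.germ_stalkMap_apply f V ξ hyV a
      rw [h, ha1, map_zero]
    letI := TopCat.Presheaf.algebra_section_stalk Y.presheaf (⟨f ξ, hyV⟩ : V)
    haveI : IsLocalization.AtPrime (Y.presheaf.stalk (f ξ)) x.asIdeal :=
      hV.isLocalization_stalk ⟨f ξ, hyV⟩
    have h0 : algebraMap Γ(Y, V) (Y.presheaf.stalk (f ξ)) a = 0 := hgerm
    obtain ⟨m, hm⟩ := (IsLocalization.map_eq_zero_iff x.asIdeal.primeCompl _ a).mp h0
    exact ⟨m.1, m.2, hm⟩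
  obtain ⟨s, hs, ⟨b⟩⟩ := exists_basis_away_homology_zero L h1 h5 x hx eM hfaith
  refine ⟨Y.basicOpen s, ?_, restrict_iso_freeMod_of_basis_away _ hV s b⟩
  rw [Groth.Agent.Lib.helper28.mem_basicOpen_iff hV y hyV s]
  exact hs

end main

section iso

/-- if `f_* O_X` is free of rank one over `U` then `O_Y(W) → O_X(f⁻¹W)` is bijective for every
open `W` of `U`. -/
theorem bijective_app_of_iso {U : Y.Opens}
    (i : ((pushforward f).obj (Coh.structureModule X)).restrict U.ι ≅ FlatMod.freeMod (↑U) 1)
    (W : (↑U : Scheme.{u}).Opens) : Function.Bijective (f.app (U.ι ''ᵁ W)).hom := by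
  let j : ((pushforward f).obj (Coh.structureModule X)).restrict U.ι ≅
      Coh.structureModule (↑U : Scheme.{u}) := i ≪≫ freeModOneIso _
  let e : Γ(X, f ⁻¹ᵁ (U.ι ''ᵁ W)) ≃+ Γ(Y, U.ι ''ᵁ W) :=
    { toFun := fun t => (j.hom.app W).hom t
      invFun := fun t => (j.inv.app W).hom t
      left_inv := fun t => by
        have h : j.hom.app W ≫ j.inv.app W = 𝟙 _ := by
          rw [← Scheme.Modules.Hom.comp_app, j.hom_inv_id]; rfl
        exact ConcreteCategory.congr_hom h t
      right_inv := fun t => by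
        have h : j.inv.app W ≫ j.hom.app W = 𝟙 _ := by
          rw [← Scheme.Modules.Hom.comp_app, j.inv_hom_id]; rfl
        exact ConcreteCategory.congr_hom h t
      map_add' := fun a b => map_add (j.hom.app W).hom a b }
  refine LocFree1.bijective_of_addEquiv (f.app (U.ι ''ᵁ W)).hom e (fun r t => ?_)
  have h := Scheme.Modules.Hom.app_smul j.hom (U := W) (show Γ((↑U : Scheme.{u}), W) from r)
    (show Γ(((pushforward f).obj (Coh.structureModule X)).restrict U.ι, W) from t)
  have h2 : (show Γ((↑U : Scheme.{u}), W) from r) •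
      (show Γ(((pushforward f).obj (Coh.structureModule X)).restrict U.ι, W) from t) =
      (show Γ(((pushforward f).obj (Coh.structureModule X)).restrict U.ι, W) from
        ((f.app (U.ι ''ᵁ W)).hom r * t)) := by
    have h3 : (show Γ((↑U : Scheme.{u}), W) from r) •
        (show Γ(((pushforward f).obj (Coh.structureModule X)).restrict U.ι, W) from t) =
        ((((pushforward f).obj (Coh.structureModule X)).restrict U.ι).smul
          (show Γ((↑U : Scheme.{u}), W) from r)).hom t := rfl
    have h4 : (((pushforward f).obj (Coh.structureModule X)).restrict U.ι).smul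
        (show Γ((↑U : Scheme.{u}), W) from r) =
        ((pushforward f).obj (Coh.structureModule X)).smul ((U.ι.appIso W).inv r) := rfl
    rw [h3, h4, Scheme.Opens.ι_appIso]
    rfl
  rw [h2] at h
  exact h

end iso

section final

variable [IsProper f] [Flat f] [IsLocallyNoetherian Y]

/-- **S2393**: if `κ(y) → Γ(X_y, O)` is bijective, then `O_Y(V) → O_X(f⁻¹V)` is an isomorphism for
all opens `V` of a neighbourhood of `y`. -/
theorem exists_nhd_isIso_app (y : Y)
    (hy : Function.Bijective (algebraMap (Y.residueField y) Γ(f.fiber y, ⊤))) :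
    ∃ U : Y.Opens, y ∈ U ∧ ∀ V : Y.Opens, V ≤ U → IsIso (f.app V) := by
  obtain ⟨U, hyU, ⟨i⟩⟩ := exists_nhd_push_free f y hy
  refine ⟨U, hyU, fun V hVU => ?_⟩
  have hV : U.ι ''ᵁ (U.ι ⁻¹ᵁ V) = V := by
    rw [Scheme.Hom.image_preimage_eq_opensRange_inf, Scheme.Opens.opensRange_ι]
    exact inf_eq_right.mpr hVU
  rw [← hV, ConcreteCategory.isIso_iff_bijective]
  exact bijective_app_of_iso f i _

end final

end Groth.Agent.Lib.helper21.GCStein
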