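import Mathlib
import Groth.Agent.Lib.Helper21.ModSh

/-!
Helper library (helper21): pushforward of sheaves of modules along a continuous and cocontinuous
functor preserves colimits.
-/

set_option autoImplicit false
universe u
open CategoryTheory Opposite Limits

namespace Groth.Agent.Lib.Helper21.PushColim

variable {C D : Type u} [SmallCategory C] [SmallCategory D] {J : GrothendieckTopology C}
  {K : GrothendieckTopology D} {F : C ⥤ D} [F.IsContinuous J K] [F.IsCocontinuous J K]
  {S : Sheaf J RingCat.{u}} {R : Sheaf K RingCat.{u}}
  (φ : S ⟶ (F.sheafPushforwardContinuous RingCat.{u} J K).obj R)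

theorem pushforward_preservesColimits :
    PreservesColimitsOfSize.{u, u} (SheafOfModules.pushforward.{u} φ) := by
  have hS := Groth.Agent.Lib.Helper21.ModSh.toSheaf_preservesColimits S
  have hR := Groth.Agent.Lib.Helper21.ModSh.toSheaf_preservesColimits R
  have hcomp : SheafOfModules.pushforward.{u} φ ⋙ SheafOfModules.toSheaf.{u} S =
      SheafOfModules.toSheaf.{u} R ⋙ F.sheafPushforwardContinuous AddCommGrpCat.{u} J K := rfl
  haveI : (F.sheafPushforwardContinuous AddCommGrpCat.{u} J K).IsLeftAdjoint :=
    (F.sheafAdjunctionCocontinuous AddCommGrpCat.{u} J K).isLeftAdjoint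
  have hrS : ReflectsColimitsOfSize.{u, u} (SheafOfModules.toSheaf.{u} S) :=
    reflectsColimits_of_reflectsIsomorphisms
  have : PreservesColimitsOfSize.{u, u}
      (SheafOfModules.pushforward.{u} φ ⋙ SheafOfModules.toSheaf.{u} S) := by
    rw [hcomp]
    infer_instance
  exact preservesColimits_of_reflects_of_preserves _ (SheafOfModules.toSheaf.{u} S)

end Groth.Agent.Lib.Helper21.PushColim
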