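import Mathlib
import Groth.Agent.Lib.Helper21.PushColim

/-!
Helper library (helper21): calculus of morphisms out of the unit module on a localized site
`Over X`, projections from finite free modules, and restriction of presentations along `Over.map`.
-/

set_option autoImplicit false
universe u
open CategoryTheory Opposite Limits

namespace Groth.Agent.Lib.Helper21.LocFac

section Secs

variable {C : Type u} [SmallCategory C] {J : GrothendieckTopology C} {R : Sheaf J RingCat.{u}}
  {X : C}

variable (X) in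
/-- the terminal object of `Over X` -/
abbrev T : Over X := Over.mk (𝟙 X)

variable (X) in
/-- the map to the terminal object of `Over X` -/
abbrev toT (U : Over X) : U ⟶ T X := Over.homMk U.hom

/-- evaluation of a morphism from the unit at the terminal object -/
noncomputable def ev (N : SheafOfModules.{u} (R.over X))
    (σ : SheafOfModules.unit (R.over X) ⟶ N) : N.val.obj (op (T X)) :=
  σ.val.app (op (T X)) (1 : (R.over X).obj.obj (op (T X)))

lemma sections_ext_T (N : SheafOfModules.{u} (R.over X)) (s t : N.sections)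
    (h : s.1 (op (T X)) = t.1 (op (T X))) : s = t := by
  apply PresheafOfModules.sections_ext
  intro U
  have hs := s.2 (toT X U.unop).op
  have ht := t.2 (toT X U.unop).op
  exact hs.symm.trans ((congrArg _ h).trans ht)

lemma ev_injective (N : SheafOfModules.{u} (R.over X)) : Function.Injective (ev N) := by
  intro σ τ h
  apply N.unitHomEquiv.injective
  apply sections_ext_T
  exact h

lemma ev_add (N : SheafOfModules.{u} (R.over X)) (σ τ : SheafOfModules.unit (R.over X) ⟶ N) :
    ev N (σ + τ) = ev N σ + ev N τ := rfl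

lemma ev_zero (N : SheafOfModules.{u} (R.over X)) :
    ev N (0 : SheafOfModules.unit (R.over X) ⟶ N) = 0 := rfl

/-- `ev` as an additive map -/
noncomputable def evHom (N : SheafOfModules.{u} (R.over X)) :
    (SheafOfModules.unit (R.over X) ⟶ N) →+ N.val.obj (op (T X)) :=
  AddMonoidHom.mk' (ev N) (ev_add N)

lemma ev_sum (N : SheafOfModules.{u} (R.over X)) {ι : Type*} (s : Finset ι)
    (σ : ι → (SheafOfModules.unit (R.over X) ⟶ N)) :
    ev N (∑ i ∈ s, σ i) = ∑ i ∈ s, ev N (σ i) :=
  map_sum (evHom N) σ s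

/-- evaluation of an endomorphism of the unit: an element of the ring `R(X)` -/
noncomputable def evU (β : SheafOfModules.unit (R.over X) ⟶ SheafOfModules.unit (R.over X)) :
    (R.over X).obj.obj (op (T X)) :=
  β.val.app (op (T X)) (1 : (R.over X).obj.obj (op (T X)))

lemma ev_comp (N : SheafOfModules.{u} (R.over X))
    (β : SheafOfModules.unit (R.over X) ⟶ SheafOfModules.unit (R.over X))
    (τ : SheafOfModules.unit (R.over X) ⟶ N) :
    ev N (β ≫ τ) = evU β • ev N τ := by
  show τ.val.app (op (T X)) (β.val.app (op (T X)) (1 : (R.over X).obj.obj (op (T X)))) = _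
  have h1 : β.val.app (op (T X)) (1 : (R.over X).obj.obj (op (T X))) =
      evU β • (1 : (R.over X).obj.obj (op (T X))) := by
    show _ = evU β * 1
    rw [mul_one]
    rfl
  rw [h1]
  exact map_smul (τ.val.app (op (T X))).hom (evU β) _

/-- the section with prescribed value at the terminal object -/
noncomputable def secOf (N : SheafOfModules.{u} (R.over X)) (t : N.val.obj (op (T X))) :
    N.sections :=
  PresheafOfModules.sectionsMk (M := N.val) (fun U => N.val.map (toT X U.unop).op t) (by
    intro U V f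
    have h : (toT X U.unop).op ≫ f = (toT X V.unop).op := by
      rw [← f.op_unop, ← op_comp]
      congr 1
      ext
      simp
    rw [← h, PresheafOfModules.map_comp]
    rfl)

/-- the morphism from the unit with prescribed evaluation -/
noncomputable def ofEv (N : SheafOfModules.{u} (R.over X)) (t : N.val.obj (op (T X))) :
    SheafOfModules.unit (R.over X) ⟶ N :=
  N.unitHomEquiv.symm (secOf N t)

lemma ev_ofEv (N : SheafOfModules.{u} (R.over X)) (t : N.val.obj (op (T X))) :
    ev N (ofEv N t) = t := by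
  have h : N.unitHomEquiv (ofEv N t) = secOf N t := Equiv.apply_symm_apply _ _
  have h2 : ev N (ofEv N t) = (N.unitHomEquiv (ofEv N t)).1 (op (T X)) := rfl
  rw [h2, h]
  show N.val.map (toT X (T X)).op t = t
  have : toT X (T X) = 𝟙 (T X) := by
    ext
    simp
  rw [this, op_id, PresheafOfModules.map_id]
  rfl

end Secs

section Proj

variable {C : Type u} [SmallCategory C] {J : GrothendieckTopology C} {R : Sheaf J RingCat.{u}}

open SheafOfModules

open Classical in
/-- the projections of a free module -/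
noncomputable def pr {I : Type u} (i : I) : free (R := R) I ⟶ unit R :=
  Cofan.IsColimit.desc (isColimitFreeCofan I) (fun j => if j = i then 𝟙 _ else 0)

open Classical in
lemma ι_pr {I : Type u} (j i : I) :
    ιFree (R := R) j ≫ pr i = if j = i then 𝟙 _ else 0 := by
  unfold pr
  rw [← freeCofan_inj]
  exact Cofan.IsColimit.fac _ _ _

lemma sum_pr {I : Type u} [Fintype I] :
    ∑ i : I, pr (R := R) i ≫ ιFree i = 𝟙 (free I) := by
  classical
  apply Cofan.IsColimit.hom_ext (isColimitFreeCofan I)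
  intro j
  show ιFree j ≫ (∑ i, pr (R := R) i ≫ ιFree i) = ιFree j ≫ 𝟙 (free I)
  rw [Preadditive.comp_sum, Category.comp_id]
  rw [Finset.sum_eq_single j]
  · rw [← Category.assoc, ι_pr, if_pos rfl, Category.id_comp]
  · intro i _ hij
    rw [← Category.assoc, ι_pr, if_neg (Ne.symm hij), Limits.zero_comp]
  · intro h
    exact absurd (Finset.mem_univ j) h

/-- categorical core: a morphism from a cokernel of free modules factors through a finite free
module as soon as it does so on generators, compatibly with relations. -/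
theorem factor_of_data {M N : SheafOfModules.{u} R} (ψ : M ⟶ N) {gen rel : Type u} [Fintype gen]
    (ρ : free rel ⟶ free gen) (π : free gen ⟶ M) [Epi π]
    (hd : ∀ {Z : SheafOfModules.{u} R} (B : free gen ⟶ Z), ρ ≫ B = 0 → ∃ a : M ⟶ Z, π ≫ a = B)
    (l : ℕ) (β : gen → Fin l → (unit R ⟶ unit R)) (τ : Fin l → (unit R ⟶ N))
    (h1 : ∀ i, ιFree i ≫ π ≫ ψ = ∑ k, β i k ≫ τ k)
    (h2 : ∀ r k, ∑ i, (ιFree r ≫ ρ ≫ pr i) ≫ β i k = 0) :
    ∃ (a : M ⟶ free (ULift.{u} (Fin l))) (b : free (ULift.{u} (Fin l)) ⟶ N), a ≫ b = ψ := by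
  let B : free gen ⟶ free (R := R) (ULift.{u} (Fin l)) :=
    Cofan.IsColimit.desc (isColimitFreeCofan gen) (fun i => ∑ k, β i k ≫ ιFree (ULift.up k))
  let Tm : free (ULift.{u} (Fin l)) ⟶ N :=
    Cofan.IsColimit.desc (isColimitFreeCofan _) (fun k => τ k.down)
  have hB : ∀ i, ιFree i ≫ B = ∑ k, β i k ≫ ιFree (ULift.up k) := by
    intro i
    rw [← freeCofan_inj]
    exact Cofan.IsColimit.fac _ _ _
  have hT : ∀ k, ιFree k ≫ Tm = τ k.down := by
    intro k
    rw [← freeCofan_inj]
    exact Cofan.IsColimit.fac _ _ _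
  have ρB : ρ ≫ B = 0 := by
    apply Cofan.IsColimit.hom_ext (isColimitFreeCofan rel)
    intro r
    show ιFree r ≫ ρ ≫ B = ιFree r ≫ 0
    rw [Limits.comp_zero]
    have e1 : ιFree r ≫ ρ ≫ B = (ιFree r ≫ ρ) ≫ (∑ i, pr i ≫ ιFree i) ≫ B := by
      rw [sum_pr, Category.id_comp, Category.assoc]
    rw [e1, Preadditive.sum_comp, Preadditive.comp_sum]
    have e2 : ∀ i, (ιFree r ≫ ρ) ≫ (pr i ≫ ιFree i) ≫ B =
        ∑ k, ((ιFree r ≫ ρ ≫ pr i) ≫ β i k) ≫ ιFree (ULift.up k) := by
      intro i
      rw [Category.assoc (pr i), hB, Preadditive.comp_sum, Preadditive.comp_sum]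
      apply Finset.sum_congr rfl
      intro k _
      simp only [Category.assoc]
    rw [Finset.sum_congr rfl (fun i _ => e2 i), Finset.sum_comm]
    apply Finset.sum_eq_zero
    intro k _
    rw [← Preadditive.sum_comp, h2, Limits.zero_comp]
  have BT : B ≫ Tm = π ≫ ψ := by
    apply Cofan.IsColimit.hom_ext (isColimitFreeCofan gen)
    intro i
    show ιFree i ≫ B ≫ Tm = ιFree i ≫ π ≫ ψ
    rw [← Category.assoc, hB, Preadditive.sum_comp, h1]
    apply Finset.sum_congr rfl
    intro k _
    rw [Category.assoc, hT]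
  obtain ⟨a, ha⟩ := hd B ρB
  refine ⟨a, Tm, ?_⟩
  rw [← cancel_epi π, ← Category.assoc, ha, BT]

end Proj

section RelSec

variable {C : Type u} [SmallCategory C] {J : GrothendieckTopology C} {R : Sheaf J RingCat.{u}}
  {X : C}

open SheafOfModules

/-- the relations, read on sections over the terminal object -/
lemma rel_sections {N : SheafOfModules.{u} (R.over X)} {gen rel : Type u} [Fintype gen]
    (ρ : free rel ⟶ free gen) (π : free gen ⟶ N) (w : ρ ≫ π = 0) (r : rel) :
    ∑ i, evU (ιFree r ≫ ρ ≫ pr i) • ev N (ιFree i ≫ π) = 0 := by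
  have e1 : ιFree r ≫ ρ ≫ π = ∑ i, (ιFree r ≫ ρ ≫ pr i) ≫ (ιFree i ≫ π) := by
    have : ιFree r ≫ ρ ≫ π = (ιFree r ≫ ρ) ≫ (∑ i, pr i ≫ ιFree i) ≫ π := by
      rw [sum_pr, Category.id_comp, Category.assoc]
    rw [this, Preadditive.sum_comp, Preadditive.comp_sum]
    apply Finset.sum_congr rfl
    intro i _
    simp only [Category.assoc]
  have e2 : ev N (ιFree r ≫ ρ ≫ π) = 0 := by
    rw [w, Limits.comp_zero]
    exact ev_zero N
  rw [e1, ev_sum] at e2
  rw [← e2]
  apply Finset.sum_congr rfl
  intro i _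
  rw [ev_comp]

end RelSec

section MapFree

variable {C : Type u} [SmallCategory C] {J : GrothendieckTopology C} {R : Sheaf J RingCat.{u}}
  {C' : Type u} [SmallCategory C'] {J' : GrothendieckTopology C'} {S : Sheaf J' RingCat.{u}}
  (F : SheafOfModules.{u} R ⥤ SheafOfModules.{u} S) [F.PreservesZeroMorphisms]
  (I : Type u) [PreservesColimitsOfShape (Discrete I) F]
  (η : SheafOfModules.unit S ≅ F.obj (SheafOfModules.unit R))

open SheafOfModules

lemma mapFreeIso_inv_pr (i : I) :
    (mapFreeIso F I η).inv ≫ pr i = F.map (pr i) ≫ η.inv := by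
  classical
  rw [Iso.inv_comp_eq]
  apply Cofan.IsColimit.hom_ext (isColimitFreeCofan I)
  intro j
  show ιFree j ≫ pr i = ιFree j ≫ (mapFreeIso F I η).hom ≫ F.map (pr i) ≫ η.inv
  rw [ιFree_mapFreeIso_hom_assoc, ← F.map_comp_assoc, ι_pr, ι_pr]
  split_ifs
  · rw [F.map_id, Category.id_comp, Iso.hom_inv_id]
  · rw [F.map_zero, Limits.zero_comp, Limits.comp_zero]

end MapFree

section Key

variable {C : Type u} [SmallCategory C] {J : GrothendieckTopology C} (R : Sheaf J RingCat.{u})
  {X₀ V : C} (q : V ⟶ X₀)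

open SheafOfModules

/-- the structure morphism `(Over.map q).obj (T V) ⟶ T X₀` -/
abbrev qT : (Over.map q).obj (T V) ⟶ T X₀ := Over.homMk q (by simp)

instance overMap_additive : (overMap.{u} R q).Additive where
  map_add := rfl

/-- transport of sections along `q` -/
noncomputable def kl (N₀ : SheafOfModules.{u} (R.over X₀)) (x : N₀.val.obj (op (T X₀))) :
    ((overMap.{u} R q).obj N₀).val.obj (op (T V)) :=
  N₀.val.map (qT q).op x

/-- transport of ring sections along `q` -/
noncomputable def klU (a : (R.over X₀).obj.obj (op (T X₀))) : (R.over V).obj.obj (op (T V)) :=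
  (R.over X₀).obj.map (qT q).op a

lemma ev_map (N₀ : SheafOfModules.{u} (R.over X₀)) (σ : unit (R.over X₀) ⟶ N₀) :
    ev ((overMap.{u} R q).obj N₀) ((overMapUnitIso q).inv ≫ (overMap.{u} R q).map σ) =
      kl R q N₀ (ev N₀ σ) := by
  show σ.val.app (op ((Over.map q).obj (T V)))
      (1 : (R.over X₀).obj.obj (op ((Over.map q).obj (T V)))) =
    N₀.val.map (qT q).op (σ.val.app (op (T X₀)) (1 : (R.over X₀).obj.obj (op (T X₀))))
  rw [← PresheafOfModules.naturality_apply]
  congr 1
  exact (PresheafOfModules.unit_map_one _ _).symm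

lemma evU_map (α : unit (R.over X₀) ⟶ unit (R.over X₀)) :
    evU ((overMapUnitIso q).inv ≫ (overMap.{u} R q).map α ≫ (overMapUnitIso q).hom) =
      klU R q (evU α) :=
  ev_map R q (unit (R.over X₀)) α

/-- Key theorem: a morphism out of the restriction (along `Over.map q`) of a finitely generated
cokernel of free modules factors through a finite free module, given the section-level data. -/
theorem key {M : SheafOfModules.{u} (R.over X₀)} {gen rel : Type u} [Fintype gen]
    (ρ : free rel ⟶ free gen) (π : free gen ⟶ M) (w : ρ ≫ π = 0)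
    (hc : IsColimit (CokernelCofork.ofπ π w))
    {N : SheafOfModules.{u} (R.over V)} (ψ : (overMap.{u} R q).obj M ⟶ N)
    (l : ℕ) (t : Fin l → N.val.obj (op (T V))) (b : gen → Fin l → (R.over V).obj.obj (op (T V)))
    (h1 : ∀ i, ψ.val.app (op (T V)) (kl R q M (ev M (ιFree i ≫ π))) = ∑ k, b i k • t k)
    (h2 : ∀ r k, ∑ i, klU R q (evU (ιFree r ≫ ρ ≫ pr i)) * b i k = 0) :
    ∃ (a : (overMap.{u} R q).obj M ⟶ free (ULift.{u} (Fin l)))
      (b' : free (ULift.{u} (Fin l)) ⟶ N), a ≫ b' = ψ := by
  let Φ := overMap.{u} R q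
  haveI : PreservesColimitsOfSize.{u, u} Φ :=
    Groth.Agent.Lib.Helper21.PushColim.pushforward_preservesColimits _
  haveI : PreservesColimitsOfSize.{0, 0} Φ := preservesColimitsOfSize_shrink _
  let η : unit (R.over V) ≅ Φ.obj (unit (R.over X₀)) := (overMapUnitIso q).symm
  let eg := mapFreeIso Φ gen η
  let er := mapFreeIso Φ rel η
  let ρ' : free rel ⟶ free gen := er.hom ≫ Φ.map ρ ≫ eg.inv
  let π' : free gen ⟶ Φ.obj M := eg.hom ≫ Φ.map π
  have hcΦ : IsColimit ((CokernelCofork.ofπ π w).map Φ) :=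
    CokernelCofork.mapIsColimit _ hc Φ
  haveI : Epi (Φ.map π) := epi_of_isColimit_cofork hcΦ
  haveI : Epi π' := epi_comp _ _
  refine factor_of_data ψ ρ' π' ?_ l (fun i k => ofEv _ (b i k)) (fun k => ofEv N (t k)) ?_ ?_
  · intro Z B hB
    have h0 : Φ.map ρ ≫ (eg.inv ≫ B) = 0 := by
      have : er.hom ≫ (Φ.map ρ ≫ eg.inv ≫ B) = er.hom ≫ 0 := by
        rw [Limits.comp_zero, ← hB]
        simp only [ρ', Category.assoc]
      exact (cancel_epi er.hom).1 this
    refine ⟨hcΦ.desc (CokernelCofork.ofπ (eg.inv ≫ B) h0), ?_⟩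
    have hfac : Φ.map π ≫ hcΦ.desc (CokernelCofork.ofπ (eg.inv ≫ B) h0) = eg.inv ≫ B :=
      hcΦ.fac _ WalkingParallelPair.one
    show (eg.hom ≫ Φ.map π) ≫ _ = B
    rw [Category.assoc, hfac, Iso.hom_inv_id_assoc]
  · intro i
    apply ev_injective
    rw [ev_sum]
    have e1 : ιFree i ≫ π' ≫ ψ = ((overMapUnitIso q).inv ≫ Φ.map (ιFree i ≫ π)) ≫ ψ := by
      show ιFree i ≫ (eg.hom ≫ Φ.map π) ≫ ψ = _
      rw [Φ.map_comp, ← Category.assoc, ← Category.assoc, ιFree_mapFreeIso_hom]
      simp only [Category.assoc]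
      rfl
    rw [e1]
    have e2 : ev N (((overMapUnitIso q).inv ≫ Φ.map (ιFree i ≫ π)) ≫ ψ) =
        ψ.val.app (op (T V)) (ev _ ((overMapUnitIso q).inv ≫ Φ.map (ιFree i ≫ π))) := rfl
    rw [e2, ev_map, h1]
    apply Finset.sum_congr rfl
    intro k _
    rw [ev_comp, ev_ofEv]
    congr 1
    exact (ev_ofEv (unit (R.over V)) (b i k)).symm
  · intro r k
    apply ev_injective
    rw [ev_sum, ev_zero]
    refine Eq.trans (Finset.sum_congr rfl (fun i _ => ?_)) (h2 r k)
    rw [ev_comp, ev_ofEv]
    have e3 : ιFree r ≫ ρ' ≫ pr i =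
        (overMapUnitIso q).inv ≫ Φ.map (ιFree r ≫ ρ ≫ pr i) ≫ (overMapUnitIso q).hom := by
      show ιFree r ≫ (er.hom ≫ Φ.map ρ ≫ eg.inv) ≫ pr i = _
      simp only [Category.assoc]
      rw [mapFreeIso_inv_pr, ιFree_mapFreeIso_hom_assoc, Φ.map_comp, Φ.map_comp]
      simp only [Category.assoc]
      rfl
    rw [e3, evU_map]
    rfl

end Key

end Groth.Agent.Lib.Helper21.LocFac
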