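import Mathlib
import Groth.Agent.Lib.Helper21.LocFac

/-!
Helper library (helper21): calculus of morphisms out of the unit module on a small site with a
terminal object `X`: they are the sections over `X`.
-/

set_option autoImplicit false
universe u
open CategoryTheory Opposite Limits

namespace Groth.Agent.Lib.Helper21.TermSec

open Groth.Agent.Lib.Helper21.LocFac SheafOfModules

variable {C : Type u} [SmallCategory C] {J : GrothendieckTopology C} {R : Sheaf J RingCat.{u}}
  {X : C} (hX : IsTerminal X)

/-- evaluation of a morphism from the unit at the terminal object -/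
noncomputable def ev (N : SheafOfModules.{u} R) (σ : unit R ⟶ N) : N.val.obj (op X) :=
  σ.val.app (op X) (1 : R.obj.obj (op X))

include hX in
lemma sections_ext_T (N : SheafOfModules.{u} R) (s t : N.sections)
    (h : s.1 (op X) = t.1 (op X)) : s = t := by
  apply PresheafOfModules.sections_ext
  intro U
  have hs := s.2 (hX.from U.unop).op
  have ht := t.2 (hX.from U.unop).op
  exact hs.symm.trans ((congrArg _ h).trans ht)

include hX in
lemma ev_injective (N : SheafOfModules.{u} R) : Function.Injective (ev (X := X) N) := by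
  intro σ τ h
  apply N.unitHomEquiv.injective
  apply sections_ext_T hX
  exact h

lemma ev_add (N : SheafOfModules.{u} R) (σ τ : unit R ⟶ N) :
    ev (X := X) N (σ + τ) = ev N σ + ev N τ := rfl

lemma ev_zero (N : SheafOfModules.{u} R) : ev (X := X) N (0 : unit R ⟶ N) = 0 := rfl

/-- `ev` as an additive map -/
noncomputable def evHom (N : SheafOfModules.{u} R) : (unit R ⟶ N) →+ N.val.obj (op X) :=
  AddMonoidHom.mk' (ev N) (ev_add N)

lemma ev_sum (N : SheafOfModules.{u} R) {ι : Type*} (s : Finset ι) (σ : ι → (unit R ⟶ N)) :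
    ev (X := X) N (∑ i ∈ s, σ i) = ∑ i ∈ s, ev N (σ i) :=
  map_sum (evHom N) σ s

/-- evaluation of an endomorphism of the unit: an element of the ring `R(X)` -/
noncomputable def evU (β : unit R ⟶ unit R) : R.obj.obj (op X) :=
  β.val.app (op X) (1 : R.obj.obj (op X))

lemma ev_comp (N : SheafOfModules.{u} R) (β : unit R ⟶ unit R) (τ : unit R ⟶ N) :
    ev (X := X) N (β ≫ τ) = evU (X := X) β • ev N τ := by
  show τ.val.app (op X) (β.val.app (op X) (1 : R.obj.obj (op X))) = _
  have h1 : β.val.app (op X) (1 : R.obj.obj (op X)) =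
      evU (X := X) β • (1 : R.obj.obj (op X)) := by
    show _ = evU (X := X) β * 1
    rw [mul_one]
    rfl
  rw [h1]
  exact map_smul (τ.val.app (op X)).hom (evU β) _

lemma ev_comp_right {N N' : SheafOfModules.{u} R} (σ : unit R ⟶ N) (f : N ⟶ N') :
    ev (X := X) N' (σ ≫ f) = f.val.app (op X) (ev N σ) := rfl

/-- the section with prescribed value at the terminal object -/
noncomputable def secOf (N : SheafOfModules.{u} R) (t : N.val.obj (op X)) : N.sections :=
  PresheafOfModules.sectionsMk (M := N.val) (fun U => N.val.map (hX.from U.unop).op t) (by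
    intro U V f
    have h : (hX.from U.unop).op ≫ f = (hX.from V.unop).op := by
      rw [← f.op_unop, ← op_comp]
      congr 1
      exact hX.hom_ext _ _
    rw [← h, PresheafOfModules.map_comp]
    rfl)

/-- the morphism from the unit with prescribed evaluation -/
noncomputable def ofEv (N : SheafOfModules.{u} R) (t : N.val.obj (op X)) : unit R ⟶ N :=
  N.unitHomEquiv.symm (secOf hX N t)

lemma ev_ofEv (N : SheafOfModules.{u} R) (t : N.val.obj (op X)) :
    ev N (ofEv hX N t) = t := by
  have h : N.unitHomEquiv (ofEv hX N t) = secOf hX N t := Equiv.apply_symm_apply _ _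
  have h2 : ev N (ofEv hX N t) = (N.unitHomEquiv (ofEv hX N t)).1 (op X) := rfl
  rw [h2, h]
  show N.val.map (hX.from X).op t = t
  have : hX.from X = 𝟙 X := hX.hom_ext _ _
  rw [this, op_id, PresheafOfModules.map_id]
  rfl

section Free

variable (κ : Type u) [Fintype κ]

/-- the basis sections of a free module -/
noncomputable def e (k : κ) : (free (R := R) κ).val.obj (op X) := ev (free κ) (ιFree k)

/-- coordinates on the sections of a finite free module -/
noncomputable def A :
    (free (R := R) κ).val.obj (op X) →ₗ[R.obj.obj (op X)] (κ → R.obj.obj (op X)) :=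
  LinearMap.pi (fun k => ((pr (R := R) k).val.app (op X)).hom)

/-- linear combinations of the basis sections -/
noncomputable def B :
    (κ → R.obj.obj (op X)) →ₗ[R.obj.obj (op X)] (free (R := R) κ).val.obj (op X) :=
  Fintype.linearCombination (R.obj.obj (op X)) (e (R := R) (X := X) κ)

lemma A_apply (x : (free (R := R) κ).val.obj (op X)) (k : κ) :
    A (X := X) κ x k = (pr (R := R) k).val.app (op X) x := rfl

include hX in
lemma B_A (x : (free (R := R) κ).val.obj (op X)) : B κ (A κ x) = x := by
  let σ := ofEv hX (free κ) x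
  have hσ : ev (free κ) σ = x := ev_ofEv hX _ x
  have e1 : σ = ∑ k, (σ ≫ pr k) ≫ ιFree k := by
    have : σ = σ ≫ ∑ k, pr (R := R) k ≫ ιFree k := by rw [sum_pr, Category.comp_id]
    rw [Preadditive.comp_sum] at this
    refine this.trans (Finset.sum_congr rfl (fun k _ => ?_))
    rw [Category.assoc]
  have e2 : ev (X := X) (free κ) σ = ∑ k, evU (X := X) (σ ≫ pr k) • e κ k := by
    conv_lhs => rw [e1]
    rw [ev_sum]
    exact Finset.sum_congr rfl (fun k _ => ev_comp _ _ _)
  have e3 : ∀ k, evU (X := X) (σ ≫ pr k) = A κ x k := by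
    intro k
    rw [A_apply, ← hσ]
    rfl
  show ∑ k, A κ x k • e κ k = x
  calc ∑ k, A (X := X) κ x k • e κ k = ∑ k, evU (X := X) (σ ≫ pr k) • e κ k :=
        Finset.sum_congr rfl (fun k _ => by rw [e3])
    _ = ev (free κ) σ := e2.symm
    _ = x := hσ

lemma pr_e [DecidableEq κ] (j k : κ) :
    (pr (R := R) j).val.app (op X) (e (X := X) κ k) =
      if k = j then (1 : R.obj.obj (op X)) else 0 := by
  have h : (pr (R := R) j).val.app (op X) (e (X := X) κ k) =
      ev (X := X) (unit R) (ιFree k ≫ pr j) := rfl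
  rw [h, ι_pr]
  split_ifs with hkj
  · rfl
  · rfl

lemma A_B (r : κ → R.obj.obj (op X)) : A (R := R) κ (B κ r) = r := by
  classical
  funext j
  rw [A_apply]
  show (pr (R := R) j).val.app (op X) (∑ k, r k • e κ k) = r j
  rw [map_sum]
  rw [Finset.sum_eq_single j]
  · rw [map_smul, pr_e, if_pos rfl]
    exact mul_one (r j)
  · intro k _ hkj
    rw [map_smul, pr_e, if_neg hkj]
    exact mul_zero (r k)
  · intro h
    exact absurd (Finset.mem_univ j) h

end Free

section Main

variable {κ : Type u} [Fintype κ]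

include hX in
/-- linear maps out of the sections of a finite free module are determined on basis sections -/
lemma hom_ext_free {M : Type*} [AddCommGroup M] [Module (R.obj.obj (op X)) M]
    (f g : (free (R := R) κ).val.obj (op X) →ₗ[R.obj.obj (op X)] M)
    (h : ∀ k, f (e κ k) = g (e κ k)) : f = g := by
  ext x
  rw [← B_A hX κ x]
  show f (∑ k, A κ x k • e κ k) = g (∑ k, A κ x k • e κ k)
  rw [map_sum, map_sum]
  refine Finset.sum_congr rfl (fun k _ => ?_)
  rw [map_smul, map_smul, h]

variable {E E' : SheafOfModules.{u} R} (i : E ⟶ free κ) (p : free κ ⟶ E) (hip : i ≫ p = 𝟙 E)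

include hX hip in
theorem app_injective (φ φ' : E ⟶ E') (h : φ.val.app (op X) = φ'.val.app (op X)) : φ = φ' := by
  have h1 : p ≫ φ = p ≫ φ' := by
    apply Cofan.IsColimit.hom_ext (isColimitFreeCofan κ)
    intro k
    show ιFree k ≫ p ≫ φ = ιFree k ≫ p ≫ φ'
    apply ev_injective hX
    have e1 : ∀ χ : E ⟶ E', ev (X := X) E' (ιFree k ≫ p ≫ χ) =
        χ.val.app (op X) (ev E (ιFree k ≫ p)) := fun χ => rfl
    rw [e1, e1, h]
  calc φ = (i ≫ p) ≫ φ := by rw [hip, Category.id_comp]
    _ = (i ≫ p) ≫ φ' := by rw [Category.assoc, h1, Category.assoc]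
    _ = φ' := by rw [hip, Category.id_comp]

include hX hip in
theorem app_surjective (g : E.val.obj (op X) ⟶ E'.val.obj (op X)) :
    ∃ φ : E ⟶ E', φ.val.app (op X) = g := by
  let ψ : free κ ⟶ E' := Cofan.IsColimit.desc (isColimitFreeCofan κ)
    (fun k => ofEv hX E' (g (p.val.app (op X) (e κ k))))
  have hψ : ∀ k, ιFree k ≫ ψ = ofEv hX E' (g (p.val.app (op X) (e κ k))) := by
    intro k
    rw [← freeCofan_inj]
    exact Cofan.IsColimit.fac _ _ _
  have h1 : (ψ.val.app (op X)).hom = g.hom.comp (p.val.app (op X)).hom := by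
    apply hom_ext_free hX
    intro k
    show ev E' (ιFree k ≫ ψ) = g (p.val.app (op X) (e κ k))
    rw [hψ, ev_ofEv]
  refine ⟨i ≫ ψ, ?_⟩
  apply ModuleCat.hom_ext
  ext y
  show (ψ.val.app (op X)).hom (i.val.app (op X) y) = g y
  rw [h1]
  show g (p.val.app (op X) (i.val.app (op X) y)) = g y
  have : p.val.app (op X) (i.val.app (op X) y) = y := by
    have := congrArg (fun f => f.val.app (op X) y) hip
    exact this
  rw [this]

include hX hip in
theorem finite_projective :
    Module.Finite (R.obj.obj (op X)) (E.val.obj (op X)) ∧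
      Module.Projective (R.obj.obj (op X)) (E.val.obj (op X)) := by
  let ii : E.val.obj (op X) →ₗ[R.obj.obj (op X)] (κ → R.obj.obj (op X)) :=
    (A κ).comp (i.val.app (op X)).hom
  let ss : (κ → R.obj.obj (op X)) →ₗ[R.obj.obj (op X)] E.val.obj (op X) :=
    (p.val.app (op X)).hom.comp (B κ)
  have H : ss.comp ii = LinearMap.id := by
    ext y
    show p.val.app (op X) (B κ (A κ (i.val.app (op X) y))) = y
    rw [B_A hX]
    exact congrArg (fun f => f.val.app (op X) y) hip
  have hs : Function.Surjective ss := fun y => ⟨ii y, LinearMap.congr_fun H y⟩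
  exact ⟨Module.Finite.of_surjective ss hs, Module.Projective.of_split ii ss H⟩

end Main

section Realize

include hX in
/-- every finite projective module over `R(X)` is the module of sections of a direct summand of a
finite free sheaf of modules -/
theorem exists_of_finite_projective (M : ModuleCat.{u} (R.obj.obj (op X)))
    [Module.Finite (R.obj.obj (op X)) M] [Module.Projective (R.obj.obj (op X)) M] :
    ∃ (n : ℕ) (E : SheafOfModules.{u} R) (i : E ⟶ free (ULift.{u} (Fin n)))
      (p : free (ULift.{u} (Fin n)) ⟶ E), i ≫ p = 𝟙 E ∧ Nonempty (E.val.obj (op X) ≅ M) := by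
  obtain ⟨n, f, hf⟩ := Module.Finite.exists_fin' (R.obj.obj (op X)) M
  let κ : Type u := ULift.{u} (Fin n)
  let cc : (κ → R.obj.obj (op X)) ≃ₗ[R.obj.obj (op X)] (Fin n → R.obj.obj (op X)) :=
    LinearEquiv.funCongrLeft (R.obj.obj (op X)) (R.obj.obj (op X)) Equiv.ulift.symm
  let π : (κ → R.obj.obj (op X)) →ₗ[R.obj.obj (op X)] M := f.comp cc.toLinearMap
  have hπ : Function.Surjective π := hf.comp cc.surjective
  obtain ⟨s, hs⟩ := Module.projective_lifting_property π LinearMap.id hπ
  have hs' : ∀ m, π (s m) = m := fun m => LinearMap.congr_fun hs m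
  let θ : (free (R := R) κ).val.obj (op X) →ₗ[R.obj.obj (op X)] (free (R := R) κ).val.obj (op X) :=
    (B κ).comp (s.comp (π.comp (A κ)))
  have hθ : ∀ x, θ (θ x) = θ x := by
    intro x
    show B κ (s (π (A κ (B κ (s (π (A κ x))))))) = B κ (s (π (A κ x)))
    rw [A_B, hs']
  obtain ⟨ε, hε⟩ := app_surjective hX (E := free κ) (E' := free κ) (𝟙 _) (𝟙 _)
    (Category.id_comp _) (ModuleCat.ofHom θ)
  have hεx : ∀ x, ε.val.app (op X) x = θ x := fun x => by rw [hε]; rfl
  have hidem : ε ≫ ε = ε := by
    apply app_injective hX (E := free κ) (E' := free κ) (𝟙 _) (𝟙 _) (Category.id_comp _)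
    apply ModuleCat.hom_ext
    ext x
    show ε.val.app (op X) (ε.val.app (op X) x) = ε.val.app (op X) x
    rw [hεx, hεx, hθ]
  let pE : free κ ⟶ Limits.image ε := factorThruImage ε
  let iE : Limits.image ε ⟶ free κ := Limits.image.ι ε
  have hfac : pE ≫ iE = ε := Limits.image.fac ε
  have hip : iE ≫ pE = 𝟙 _ := by
    rw [← cancel_epi pE, ← cancel_mono iE]
    simp only [Category.assoc, Category.comp_id]
    rw [← Category.assoc, hfac, hidem]
  have hipx : ∀ y, pE.val.app (op X) (iE.val.app (op X) y) = y := fun y =>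
    congrArg (fun f => f.val.app (op X) y) hip
  have hfacx : ∀ x, iE.val.app (op X) (pE.val.app (op X) x) = θ x := fun x =>
    (congrArg (fun f => f.val.app (op X) x) hfac).trans (hεx x)
  refine ⟨n, Limits.image ε, iE, pE, hip, ⟨LinearEquiv.toModuleIso ?_⟩⟩
  refine LinearEquiv.ofLinear (π.comp ((A κ).comp (iE.val.app (op X)).hom))
    ((pE.val.app (op X)).hom.comp ((B κ).comp s)) ?_ ?_
  · ext m
    show π (A κ (iE.val.app (op X) (pE.val.app (op X) (B κ (s m))))) = m
    rw [hfacx]
    show π (A κ (B κ (s (π (A κ (B κ (s m))))))) = m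
    rw [A_B, A_B, hs', hs']
  · ext y
    show pE.val.app (op X) (B κ (s (π (A κ (iE.val.app (op X) y))))) = y
    have : B κ (s (π (A κ (iE.val.app (op X) y)))) = θ (iE.val.app (op X) y) := rfl
    rw [this, ← hfacx, hipx, hipx]

end Realize

end Groth.Agent.Lib.Helper21.TermSec
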