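import Mathlib
import Groth.Agent.Lib.Helper21.GCLift
import Groth.Agent.Lib.Helper21.GCStein2
import Groth.Agent.Lib.Helper21.TermSec
import Groth.Agent.Lib.Helper11.InvPullback
import Groth.Agent.Lib.Helper16.FLF7

/-!
# Invertible modules trivial on a fibre with `H^1(X_y, O) = 0` (helper21)

`f : X ⟶ Y` proper flat, `Y` locally Noetherian, `N` invertible on `X` with `N|_{X_y} ≅ O_{X_y}` and
`H^1(X_y, O_{X_y}) = 0`.  Then `N` is trivial on `f⁻¹U` for some open neighbourhood `U` of `y`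
(`exists_isTrivOn_preimage`).
-/

set_option autoImplicit false
universe u

open CategoryTheory CategoryTheory.Limits Opposite TopologicalSpace AlgebraicGeometry

namespace Groth.Agent.Lib.helper21.InvFibre

open Scheme.Modules Groth.Agent.Lib.helper16.FLF
open Groth.Agent.Lib.helper11.InvMod Groth.Agent.Lib.helper11.IsoLocus
open Groth.Agent.Lib.helper11.InvPullback Groth.Agent.Lib.helper11.GenLocus
open Groth.Agent.Lib.helper11.InvHom

section general

variable {X Y : Scheme.{u}}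

/-- a finite locally free module on the source of a flat morphism is flat over the base -/
theorem isFlatOver_of_isFinLocFree (f : X ⟶ Y) [Flat f] (N : X.Modules)
    (hN : FlatMod.IsFinLocFree N) : FlatMod.IsFlatOver f N := by
  intro x
  unfold FlatMod.IsFlatOverAt
  letI := FlatMod.moduleStalkOver f N x
  letI : Algebra (Y.presheaf.stalk (f.base x)) (X.presheaf.stalk x) :=
    (f.stalkMap x).hom.toAlgebra
  haveI : IsScalarTower (Y.presheaf.stalk (f.base x)) (X.presheaf.stalk x)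
      (N.presheaf.stalk x) :=
    IsScalarTower.of_algebraMap_smul (fun r m => rfl)
  obtain ⟨hfree, hfin⟩ := free_stalk_of_isFinLocFree _ hN x
  haveI : Module.Flat (X.presheaf.stalk x) (N.presheaf.stalk x) := inferInstance
  haveI : Module.Flat (Y.presheaf.stalk (f.base x)) (X.presheaf.stalk x) := Flat.stalkMap f x
  exact Module.Flat.trans _ (X.presheaf.stalk x) _

theorem isCoh_of_isInvertible {N : X.Modules} (hN : PicF.IsInvertible N) : Coh.IsCoh N :=
  ⟨isQuasicoherent_of_isFinLocFree N (isFinLocFree_of_isInvertible hN),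
    isFiniteType_of_isFinLocFree _ (isFinLocFree_of_isInvertible hN)⟩

/-- the morphism `O ⟶ M` named by a global section -/
noncomputable def homOfSec (M : X.Modules) (s : M.val.obj (op ⊤)) : Coh.structureModule X ⟶ M :=
  Groth.Agent.Lib.Helper21.TermSec.ofEv (X := (⊤ : X.Opens)) Limits.isTerminalTop M s

theorem homOfSec_app (M : X.Modules) (s : M.val.obj (op ⊤)) :
    ((homOfSec M s).val.app (op ⊤)).hom (1 : X.ringCatSheaf.obj.obj (op ⊤)) = s :=
  Groth.Agent.Lib.Helper21.TermSec.ev_ofEv (X := (⊤ : X.Opens)) Limits.isTerminalTop M s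

end general

section unit

open Groth.Agent.Lib.helper8.FlatCohBC Groth.Agent.Lib.helper21.GCCech

variable {X X' : Scheme.{u}} (g : X' ⟶ X) (F : X.Modules) (σ : Coh.structureModule X ⟶ F)

/-- the section of `g^*F` induced by `σ : O_X ⟶ F` -/
noncomputable def pullSec : Coh.structureModule X' ⟶ (Scheme.Modules.pullback g).obj F :=
  (pullbackUnitIso g).inv ≫ (Scheme.Modules.pullback g).map σ

theorem unit_comm :
    σ ≫ (Scheme.Modules.pullbackPushforwardAdjunction g).unit.app F =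
      unitToPush g ≫ (Scheme.Modules.pushforward g).map (pullSec g F σ) := by
  let adj := Scheme.Modules.pullbackPushforwardAdjunction g
  have h1 : unitToPush g =
      adj.unit.app _ ≫ (Scheme.Modules.pushforward g).map (pullbackUnitHom g) := by
    have h2 : adj.homEquiv _ _ (pullbackUnitHom g) = unitToPush g := by
      rw [pullbackUnitHom_eq g, Equiv.apply_symm_apply]
    rw [← h2, Adjunction.homEquiv_unit]
  have h3 : pullbackUnitHom g ≫ pullSec g F σ = (Scheme.Modules.pullback g).map σ := by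
    unfold pullSec
    change (pullbackUnitIso g).hom ≫ _ = _
    rw [Iso.hom_inv_id_assoc]
  rw [h1, Category.assoc, ← Functor.map_comp, h3]
  exact adj.unit.naturality σ

theorem pullSec_app_top :
    ((pullSec g F σ).val.app (op (g ⁻¹ᵁ ⊤))).hom (1 : X'.ringCatSheaf.obj.obj (op (g ⁻¹ᵁ ⊤))) =
      (((Scheme.Modules.pullbackPushforwardAdjunction g).unit.app F).val.app (op ⊤)).hom
        ((σ.val.app (op ⊤)).hom (1 : X.ringCatSheaf.obj.obj (op ⊤))) := by
  have h := congrArg (fun φ : Coh.structureModule X ⟶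
      (Scheme.Modules.pushforward g).obj ((Scheme.Modules.pullback g).obj F) =>
      (φ.val.app (op ⊤)).hom (1 : X.ringCatSheaf.obj.obj (op ⊤))) (unit_comm g F σ)
  have h2 : ((unitToPush g ≫ (Scheme.Modules.pushforward g).map (pullSec g F σ)).val.app
      (op ⊤)).hom (1 : X.ringCatSheaf.obj.obj (op ⊤)) =
      ((pullSec g F σ).val.app (op (g ⁻¹ᵁ ⊤))).hom (g.app ⊤ (1 : Γ(X, ⊤))) := rfl
  rw [map_one] at h2
  exact h2.symm.trans h.symm

end unit

section iso

open Groth.Agent.Lib.helper8.FlatCohBC Groth.Agent.Lib.helper21.GCCech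

variable {X X' : Scheme.{u}} {B : Type u} [Field B] (fX' : X' ⟶ Spec (CommRingCat.of B))
  (g : X' ⟶ X) (F : X.Modules) (σ : Coh.structureModule X ⟶ F)
  (ε : Coh.structureModule X' ≅ (Scheme.Modules.pullback g).obj F)

theorem isIso_pullSec_of_smul (b : B) (hb : b ≠ 0)
    (s : (Coh.toAb F).obj.obj (op ⊤))
    (t : (Coh.toAb ((Coh.push g).obj ((Scheme.Modules.pullback g).obj F))).obj.obj (op ⊤))
    (hs : (σ.val.app (op ⊤)).hom (1 : X.ringCatSheaf.obj.obj (op ⊤)) = s)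
    (ht : (ε.hom.val.app (op (g ⁻¹ᵁ ⊤))).hom (1 : X'.ringCatSheaf.obj.obj (op (g ⁻¹ᵁ ⊤))) = t)
    (h : letI := modSec' fX' g F (⊤ : X.Opens)
      ((ηM g F).hom.app (op ⊤)).hom s = b • t) :
    IsIso (pullSec g F σ) := by
  letI := modSec' fX' g F (⊤ : X.Opens)
  suffices hsuff : IsIso (pullSec g F σ ≫ ε.inv) by
    have : pullSec g F σ = (pullSec g F σ ≫ ε.inv) ≫ ε.hom := by
      rw [Category.assoc, Iso.inv_hom_id, Category.comp_id]
    rw [this]
    infer_instance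
  rw [isIso_iff_isUnit_fn_top]
  have h1 := pullSec_app_top g F σ
  let c : X'.ringCatSheaf.obj.obj (op (g ⁻¹ᵁ ⊤)) := secAlg fX' (g ⁻¹ᵁ ⊤) b
  have h3 : (ε.hom.val.app (op (g ⁻¹ᵁ ⊤))).hom c = b • t := by
    rw [← ht]
    have h5 := (ε.hom.val.app (op (g ⁻¹ᵁ ⊤))).hom.map_smul c
      (1 : X'.ringCatSheaf.obj.obj (op (g ⁻¹ᵁ ⊤)))
    have h6 : c • ((1 : X'.ringCatSheaf.obj.obj (op (g ⁻¹ᵁ ⊤))) :
          (Coh.structureModule X').val.obj (op (g ⁻¹ᵁ ⊤))) = c := mul_one c
    exact (congrArg (ε.hom.val.app (op (g ⁻¹ᵁ ⊤))).hom h6).symm.trans h5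
  have h4 : ((pullSec g F σ).val.app (op (g ⁻¹ᵁ ⊤))).hom
      (1 : X'.ringCatSheaf.obj.obj (op (g ⁻¹ᵁ ⊤))) = b • t := by
    rw [h1, hs]
    exact h
  have h2 : fn (pullSec g F σ ≫ ε.inv) ⊤ = secAlg fX' (g ⁻¹ᵁ ⊤) b := by
    have h7 : fn (pullSec g F σ ≫ ε.inv) ⊤ = (ε.inv.val.app (op (g ⁻¹ᵁ ⊤))).hom
        (((pullSec g F σ).val.app (op (g ⁻¹ᵁ ⊤))).hom
          (1 : X'.ringCatSheaf.obj.obj (op (g ⁻¹ᵁ ⊤)))) := rfl
    rw [h7, h4, ← h3]
    exact congrArg (fun φ : Coh.structureModule X' ⟶ Coh.structureModule X' =>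
      (φ.val.app (op (g ⁻¹ᵁ ⊤))).hom c) ε.hom_inv_id
  rw [h2]
  exact (IsUnit.mk0 b hb).map (secAlg fX' (g ⁻¹ᵁ ⊤))

end iso

section main

open Groth.Agent.Lib.helper21.GCBase Groth.Agent.Lib.helper21.GCChart
open Groth.Agent.Lib.helper21.GCCech Groth.Agent.Lib.Helper18

theorem subsingleton_HH_of_iso {X : Scheme.{u}} {M N : X.Modules} (e : M ≅ N) (n : ℕ)
    (h : Subsingleton (Coh.HH X M n)) : Subsingleton (Coh.HH X N n) := by
  refine ⟨fun x y => ?_⟩
  have hx : HH.map e.hom n (HH.map e.inv n x) = x := by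
    rw [← HH.map_comp_apply, e.inv_hom_id, HH.map_id]
    rfl
  have hy : HH.map e.hom n (HH.map e.inv n y) = y := by
    rw [← HH.map_comp_apply, e.inv_hom_id, HH.map_id]
    rfl
  rw [← hx, ← hy, Subsingleton.elim (HH.map e.inv n x) (HH.map e.inv n y)]

variable {X Y : Scheme.{u}} (f : X ⟶ Y) [IsProper f] [Flat f] [IsLocallyNoetherian Y]

/-- **an invertible module trivial on a fibre with `H^1(X_y, O) = 0` is trivial over a neighbourhood** -/
theorem exists_isTrivOn_preimage (y : Y)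
    (h1 : Subsingleton (Coh.HH (f.fiber y) (Coh.structureModule (f.fiber y)) 1))
    (N : X.Modules) (hN : PicF.IsInvertible N)
    (hy : Nonempty (CohIII.fiberMod f N y ≅ Coh.structureModule (f.fiber y))) :
    ∃ U : Y.Opens, y ∈ U ∧ IsTrivOn N (f ⁻¹ᵁ U) := by
  obtain ⟨V, hV, hyV⟩ : ∃ V : Y.Opens, IsAffineOpen V ∧ y ∈ V := by
    obtain ⟨_, ⟨V, hV, rfl⟩, hyV, -⟩ :=
      Y.isBasis_affineOpens.exists_subset_of_mem_open (Set.mem_univ y) isOpen_univ
    exact ⟨V, hV, hyV⟩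
  obtain ⟨x, rfl⟩ : ∃ x, hV.fromSpec x = y := by
    have : y ∈ Set.range hV.fromSpec := by
      rw [hV.range_fromSpec]
      exact hyV
    exact this
  haveI : IsNoetherianRing Γ(Y, V) := IsLocallyNoetherian.component_noetherian ⟨V, hV⟩
  letI := GCBase.overA f hV
  haveI : IsProper ((↑(f ⁻¹ᵁ V) : Scheme.{u}) ↘ Spec (CommRingCat.of Γ(Y, V))) :=
    inferInstanceAs (IsProper (fA f hV))
  have hsq := GCBase.isPullback_chart f hV
  have hNc := isCoh_of_isInvertible hN
  haveI : N.IsQuasicoherent := hNc.1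
  have hFAc : Coh.IsCoh (FA f (V := V) N) := GCBase.isCoh_FA f N hNc
  have hfl : FlatMod.IsFlatOver (fA f hV) (FA f (V := V) N) :=
    GCBase.isFlatOver_FA f hV N (isFlatOver_of_isFinLocFree f N (isFinLocFree_of_isInvertible hN))
  have hFAinv : PicF.IsInvertible (FA f (V := V) N) := isInvertible_restrict _ hN
  letI := GCChart.fibreOver f Γ(Y, V) hV.fromSpec x
  let g' := GCChart.lift f Γ(Y, V) hV.fromSpec (f ⁻¹ᵁ V).ι hsq x
  have hpb := GCChart.isPullback_lift f Γ(Y, V) hV.fromSpec (f ⁻¹ᵁ V).ι hsq x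
  let e1 := GCChart.fibreModIso f Γ(Y, V) hV.fromSpec (f ⁻¹ᵁ V).ι hsq x N (FA f (V := V) N)
    (GCBase.eF f (V := V) N)
  obtain ⟨e2⟩ := hy
  let ε : Coh.structureModule (f.fiber (hV.fromSpec x)) ≅
      (Scheme.Modules.pullback g').obj (FA f (V := V) N) := (e1 ≪≫ e2).symm
  have h1' : Subsingleton (Coh.HH (f.fiber (hV.fromSpec x))
      ((Scheme.Modules.pullback g').obj (FA f (V := V) N)) 1) := subsingleton_HH_of_iso ε 1 h1
  let t : (Coh.toAb ((Coh.push g').obj
      ((Scheme.Modules.pullback g').obj (FA f (V := V) N)))).obj.obj (op ⊤) :=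
    (ε.hom.val.app (op (g' ⁻¹ᵁ ⊤))).hom
      (1 : (f.fiber (hV.fromSpec x)).ringCatSheaf.obj.obj (op (g' ⁻¹ᵁ ⊤)))
  obtain ⟨a, ha, s, hs⟩ := GCCech.exists_lift_section Γ(Y, V) (↑(f ⁻¹ᵁ V) : Scheme.{u})
    (FA f (V := V) N) hFAc hfl x (f.fiber (hV.fromSpec x)) g' hpb h1' t
  let σ := homOfSec (FA f (V := V) N) s
  have hb : algebraMap Γ(Y, V) x.asIdeal.ResidueField a ≠ 0 := by
    intro h0
    exact ha (Ideal.algebraMap_residueField_eq_zero.mp h0)
  have hiso : IsIso (pullSec g' (FA f (V := V) N) σ) :=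
    isIso_pullSec_of_smul (GCChart.fibreTo f Γ(Y, V) hV.fromSpec x) g' (FA f (V := V) N) σ ε
      (algebraMap Γ(Y, V) x.asIdeal.ResidueField a) hb s t (homOfSec_app (FA f (V := V) N) s) rfl hs
  have hloc : g' ⁻¹ᵁ (isoLocus σ) = ⊤ := by
    have h2 := genLocus_pullback g' (FA f (V := V) N) hFAinv σ (pullbackUnitIso g').symm
    have h3 : CohB1.genLocus ((Scheme.Modules.pullback g').obj (FA f (V := V) N))
        ((pullbackUnitIso g').symm.hom ≫ (Scheme.Modules.pullback g').map σ) = ⊤ :=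
      (genLocus_eq_top_iff _ _).mpr hiso
    rw [h3] at h2
    exact h2.symm
  -- the closed complement of the iso locus and its closed image
  let Z : Set (↑(f ⁻¹ᵁ V) : Scheme.{u}) := ((isoLocus σ : (↑(f ⁻¹ᵁ V) : Scheme.{u}).Opens) : Set _)ᶜ
  have hZ : IsClosed Z := (isoLocus σ).2.isClosed_compl
  have hcl : IsClosed ((fA f hV) '' Z) := (fA f hV).isClosedMap _ hZ
  have hw : ∀ p : (↑(f ⁻¹ᵁ V) : Scheme.{u}), hV.fromSpec ((fA f hV) p) = f ((f ⁻¹ᵁ V).ι p) := by
    intro p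
    have := congrArg (fun φ : (↑(f ⁻¹ᵁ V) : Scheme.{u}) ⟶ Y => φ p) hsq.w
    exact this.symm
  have hinj : Function.Injective hV.fromSpec := hV.fromSpec.isOpenEmbedding.injective
  have hx : x ∉ (fA f hV) '' Z := by
    rintro ⟨p, hpZ, hpx⟩
    apply hpZ
    have h4 : (f ⁻¹ᵁ V).ι p ∈ Set.range (f.fiberι (hV.fromSpec x)) := by
      rw [f.range_fiberι]
      show f ((f ⁻¹ᵁ V).ι p) = hV.fromSpec x
      rw [← hw p, hpx]
    obtain ⟨p', hp'⟩ := h4
    have h5 : g' p' = p := by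
      apply (f ⁻¹ᵁ V).ι.isOpenEmbedding.injective
      rw [← hp']
      have := congrArg (fun φ : f.fiber (hV.fromSpec x) ⟶ X => φ p')
        (GCChart.lift_i f Γ(Y, V) hV.fromSpec (f ⁻¹ᵁ V).ι hsq x)
      exact this
    have h6 : p' ∈ g' ⁻¹ᵁ (isoLocus σ) := by
      rw [hloc]
      trivial
    rw [← h5]
    exact h6
  let U0 : (Spec (CommRingCat.of Γ(Y, V))).Opens := ⟨((fA f hV) '' Z)ᶜ, hcl.isOpen_compl⟩
  have hUV : f ⁻¹ᵁ (hV.fromSpec ''ᵁ U0) ≤ f ⁻¹ᵁ V := by
    rintro p ⟨q, -, hq⟩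
    show f p ∈ V
    have : f p ∈ Set.range hV.fromSpec := ⟨q, hq⟩
    rw [hV.range_fromSpec] at this
    exact this
  refine ⟨hV.fromSpec ''ᵁ U0, ⟨x, hx, rfl⟩, ?_⟩
  let j0 := X.homOfLE hUV
  have hle : j0.opensRange ≤ isoLocus σ := by
    rw [Scheme.opensRange_homOfLE]
    intro p hp
    obtain ⟨q, hq, hqp⟩ := hp
    by_contra hcon
    have h7 : q = (fA f hV) p := by
      apply hinj
      rw [hw p]
      exact hqp
    exact hq ⟨p, hcon, h7.symm⟩
  haveI : IsIso ((restrictFunctor j0).map σ) :=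
    (isIso_restrictFunctor_iff_opensRange j0 σ).mpr ((le_isoLocus_iff σ _).mp hle)
  exact ⟨(Groth.Agent.Lib.helper11.InvMod.restrictRestrictIso N hUV).symm ≪≫ (asIso ((restrictFunctor j0).map σ)).symm ≪≫
    restrictUnitIso j0⟩

end main

end Groth.Agent.Lib.helper21.InvFibre
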