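import Mathlib
import Groth.Prelude.Def_ModSite
import Groth.Prelude.Def_CohCx
import Groth.Agent.Lib.Helper21.InjAcyc4
import Groth.Agent.Lib.Helper21.FlatSES

/-!
# `ℋom_O(F, G)` is totally acyclic for `G` injective (helper21)
-/

set_option autoImplicit false

universe u

open CategoryTheory CategoryTheory.Limits Opposite CategoryTheory.Abelian

namespace Groth.Agent.Lib.helper21.HomAcyc

open Groth.Agent.Lib.Helper21.FlatSES Groth.Agent.Lib.Helper21.TensorAdj
  Groth.Agent.Lib.Helper21.TensorW Groth.Agent.Lib.Helper21.TensorMon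

variable {C : Type u} [SmallCategory C] {J : GrothendieckTopology C} {O : Sheaf J CommRingCat.{u}}

/-- `Ext^{n+1}_O(A, ℋom(F, G)) = 0` for `A` flat and `G` injective -/
theorem ext_flat_sheafHom_eq_zero [HasExt.{u} (ModSite.Mod O)] (F G : ModSite.Mod O)
    [ModSite.HasSheafHom F] [Injective G] (n : ℕ) (A : ModSite.Mod O) (hA : ModSite.IsFlat A)
    (x : Ext.{u} A ((ModSite.sheafHom F).obj G) (n + 1)) : x = 0 := by
  haveI := Groth.Agent.Lib.Helper21.ModGroth.enoughInjectives_mod (ModSite.ringSh O)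
  refine ExtVanish.ext_eq_zero_of_class (fun A : ModSite.Mod O => ModSite.IsFlat A) _ ?_ ?_ n A hA x
  · intro A hA A'' p hp
    obtain ⟨Q, π, hQ, hπ⟩ := exists_flat_cover O A''
    haveI : Epi (π ≫ p) := epi_comp _ _
    refine ⟨Q, π ≫ p, inferInstance, hQ, ?_, π, rfl⟩
    exact isFlat_left (ExtVanish.kerSeq (π ≫ p)) (ExtVanish.kerSeq_shortExact (π ≫ p)) hQ hA
  · intro S hS hF f
    let adj := ModSite.sheafHomAdj F
    haveI : Mono ((tens O F).map S.f) := mono_tens_map S hS hF F
    let g := Injective.factorThru ((adj.homEquiv _ _).symm f) ((tens O F).map S.f)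
    have hg : (tens O F).map S.f ≫ g = (adj.homEquiv _ _).symm f := Injective.comp_factorThru _ _
    refine ⟨adj.homEquiv _ _ g, ?_⟩
    rw [← Adjunction.homEquiv_naturality_left]
    have : ((ModSite.tensorBi O).flip.obj F).map S.f ≫ g = (adj.homEquiv _ _).symm f := hg
    rw [this, Equiv.apply_symm_apply]

/-- free sheaves of modules on presheaves of sets are flat -/
theorem isFlat_freeMod (X : Cᵒᵖ ⥤ Type u) :
    ModSite.IsFlat ((InjAcyc.freeMod (ModSite.ringSh O)).obj X) := by
  refine isFlat_shf_of_flat O ((PresheafOfModules.free (ModSite.ringSh O).obj).obj X) ?_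
  intro U
  show Module.Flat (O.obj.obj U) (X.obj U →₀ O.obj.obj U)
  infer_instance

/-- **S6150** -/
theorem isTotallyAcyclic_sheafHom (F G : ModSite.Mod O) [ModSite.HasSheafHom F] [Injective G] :
    CohCx.IsTotallyAcyclic (ModSite.toAb ((ModSite.sheafHom F).obj G)) := by
  haveI := Groth.Agent.Lib.Helper21.ModGroth.enoughInjectives_mod (ModSite.ringSh O)
  haveI : HasExt.{u} (ModSite.Mod O) := hasExt_of_enoughInjectives _
  intro K p
  obtain ⟨e⟩ := InjAcyc.ext_free_equiv (ModSite.ringSh O) K.obj ((ModSite.sheafHom F).obj G) (p + 1)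
  refine subsingleton_of_forall_eq 0 (fun x => ?_)
  apply e.symm.injective
  rw [map_zero]
  exact ext_flat_sheafHom_eq_zero F G p _ (isFlat_freeMod K.obj) _

end Groth.Agent.Lib.helper21.HomAcyc
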