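import Mathlib
import Groth.Prelude.Def_ModSite
import Groth.Prelude.Def_ModSite2
import Groth.Prelude.Def_SpSeq
import Groth.Agent.Lib.Helper21.HomAcyc
import Groth.Agent.Lib.Helper27.PshSS

/-!
# The local-to-global `Ext` spectral sequence on a ringed site (helper21)
-/

set_option autoImplicit false

universe u

open CategoryTheory CategoryTheory.Limits Opposite CategoryTheory.Abelian
  Groth.Agent.Lib.helper27

namespace Groth.Agent.Lib.helper21.HomAcyc

open Groth.Agent.Lib.Helper21.FlatSES Groth.Agent.Lib.Helper21.TensorAdj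
  Groth.Agent.Lib.Helper21.TensorW Groth.Agent.Lib.Helper21.TensorMon

variable {C : Type u} [SmallCategory C] {J : GrothendieckTopology C} (O : Sheaf J CommRingCat.{u})

theorem isFlat_unit : ModSite.IsFlat (ModSite.unit O) := by
  rw [isFlat_iff_preservesFiniteLimits]
  exact preservesFiniteLimits_of_natIso ((unitIso O).symm ≪≫ braidIso O _)

variable {O}

/-- `Hom(M, -) ≅ ℋom(M, -) ⋙ Hom(O, -)` -/
noncomputable def coyHomIso (M : ModSite.Mod O) [ModSite.HasSheafHom M] :
    preadditiveCoyoneda.obj (op M) ≅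
      ModSite.sheafHom M ⋙ preadditiveCoyoneda.obj (op (ModSite.unit O)) :=
  haveI := additive_tens M
  (preadditiveCoyoneda.mapIso ((unitIso O).app M).op) ≪≫
    (ExtCoy.adjCoyIso (ModSite.sheafHomAdj M) (ModSite.unit O)).symm

/-- the global sections functor `Hom_O(O, -)` -/
noncomputable abbrev Γ : ModSite.Mod O ⥤ AddCommGrpCat.{u} :=
  preadditiveCoyoneda.obj (op (ModSite.unit O))

/-- derived functors of global sections on modules are the cohomology of the underlying abelian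
sheaf -/
theorem rightDerived_Γ_iso [HasInjectiveResolutions (ModSite.Mod O)] [HasExt.{u} (ModSite.Mod O)]
    (X : ModSite.Mod O) (k : ℕ) :
    Nonempty (AddCommGrpCat.of (ModSite.HC O X k) ≅ ((Γ (O := O)).rightDerived k).obj X) := by
  obtain ⟨e1⟩ := InjAcyc.ext_unit_equiv_H (ModSite.ringSh O) X k
  obtain ⟨e2⟩ := ExtCoy.rightDerived_iso_ext (Γ (O := O)) (ModSite.unit O) (Iso.refl _) k X
  exact ⟨e1.symm.toAddCommGrpIso ≪≫ e2⟩

/-- the local-to-global `Ext` spectral sequence, with arbitrary zero objects outside the first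
quadrant -/
theorem local_to_global_ext_ss' (M N : ModSite.Mod O)
    [ModSite.HasSheafHom M] [HasInjectiveResolutions (ModSite.Mod O)] [HasExt.{u} (ModSite.Mod O)]
    (Z₁ Z₂ : AddCommGrpCat.{u}) (hZ₁ : IsZero Z₁) (hZ₂ : IsZero Z₂) :
    ∃ (E : E₂CohomologicalSpectralSequence AddCommGrpCat.{u})
      (a : SpSeq.Abutment E (fun n : ℤ =>
        if 0 ≤ n then AddCommGrpCat.of (Abelian.Ext.{u} M N n.toNat) else Z₁)),
      (∀ n : ℤ, a.IsFinite n) ∧ SpSeq.IsBounded E ∧
      ∀ p q : ℤ, Nonempty ((E.page 2 le_rfl).X (p, q) ≅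
        (if 0 ≤ p ∧ 0 ≤ q then AddCommGrpCat.of (ModSite.HC O ((ModSite.extSh M q.toNat).obj N) p.toNat)
          else Z₂)) := by
  let T := ModSite.sheafHom M
  let S : ModSite.Mod O ⥤ AddCommGrpCat.{u} := Γ
  refine SSGroth.grothendieck_ss_nat T S ?_ N
    (fun n => AddCommGrpCat.of (Abelian.Ext.{u} M N n)) ?_
    (fun p q => AddCommGrpCat.of (ModSite.HC O ((ModSite.extSh M q).obj N) p)) ?_ Z₁ Z₂ hZ₁ hZ₂
  · intro Q hQ q hq
    obtain ⟨j, rfl⟩ : ∃ j, q = j + 1 := ⟨q - 1, by omega⟩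
    obtain ⟨e2⟩ := ExtCoy.rightDerived_iso_ext S (ModSite.unit O) (Iso.refl _) (j + 1) (T.obj Q)
    refine IsZero.of_iso ?_ e2.symm
    have : Subsingleton (Ext.{u} (ModSite.unit O) ((ModSite.sheafHom M).obj Q) (j + 1)) :=
      subsingleton_of_forall_eq 0 fun x =>
        ext_flat_sheafHom_eq_zero M Q j _ (isFlat_unit O) x
    exact AddCommGrpCat.isZero_of_subsingleton
      (AddCommGrpCat.of (Ext.{u} (ModSite.unit O) ((ModSite.sheafHom M).obj Q) (j + 1)))
  · intro k
    exact ExtCoy.rightDerived_iso_ext (T ⋙ S) M (coyHomIso M) k N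
  · intro k l
    exact rightDerived_Γ_iso ((ModSite.extSh M l).obj N) k

/-- **S12895** -/
theorem local_to_global_ext_ss (M N : ModSite.Mod O)
    [ModSite.HasSheafHom M] [HasInjectiveResolutions (ModSite.Mod O)] [HasExt.{u} (ModSite.Mod O)] :
    ∃ (E : E₂CohomologicalSpectralSequence AddCommGrpCat.{u})
      (a : SpSeq.Abutment E (fun n : ℤ =>
        if 0 ≤ n then AddCommGrpCat.of (Abelian.Ext.{u} M N n.toNat) else AddCommGrpCat.of PUnit.{u + 1})),
      (∀ n : ℤ, a.IsFinite n) ∧ SpSeq.IsBounded E ∧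
      ∀ p q : ℤ, Nonempty ((E.page 2 le_rfl).X (p, q) ≅
        (if 0 ≤ p ∧ 0 ≤ q then AddCommGrpCat.of (ModSite.HC O ((ModSite.extSh M q.toNat).obj N) p.toNat)
          else AddCommGrpCat.of PUnit.{u + 1})) :=
  local_to_global_ext_ss' M N _ _ (AddCommGrpCat.isZero_of_subsingleton _)
    (AddCommGrpCat.isZero_of_subsingleton _)

end Groth.Agent.Lib.helper21.HomAcyc
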