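import Mathlib
import Groth.Agent.Lib.Helper21.HomAcyc2
import Groth.Agent.Lib.Helper21.ExtShDelta
import Groth.Agent.Lib.Helper27.DeltaFPre
import Groth.Agent.Lib.Helper27.Horseshoe7

/-!
# `Ext^p(M, N) ≅ H^p(ℋom(M, N))` when `ℋom(M, -)` is exact (helper21)
-/

set_option autoImplicit false

universe u

open CategoryTheory CategoryTheory.Limits Opposite

namespace Groth.Agent.Lib.helper21.ExtLocFree

open Groth.Agent.Lib.helper21.HomAcyc Groth.Agent.Lib.helper21.ExtShDelta
  Groth.Agent.Lib.helper27 Groth.Agent.Lib.Helper21.FlatSES Groth.Agent.Lib.Helper21.TensorAdj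
  Groth.Agent.Lib.Helper21.TensorW Groth.Agent.Lib.Helper21.TensorMon

variable {C : Type u} [SmallCategory C] {J : GrothendieckTopology C} {O : Sheaf J CommRingCat.{u}}

/-- `ℋom(M, -)` is right exact as soon as `ℰxt^1(M, -)` vanishes -/
theorem preservesFiniteColimits_sheafHom (M : ModSite.Mod O) [ModSite.HasSheafHom M]
    [HasInjectiveResolutions (ModSite.Mod O)]
    (hM : ∀ G : ModSite.Mod O, IsZero ((ModSite.extSh M 1).obj G)) :
    PreservesFiniteColimits (ModSite.sheafHom M) := by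
  haveI := preservesFiniteLimits_sheafHom O M
  rw [Functor.preservesFiniteColimits_iff_forall_exact_map_and_epi]
  intro S hS
  have key : ∀ (S : ShortComplex (ModSite.Mod O)), S.ShortExact →
      (S.map (ModSite.sheafHom M)).Exact ∧ Mono ((ModSite.sheafHom M).map S.f) :=
    ((Functor.preservesFiniteLimits_tfae (ModSite.sheafHom M)).out 3 0).1
      (inferInstance : PreservesFiniteLimits (ModSite.sheafHom M))
  exact ⟨(key S hS).1, Horseshoe.epi_of_isZero (ModSite.sheafHom M) hS (hM S.X₁)⟩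

/-- `Ext^p(M, N) ≅ H^p(ℋom(M, N))` when `ℰxt^1(M, -) = 0` -/
theorem ext_equiv_HC (M N : ModSite.Mod O) [ModSite.HasSheafHom M]
    [HasInjectiveResolutions (ModSite.Mod O)] [HasExt.{u} (ModSite.Mod O)]
    (hM : ∀ G : ModSite.Mod O, IsZero ((ModSite.extSh M 1).obj G)) (p : ℕ) :
    Nonempty (AddCommGrpCat.of (Abelian.Ext.{u} M N p) ≅
      AddCommGrpCat.of (ModSite.HC O ((ModSite.sheafHom M).obj N) p)) := by
  haveI : EnoughInjectives (ModSite.Mod O) :=
    SSGroth.enoughInjectives_of_hasInjectiveResolutions _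
  haveI := preservesFiniteLimits_sheafHom O M
  haveI := preservesFiniteColimits_sheafHom M hM
  let T := ModSite.sheafHom M
  let S : ModSite.Mod O ⥤ AddCommGrpCat.{u} := Γ
  have hE : ∀ (I : ModSite.Mod O), Injective I → ∀ q : ℕ,
      IsZero ((S.rightDerived (q + 1)).obj (T.obj I)) := by
    intro Q hQ j
    obtain ⟨e2⟩ := ExtCoy.rightDerived_iso_ext S (ModSite.unit O) (Iso.refl _) (j + 1) (T.obj Q)
    refine IsZero.of_iso ?_ e2.symm
    have : Subsingleton (Abelian.Ext.{u} (ModSite.unit O) ((ModSite.sheafHom M).obj Q) (j + 1)) :=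
      subsingleton_of_forall_eq 0 fun x =>
        ext_flat_sheafHom_eq_zero M Q j _ (isFlat_unit O) x
    exact AddCommGrpCat.isZero_of_subsingleton
      (AddCommGrpCat.of (Abelian.Ext.{u} (ModSite.unit O) ((ModSite.sheafHom M).obj Q) (j + 1)))
  obtain ⟨e1⟩ := ExtCoy.rightDerived_iso_ext (T ⋙ S) M (coyHomIso M) p N
  obtain ⟨e2⟩ := DeltaFPre.rightDerived_comp_exact_iso T S hE p
  obtain ⟨e3⟩ := rightDerived_Γ_iso ((ModSite.sheafHom M).obj N) p
  exact ⟨e1 ≪≫ e2.app N ≪≫ e3.symm⟩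

end Groth.Agent.Lib.helper21.ExtLocFree
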