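import Mathlib
import Groth.Agent.Lib.Helper21.ModElt

/-!
# A module on a ringed site vanishes if its localisations on a cover vanish (helper21)
-/

set_option autoImplicit false

universe u

open CategoryTheory CategoryTheory.Limits Opposite

namespace Groth.Agent.Lib.helper21.LocZero

open Groth.Agent.Lib.Helper21.TensorW Groth.Agent.Lib.Helper21.TensorAdj
  Groth.Agent.Lib.helper21.ModElt

variable {C : Type u} [SmallCategory C] {J : GrothendieckTopology C} {O : Sheaf J CommRingCat.{u}}

/-- the sections of a zero module vanish -/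
lemma eq_zero_of_isZero (Z : ModSite.Mod O) (hZ : IsZero Z) (Y : Cᵒᵖ) (x : (pv Z).obj Y) : x = 0 := by
  haveI : Mono (0 : Z ⟶ Z) := ⟨fun _ _ _ => hZ.eq_of_tgt _ _⟩
  apply injective_of_mono (0 : Z ⟶ Z) Y
  have h0 : ∀ y : (pv Z).obj Y, amap (pvMap (0 : Z ⟶ Z)) Y y = 0 := fun y => rfl
  rw [h0, h0]

/-- a module all of whose sections vanish is zero -/
lemma isZero_of_sections (N : ModSite.Mod O) (h : ∀ (Y : Cᵒᵖ) (x : (pv N).obj Y), x = 0) :
    IsZero N := by
  haveI : Mono (0 : N ⟶ N) := by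
    apply mono_of_injective
    intro Y x y _
    rw [h Y x, h Y y]
  exact IsZero.of_mono_zero N N

/-- a module vanishes if it vanishes locally -/
theorem isZero_of_restr (N : ModSite.Mod O)
    (h : ∀ V : C, ∃ S : Sieve V, S ∈ J V ∧ ∀ ⦃W : C⦄ (g : W ⟶ V), S g →
      ∃ (U : C) (_ : W ⟶ U), IsZero ((ModSite.restr O U).obj N)) : IsZero N := by
  apply isZero_of_sections
  intro Y x
  obtain ⟨S, hS, hS'⟩ := h Y.unop
  apply eq_zero_of_locally N S hS x
  intro W g hg
  obtain ⟨U, a, hZ⟩ := hS' g hg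
  exact eq_zero_of_isZero ((ModSite.restr O U).obj N) hZ (op (Over.mk a)) (rmap (pv N) g.op x)

end Groth.Agent.Lib.helper21.LocZero
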