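import Mathlib

/-!
# `Abelian.Ext` is invariant under isomorphisms in either variable, linearly (helper21)
-/

set_option autoImplicit false
universe w v t u

open CategoryTheory

namespace Groth.Agent.Lib.helper21.ExtCongr

open Abelian

variable {R : Type t} [CommRing R] {C : Type u} [Category.{v} C] [Abelian C] [Linear R C]
  [HasExt.{w} C]

/-- `Ext X Y n ≃ₗ Ext X Y' n` for `Y ≅ Y'` -/
noncomputable def right (X : C) {Y Y' : C} (e : Y ≅ Y') (n : ℕ) :
    Ext X Y n ≃ₗ[R] Ext X Y' n :=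
  LinearEquiv.ofLinear ((Ext.mk₀ e.hom).postcompOfLinear R X (add_zero n))
    ((Ext.mk₀ e.inv).postcompOfLinear R X (add_zero n))
    (by
      ext x
      change ((x.comp (Ext.mk₀ e.inv) (add_zero n)).comp (Ext.mk₀ e.hom) (add_zero n)) = x
      rw [Ext.comp_assoc_of_third_deg_zero, Ext.mk₀_comp_mk₀, Iso.inv_hom_id, Ext.comp_mk₀_id])
    (by
      ext x
      change ((x.comp (Ext.mk₀ e.hom) (add_zero n)).comp (Ext.mk₀ e.inv) (add_zero n)) = x
      rw [Ext.comp_assoc_of_third_deg_zero, Ext.mk₀_comp_mk₀, Iso.hom_inv_id, Ext.comp_mk₀_id])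

/-- `Ext X Y n ≃ₗ Ext X' Y n` for `X ≅ X'` -/
noncomputable def left {X X' : C} (e : X ≅ X') (Y : C) (n : ℕ) :
    Ext X Y n ≃ₗ[R] Ext X' Y n :=
  LinearEquiv.ofLinear ((Ext.mk₀ e.inv).precompOfLinear R Y (zero_add n))
    ((Ext.mk₀ e.hom).precompOfLinear R Y (zero_add n))
    (by
      ext x
      change ((Ext.mk₀ e.inv).comp ((Ext.mk₀ e.hom).comp x (zero_add n)) (zero_add n)) = x
      rw [← Ext.comp_assoc_of_second_deg_zero, Ext.mk₀_comp_mk₀, Iso.inv_hom_id, Ext.mk₀_id_comp])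
    (by
      ext x
      change ((Ext.mk₀ e.hom).comp ((Ext.mk₀ e.inv).comp x (zero_add n)) (zero_add n)) = x
      rw [← Ext.comp_assoc_of_second_deg_zero, Ext.mk₀_comp_mk₀, Iso.hom_inv_id, Ext.mk₀_id_comp])

end Groth.Agent.Lib.helper21.ExtCongr
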