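import Mathlib
import Groth.Prelude.Def_ModSite
import Groth.Prelude.Def_ModSite2
import Groth.Prelude.Def_ExtSupp

/-!
# `quotOn ⊣ sectOn` on a ringed site (helper21)

`quotOn O U` (`F ↦ F/F_U`) is the reflector onto the modules null on `U` and `sectOn O U`
(`F ↦ Γ_Z F`) the coreflector; hence `quotOn O U ⊣ sectOn O U`.
-/

set_option autoImplicit false

universe u

open CategoryTheory CategoryTheory.Limits Opposite

namespace Groth.Agent.Lib.helper21.SuppAdj

variable {C : Type u} [SmallCategory C] {J : GrothendieckTopology C} (O : Sheaf J CommRingCat.{u})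
  (U : C)

variable {O U} in
/-- maps from an extension by zero to a module null on `U` vanish -/
lemma extZero_hom_null {G : ModSite.Mod (O.over U)} {N : ModSite.Mod O}
    (hN : ModSite.IsNullOn O U N) (f : (ModSite.extZero O U).obj G ⟶ N) : f = 0 :=
  ((ModSite.extZeroAdj O U).homEquiv _ _).injective (hN.eq_of_tgt _ _)

variable {O U} in
/-- maps from a module null on `U` to a direct image from `U` vanish -/
lemma hom_pushOver_null [ModSite.HasPushOver O U] {N : ModSite.Mod O}
    {G : ModSite.Mod (O.over U)} (hN : ModSite.IsNullOn O U N)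
    (f : N ⟶ (ModSite.pushOver O U).obj G) : f = 0 :=
  ((ModSite.restrPushOverAdj O U).homEquiv _ _).symm.injective (hN.eq_of_src _ _)

/-- `Γ_Z F` is null on `U` -/
theorem isNullOn_sectOn [ModSite.HasPushOver O U] (M : ModSite.Mod O) :
    ModSite.IsNullOn O U ((ModSite.sectOn O U).obj M) := by
  let adj := ModSite.restrPushOverAdj O U
  have hsplit : (ModSite.restr O U).map (adj.unit.app M) ≫
      adj.counit.app ((ModSite.restr O U).obj M) = 𝟙 _ := adj.left_triangle_components M
  have : Mono ((ModSite.restr O U).map (adj.unit.app M)) := by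
    have : IsSplitMono ((ModSite.restr O U).map (adj.unit.app M)) := ⟨⟨⟨_, hsplit⟩⟩⟩
    infer_instance
  exact (isZero_kernel_of_mono ((ModSite.restr O U).map (adj.unit.app M))).of_iso
    (PreservesKernel.iso (ModSite.restr O U) (adj.unit.app M))

variable {O U} in
/-- universal property of `F ⟶ F/F_U` -/
noncomputable def quotDesc {F N : ModSite.Mod O} (hN : ModSite.IsNullOn O U N) (f : F ⟶ N) :
    (ModSite.quotOn O U).obj F ⟶ N :=
  cokernel.desc _ f (extZero_hom_null hN _)

variable {O U} in
@[reassoc (attr := simp)]
lemma π_quotDesc {F N : ModSite.Mod O} (hN : ModSite.IsNullOn O U N) (f : F ⟶ N) :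
    (ModSite.quotOnπ O U).app F ≫ quotDesc hN f = f :=
  cokernel.π_desc _ _ _

variable {O U} in
lemma quot_hom_ext {F N : ModSite.Mod O} {f g : (ModSite.quotOn O U).obj F ⟶ N}
    (h : (ModSite.quotOnπ O U).app F ≫ f = (ModSite.quotOnπ O U).app F ≫ g) : f = g :=
  coequalizer.hom_ext h

variable {O U} in
/-- universal property of `Γ_Z G ⟶ G` -/
noncomputable def sectLift [ModSite.HasPushOver O U] {N G : ModSite.Mod O}
    (hN : ModSite.IsNullOn O U N) (f : N ⟶ G) :
    N ⟶ (ModSite.sectOn O U).obj G :=
  kernel.lift _ f (hom_pushOver_null hN _)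

variable {O U} in
@[reassoc (attr := simp)]
lemma sectLift_ι [ModSite.HasPushOver O U] {N G : ModSite.Mod O}
    (hN : ModSite.IsNullOn O U N) (f : N ⟶ G) :
    sectLift hN f ≫ (ModSite.sectOnι O U).app G = f :=
  kernel.lift_ι _ _ _

variable {O U} in
lemma sect_hom_ext [ModSite.HasPushOver O U] {N G : ModSite.Mod O}
    {f g : N ⟶ (ModSite.sectOn O U).obj G}
    (h : f ≫ (ModSite.sectOnι O U).app G = g ≫ (ModSite.sectOnι O U).app G) : f = g :=
  equalizer.hom_ext h

instance [ModSite.HasPushOver O U] (G : ModSite.Mod O) : Mono ((ModSite.sectOnι O U).app G) := by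
  change Mono (kernel.ι _)
  infer_instance

instance (F : ModSite.Mod O) : Epi ((ModSite.quotOnπ O U).app F) := by
  change Epi (cokernel.π _)
  infer_instance

/-- the adjunction `F ↦ F/F_U ⊣ Γ_Z` -/
noncomputable def adj [ModSite.HasPushOver O U] : ModSite.quotOn O U ⊣ ModSite.sectOn O U :=
  Adjunction.mkOfHomEquiv
    { homEquiv := fun F G =>
        { toFun := fun f => (ModSite.quotOnπ O U).app F ≫
            sectLift (ExtSupp.isNullOn_quotOn O U F) f
          invFun := fun g => quotDesc (isNullOn_sectOn O U G) g ≫ (ModSite.sectOnι O U).app G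
          left_inv := fun f => by
            apply quot_hom_ext
            simp
          right_inv := fun g => by
            apply sect_hom_ext
            simp }
      homEquiv_naturality_left_symm := by
        intro F' F G f g
        apply quot_hom_ext
        have := (ModSite.quotOnπ O U).naturality f
        simp only [Functor.id_obj, Functor.id_map] at this
        simp [← reassoc_of% this]
      homEquiv_naturality_right := by
        intro F G G' f g
        apply sect_hom_ext
        have := (ModSite.sectOnι O U).naturality g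
        simp only [Functor.id_obj, Functor.id_map] at this
        simp [this] }

end Groth.Agent.Lib.helper21.SuppAdj
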