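import Mathlib
import Groth.Agent.Lib.Helper21.SuppAdj
import Groth.Agent.Lib.Helper21.ModElt
import Groth.Agent.Lib.Helper21.ExtZeroS

/-!
# `quotOn` is exact, `sectOn` preserves injectives (helper21)
-/

set_option autoImplicit false

universe u

open CategoryTheory CategoryTheory.Limits Opposite

namespace Groth.Agent.Lib.helper21.SuppAdj

open Groth.Agent.Lib.Helper21.TensorW Groth.Agent.Lib.Helper21.TensorAdj
  Groth.Agent.Lib.helper21.ModElt Groth.Agent.Lib.Helper21.ExtZeroS
  Groth.Agent.Lib.Helper21.ExtZeroP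

variable {C : Type u} [SmallCategory C] {J : GrothendieckTopology C} (O : Sheaf J CommRingCat.{u})
  (U : C)

lemma amap_comp_apply {M M' M'' : ModSite.Mod O} (φ : M ⟶ M') (ψ : M' ⟶ M'') (X : Cᵒᵖ)
    (x : (pv M).obj X) :
    amap (pvMap (φ ≫ ψ)) X x = amap (pvMap ψ) X (amap (pvMap φ) X x) := rfl

/-- the sieve of arrows on which a section vanishes or whose source maps to `U` -/
def nullSieve (M : ModSite.Mod O) {V : C} (s : (pv M).obj (op V)) : Sieve V where
  arrows W g := rmap (pv M) g.op s = 0 ∨ Nonempty (W ⟶ U)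
  downward_closed := by
    intro W W' g h k
    rcases h with h | h
    · left
      rw [op_comp, rmap_comp, h, map_zero]
    · obtain ⟨f⟩ := h
      exact Or.inr ⟨k ≫ f⟩

lemma quotπ_eq_zero_of_nullSieve [ModSite.HasPushOver O U] (M : ModSite.Mod O) {V : C}
    (s : (pv M).obj (op V)) (h : nullSieve O U M s ∈ J V) :
    amap (pvMap ((ModSite.quotOnπ O U).app M)) (op V) s = 0 := by
  apply eq_zero_of_locally _ _ h
  intro W g hg
  rcases hg with hg | hg
  · refine (amap_rmap (pvMap ((ModSite.quotOnπ O U).app M)) g.op s).symm.trans ?_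
    exact (congrArg (amap (pvMap ((ModSite.quotOnπ O U).app M)) (op W)) hg).trans (map_zero _)
  · obtain ⟨f⟩ := hg
    exact (ExtSupp.isNullOn_iff O U _).1 (ExtSupp.isNullOn_quotOn O U M) f _

/-- sections of an extension by zero are locally zero or over `U` -/
lemma nullSieve_extZero_mem (G : ModSite.Mod (O.over U)) {W : C}
    (t : (pv ((ModSite.extZero O U).obj G)).obj (op W)) :
    nullSieve O U _ t ∈ J W := by
  let e := (extZeroIso O U).app G
  let P := (extP O U).obj (pv G)
  have hls : Presheaf.IsLocallySurjective J ((PresheafOfModules.toPresheaf _).map (unitP O P)) :=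
    ((isIso_shf_map_iff (unitP O P)).1 inferInstance).2
  have h1 := Presheaf.imageSieve_mem (U := op W) J
    ((PresheafOfModules.toPresheaf _).map (unitP O P)) (amap (pvMap e.hom) (op W) t)
  refine J.superset_covering ?_ h1
  intro W' k hk
  obtain ⟨p, hp⟩ := hk
  by_cases hne : Nonempty (W' ⟶ U)
  · exact Or.inr hne
  · left
    haveI : IsEmpty (W' ⟶ U) := not_nonempty_iff.1 hne
    have hp0 : p = 0 := Subsingleton.elim (α := T (pv G) (op W')) p 0
    have h2 : amap (pvMap e.hom) (op W') (rmap _ k.op t) = 0 := by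
      rw [amap_rmap]
      refine Eq.trans hp.symm ?_
      rw [hp0]
      exact map_zero _
    exact (injective_of_mono e.hom (op W')) (h2.trans (map_zero _).symm)

lemma nullSieve_mem_of_quotπ_eq_zero (M : ModSite.Mod O) {V : C}
    (s : (pv M).obj (op V))
    (h : amap (pvMap ((ModSite.quotOnπ O U).app M)) (op V) s = 0) :
    nullSieve O U M s ∈ J V := by
  let ε := (ModSite.extZeroAdj O U).counit.app M
  let π : M ⟶ cokernel ε := cokernel.π ε
  let S : ShortComplex (ModSite.Mod O) := ShortComplex.mk (kernel.ι π) π (kernel.condition π)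
  have hS : S.ShortExact :=
    { exact := ShortComplex.exact_of_f_is_kernel _ (kernelIsKernel π)
      mono_f := inferInstanceAs (Mono (kernel.ι π))
      epi_g := inferInstanceAs (Epi (cokernel.π ε)) }
  obtain ⟨y, hy⟩ := sections_exact S hS (op V) s h
  let q : (ModSite.extZero O U).obj ((ModSite.restr O U).obj M) ⟶ kernel π :=
    Abelian.factorThruImage ε
  haveI : Epi q := inferInstanceAs (Epi (Abelian.factorThruImage ε))
  have hq : q ≫ kernel.ι π = ε := Abelian.image.fac ε
  have h1 := imageSieve_mem q y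
  refine J.transitive h1 _ ?_
  intro W g hg
  obtain ⟨t, ht⟩ := hg
  have ht' : amap (pvMap q) (op W) t = rmap (pv (kernel π)) g.op y := ht
  have h2 := nullSieve_extZero_mem O U _ t
  refine J.superset_covering ?_ h2
  intro W' k hk
  rcases hk with hk | hk
  · left
    have e1 : rmap (pv M) g.op s = amap (pvMap ε) (op W) t := by
      rw [← hq, amap_comp_apply, ht', amap_rmap]
      exact congrArg _ hy.symm
    have e2 : rmap (pv M) (k ≫ g).op s = rmap (pv M) k.op (rmap (pv M) g.op s) := by
      rw [op_comp, rmap_comp]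
    have e3 : rmap (pv M) k.op (amap (pvMap ε) (op W) t) =
        amap (pvMap ε) (op W') (rmap _ k.op t) := (amap_rmap (pvMap ε) k.op t).symm
    exact e2.trans ((congrArg _ e1).trans (e3.trans ((congrArg _ hk).trans (map_zero _))))
  · exact Or.inr hk

/-- `F ↦ F/F_U` preserves monomorphisms -/
theorem mono_quotOn_map [ModSite.HasPushOver O U] {M' M : ModSite.Mod O} (φ : M' ⟶ M) [Mono φ] :
    Mono ((ModSite.quotOn O U).map φ) := by
  apply mono_of_injective
  intro X
  rw [injective_iff_map_eq_zero]
  intro y hy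
  obtain ⟨V⟩ := X
  have h1 := imageSieve_mem ((ModSite.quotOnπ O U).app M') y
  apply eq_zero_of_locally _ _ h1
  intro W g hg
  obtain ⟨s, hs⟩ := hg
  have hs' : amap (pvMap ((ModSite.quotOnπ O U).app M')) (op W) s =
      rmap (pv ((ModSite.quotOn O U).obj M')) g.op y := hs
  refine hs'.symm.trans ?_
  apply quotπ_eq_zero_of_nullSieve
  have h2 : amap (pvMap ((ModSite.quotOnπ O U).app M)) (op W) (amap (pvMap φ) (op W) s) = 0 := by
    have nat : φ ≫ (ModSite.quotOnπ O U).app M =
        (ModSite.quotOnπ O U).app M' ≫ (ModSite.quotOn O U).map φ :=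
      (ModSite.quotOnπ O U).naturality φ
    have e1 : amap (pvMap ((ModSite.quotOnπ O U).app M)) (op W) (amap (pvMap φ) (op W) s) =
        amap (pvMap ((ModSite.quotOn O U).map φ)) (op W)
          (amap (pvMap ((ModSite.quotOnπ O U).app M')) (op W) s) :=
      congrArg (fun ψ => amap (pvMap ψ) (op W) s) nat
    refine e1.trans ((congrArg _ hs').trans ?_)
    refine (amap_rmap (pvMap ((ModSite.quotOn O U).map φ)) g.op y).trans ?_
    exact (congrArg _ hy).trans (map_zero _)
  have h3 := nullSieve_mem_of_quotπ_eq_zero O U M _ h2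
  refine J.superset_covering ?_ h3
  intro W' k hk
  rcases hk with hk | hk
  · left
    rw [← amap_rmap] at hk
    exact injective_of_mono φ _ (hk.trans (map_zero _).symm)
  · exact Or.inr hk

instance [ModSite.HasPushOver O U] : (ModSite.quotOn O U).PreservesMonomorphisms :=
  ⟨fun φ _ => mono_quotOn_map O U φ⟩

/-- `Γ_Z` preserves injective objects -/
theorem injective_sectOn [ModSite.HasPushOver O U] (Q : ModSite.Mod O) [Injective Q] :
    Injective ((ModSite.sectOn O U).obj Q) :=
  Injective.injective_of_adjoint (adj O U) Q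

end Groth.Agent.Lib.helper21.SuppAdj
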