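import Mathlib
import Groth.Agent.Lib.Helper21.SuppAdj2
import Groth.Agent.Lib.Helper21.TensorRestr

/-!
# Localisation at a subterminal object (helper21)

For `U` subterminal, `j_!` is fully faithful (the unit `N ⟶ j^* j_! N` is an isomorphism) and the
counit `j_! j^* M ⟶ M` is a monomorphism.
-/

set_option autoImplicit false

universe u

open CategoryTheory CategoryTheory.Limits Opposite

namespace Groth.Agent.Lib.helper21.SubTerm

open Groth.Agent.Lib.Helper21.TensorW Groth.Agent.Lib.Helper21.TensorAdj
  Groth.Agent.Lib.Helper21.TensorMon Groth.Agent.Lib.Helper21.TensorRestr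
  Groth.Agent.Lib.helper21.ModElt Groth.Agent.Lib.Helper21.ExtZeroS
  Groth.Agent.Lib.Helper21.ExtZeroP Groth.Agent.Lib.helper21.SuppAdj
open scoped Classical

variable {C : Type u} [SmallCategory C] {J : GrothendieckTopology C} (O : Sheaf J CommRingCat.{u})
  (U : C)

lemma restrPIso_inv_naturality {M M' : ModSite.Mod O} (φ : M ⟶ M') :
    (restrP O U).map (pvMap φ) ≫ (restrPIso O U M').inv =
      (restrPIso O U M).inv ≫ pvMap ((ModSite.restr O U).map φ) := by
  rfl

/-- restriction commutes with sheafification, naturally -/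
noncomputable def restrShfNatIso :
    restrP O U ⋙ shf (O.over U) ≅ shf O ⋙ ModSite.restr O U :=
  NatIso.ofComponents (fun P => restrShfIso O U P) (by
    intro P P' g
    dsimp only [restrShfIso, Functor.comp_map, Iso.trans_hom, asIso_hom, Functor.mapIso_hom,
      Iso.symm_hom]
    have h1 : (shf (O.over U)).map ((restrP O U).map g) ≫
        (shf (O.over U)).map ((restrP O U).map (unitP O P')) =
        (shf (O.over U)).map ((restrP O U).map (unitP O P)) ≫
          (shf (O.over U)).map ((restrP O U).map (pvMap ((shf O).map g))) := by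
      rw [← Functor.map_comp, ← Functor.map_comp, unitP_naturality, Functor.map_comp,
        Functor.map_comp]
    have h2 : (shf (O.over U)).map ((restrP O U).map (pvMap ((shf O).map g))) ≫
        (shf (O.over U)).map (restrPIso O U ((shf O).obj P')).inv =
        (shf (O.over U)).map (restrPIso O U ((shf O).obj P)).inv ≫
          (shf (O.over U)).map (pvMap ((ModSite.restr O U).map ((shf O).map g))) := by
      rw [← Functor.map_comp, ← Functor.map_comp, restrPIso_inv_naturality]
    have h3 := shfValIso_naturality (O.over U) ((ModSite.restr O U).map ((shf O).map g))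
    rw [← Category.assoc, h1, Category.assoc, reassoc_of% h2, h3]
    simp only [Category.assoc])

lemma adjP_unit_app_apply (P : PM (O.over U)) (A : (Over U)ᵒᵖ) (n : P.obj A) :
    ((adjP O U).unit.app P).app A n = ofA P A n := rfl

variable {U} in
/-- for `U` subterminal, the unit `P ⟶ (p_! P)|_U` on presheaves of modules is an isomorphism -/
lemma isIso_adjP_unit (hU : ∀ V : C, Subsingleton (V ⟶ U)) (P : PM (O.over U)) :
    IsIso ((adjP O U).unit.app P) := by
  haveI : Mono ((adjP O U).unit.app P) := by
    refine PresheafOfModules.mono_of_injective (fun A => ?_)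
    intro n n' h
    have h' : ofA P A n = ofA P A n' := h
    exact of_inj P (op A.unop.left) A.unop.hom h'
  haveI : Epi ((adjP O U).unit.app P) := by
    refine PresheafOfModules.epi_of_surjective (fun A => ?_)
    intro t
    obtain ⟨⟨W, ⟨⟨⟩⟩, f⟩⟩ := A
    change T P (op W) at t
    induction t using DirectSum.induction_on with
    | zero => exact ⟨0, map_zero _⟩
    | of f' n =>
      obtain rfl : f' = f := (hU W).elim _ _
      exact ⟨n, rfl⟩
    | add t t' ht ht' =>
      obtain ⟨a, ha⟩ := ht
      obtain ⟨b, hb⟩ := ht'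
      exact ⟨a + b, (map_add _ a b).trans (congrArg₂ (· + ·) ha hb)⟩
  exact isIso_of_mono_of_epi _

variable {U} in
/-- for `U` subterminal, `j^* j_! ≅ 𝟭` -/
noncomputable def extZeroRestrIso (hU : ∀ V : C, Subsingleton (V ⟶ U)) :
    ModSite.extZero O U ⋙ ModSite.restr O U ≅ 𝟭 (ModSite.Mod (O.over U)) :=
  haveI : IsIso (adjP O U).unit := by
    haveI : ∀ P, IsIso ((adjP O U).unit.app P) := isIso_adjP_unit O hU
    exact NatIso.isIso_of_isIso_app _
  Functor.isoWhiskerRight (extZeroIso O U) (ModSite.restr O U) ≪≫
    Functor.associator _ _ _ ≪≫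
    Functor.isoWhiskerLeft (fPM (O.over U)) (Functor.associator _ _ _) ≪≫
    Functor.isoWhiskerLeft (fPM (O.over U))
      (Functor.isoWhiskerLeft (extP O U) (restrShfNatIso O U).symm) ≪≫
    Functor.isoWhiskerLeft (fPM (O.over U)) (Functor.associator _ _ _).symm ≪≫
    Functor.isoWhiskerLeft (fPM (O.over U))
      (Functor.isoWhiskerRight (asIso (adjP O U).unit).symm (shf (O.over U))) ≪≫
    Functor.isoWhiskerLeft (fPM (O.over U)) (Functor.leftUnitor _) ≪≫
    shfCounitIso (O.over U)

variable {U} in
/-- for `U` subterminal, the unit `N ⟶ j^* j_! N` is an isomorphism (`j_!` is fully faithful) -/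
theorem isIso_extZeroAdj_unit (hU : ∀ V : C, Subsingleton (V ⟶ U)) :
    IsIso (ModSite.extZeroAdj O U).unit :=
  (ModSite.extZeroAdj O U).isIso_unit_of_iso (extZeroRestrIso O hU)

variable {U} in
/-- for `U` subterminal, the counit `j_! j^* M ⟶ M` is a monomorphism -/
theorem mono_extZeroAdj_counit (hU : ∀ V : C, Subsingleton (V ⟶ U)) (M : ModSite.Mod O) :
    Mono ((ModSite.extZeroAdj O U).counit.app M) := by
  let adj := ModSite.extZeroAdj O U
  let ε := adj.counit.app M
  haveI := isIso_extZeroAdj_unit O hU
  have h1 : adj.unit.app ((ModSite.restr O U).obj M) ≫ (ModSite.restr O U).map ε = 𝟙 _ :=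
    adj.right_triangle_components M
  haveI : IsIso (adj.unit.app ((ModSite.restr O U).obj M)) := inferInstance
  haveI : IsIso ((ModSite.restr O U).map ε) := by
    have : IsIso (adj.unit.app ((ModSite.restr O U).obj M) ≫ (ModSite.restr O U).map ε) := by
      rw [h1]; infer_instance
    exact IsIso.of_isIso_comp_left (adj.unit.app ((ModSite.restr O U).obj M)) _
  show Mono ε
  apply mono_of_injective
  intro X
  rw [injective_iff_map_eq_zero]
  intro x hx
  obtain ⟨V⟩ := X
  apply eq_zero_of_locally _ _ (nullSieve_extZero_mem O U _ x)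
  intro W g hg
  rcases hg with hg | hg
  · exact hg
  · obtain ⟨f⟩ := hg
    have hinj := injective_of_mono ((ModSite.restr O U).map ε) (op (Over.mk f))
    apply hinj
    refine Eq.trans ?_ (map_zero _).symm
    have e1 : amap (pvMap ε) (op W) (rmap _ g.op x) = rmap _ g.op (amap (pvMap ε) (op V) x) :=
      amap_rmap (pvMap ε) g.op x
    exact e1.trans ((congrArg _ hx).trans (map_zero _))

variable {U} in
/-- for `U` subterminal and `I` injective, the unit `I ⟶ j_* j^* I` is a (split) epimorphism -/
theorem epi_restrPushOverAdj_unit (hU : ∀ V : C, Subsingleton (V ⟶ U)) [ModSite.HasPushOver O U]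
    (I : ModSite.Mod O) [Injective I] :
    Epi ((ModSite.restrPushOverAdj O U).unit.app I) := by
  let adj₁ := ModSite.extZeroAdj O U
  let adj₂ := ModSite.restrPushOverAdj O U
  let M : ModSite.Mod O := (ModSite.pushOver O U).obj ((ModSite.restr O U).obj I)
  let χ : (ModSite.extZero O U).obj ((ModSite.restr O U).obj M) ⟶ I :=
    (adj₁.homEquiv _ _).symm ((adj₂.homEquiv _ _).symm (𝟙 M))
  haveI := mono_extZeroAdj_counit O hU M
  let φ : M ⟶ I := Injective.factorThru χ (adj₁.counit.app M)
  have hφ : adj₁.counit.app M ≫ φ = χ := Injective.comp_factorThru _ _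
  have e1 : adj₂.homEquiv _ _ ((ModSite.restr O U).map φ) = φ ≫ adj₂.unit.app I := by
    rw [Adjunction.homEquiv_unit]
    exact (adj₂.unit.naturality φ).symm
  have e2 : adj₁.homEquiv _ _ (adj₁.counit.app M ≫ φ) = (ModSite.restr O U).map φ := by
    rw [Adjunction.homEquiv_unit, Functor.map_comp, ← Category.assoc,
      adj₁.right_triangle_components, Category.id_comp]
  have h : φ ≫ adj₂.unit.app I = 𝟙 M := by
    rw [← e1, ← e2, hφ]
    simp only [χ, Equiv.apply_symm_apply]
  exact (IsSplitEpi.mk' ⟨φ, h⟩).epi

end Groth.Agent.Lib.helper21.SubTerm
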