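import Mathlib
import Groth.Prelude.Def_ModSite
import Groth.Agent.Lib.Helper21.ExtZeroS
import Groth.Agent.Lib.Helper21.SubTerm

/-!
# Extension by zero for `O`-modules on an open subscheme (helper21)

For an open `W` of a scheme `Y`, restriction `Y.Modules ⥤ W.Modules` has an exact left adjoint
`shriek W` (extension by zero) whose counit is a monomorphism.  Hence restriction preserves
injectives, and for an injective `I` the unit `I ⟶ j_* j^* I` is a (split) epimorphism.
-/

set_option autoImplicit false

universe u

namespace Groth.Agent.Lib.helper21.SchShriek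

open CategoryTheory CategoryTheory.Limits Opposite TopologicalSpace AlgebraicGeometry
open AlgebraicGeometry.Scheme.Modules

/-- the structure sheaf, typed as a sheaf on the site of opens -/
abbrev OY (Y : Scheme.{u}) : Sheaf (Opens.grothendieckTopology Y) CommRingCat.{u} := Y.sheaf

variable {Y : Scheme.{u}} (W : Y.Opens)

/-- extension by zero `j_!` for `O`-modules on an open subscheme -/
noncomputable def shriek : (W : Scheme.{u}).Modules ⥤ Y.Modules :=
  (overEquiv W).inverse ⋙ ModSite.extZero (OY Y) W

/-- `j_! ⊣ j^*` -/
noncomputable def adj : shriek W ⊣ restrictFunctor W.ι :=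
  ((overEquiv W).symm.toAdjunction.comp (ModSite.extZeroAdj (OY Y) W)).ofNatIsoRight
    (overFunctorEquiv W)

instance shriek_preservesFiniteLimits : PreservesFiniteLimits (shriek W) := by
  have h : PreservesFiniteLimits (ModSite.extZero (OY Y) W) :=
    Groth.Agent.Lib.Helper21.ExtZeroS.preservesFiniteLimits_extZero (OY Y) W
  have h' : PreservesFiniteLimits (overEquiv W).inverse := inferInstance
  exact @comp_preservesFiniteLimits _ _ _ _ _ _ _ _ h' h

instance shriek_preservesMonomorphisms : (shriek W).PreservesMonomorphisms := inferInstance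

/-- restriction to an open subscheme preserves injective `O`-modules -/
instance restrict_preservesInjectiveObjects :
    (restrictFunctor W.ι).PreservesInjectiveObjects :=
  Functor.preservesInjectiveObjects_of_adjunction_of_preservesMonomorphisms (adj W)

lemma counit_app (M : Y.Modules) :
    (adj W).counit.app M =
      (shriek W).map ((overFunctorEquiv W).inv.app M) ≫
        (ModSite.extZero (OY Y) W).map
          ((overEquiv W).symm.toAdjunction.counit.app ((ModSite.restr (OY Y) W).obj M)) ≫
        (ModSite.extZeroAdj (OY Y) W).counit.app M := by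
  rw [← Adjunction.homEquiv_symm_id, adj]
  erw [Adjunction.homEquiv_ofNatIsoRight_symm_apply]
  rw [Category.id_comp, Adjunction.homEquiv_counit, Adjunction.comp_counit_app]
  rfl

/-- the counit `j_! j^* M ⟶ M` is a monomorphism -/
instance mono_counit_app (M : Y.Modules) : Mono ((adj W).counit.app M) := by
  rw [counit_app]
  haveI : Mono ((ModSite.extZeroAdj (OY Y) W).counit.app M) :=
    SubTerm.mono_extZeroAdj_counit (OY Y) (fun V => ⟨fun a b => Subsingleton.elim a b⟩) M
  haveI : IsIso ((overEquiv W).symm.toAdjunction.counit.app ((ModSite.restr (OY Y) W).obj M)) := by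
    change IsIso ((overEquiv W).symm.counit.app _)
    infer_instance
  have h2 : IsIso ((ModSite.extZero (OY Y) W).map
      ((overEquiv W).symm.toAdjunction.counit.app ((ModSite.restr (OY Y) W).obj M))) :=
    Functor.map_isIso _ _
  have h3 : Mono ((ModSite.extZero (OY Y) W).map
        ((overEquiv W).symm.toAdjunction.counit.app ((ModSite.restr (OY Y) W).obj M)) ≫
      (ModSite.extZeroAdj (OY Y) W).counit.app M) :=
    @mono_comp _ _ _ _ _ _ (@IsIso.mono_of_iso _ _ _ _ _ h2) _ inferInstance
  have h4 : IsIso ((shriek W).map ((overFunctorEquiv W).inv.app M)) := Functor.map_isIso _ _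
  exact @mono_comp _ _ _ _ _ _ (@IsIso.mono_of_iso _ _ _ _ _ h4) _ h3

/-- generic: for `L ⊣ R ⊣ P` with `L R M ⟶ M` a monomorphism and `I` injective, the unit
`I ⟶ P R I` is a split epimorphism -/
theorem epi_unit_of_mono_counit {A B : Type*} [Category A] [Category B] {L : B ⥤ A} {R : A ⥤ B}
    {P : B ⥤ A} (adj₁ : L ⊣ R) (adj₂ : R ⊣ P) (h : ∀ M, Mono (adj₁.counit.app M)) (I : A)
    [Injective I] : Epi (adj₂.unit.app I) := by
  let M : A := P.obj (R.obj I)
  let χ : L.obj (R.obj M) ⟶ I := (adj₁.homEquiv _ _).symm ((adj₂.homEquiv _ _).symm (𝟙 M))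
  haveI := h M
  let φ : M ⟶ I := Injective.factorThru χ (adj₁.counit.app M)
  have hφ : adj₁.counit.app M ≫ φ = χ := Injective.comp_factorThru _ _
  have e1 : adj₂.homEquiv _ _ (R.map φ) = φ ≫ adj₂.unit.app I := by
    rw [Adjunction.homEquiv_unit]
    exact (adj₂.unit.naturality φ).symm
  have e2 : adj₁.homEquiv _ _ (adj₁.counit.app M ≫ φ) = R.map φ := by
    rw [Adjunction.homEquiv_unit, Functor.map_comp, ← Category.assoc,
      adj₁.right_triangle_components, Category.id_comp]
  have h' : φ ≫ adj₂.unit.app I = 𝟙 M := by
    rw [← e1, ← e2, hφ]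
    simp only [χ, Equiv.apply_symm_apply]
  exact (IsSplitEpi.mk' ⟨φ, h'⟩).epi

/-- for an injective `O_Y`-module `I` and an open `W`, the unit `I ⟶ j_* j^* I` is an
epimorphism -/
theorem epi_restrictAdjunction_unit (I : Y.Modules) [Injective I] :
    Epi ((restrictAdjunction W.ι).unit.app I) :=
  epi_unit_of_mono_counit (adj W) (restrictAdjunction W.ι) (fun M => mono_counit_app W M) I

end Groth.Agent.Lib.helper21.SchShriek
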