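import Mathlib
import Groth.Agent.S16289
import Groth.Agent.Lib.Helper21.SheafHomExact
import Groth.Agent.Lib.Helper21.ExtShDelta

/-!
# Left exactness of `ℋom(-, N)` in categorical form (helper21)

For an exact `X₁ ⟶ X₂ ⟶ X₃ ⟶ 0` of sheaves of modules on a ringed site:
`ℋom(X₃, N) ≅ ker (ℋom(X₂, N) ⟶ ℋom(X₁, N))`.
-/

set_option autoImplicit false
universe u

open CategoryTheory CategoryTheory.Limits Opposite

namespace Groth.Agent.Lib.helper21.ShHomCoh

open Groth.Agent.Lib.helper21.SheafHomExact Groth.Agent.Lib.helper21.ModElt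
  Groth.Agent.Lib.Helper21.TensorW Groth.Agent.Lib.Helper21.TensorAdj

variable {C : Type u} [SmallCategory C] {J : GrothendieckTopology C} {O : Sheaf J CommRingCat.{u}}

/-- sectionwise criterion for exactness -/
theorem exact_of_sections (S : ShortComplex (ModSite.Mod O))
    (h2 : ∀ (X : Cᵒᵖ) (y : (pv S.X₂).obj X), amap (pvMap S.g) X y = 0 →
      ∃ x : (pv S.X₁).obj X, amap (pvMap S.f) X x = y) : S.Exact := by
  rw [ShortComplex.exact_iff_epi_kernel_lift]
  apply epi_of_surjective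
  intro X z
  let y := amap (pvMap (kernel.ι S.g)) X z
  have hy : amap (pvMap S.g) X y = 0 := by
    have e : kernel.ι S.g ≫ S.g = 0 := kernel.condition _
    have := congrArg (fun ψ => amap (pvMap ψ) X z) e
    exact this
  obtain ⟨x, hx⟩ := h2 X y hy
  refine ⟨x, ?_⟩
  apply injective_of_mono (kernel.ι S.g) X
  have e : kernel.lift S.g S.f S.zero ≫ kernel.ι S.g = S.f := kernel.lift_ι _ _ _
  have := congrArg (fun ψ => amap (pvMap ψ) X x) e
  exact this.trans hx

variable (S : ShortComplex (ModSite.Mod O))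
  [ModSite.HasSheafHom S.X₁] [ModSite.HasSheafHom S.X₂] [ModSite.HasSheafHom S.X₃]

/-- the complex `ℋom(X₃, N) ⟶ ℋom(X₂, N) ⟶ ℋom(X₁, N)` -/
noncomputable def homSC (N : ModSite.Mod O) : ShortComplex (ModSite.Mod O) :=
  ShortComplex.mk ((ExtSupp.sheafHomMap S.g).app N) ((ExtSupp.sheafHomMap S.f).app N) (by
    rw [← NatTrans.comp_app, Groth.Agent.S16289.sheafHomMap_comp_zero S]
    rfl)

theorem homSC_exact (hS : S.Exact) [Epi S.g] (N : ModSite.Mod O) : (homSC S N).Exact := by
  apply exact_of_sections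
  intro V y hy
  exact exact_sheafHomMap S hS N V.unop y hy

theorem homSC_mono [Epi S.g] (N : ModSite.Mod O) : Mono (homSC S N).f := by
  apply mono_of_injective
  intro V
  exact injective_sheafHomMap_of_epi S.g N V.unop

/-- **`ℋom(X₃, N) ≅ ker (ℋom(X₂, N) ⟶ ℋom(X₁, N))`** for `X₁ ⟶ X₂ ⟶ X₃ ⟶ 0` exact -/
noncomputable def sheafHomKernelIso (hS : S.Exact) [Epi S.g] (N : ModSite.Mod O) :
    (ModSite.sheafHom S.X₃).obj N ≅ kernel ((ExtSupp.sheafHomMap S.f).app N) :=
  haveI := homSC_mono S N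
  let h1 := (homSC_exact S hS N).fIsKernel
  let h2 := kernelIsKernel ((ExtSupp.sheafHomMap S.f).app N)
  show (KernelFork.ofι (homSC S N).f (homSC S N).zero).pt ≅
    (KernelFork.ofι (kernel.ι ((ExtSupp.sheafHomMap S.f).app N)) (kernel.condition _)).pt from
    IsLimit.conePointUniqueUpToIso h1 h2

end Groth.Agent.Lib.helper21.ShHomCoh
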