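import Mathlib
import Groth.Agent.Lib.Helper21.FLFDual3

/-!
# `ℋom(F, -)` and restriction to opens, part 1 (helper21)

* `secEquiv_sheafHom_map`: naturality of `secEquiv` in the second variable.
* `bijective_sheafHom_map_of_isIso_restr`: if `g|_V` is an isomorphism then `ℋom(F, g)(V)` is bijective.
* `le_isoLocus_sheafHom_map`: `ℋom(F, g)` is an isomorphism where `g` is.
-/

set_option autoImplicit false
universe u

open CategoryTheory CategoryTheory.Limits Opposite AlgebraicGeometry TopologicalSpace MonoidalCategory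

namespace Groth.Agent.Lib.helper21.ShRestr

open Groth.Agent.Lib.Helper21.TensorW Groth.Agent.Lib.Helper21.TensorAdj
  Groth.Agent.Lib.Helper21.TensorMon Groth.Agent.Lib.helper21.ModElt
  Groth.Agent.Lib.Helper21.ModFree Groth.Agent.Lib.Helper21.ExtZeroT
  Groth.Agent.Lib.helper21.SheafHomExact
open Groth.Agent.Lib.helper21.FLFDual
open Groth.Agent.Lib.helper11.IsoLocus
open Scheme.Modules

section general

variable {C : Type u} [SmallCategory C] {J : GrothendieckTopology C} {O : Sheaf J CommRingCat.{u}}

/-- naturality of `secEquiv` in the second variable -/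
lemma secEquiv_sheafHom_map (F : ModSite.Mod O) [ModSite.HasSheafHom F] {N N' : ModSite.Mod O}
    (g : N ⟶ N') (V : C) (s : (pv ((ModSite.sheafHom F).obj N)).obj (op V)) :
    secEquiv F N' V (amap (pvMap ((ModSite.sheafHom F).map g)) (op V) s) =
      secEquiv F N V s ≫ g := by
  unfold secEquiv
  simp only [Equiv.trans_apply]
  rw [← Adjunction.homEquiv_naturality_right_symm, Equiv.symm_apply_eq, Equiv.apply_symm_apply,
    Equiv.symm_apply_eq, freeOnHomEquiv_comp, Equiv.apply_symm_apply]
  rfl

/-- postcomposition with `g` is bijective on `Hom(j_! A, -)` if `g|_V` is an isomorphism -/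
lemma bijective_postcomp_extZero {N N' : ModSite.Mod O} (g : N ⟶ N') (V : C)
    (h : IsIso ((ModSite.restr O V).map g)) {T : ModSite.Mod O} {A : ModSite.Mod (O.over V)}
    (e : T ≅ (ModSite.extZero O V).obj A) :
    Function.Bijective (fun σ : T ⟶ N => σ ≫ g) := by
  let adj := ModSite.extZeroAdj O V
  have key : ∀ σ : T ⟶ N, adj.homEquiv A N' (e.inv ≫ σ ≫ g) =
      adj.homEquiv A N (e.inv ≫ σ) ≫ (ModSite.restr O V).map g := by
    intro σ
    rw [← Category.assoc, Adjunction.homEquiv_naturality_right]
  constructor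
  · intro σ σ' hσ
    have h1 : adj.homEquiv A N (e.inv ≫ σ) ≫ (ModSite.restr O V).map g =
        adj.homEquiv A N (e.inv ≫ σ') ≫ (ModSite.restr O V).map g := by
      rw [← key, ← key]
      exact congrArg (fun t => adj.homEquiv A N' (e.inv ≫ t)) hσ
    have h2 := (adj.homEquiv A N).injective ((cancel_mono _).mp h1)
    exact (cancel_epi e.inv).mp h2
  · intro τ
    refine ⟨e.hom ≫ (adj.homEquiv A N).symm
      (adj.homEquiv A N' (e.inv ≫ τ) ≫ inv ((ModSite.restr O V).map g)), ?_⟩
    apply (cancel_epi e.inv).mp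
    apply (adj.homEquiv A N').injective
    change adj.homEquiv A N' (e.inv ≫ (e.hom ≫ _) ≫ g) = _
    rw [key, Iso.inv_hom_id_assoc, Equiv.apply_symm_apply, Category.assoc, IsIso.inv_hom_id,
      Category.comp_id]

/-- if `g|_V` is an isomorphism then `ℋom(F, g)(V)` is bijective -/
lemma bijective_sheafHom_map_of_isIso_restr (F : ModSite.Mod O) [ModSite.HasSheafHom F]
    {N N' : ModSite.Mod O} (g : N ⟶ N') (V : C) (h : IsIso ((ModSite.restr O V).map g)) :
    Function.Bijective (amap (pvMap ((ModSite.sheafHom F).map g)) (op V)) := by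
  have hb := bijective_postcomp_extZero g V h (T := (tens O F).obj (ModSite.freeOn O V))
    (freeOnTensorIso O V F)
  have key := secEquiv_sheafHom_map F g V
  constructor
  · intro s s' hs
    have h1 := congrArg (secEquiv F N' V) hs
    rw [key, key] at h1
    exact (secEquiv F N V).injective (hb.1 h1)
  · intro t
    obtain ⟨σ, hσ⟩ := hb.2 (secEquiv F N' V t)
    refine ⟨(secEquiv F N V).symm σ, ?_⟩
    apply (secEquiv F N' V).injective
    rw [key, Equiv.apply_symm_apply]
    exact hσ

end general

variable {X : Scheme.{u}}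

/-- `ℋom(F, g)` is an isomorphism where `g` is -/
theorem le_isoLocus_sheafHom_map (F : X.Modules) {N N' : X.Modules} (g : N ⟶ N') (V : X.Opens)
    (h : V ≤ isoLocus g) : V ≤ isoLocus ((ModSite.sheafHom (O := X.sheaf) F).map g) := by
  rw [le_isoLocus_iff, isIso_restrict_iff_app]
  intro W hW
  have hW' : IsIso ((restrictFunctor W.ι).map g) := (le_isoLocus_iff _ _).mp (hW.trans h)
  have h1 : IsIso ((ModSite.restr X.sheaf W).map g) := isIso_restr_map g W hW'
  have h2 := bijective_sheafHom_map_of_isIso_restr (O := X.sheaf) F g W h1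
  rw [ConcreteCategory.isIso_iff_bijective]
  exact h2

end Groth.Agent.Lib.helper21.ShRestr
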