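import Mathlib
import Groth.Agent.Lib.Helper21.ShRestr1

/-!
# `ℋom(F, -)` and restriction to opens, part 2 (helper21)

For an open `U` of a scheme `X` with inclusion `j` and an `O_X`-module `F`:

* `tensRestrIso U F : (- ⊗ F) ⋙ j^* ≅ j^* ⋙ (- ⊗ j^*F)`;
* `pushSheafHomIso U F : j_* ⋙ ℋom(F, -) ≅ ℋom(j^*F, -) ⋙ j_*`;
* `sheafHomRestrIso U F : ℋom(F, -) ⋙ j^* ≅ j^* ⋙ ℋom(j^*F, -)`.
-/

set_option autoImplicit false
universe u

open CategoryTheory CategoryTheory.Limits Opposite AlgebraicGeometry TopologicalSpace MonoidalCategory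

namespace Groth.Agent.Lib.helper21.ShRestr

open Groth.Agent.Lib.Helper21.TensorW Groth.Agent.Lib.Helper21.TensorAdj
  Groth.Agent.Lib.Helper21.TensorMon
open Groth.Agent.Lib.helper12.PullTensor Groth.Agent.Lib.helper12.TensorRestrict
open Groth.Agent.Lib.Lead.ModTensor (tensorMap tensorMap_id tensorMap_comp)
open Groth.Agent.Lib.helper12.InvDual
open Groth.Agent.Lib.helper11.IsoLocus
open Scheme.Modules

section abstract

variable {𝒜 : Type*} [Category 𝒜]

lemma sq_of_inv_sq {A A' B B' : 𝒜} (e : A ≅ B) (e' : A' ≅ B') (jm : A ⟶ A') (tm : B ⟶ B')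
    (h : tm ≫ e'.inv = e.inv ≫ jm) : jm ≫ e'.hom = e.hom ≫ tm := by
  rw [← Iso.inv_comp_eq, ← Category.assoc, ← h, Category.assoc, Iso.inv_hom_id, Category.comp_id]

/-- for an adjunction `Jup ⊣ Jlow` and `e : Jlow ⋙ H ≅ H' ⋙ Jlow`, the induced comparison
`H ⋙ Jup ⟶ Jup ⋙ H'` -/
def nuA {𝒳 𝒰 : Type*} [Category 𝒳] [Category 𝒰] {Jup : 𝒳 ⥤ 𝒰} {Jlow : 𝒰 ⥤ 𝒳} (adj : Jup ⊣ Jlow)
    {H : 𝒳 ⥤ 𝒳} {H' : 𝒰 ⥤ 𝒰} (e : Jlow ⋙ H ≅ H' ⋙ Jlow) : H ⋙ Jup ⟶ Jup ⋙ H' where
  app G := Jup.map (H.map (adj.unit.app G)) ≫ Jup.map (e.hom.app (Jup.obj G)) ≫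
    adj.counit.app (H'.obj (Jup.obj G))
  naturality G G' g := by
    have h1 : H.map g ≫ H.map (adj.unit.app G') =
        H.map (adj.unit.app G) ≫ H.map (Jlow.map (Jup.map g)) := by
      rw [← H.map_comp, ← H.map_comp]
      congr 1
      exact adj.unit.naturality g
    have h2 : H.map (Jlow.map (Jup.map g)) ≫ e.hom.app (Jup.obj G') =
        e.hom.app (Jup.obj G) ≫ Jlow.map (H'.map (Jup.map g)) := e.hom.naturality (Jup.map g)
    have h3 : Jup.map (Jlow.map (H'.map (Jup.map g))) ≫ adj.counit.app (H'.obj (Jup.obj G')) =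
        adj.counit.app (H'.obj (Jup.obj G)) ≫ H'.map (Jup.map g) :=
      adj.counit.naturality (H'.map (Jup.map g))
    simp only [Functor.comp_map, Functor.comp_obj, Category.assoc]
    rw [← Jup.map_comp_assoc, h1, Jup.map_comp, Category.assoc,
      ← Jup.map_comp_assoc (H.map (Jlow.map (Jup.map g))), h2,
      Jup.map_comp, Category.assoc, h3]

end abstract

variable {X : Scheme.{u}} (U : X.Opens) (F : X.Modules)

/-- `(- ⊗ F)|_U ≅ (-)|_U ⊗ F|_U` -/
noncomputable def tensRestrIso :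
    tens X.sheaf F ⋙ restrictFunctor U.ι ≅
      restrictFunctor U.ι ⋙ tens (↑U : Scheme.{u}).sheaf ((restrictFunctor U.ι).obj F) :=
  NatIso.ofComponents (fun T => restrictTensorIso U.ι T F) (by
    intro T T' a
    have h := restrictTensorIso_inv_naturality U.ι a (𝟙 F)
    rw [CategoryTheory.Functor.map_id] at h
    exact sq_of_inv_sq (restrictTensorIso U.ι T F) (restrictTensorIso U.ι T' F) _ _ h)

/-- `ℋom(F, j_* -) ≅ j_* ℋom(j^*F, -)` -/
noncomputable def pushSheafHomIso :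
    Scheme.Modules.pushforward U.ι ⋙ ModSite.sheafHom (O := X.sheaf) F ≅
      ModSite.sheafHom (O := (↑U : Scheme.{u}).sheaf) ((restrictFunctor U.ι).obj F) ⋙
        Scheme.Modules.pushforward U.ι :=
  ((((ModSite.sheafHomAdj (O := X.sheaf) F).comp (restrictAdjunction U.ι)).ofNatIsoLeft
    (tensRestrIso U F)).rightAdjointUniq
    ((restrictAdjunction U.ι).comp
      (ModSite.sheafHomAdj (O := (↑U : Scheme.{u}).sheaf) ((restrictFunctor U.ι).obj F))))

/-- the comparison `ℋom(F, -)|_U ⟶ ℋom(F|_U, (-)|_U)` -/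
noncomputable def sheafHomRestrHom :
    ModSite.sheafHom (O := X.sheaf) F ⋙ restrictFunctor U.ι ⟶
      restrictFunctor U.ι ⋙
        ModSite.sheafHom (O := (↑U : Scheme.{u}).sheaf) ((restrictFunctor U.ι).obj F) :=
  nuA (restrictAdjunction U.ι) (pushSheafHomIso U F)

theorem isIso_sheafHomRestrHom_app (G : X.Modules) : IsIso ((sheafHomRestrHom U F).app G) := by
  have h1 : IsIso ((restrictFunctor U.ι).map ((ModSite.sheafHom (O := X.sheaf) F).map
      ((restrictAdjunction U.ι).unit.app G))) :=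
    (le_isoLocus_iff _ _).mp (le_isoLocus_sheafHom_map F _ U
      (le_isoLocus_restrictAdjunction_unit G U))
  have h2 : IsIso ((restrictFunctor U.ι).map
      ((pushSheafHomIso U F).hom.app ((restrictFunctor U.ι).obj G))) := inferInstance
  have h3 : IsIso ((restrictAdjunction U.ι).counit.app
      ((ModSite.sheafHom (O := (↑U : Scheme.{u}).sheaf) ((restrictFunctor U.ι).obj F)).obj
        ((restrictFunctor U.ι).obj G))) := inferInstance
  exact IsIso.comp_isIso' h1 (IsIso.comp_isIso' h2 h3)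

/-- **`ℋom(F, -)|_U ≅ ℋom(F|_U, (-)|_U)`** -/
noncomputable def sheafHomRestrIso :
    ModSite.sheafHom (O := X.sheaf) F ⋙ restrictFunctor U.ι ≅
      restrictFunctor U.ι ⋙
        ModSite.sheafHom (O := (↑U : Scheme.{u}).sheaf) ((restrictFunctor U.ι).obj F) :=
  haveI : ∀ G, IsIso ((sheafHomRestrHom U F).app G) := isIso_sheafHomRestrHom_app U F
  haveI := NatIso.isIso_of_isIso_app (sheafHomRestrHom U F)
  asIso (sheafHomRestrHom U F)

end Groth.Agent.Lib.helper21.ShRestr
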