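import Mathlib
import Groth.Agent.Lib.Helper21.ShHomCoh1
import Groth.Agent.Lib.Helper21.ShRestr2
import Groth.Agent.Lib.Helper21.FLFDualExt
import Groth.Agent.Lib.Helper11.Bidual1
import Groth.Agent.Lib.Helper18.DegCalc
import Groth.Agent.Lib.Helper7.CohKer
import Groth.Agent.Lib.Helper25.DCohHomology
import Groth.Agent.Lib.Helper16.QCohPullback2
import Groth.Agent.Lib.Helper16.FLF4
import Groth.Agent.Lib.Lead.RankAdd
import Groth.Prelude.Def_DCoh4

/-!
# Coherence of `ℋom(F, G)` on a locally Noetherian scheme (helper21)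
-/

set_option autoImplicit false
universe u

open CategoryTheory CategoryTheory.Limits Opposite AlgebraicGeometry TopologicalSpace

namespace Groth.Agent.Lib.helper21.ShHomCoh

open Groth.Agent.Lib.Helper21.TensorW Groth.Agent.Lib.Helper21.TensorAdj
  Groth.Agent.Lib.Helper21.TensorMon
open Groth.Agent.Lib.helper12.InvDual
open Groth.Agent.Lib.helper21.FLFDual
open Scheme.Modules

variable {X : Scheme.{u}}

/-- coherence is invariant under isomorphism -/
theorem isCoh_of_iso' {F G : X.Modules} (e : F ≅ G) (hF : Coh.IsCoh F) : Coh.IsCoh G :=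
  ⟨(SheafOfModules.isQuasicoherent X.ringCatSheaf).prop_of_iso e hF.1,
    Groth.Agent.Lib.helper7.CohKer.isFiniteType_of_epi e.hom hF.2⟩

/-- restriction of a coherent module to an open is coherent -/
theorem isCoh_restrict {F : X.Modules} (hF : Coh.IsCoh F) (U : X.Opens) :
    Coh.IsCoh ((restrictFunctor U.ι).obj F) := by
  have hq : F.IsQuasicoherent := hF.1
  refine ⟨inferInstanceAs (F.restrict U.ι).IsQuasicoherent, ?_⟩
  have h1 := Groth.Agent.Lib.helper16.QCohPullback2.isFiniteType_pullback U.ι F hF.2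
  exact Groth.Agent.Lib.helper7.CohKer.isFiniteType_of_epi
    ((restrictFunctorIsoPullback U.ι).inv.app F) h1

/-- `ℋom(E, G)` is coherent for `E` finite locally free and `G` coherent -/
theorem isCoh_sheafHom_of_isFinLocFree {E G : X.Modules} (hE : FlatMod.IsFinLocFree E)
    (hG : Coh.IsCoh G) : Coh.IsCoh ((ModSite.sheafHom (O := X.sheaf) E).obj G) := by
  have hD : Coh.IsCoh (dualMod E) :=
    Groth.Agent.Lib.Lead.RankAdd.isCoh_of_isFinLocFree
      (Groth.Agent.Lib.helper11.Bidual.isFinLocFree_dualMod hE)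
  have h1 : Coh.IsCoh (CohB1.tensorMod G (dualMod E)) :=
    Groth.Agent.Lib.Helper18.DegCalc.isCoh_tensorMod hG hD
  exact isCoh_of_iso' ((tensDualIso hE).app G) h1

/-- a free module on a finite type is finite locally free -/
theorem isFinLocFree_free (I : Type u) [Finite I] :
    FlatMod.IsFinLocFree (SheafOfModules.free (R := X.ringCatSheaf) I) := by
  obtain ⟨n, ⟨e⟩⟩ := Finite.exists_equiv_fin I
  have e' : I ≃ ULift.{u} (Fin n) := e.trans Equiv.ulift.symm
  have i1 : SheafOfModules.free (R := X.ringCatSheaf) I ≅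
      SheafOfModules.free (R := X.ringCatSheaf) (ULift.{u} (Fin n)) :=
    (SheafOfModules.freeFunctor (R := X.ringCatSheaf)).mapIso (Equiv.toIso e')
  exact Groth.Agent.Lib.helper16.FLF.isFinLocFree_of_iso
    ((Groth.Agent.Lib.helper16.FLF.freeModIso X n) ≪≫ i1.symm)
    (Groth.Agent.Lib.helper16.FLF.isFinLocFree_freeMod X n)

/-- a finite presentation of a coherent module over an affine open of a locally Noetherian scheme,
as a right exact complex of finite free modules -/
theorem exists_presentation_sc [IsLocallyNoetherian X] {F : X.Modules} (hF : Coh.IsCoh F)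
    {U : X.Opens} (hU : IsAffineOpen U) :
    ∃ (E₁ E₀ : (↑U : Scheme.{u}).Modules) (f : E₁ ⟶ E₀) (g : E₀ ⟶ (restrictFunctor U.ι).obj F)
      (w : f ≫ g = 0), (ShortComplex.mk f g w).Exact ∧ Epi g ∧ FlatMod.IsFinLocFree E₁ ∧
        FlatMod.IsFinLocFree E₀ := by
  haveI : F.IsQuasicoherent := hF.1
  haveI : IsNoetherianRing Γ(X, U) := IsLocallyNoetherian.component_noetherian ⟨U, hU⟩
  haveI : Module.Finite Γ(X, U) Γ(F, U) :=
    Groth.Agent.Lib.helper16.CohFinite.finite_sections_of_isCoh F hF hU
  haveI : Module.FinitePresentation Γ(X, U) Γ(F, U) :=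
    Module.finitePresentation_of_finite Γ(X, U) Γ(F, U)
  obtain ⟨P, hP⟩ := Groth.Agent.Lib.helper16.CohFinite.exists_presentation_restrict_of_fp F hU
  haveI : Finite P.generators.I := SheafOfModules.GeneratingSections.IsFiniteType.finite
  haveI : Finite P.relations.I := SheafOfModules.GeneratingSections.IsFiniteType.finite
  have w : (P.relations.π ≫ kernel.ι P.generators.π) ≫ P.generators.π = 0 := by
    rw [Category.assoc, kernel.condition, comp_zero]
  refine ⟨_, _, P.relations.π ≫ kernel.ι P.generators.π, P.generators.π, w, ?_,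
    P.generators.epi, isFinLocFree_free _, isFinLocFree_free _⟩
  rw [ShortComplex.exact_iff_epi_kernel_lift]
  have h : kernel.lift P.generators.π (P.relations.π ≫ kernel.ι P.generators.π) w =
      P.relations.π := by
    rw [← cancel_mono (kernel.ι P.generators.π), kernel.lift_ι]
  show Epi (kernel.lift P.generators.π (P.relations.π ≫ kernel.ι P.generators.π) w)
  rw [h]
  infer_instance

/-- **`ℋom(F, G)` is coherent** for `F`, `G` coherent on a locally Noetherian scheme -/
theorem isCoh_sheafHom [IsLocallyNoetherian X] {F G : X.Modules} (hF : Coh.IsCoh F)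
    (hG : Coh.IsCoh G) : Coh.IsCoh ((ModSite.sheafHom (O := X.sheaf) F).obj G) := by
  refine Groth.Agent.Lib.helper25.DCohHomology.isCoh_of_cover _ (fun U : X.affineOpens => U.1)
    (iSup_affineOpens_eq_top X) (fun U => ?_)
  obtain ⟨E₁, E₀, f, g, w, hS, hg, h1, h0⟩ := exists_presentation_sc hF U.2
  haveI := hg
  have hG' : Coh.IsCoh ((restrictFunctor U.1.ι).obj G) := isCoh_restrict hG U.1
  have hk : Coh.IsCoh (kernel ((ExtSupp.sheafHomMap (O := (↑U.1 : Scheme.{u}).sheaf) f).app
      ((restrictFunctor U.1.ι).obj G))) :=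
    Groth.Agent.Lib.helper7.CohKer.isCoh_kernel (isCoh_sheafHom_of_isFinLocFree h0 hG')
      (isCoh_sheafHom_of_isFinLocFree h1 hG') _
  let S : ShortComplex (ModSite.Mod (↑U.1 : Scheme.{u}).sheaf) := ShortComplex.mk f g w
  have hgS : Epi S.g := hg
  have h3 := isCoh_of_iso' (@sheafHomKernelIso _ _ _ (↑U.1 : Scheme.{u}).sheaf S
    inferInstance inferInstance inferInstance hS hgS ((restrictFunctor U.1.ι).obj G)).symm hk
  exact isCoh_of_iso' ((Groth.Agent.Lib.helper21.ShRestr.sheafHomRestrIso U.1 F).app G).symm h3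

/-- the two internal homs (right adjoint of `F ⊗ -`, resp. of `- ⊗ F`) agree -/
noncomputable def dcohSheafHomIso (F : X.Modules) [DCoh.HasSheafHom F] :
    DCoh.sheafHom F ≅ ModSite.sheafHom (O := X.sheaf) F :=
  (DCoh.sheafHomAdj F).rightAdjointUniq
    ((ModSite.sheafHomAdj (O := X.sheaf) F).ofNatIsoLeft (braidIso X.sheaf F).symm)

theorem isCoh_dcohSheafHom [IsLocallyNoetherian X] {F G : X.Modules} (hF : Coh.IsCoh F)
    (hG : Coh.IsCoh G) [DCoh.HasSheafHom F] : Coh.IsCoh ((DCoh.sheafHom F).obj G) :=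
  isCoh_of_iso' ((dcohSheafHomIso F).app G).symm (isCoh_sheafHom hF hG)

end Groth.Agent.Lib.helper21.ShHomCoh
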