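import Mathlib
import Groth.Agent.Lib.Helper21.ShHomCoh2
import Groth.Agent.Lib.Helper21.ModGroth
import Groth.Agent.Lib.Helper21.DerivedComm
import Groth.Agent.Lib.Helper21.SchShriek
import Groth.Agent.Lib.Helper21.ExtShDelta

/-!
# Coherence of `ℰxt^i(F, G)` on a locally Noetherian scheme (helper21)
-/

set_option autoImplicit false
universe u

open CategoryTheory CategoryTheory.Limits Opposite AlgebraicGeometry TopologicalSpace

namespace Groth.Agent.Lib.helper21.ShHomCoh

open Groth.Agent.Lib.Helper21.TensorW Groth.Agent.Lib.Helper21.TensorAdj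
  Groth.Agent.Lib.Helper21.TensorMon
open Groth.Agent.Lib.helper12.InvDual
open Groth.Agent.Lib.helper21.ExtShDelta
open Groth.Agent.Lib.Helper21.DerivedComm
open Scheme.Modules

theorem hasInjRes (Y : Scheme.{u}) : HasInjectiveResolutions (ModSite.Mod Y.sheaf) := by
  haveI : EnoughInjectives (ModSite.Mod Y.sheaf) :=
    Groth.Agent.Lib.Helper21.ModGroth.enoughInjectives_mod Y.ringCatSheaf
  infer_instance

variable {X : Scheme.{u}}

/-- **`ℰxt^i(F, -)|_U ≅ ℰxt^i_U(F|_U, (-)|_U)`** as functors -/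
noncomputable def extShRestrIso (U : X.Opens) (F : X.Modules)
    [HasInjectiveResolutions (ModSite.Mod X.sheaf)]
    [HasInjectiveResolutions (ModSite.Mod (↑U : Scheme.{u}).sheaf)] (i : ℕ) :
    ModSite.extSh (O := X.sheaf) F i ⋙ restrictFunctor U.ι ≅
      restrictFunctor U.ι ⋙
        ModSite.extSh (O := (↑U : Scheme.{u}).sheaf) ((restrictFunctor U.ι).obj F) i := by
  classical
  let j : ModSite.Mod X.sheaf ⥤ ModSite.Mod (↑U : Scheme.{u}).sheaf :=
    Scheme.Modules.restrictFunctor U.ι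
  haveI hR : j.IsRightAdjoint := (Groth.Agent.Lib.helper21.SchShriek.adj U).isRightAdjoint
  haveI hL : j.IsLeftAdjoint := (Scheme.Modules.restrictAdjunction U.ι).isLeftAdjoint
  haveI : PreservesFiniteLimits j := inferInstance
  haveI : PreservesFiniteColimits j := inferInstance
  haveI : j.Additive := Functor.additive_of_preserves_binary_products j
  haveI : j.PreservesHomology := inferInstance
  haveI : j.PreservesInjectiveObjects :=
    Groth.Agent.Lib.helper21.SchShriek.restrict_preservesInjectiveObjects U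
  have e1 := rightDerivedPostIso j (ModSite.sheafHom (O := X.sheaf) F) i
  have e2 := rightDerivedPreIso j
    (ModSite.sheafHom (O := (↑U : Scheme.{u}).sheaf) ((restrictFunctor U.ι).obj F)) i
  haveI a1 : (ModSite.sheafHom (O := X.sheaf) F ⋙ j).Additive := inferInstance
  haveI a2 : (j ⋙ ModSite.sheafHom (O := (↑U : Scheme.{u}).sheaf)
    ((restrictFunctor U.ι).obj F)).Additive := inferInstance
  have e3 := @rightDerivedIso _ _ _ _ _ _ _ _ _ a1 a2
    (Groth.Agent.Lib.helper21.ShRestr.sheafHomRestrIso U F) i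
  exact e1.symm ≪≫ e3 ≪≫ e2

/-- a coherent module over an affine open is a quotient of a finite free module -/
theorem exists_epi_freeMod {F : X.Modules} (hF : Coh.IsCoh F) {U : X.Opens} (hU : IsAffineOpen U) :
    ∃ (n : ℕ) (g : FlatMod.freeMod (↑U : Scheme.{u}) n ⟶ (restrictFunctor U.ι).obj F), Epi g := by
  haveI : F.IsQuasicoherent := hF.1
  haveI : Module.Finite Γ(X, U) Γ(F, U) :=
    Groth.Agent.Lib.helper16.CohFinite.finite_sections_of_isCoh F hF hU
  obtain ⟨P, hP⟩ :=
    Groth.Agent.Lib.helper16.CohFinite.exists_generatingSections_restrict_of_finite F hU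
  obtain ⟨n, ⟨e⟩⟩ := Finite.exists_equiv_fin P.I
  have e' : P.I ≃ ULift.{u} (Fin n) := e.trans Equiv.ulift.symm
  have i1 : SheafOfModules.free (R := (↑U : Scheme.{u}).ringCatSheaf) P.I ≅
      SheafOfModules.free (R := (↑U : Scheme.{u}).ringCatSheaf) (ULift.{u} (Fin n)) :=
    (SheafOfModules.freeFunctor (R := (↑U : Scheme.{u}).ringCatSheaf)).mapIso (Equiv.toIso e')
  haveI h0 : Epi P.π := P.epi
  exact ⟨n, ((Groth.Agent.Lib.helper16.FLF.freeModIso (↑U : Scheme.{u}) n) ≪≫ i1.symm).hom ≫ P.π,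
    @epi_comp _ _ _ _ _ _ inferInstance _ h0⟩

/-- the cokernel end of an exact sequence of coherent modules is coherent -/
theorem isCoh_of_exact_epi (S : ShortComplex X.Modules) (hS : S.Exact) [Epi S.g]
    (h1 : Coh.IsCoh S.X₁) (h2 : Coh.IsCoh S.X₂) : Coh.IsCoh S.X₃ := by
  have e : (CokernelCofork.ofπ S.g S.zero).pt ≅
      (CokernelCofork.ofπ (cokernel.π S.f) (cokernel.condition S.f)).pt :=
    IsColimit.coconePointUniqueUpToIso hS.gIsCokernel (cokernelIsCokernel S.f)
  exact isCoh_of_iso' e.symm (Groth.Agent.Lib.helper7.CohKer.isCoh_cokernel h1 h2 S.f)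

attribute [local instance] hasInjRes

theorem isCoh_T_zero [IsLocallyNoetherian X] {F G : X.Modules} (hF : Coh.IsCoh F)
    (hG : Coh.IsCoh G) : Coh.IsCoh (T (O := X.sheaf) G 0 F) := by
  haveI := ExtShDelta.hasSheafHom X.sheaf F
  haveI := preservesFiniteLimits_sheafHom X.sheaf F
  exact isCoh_of_iso' (((ModSite.sheafHom (O := X.sheaf) F).rightDerivedZeroIsoSelf).app G).symm
    (isCoh_sheafHom hF hG)

/-- **`ℰxt^i(F, G)` is coherent** for `F`, `G` coherent on a locally Noetherian scheme -/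
theorem isCoh_T (i : ℕ) : ∀ (Y : Scheme.{u}) [IsLocallyNoetherian Y] (F G : Y.Modules),
    Coh.IsCoh F → Coh.IsCoh G → Coh.IsCoh (T (O := Y.sheaf) G i F) := by
  induction i with
  | zero => intro Y _ F G hF hG; exact isCoh_T_zero hF hG
  | succ i ih =>
    intro Y _ F G hF hG
    refine Groth.Agent.Lib.helper25.DCohHomology.isCoh_of_cover _ (fun U : Y.affineOpens => U.1)
      (iSup_affineOpens_eq_top Y) (fun U => ?_)
    haveI := ExtShDelta.hasSheafHom Y.sheaf F
    refine isCoh_of_iso' ((extShRestrIso U.1 F (i + 1)).app G).symm ?_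
    obtain ⟨n, g, hg⟩ := exists_epi_freeMod hF U.2
    have hE : Coh.IsCoh (FlatMod.freeMod (↑U.1 : Scheme.{u}) n) :=
      Groth.Agent.Lib.Lead.RankAdd.isCoh_of_isFinLocFree
        (Groth.Agent.Lib.helper16.FLF.isFinLocFree_freeMod _ n)
    have hF' : Coh.IsCoh ((restrictFunctor U.1.ι).obj F) := isCoh_restrict hF U.1
    have hG' : Coh.IsCoh ((restrictFunctor U.1.ι).obj G) := isCoh_restrict hG U.1
    have hK : Coh.IsCoh (kernel g) := Groth.Agent.Lib.helper7.CohKer.isCoh_kernel hE hF' g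
    let S : ShortComplex (ModSite.Mod (↑U.1 : Scheme.{u}).sheaf) :=
      ShortComplex.mk (kernel.ι g) g (kernel.condition g)
    have hS : S.ShortExact :=
      { exact := ShortComplex.exact_of_f_is_kernel S (kernelIsKernel g)
        mono_f := inferInstanceAs (Mono (kernel.ι g))
        epi_g := hg }
    obtain ⟨-, -, δ, hδ⟩ := les (O := (↑U.1 : Scheme.{u}).sheaf) ((restrictFunctor U.1.ι).obj G) S hS
    obtain ⟨w1, hex1⟩ := (hδ i).1
    obtain ⟨w2, hex2⟩ := (hδ i).2
    have hz : IsZero (T (O := (↑U.1 : Scheme.{u}).sheaf) ((restrictFunctor U.1.ι).obj G) (i + 1)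
        S.X₂) :=
      isZero_T_of_iso_free (O := (↑U.1 : Scheme.{u}).sheaf) _ (i + 1) (by omega) n _ (Iso.refl _)
    have hepi : Epi (δ i) := (ShortComplex.exact_iff_epi _ (hz.eq_of_tgt _ _)).1 hex2
    have h1 : Coh.IsCoh (T (O := (↑U.1 : Scheme.{u}).sheaf) ((restrictFunctor U.1.ι).obj G) i
        S.X₂) := ih _ _ _ hE hG'
    have h2 : Coh.IsCoh (T (O := (↑U.1 : Scheme.{u}).sheaf) ((restrictFunctor U.1.ι).obj G) i
        S.X₁) := ih _ _ _ hK hG'
    exact @isCoh_of_exact_epi _ (ShortComplex.mk _ _ w1) hex1 hepi h1 h2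

end Groth.Agent.Lib.helper21.ShHomCoh
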