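import Mathlib
import Groth.Agent.Lib.Helper21.ShRestr2
import Groth.Agent.Lib.Helper21.ShHomCoh3

/-!
# `ℋom` and `ℰxt` commute with restriction along an ISOMORPHISM of schemes (helper21)

For an isomorphism `f : Y ⟶ X` of schemes and an `O_X`-module `F`:

* `restrictEquiv f : X.Modules ≌ Y.Modules` (functor `restrictFunctor f`);
* `sheafHomRestrIso' f F : ℋom(F, -) ⋙ f^* ≅ f^* ⋙ ℋom(f^*F, -)`;
* `extShRestrIso' f F i : ℰxt^i(F, -) ⋙ f^* ≅ f^* ⋙ ℰxt^i(f^*F, -)`.
-/

set_option autoImplicit false
universe u

open CategoryTheory CategoryTheory.Limits Opposite AlgebraicGeometry TopologicalSpace MonoidalCategory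

namespace Groth.Agent.Lib.helper21.ShRestr

open Groth.Agent.Lib.Helper21.TensorW Groth.Agent.Lib.Helper21.TensorAdj
  Groth.Agent.Lib.Helper21.TensorMon
open Groth.Agent.Lib.helper12.PullTensor Groth.Agent.Lib.helper12.TensorRestrict
open Groth.Agent.Lib.Lead.ModTensor (tensorMap tensorMap_id tensorMap_comp)
open Groth.Agent.Lib.Helper21.DerivedComm
open Scheme.Modules

variable {X Y : Scheme.{u}} (f : Y ⟶ X) [hf : IsIso f]

/-- restriction along an isomorphism of schemes is an equivalence of categories -/
noncomputable def restrictEquiv : X.Modules ≌ Y.Modules :=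
  CategoryTheory.Equivalence.mk (restrictFunctor f) (restrictFunctor (inv f))
    (restrictFunctorId.symm ≪≫ restrictFunctorCongr (by simp : 𝟙 X = inv f ≫ f) ≪≫
      restrictFunctorComp (inv f) f)
    ((restrictFunctorComp f (inv f)).symm ≪≫ restrictFunctorCongr (by simp : f ≫ inv f = 𝟙 Y) ≪≫
      restrictFunctorId)

instance : (restrictFunctor f).IsEquivalence := (restrictEquiv f).isEquivalence_functor

instance : IsIso (restrictAdjunction f).unit := inferInstance

instance (G : X.Modules) : IsIso ((restrictAdjunction f).unit.app G) :=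
  NatIso.isIso_app_of_isIso _ _

variable (F : X.Modules)

/-- `(- ⊗ F) ⋙ f^* ≅ f^* ⋙ (- ⊗ f^*F)` -/
noncomputable def tensRestrIso' :
    tens X.sheaf F ⋙ restrictFunctor f ≅
      restrictFunctor f ⋙ tens Y.sheaf ((restrictFunctor f).obj F) :=
  NatIso.ofComponents (fun T => restrictTensorIso f T F) (by
    intro T T' a
    have h := restrictTensorIso_inv_naturality f a (𝟙 F)
    rw [CategoryTheory.Functor.map_id] at h
    exact sq_of_inv_sq (restrictTensorIso f T F) (restrictTensorIso f T' F) _ _ h)

/-- `ℋom(F, f_* -) ≅ f_* ℋom(f^*F, -)` -/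
noncomputable def pushSheafHomIso' :
    Scheme.Modules.pushforward f ⋙ ModSite.sheafHom (O := X.sheaf) F ≅
      ModSite.sheafHom (O := Y.sheaf) ((restrictFunctor f).obj F) ⋙
        Scheme.Modules.pushforward f :=
  ((((ModSite.sheafHomAdj (O := X.sheaf) F).comp (restrictAdjunction f)).ofNatIsoLeft
    (tensRestrIso' f F)).rightAdjointUniq
    ((restrictAdjunction f).comp
      (ModSite.sheafHomAdj (O := Y.sheaf) ((restrictFunctor f).obj F))))

/-- the comparison `f^* ℋom(F, -) ⟶ ℋom(f^*F, f^* -)` -/
noncomputable def sheafHomRestrHom' :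
    ModSite.sheafHom (O := X.sheaf) F ⋙ restrictFunctor f ⟶
      restrictFunctor f ⋙
        ModSite.sheafHom (O := Y.sheaf) ((restrictFunctor f).obj F) :=
  nuA (restrictAdjunction f) (pushSheafHomIso' f F)

include hf in
theorem isIso_sheafHomRestrHom'_app (G : X.Modules) : IsIso ((sheafHomRestrHom' f F).app G) := by
  have h00 : IsIso (restrictAdjunction f).unit := inferInstance
  have h0 : IsIso ((restrictAdjunction f).unit.app G) := NatIso.isIso_app_of_isIso _ _
  have h0' : IsIso ((ModSite.sheafHom (O := X.sheaf) F).map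
      ((restrictAdjunction f).unit.app G)) :=
    @Functor.map_isIso _ _ _ _ _ _ (ModSite.sheafHom (O := X.sheaf) F)
      ((restrictAdjunction f).unit.app G) h0
  have h1 : IsIso ((restrictFunctor f).map ((ModSite.sheafHom (O := X.sheaf) F).map
      ((restrictAdjunction f).unit.app G))) :=
    @Functor.map_isIso _ _ _ _ _ _ (restrictFunctor f) _ h0'
  have h2 : IsIso ((restrictFunctor f).map
      ((pushSheafHomIso' f F).hom.app ((restrictFunctor f).obj G))) := inferInstance
  have h3 : IsIso ((restrictAdjunction f).counit.app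
      ((ModSite.sheafHom (O := Y.sheaf) ((restrictFunctor f).obj F)).obj
        ((restrictFunctor f).obj G))) := inferInstance
  exact IsIso.comp_isIso' h1 (IsIso.comp_isIso' h2 h3)

/-- **`f^* ℋom(F, -) ≅ ℋom(f^*F, f^* -)`** for an isomorphism `f` -/
noncomputable def sheafHomRestrIso' :
    ModSite.sheafHom (O := X.sheaf) F ⋙ restrictFunctor f ≅
      restrictFunctor f ⋙
        ModSite.sheafHom (O := Y.sheaf) ((restrictFunctor f).obj F) :=
  haveI : ∀ G, IsIso ((sheafHomRestrHom' f F).app G) := isIso_sheafHomRestrHom'_app f F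
  haveI := NatIso.isIso_of_isIso_app (sheafHomRestrHom' f F)
  asIso (sheafHomRestrHom' f F)

/-- **`f^* ℰxt^i(F, -) ≅ ℰxt^i(f^*F, f^* -)`** for an isomorphism `f` -/
noncomputable def extShRestrIso'
    [HasInjectiveResolutions (ModSite.Mod X.sheaf)]
    [HasInjectiveResolutions (ModSite.Mod Y.sheaf)] (i : ℕ) :
    ModSite.extSh (O := X.sheaf) F i ⋙ restrictFunctor f ≅
      restrictFunctor f ⋙
        ModSite.extSh (O := Y.sheaf) ((restrictFunctor f).obj F) i := by
  classical
  let j : ModSite.Mod X.sheaf ⥤ ModSite.Mod Y.sheaf := Scheme.Modules.restrictFunctor f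
  haveI hE : j.IsEquivalence := inferInstanceAs (restrictFunctor f).IsEquivalence
  haveI : PreservesFiniteLimits j := inferInstance
  haveI : PreservesFiniteColimits j := inferInstance
  haveI : j.Additive := Functor.additive_of_preserves_binary_products j
  haveI : j.PreservesHomology := inferInstance
  haveI : j.PreservesInjectiveObjects :=
    Functor.preservesInjectiveObjects_of_adjunction_of_preservesMonomorphisms
      (j.asEquivalence.symm.toAdjunction)
  have e1 := rightDerivedPostIso j (ModSite.sheafHom (O := X.sheaf) F) i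
  have e2 := rightDerivedPreIso j
    (ModSite.sheafHom (O := Y.sheaf) ((restrictFunctor f).obj F)) i
  haveI a1 : (ModSite.sheafHom (O := X.sheaf) F ⋙ j).Additive := inferInstance
  haveI a2 : (j ⋙ ModSite.sheafHom (O := Y.sheaf)
    ((restrictFunctor f).obj F)).Additive := inferInstance
  have e3 := @rightDerivedIso _ _ _ _ _ _ _ _ _ a1 a2
    (sheafHomRestrIso' f F) i
  exact e1.symm ≪≫ e3 ≪≫ e2

end Groth.Agent.Lib.helper21.ShRestr
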