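import Mathlib
import Groth.Agent.Lib.Helper21.ShHomCoh3
import Groth.Agent.Lib.Helper2.TensorQCoh
import Groth.Agent.Lib.Helper28.RestrictCover
import Groth.Agent.Lib.Helper16.FLF2

/-!
# Quasi-coherence of `ℰxt^i(F, G)` for `F` coherent, `G` quasi-coherent on a locally Noetherian
scheme (helper21)
-/

set_option autoImplicit false
universe u

open CategoryTheory CategoryTheory.Limits Opposite AlgebraicGeometry TopologicalSpace

namespace Groth.Agent.Lib.helper21.ExtShQCoh

open Groth.Agent.Lib.Helper21.TensorW Groth.Agent.Lib.Helper21.TensorAdj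
  Groth.Agent.Lib.Helper21.TensorMon
open Groth.Agent.Lib.helper12.InvDual
open Groth.Agent.Lib.helper21.FLFDual
open Groth.Agent.Lib.helper21.ExtShDelta
open Groth.Agent.Lib.Helper21.DerivedComm
open Groth.Agent.Lib.helper21.ShHomCoh
open Scheme.Modules

variable {X : Scheme.{u}}

theorem isQC_of_iso {A B : X.Modules} (e : A ≅ B) (hA : A.IsQuasicoherent) : B.IsQuasicoherent :=
  (SheafOfModules.isQuasicoherent X.ringCatSheaf).prop_of_iso e hA

/-- quasi-coherence is local on an open cover -/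
theorem isQC_of_cover (M : X.Modules) {ι : Type u} (W : ι → X.Opens) (hW : ⨆ k, W k = ⊤)
    (h : ∀ k, ((restrictFunctor (W k).ι).obj M).IsQuasicoherent) : M.IsQuasicoherent := by
  refine Groth.Agent.Lib.helper28.RestrictCover.isQuasicoherent_of_restrict_cover M
    (fun k => ((W k : X.Opens) : Scheme.{u})) (fun k => (W k).ι) ?_ (fun k => h k)
  intro x
  have hx' : x ∈ (⨆ k, W k : X.Opens) := by rw [hW]; trivial
  obtain ⟨k, hk⟩ := Opens.mem_iSup.mp hx'
  exact ⟨k, ⟨x, hk⟩, rfl⟩

theorem isQC_restrict {G : X.Modules} (hG : G.IsQuasicoherent) (U : X.Opens) :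
    ((restrictFunctor U.ι).obj G).IsQuasicoherent :=
  inferInstanceAs (G.restrict U.ι).IsQuasicoherent

/-- `ℋom(E, G)` is quasi-coherent for `E` finite locally free and `G` quasi-coherent -/
theorem isQC_sheafHom_of_isFinLocFree {E G : X.Modules} (hE : FlatMod.IsFinLocFree E)
    (hG : G.IsQuasicoherent) : ((ModSite.sheafHom (O := X.sheaf) E).obj G).IsQuasicoherent := by
  haveI := hG
  haveI hD : (dualMod E).IsQuasicoherent :=
    Groth.Agent.Lib.helper16.FLF.isQuasicoherent_of_isFinLocFree _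
      (Groth.Agent.Lib.helper11.Bidual.isFinLocFree_dualMod hE)
  have h1 : (CohB1.tensorMod G (dualMod E)).IsQuasicoherent :=
    Groth.Agent.Lib.helper2.TensorQCoh.isQuasicoherent_tensorMod G (dualMod E)
  exact isQC_of_iso ((tensDualIso hE).app G) h1

/-- **`ℋom(F, G)` is quasi-coherent** for `F` coherent, `G` quasi-coherent on a locally Noetherian
scheme -/
theorem isQC_sheafHom [IsLocallyNoetherian X] {F G : X.Modules} (hF : Coh.IsCoh F)
    (hG : G.IsQuasicoherent) : ((ModSite.sheafHom (O := X.sheaf) F).obj G).IsQuasicoherent := by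
  refine isQC_of_cover _ (fun U : X.affineOpens => U.1) (iSup_affineOpens_eq_top X) (fun U => ?_)
  obtain ⟨E₁, E₀, f, g, w, hS, hg, h1, h0⟩ := exists_presentation_sc hF U.2
  haveI := hg
  have hG' : ((restrictFunctor U.1.ι).obj G).IsQuasicoherent := isQC_restrict hG U.1
  haveI := isQC_sheafHom_of_isFinLocFree h0 hG'
  haveI := isQC_sheafHom_of_isFinLocFree h1 hG'
  have hk : (kernel ((ExtSupp.sheafHomMap (O := (↑U.1 : Scheme.{u}).sheaf) f).app
      ((restrictFunctor U.1.ι).obj G))).IsQuasicoherent :=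
    Groth.Agent.Lib.helper7.CohKer.isQuasicoherent_kernel _
  let S : ShortComplex (ModSite.Mod (↑U.1 : Scheme.{u}).sheaf) := ShortComplex.mk f g w
  have hgS : Epi S.g := hg
  have h3 := isQC_of_iso (@sheafHomKernelIso _ _ _ (↑U.1 : Scheme.{u}).sheaf S
    inferInstance inferInstance inferInstance hS hgS ((restrictFunctor U.1.ι).obj G)).symm hk
  exact isQC_of_iso ((Groth.Agent.Lib.helper21.ShRestr.sheafHomRestrIso U.1 F).app G).symm h3

/-- the cokernel end of an exact sequence of quasi-coherent modules is quasi-coherent -/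
theorem isQC_of_exact_epi (S : ShortComplex X.Modules) (hS : S.Exact) [Epi S.g]
    (h1 : S.X₁.IsQuasicoherent) (h2 : S.X₂.IsQuasicoherent) : S.X₃.IsQuasicoherent := by
  have e : (CokernelCofork.ofπ S.g S.zero).pt ≅
      (CokernelCofork.ofπ (cokernel.π S.f) (cokernel.condition S.f)).pt :=
    IsColimit.coconePointUniqueUpToIso hS.gIsCokernel (cokernelIsCokernel S.f)
  haveI := h1
  haveI := h2
  exact isQC_of_iso e.symm (Groth.Agent.Lib.helper7.CohKer.isQuasicoherent_cokernel S.f)

attribute [local instance] hasInjRes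

theorem isQC_T_zero [IsLocallyNoetherian X] {F G : X.Modules} (hF : Coh.IsCoh F)
    (hG : G.IsQuasicoherent) : (T (O := X.sheaf) G 0 F).IsQuasicoherent := by
  haveI := ExtShDelta.hasSheafHom X.sheaf F
  haveI := preservesFiniteLimits_sheafHom X.sheaf F
  exact isQC_of_iso (((ModSite.sheafHom (O := X.sheaf) F).rightDerivedZeroIsoSelf).app G).symm
    (isQC_sheafHom hF hG)

/-- **`ℰxt^i(F, G)` is quasi-coherent** for `F` coherent, `G` quasi-coherent on a locally
Noetherian scheme -/
theorem isQC_T (i : ℕ) : ∀ (Y : Scheme.{u}) [IsLocallyNoetherian Y] (F G : Y.Modules),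
    Coh.IsCoh F → G.IsQuasicoherent → (T (O := Y.sheaf) G i F).IsQuasicoherent := by
  induction i with
  | zero => intro Y _ F G hF hG; exact isQC_T_zero hF hG
  | succ i ih =>
    intro Y _ F G hF hG
    refine isQC_of_cover _ (fun U : Y.affineOpens => U.1) (iSup_affineOpens_eq_top Y) (fun U => ?_)
    haveI := ExtShDelta.hasSheafHom Y.sheaf F
    refine isQC_of_iso ((extShRestrIso U.1 F (i + 1)).app G).symm ?_
    obtain ⟨n, g, hg⟩ := exists_epi_freeMod hF U.2
    have hE : Coh.IsCoh (FlatMod.freeMod (↑U.1 : Scheme.{u}) n) :=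
      Groth.Agent.Lib.Lead.RankAdd.isCoh_of_isFinLocFree
        (Groth.Agent.Lib.helper16.FLF.isFinLocFree_freeMod _ n)
    have hF' : Coh.IsCoh ((restrictFunctor U.1.ι).obj F) := isCoh_restrict hF U.1
    have hG' : ((restrictFunctor U.1.ι).obj G).IsQuasicoherent := isQC_restrict hG U.1
    have hK : Coh.IsCoh (kernel g) := Groth.Agent.Lib.helper7.CohKer.isCoh_kernel hE hF' g
    let S : ShortComplex (ModSite.Mod (↑U.1 : Scheme.{u}).sheaf) :=
      ShortComplex.mk (kernel.ι g) g (kernel.condition g)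
    have hS : S.ShortExact :=
      { exact := ShortComplex.exact_of_f_is_kernel S (kernelIsKernel g)
        mono_f := inferInstanceAs (Mono (kernel.ι g))
        epi_g := hg }
    obtain ⟨-, -, δ, hδ⟩ := les (O := (↑U.1 : Scheme.{u}).sheaf) ((restrictFunctor U.1.ι).obj G) S hS
    obtain ⟨w1, hex1⟩ := (hδ i).1
    obtain ⟨w2, hex2⟩ := (hδ i).2
    have hz : IsZero (T (O := (↑U.1 : Scheme.{u}).sheaf) ((restrictFunctor U.1.ι).obj G) (i + 1)
        S.X₂) :=
      isZero_T_of_iso_free (O := (↑U.1 : Scheme.{u}).sheaf) _ (i + 1) (by omega) n _ (Iso.refl _)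
    have hepi : Epi (δ i) := (ShortComplex.exact_iff_epi _ (hz.eq_of_tgt _ _)).1 hex2
    have h1 : (T (O := (↑U.1 : Scheme.{u}).sheaf) ((restrictFunctor U.1.ι).obj G) i
        S.X₂).IsQuasicoherent := ih _ _ _ hE hG'
    have h2 : (T (O := (↑U.1 : Scheme.{u}).sheaf) ((restrictFunctor U.1.ι).obj G) i
        S.X₁).IsQuasicoherent := ih _ _ _ hK hG'
    exact @isQC_of_exact_epi _ (ShortComplex.mk _ _ w1) hex1 hepi h1 h2

end Groth.Agent.Lib.helper21.ExtShQCoh
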