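import Mathlib
import Groth.Prelude.Def_ExtSupp
import Groth.Agent.Lib.Helper13.TildeTensorNat
import Groth.Agent.Lib.Helper21.ExtShDelta

/-!
# `Γ(Spec R, ℋom(M^~, G)) ≅ Hom_R(M, Γ(G))`, naturally in `M` and `G` (helper21)

For a commutative ring `R`, an `R`-module `M` and ANY `O`-module `G` on `Spec R`:

* `thetaIso R M : tilde ⋙ (- ⊗ M^~) ≅ (M ⊗ -) ⋙ tilde` (from helper2's `tildeTensorIso` and the braiding);
* `rho R M : ℋom(M^~, -) ⋙ Γ ≅ Γ ⋙ Hom_R(M, -)` (uniqueness of right adjoints; `R`-linear by construction);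
* `rho_naturality` : compatibility with `ExtSupp.sheafHomMap (tilde.map u)` and `MonoidalClosed.pre u`.
-/

set_option autoImplicit false
universe u

open CategoryTheory CategoryTheory.Limits AlgebraicGeometry Opposite TopologicalSpace TensorProduct
  MonoidalCategory

namespace Groth.Agent.Lib.helper21.TildeHom

open Groth.Agent.Lib.helper2.TildeTensor Groth.Agent.Lib.helper13.TildeTensorNat
open Groth.Agent.Lib.Lead.ModTensor (tensorMap tensorMap_id tensorMap_comp)

variable (R : CommRingCat.{u})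

/-- every module has an internal hom -/
instance (priority := 50) hasSheafHomInst (F : (Spec R).Modules) :
    ModSite.HasSheafHom (O := (Spec R).sheaf) F :=
  Groth.Agent.Lib.helper21.ExtShDelta.hasSheafHom (Spec R).sheaf F

lemma flip_obj_map (F : (Spec R).Modules) {P P' : (Spec R).Modules} (g : P ⟶ P') :
    ((ModSite.tensorBi (Spec R).sheaf).flip.obj F).map g = tensorMap g (𝟙 F) :=
  Groth.Agent.Lib.helper13.RestrKFlat.tensorBi_map_app g F

lemma flip_map_app {F F' : (Spec R).Modules} (a : F ⟶ F') (P : (Spec R).Modules) :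
    ((ModSite.tensorBi (Spec R).sheaf).flip.map a).app P = tensorMap (𝟙 P) a :=
  Groth.Agent.Lib.helper13.RestrKFlat.tensorBi_obj_map P a

/-- `P^~ ⊗ M^~ ≅ (M ⊗ P)^~` -/
noncomputable def thetaApp (M P : ModuleCat.{u} R) :
    ((ModSite.tensorBi (Spec R).sheaf).flip.obj (tilde M)).obj (tilde P) ≅ tilde (M ⊗ P) :=
  tildeTensorIso P M ≪≫ (tilde.functor R).mapIso (β_ P M)

lemma thetaApp_hom (M P : ModuleCat.{u} R) :
    (thetaApp R M P).hom = (tildeTensorIso P M).hom ≫ tilde.map (β_ P M).hom := rfl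

lemma thetaApp_naturality {M M' P P' : ModuleCat.{u} R} (u : M' ⟶ M) (g : P ⟶ P') :
    tensorMap (tilde.map g) (tilde.map u) ≫ (thetaApp R M P').hom =
      (thetaApp R M' P).hom ≫ tilde.map (u ⊗ₘ g) := by
  have h0 := tildeTensorIso_hom_naturality g u
  have hb : tilde.map (ModuleCat.ofHom (TensorProduct.map g.hom u.hom)) ≫ tilde.map (β_ P' M).hom =
      tilde.map (β_ P M').hom ≫ tilde.map (u ⊗ₘ g) := by
    have h : (ModuleCat.ofHom (TensorProduct.map g.hom u.hom) : P ⊗ M' ⟶ P' ⊗ M) = g ⊗ₘ u := rfl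
    rw [h]
    exact ((tilde.functor R).map_comp _ _).symm.trans
      ((congrArg (tilde.functor R).map (BraidedCategory.braiding_naturality g u)).trans
        ((tilde.functor R).map_comp _ _))
  calc tensorMap (tilde.map g) (tilde.map u) ≫ (thetaApp R M P').hom
      = (tensorMap (tilde.map g) (tilde.map u) ≫ (tildeTensorIso P' M).hom) ≫
          tilde.map (β_ P' M).hom := (Category.assoc _ _ _).symm
    _ = ((tildeTensorIso P M').hom ≫
          tilde.map (ModuleCat.ofHom (TensorProduct.map g.hom u.hom))) ≫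
          tilde.map (β_ P' M).hom := congrArg (· ≫ tilde.map (β_ P' M).hom) h0
    _ = (tildeTensorIso P M').hom ≫
          (tilde.map (ModuleCat.ofHom (TensorProduct.map g.hom u.hom)) ≫
            tilde.map (β_ P' M).hom) := Category.assoc _ _ _
    _ = (tildeTensorIso P M').hom ≫ (tilde.map (β_ P M').hom ≫ tilde.map (u ⊗ₘ g)) :=
        congrArg ((tildeTensorIso P M').hom ≫ ·) hb
    _ = _ := (Category.assoc _ _ _).symm

/-- `tilde ⋙ (- ⊗ M^~) ≅ (M ⊗ -) ⋙ tilde` -/
noncomputable def thetaIso (M : ModuleCat.{u} R) :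
    tilde.functor R ⋙ (ModSite.tensorBi (Spec R).sheaf).flip.obj (tilde M) ≅
      tensorLeft M ⋙ tilde.functor R :=
  NatIso.ofComponents (fun P => thetaApp R M P) (by
    intro P P' g
    have h := thetaApp_naturality R (𝟙 M) g
    rw [tilde.map_id] at h
    have e : (tilde.functor R ⋙ (ModSite.tensorBi (Spec R).sheaf).flip.obj (tilde M)).map g =
        tensorMap (tilde.map g) (𝟙 (tilde M)) := flip_obj_map R (tilde M) (tilde.map g)
    have e' : (tensorLeft M ⋙ tilde.functor R).map g = tilde.map (𝟙 M ⊗ₘ g) := by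
      rw [MonoidalCategory.id_tensorHom]; rfl
    exact (congrArg (· ≫ (thetaApp R M P').hom) e).trans
      (h.trans (congrArg ((thetaApp R M P).hom ≫ ·) e'.symm)))

lemma thetaIso_naturality {M M' : ModuleCat.{u} R} (u : M' ⟶ M) :
    Functor.whiskerLeft (tilde.functor R) ((ModSite.tensorBi (Spec R).sheaf).flip.map (tilde.map u)) ≫
        (thetaIso R M).hom =
      (thetaIso R M').hom ≫ Functor.whiskerRight ((tensoringLeft (ModuleCat.{u} R)).map u)
        (tilde.functor R) := by
  apply NatTrans.ext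
  funext P
  have h := thetaApp_naturality R u (𝟙 P)
  rw [tilde.map_id] at h
  have e : (Functor.whiskerLeft (tilde.functor R)
      ((ModSite.tensorBi (Spec R).sheaf).flip.map (tilde.map u))).app P =
      tensorMap (𝟙 (tilde P)) (tilde.map u) := flip_map_app R (tilde.map u) (tilde P)
  have e' : (Functor.whiskerRight ((tensoringLeft (ModuleCat.{u} R)).map u)
      (tilde.functor R)).app P = tilde.map (u ⊗ₘ 𝟙 P) := by
    rw [MonoidalCategory.tensorHom_id]; rfl
  rw [NatTrans.comp_app, NatTrans.comp_app, e, e']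
  exact h

/-- the composite adjunction `tilde ⋙ (- ⊗ M^~) ⊣ ℋom(M^~, -) ⋙ Γ` -/
noncomputable def adj1 (M : ModuleCat.{u} R) :
    tilde.functor R ⋙ (ModSite.tensorBi (Spec R).sheaf).flip.obj (tilde M) ⊣
      ModSite.sheafHom (O := (Spec R).sheaf) (tilde M) ⋙ moduleSpecΓFunctor (R := R) :=
  (tilde.adjunction (R := R)).comp (ModSite.sheafHomAdj (O := (Spec R).sheaf) (tilde M))

/-- the composite adjunction `(M ⊗ -) ⋙ tilde ⊣ Γ ⋙ Hom_R(M, -)` -/
noncomputable def adj2 (M : ModuleCat.{u} R) :
    tensorLeft M ⋙ tilde.functor R ⊣ moduleSpecΓFunctor (R := R) ⋙ ihom M :=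
  (ihom.adjunction M).comp (tilde.adjunction (R := R))

/-- **`Γ(Spec R, ℋom(M^~, G)) ≅ Hom_R(M, Γ(G))`**, naturally in `G` (any `O`-module) -/
noncomputable def rho (M : ModuleCat.{u} R) :
    ModSite.sheafHom (O := (Spec R).sheaf) (tilde M) ⋙ moduleSpecΓFunctor (R := R) ≅
      moduleSpecΓFunctor (R := R) ⋙ ihom M :=
  conjugateIsoEquiv (adj1 R M) (adj2 R M) (thetaIso R M).symm

lemma rho_hom (M : ModuleCat.{u} R) :
    (rho R M).hom = conjugateEquiv (adj1 R M) (adj2 R M) (thetaIso R M).inv := rfl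

/-- naturality of `rho` in `M` -/
theorem rho_naturality {M M' : ModuleCat.{u} R} (u : M' ⟶ M) :
    Functor.whiskerRight (ExtSupp.sheafHomMap (O := (Spec R).sheaf) (tilde.map u))
        (moduleSpecΓFunctor (R := R)) ≫ (rho R M').hom =
      (rho R M).hom ≫ Functor.whiskerLeft (moduleSpecΓFunctor (R := R)) (MonoidalClosed.pre u) := by
  have h1 : Functor.whiskerRight (ExtSupp.sheafHomMap (O := (Spec R).sheaf) (tilde.map u))
      (moduleSpecΓFunctor (R := R)) =
      conjugateEquiv (adj1 R M) (adj1 R M') (Functor.whiskerLeft (tilde.functor R)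
        ((ModSite.tensorBi (Spec R).sheaf).flip.map (tilde.map u))) :=
    (conjugateEquiv_whiskerLeft _ _ (tilde.adjunction (R := R)) _).symm
  have h2 : Functor.whiskerLeft (moduleSpecΓFunctor (R := R)) (MonoidalClosed.pre u) =
      conjugateEquiv (adj2 R M) (adj2 R M') (Functor.whiskerRight
        ((tensoringLeft (ModuleCat.{u} R)).map u) (tilde.functor R)) :=
    (conjugateEquiv_whiskerRight _ _ (tilde.adjunction (R := R)) _).symm
  have c1 := conjugateEquiv_comp (adj1 R M) (adj1 R M') (adj2 R M')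
    (Functor.whiskerLeft (tilde.functor R)
      ((ModSite.tensorBi (Spec R).sheaf).flip.map (tilde.map u))) (thetaIso R M').inv
  have c2 := conjugateEquiv_comp (adj1 R M) (adj2 R M) (adj2 R M') (thetaIso R M).inv
    (Functor.whiskerRight ((tensoringLeft (ModuleCat.{u} R)).map u) (tilde.functor R))
  have hθ : (thetaIso R M').inv ≫ Functor.whiskerLeft (tilde.functor R)
      ((ModSite.tensorBi (Spec R).sheaf).flip.map (tilde.map u)) =
      Functor.whiskerRight ((tensoringLeft (ModuleCat.{u} R)).map u) (tilde.functor R) ≫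
        (thetaIso R M).inv :=
    (Iso.inv_comp_eq (thetaIso R M')).2
      (((Iso.eq_comp_inv (thetaIso R M)).2 (thetaIso_naturality R u)).trans (Category.assoc _ _ _))
  exact (congrArg (· ≫ (rho R M').hom) h1).trans (c1.trans
    ((congrArg (conjugateEquiv (adj1 R M) (adj2 R M')) hθ).trans
      (c2.symm.trans (congrArg ((rho R M).hom ≫ ·) h2.symm))))

end Groth.Agent.Lib.helper21.TildeHom
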