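import Mathlib
import Groth.Agent.Lib.Helper21.TildeHom1
import Groth.Agent.Lib.Helper21.ExtShQCoh
import Groth.Agent.Lib.Helper10.ExtShift
import Groth.Agent.Lib.Helper16.CohFinite
import Groth.Agent.Lib.Helper16.FLF1
import Groth.Agent.S9498

/-!
# `ℰxt^i(M^~, G) ≅ (Ext^i_R(M, Γ(G)))^~` on `Spec R` (helper21)

`R` Noetherian, `M` a finite `R`-module, `G` a quasi-coherent module on `Spec R`:
`main : Nonempty (T G i (tilde M) ≅ tilde (Ext^i_R(M, Γ(Spec R, G))))`.
-/

set_option autoImplicit false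
universe u

open CategoryTheory CategoryTheory.Limits AlgebraicGeometry Opposite TopologicalSpace TensorProduct
  MonoidalCategory

namespace Groth.Agent.Lib.helper21.TildeHom

open Groth.Agent.Lib.helper21.ExtShDelta

section abstract

variable {𝒞 : Type*} [Category 𝒞]

/-- diagram chase for the naturality of the base isomorphism -/
lemma chase {T T' H H' Q Q' E E' : 𝒞} (z : H ⟶ T) (z' : H' ⟶ T') (hz : IsIso z) (hz' : IsIso z')
    (c : Q ⟶ H) (c' : Q' ⟶ H') (hc : IsIso c) (hc' : IsIso c') (r : Q ⟶ E) (r' : Q' ⟶ E')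
    (τ : T ⟶ T') (a : H ⟶ H') (ta : Q ⟶ Q') (p : E ⟶ E')
    (h1 : z ≫ τ = a ≫ z') (h2 : c ≫ a = ta ≫ c') (h3 : ta ≫ r' = r ≫ p) :
    τ ≫ inv z' ≫ inv c' ≫ r' = inv z ≫ inv c ≫ r ≫ p := by
  rw [← cancel_epi z, ← cancel_epi c]
  simp only [IsIso.hom_inv_id_assoc]
  rw [reassoc_of% h1, IsIso.hom_inv_id_assoc, reassoc_of% h2, IsIso.hom_inv_id_assoc, h3]

variable [Abelian 𝒞]

/-- cokernels of isomorphic maps are isomorphic -/
lemma nonempty_iso_of_exact_epi {A B C A' B' C' : 𝒞} (f : A ⟶ B) (g : B ⟶ C) (w : f ≫ g = 0)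
    (hex : (ShortComplex.mk f g w).Exact) (hg : Epi g)
    (f' : A' ⟶ B') (g' : B' ⟶ C') (w' : f' ≫ g' = 0)
    (hex' : (ShortComplex.mk f' g' w').Exact) (hg' : Epi g')
    (α : A ≅ A') (β : B ≅ B') (comm : f ≫ β.hom = α.hom ≫ f') : Nonempty (C ≅ C') := by
  haveI := hg
  haveI := hg'
  have e1 : (CokernelCofork.ofπ g w).pt ≅
      (CokernelCofork.ofπ (cokernel.π f) (cokernel.condition f)).pt :=
    IsColimit.coconePointUniqueUpToIso hex.gIsCokernel (cokernelIsCokernel f)
  have e2 : (CokernelCofork.ofπ g' w').pt ≅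
      (CokernelCofork.ofπ (cokernel.π f') (cokernel.condition f')).pt :=
    IsColimit.coconePointUniqueUpToIso hex'.gIsCokernel (cokernelIsCokernel f')
  exact ⟨e1 ≪≫ cokernel.mapIso f f' α β comm ≪≫ e2.symm⟩

end abstract

variable (R : CommRingCat.{u})

theorem isCoh_tilde (M : ModuleCat.{u} R) [Module.Finite R M] : Coh.IsCoh (tilde M) := by
  obtain ⟨G, hG⟩ := Groth.Agent.Lib.helper16.CohFinite.exists_generatingSections_tilde M
  exact ⟨inferInstance,
    Groth.Agent.Lib.helper16.CohFinite.isFiniteType_of_generatingSections (tilde M) G⟩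

attribute [local instance] Groth.Agent.Lib.helper21.ShHomCoh.hasInjRes

variable [IsNoetherianRing R] (G : (Spec R).Modules) (hG : G.IsQuasicoherent)

instance : IsLocallyNoetherian (Spec R) := inferInstance

include hG in
theorem isIso_counit_sheafHom (M : ModuleCat.{u} R) [Module.Finite R M] :
    IsIso ((tilde.adjunction (R := R)).counit.app
      ((ModSite.sheafHom (O := (Spec R).sheaf) (tilde M)).obj G)) := by
  haveI : ((ModSite.sheafHom (O := (Spec R).sheaf) (tilde M)).obj G).IsQuasicoherent :=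
    Groth.Agent.Lib.helper21.ExtShQCoh.isQC_sheafHom (isCoh_tilde R M) hG
  exact Scheme.Modules.isIso_fromTildeΓ_of_isQuasicoherent
    ((ModSite.sheafHom (O := (Spec R).sheaf) (tilde M)).obj G)

instance (F : (Spec R).Modules) :
    PreservesFiniteLimits (ModSite.sheafHom (O := (Spec R).sheaf) F) :=
  preservesFiniteLimits_sheafHom (Spec R).sheaf F

/-- the base isomorphism `ℰxt^0(M^~, G) ≅ Hom_R(M, Γ G)^~` -/
noncomputable def bIso (M : ModuleCat.{u} R) [Module.Finite R M] :
    T (O := (Spec R).sheaf) G 0 (tilde M) ≅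
      tilde ((ihom M).obj ((moduleSpecΓFunctor (R := R)).obj G)) :=
  haveI := isIso_counit_sheafHom R G hG M
  (asIso ((ModSite.sheafHom (O := (Spec R).sheaf) (tilde M)).toRightDerivedZero.app G)).symm ≪≫
    (asIso ((tilde.adjunction (R := R)).counit.app
      ((ModSite.sheafHom (O := (Spec R).sheaf) (tilde M)).obj G))).symm ≪≫
    (tilde.functor R).mapIso ((rho R M).app G)

theorem bIso_naturality {M M' : ModuleCat.{u} R} [Module.Finite R M] [Module.Finite R M']
    (u : M' ⟶ M) :
    Tmap (O := (Spec R).sheaf) G 0 (tilde.map u) ≫ (bIso R G hG M').hom =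
      (bIso R G hG M).hom ≫
        tilde.map ((MonoidalClosed.pre u).app ((moduleSpecΓFunctor (R := R)).obj G)) := by
  haveI := isIso_counit_sheafHom R G hG M
  haveI := isIso_counit_sheafHom R G hG M'
  have h1 := congrArg (fun t => t.app G)
    (Groth.Agent.Lib.helper27.FunLES.toRightDerivedZero_naturality
      (ExtSupp.sheafHomMap (O := (Spec R).sheaf) (tilde.map u)))
  have h2 := (tilde.adjunction (R := R)).counit.naturality
    ((ExtSupp.sheafHomMap (O := (Spec R).sheaf) (tilde.map u)).app G)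
  have h3 := congrArg (fun t => (tilde.functor R).map (t.app G)) (rho_naturality R u)
  simp only [NatTrans.comp_app, Functor.map_comp] at h1 h3
  exact chase
    ((ModSite.sheafHom (O := (Spec R).sheaf) (tilde M)).toRightDerivedZero.app G)
    ((ModSite.sheafHom (O := (Spec R).sheaf) (tilde M')).toRightDerivedZero.app G)
    inferInstance inferInstance
    ((tilde.adjunction (R := R)).counit.app
      ((ModSite.sheafHom (O := (Spec R).sheaf) (tilde M)).obj G))
    ((tilde.adjunction (R := R)).counit.app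
      ((ModSite.sheafHom (O := (Spec R).sheaf) (tilde M')).obj G))
    (isIso_counit_sheafHom R G hG M) (isIso_counit_sheafHom R G hG M')
    _ _ _ _ _ _ h1.symm h2.symm h3

end Groth.Agent.Lib.helper21.TildeHom
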