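import Mathlib
import Groth.Agent.Lib.Helper21.TildeHom2

/-!
# `ℰxt^i(M^~, G) ≅ (Ext^i_R(M, Γ(G)))^~` on `Spec R`: the induction (helper21)
-/

set_option autoImplicit false
universe u

open CategoryTheory CategoryTheory.Limits AlgebraicGeometry Opposite TopologicalSpace TensorProduct
  MonoidalCategory

namespace Groth.Agent.Lib.helper21.TildeHom

open Groth.Agent.Lib.helper21.ExtShDelta Abelian

section Tside

variable {C : Type u} [SmallCategory C] {J : GrothendieckTopology C} {O : Sheaf J CommRingCat.{u}}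
  [HasInjectiveResolutions (ModSite.Mod O)]

/-- `ℰxt^0(X₂, G) → ℰxt^0(X₁, G) → ℰxt^1(X₃, G) → 0` is exact when `ℰxt^1(X₂, G) = 0` -/
lemma exists_delta_zero (G : ModSite.Mod O) (S : ShortComplex (ModSite.Mod O)) (hS : S.ShortExact)
    (hz : IsZero (T G 1 S.X₂)) :
    ∃ δ : T G 0 S.X₁ ⟶ T G 1 S.X₃, Epi δ ∧
      ∃ w : Tmap G 0 S.f ≫ δ = 0, (ShortComplex.mk _ _ w).Exact := by
  obtain ⟨-, -, δ, hδ⟩ := les G S hS
  obtain ⟨w2, hex2⟩ := (hδ 0).2
  exact ⟨δ 0, (ShortComplex.exact_iff_epi _ (hz.eq_of_tgt _ _)).1 hex2, (hδ 0).1⟩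

/-- `ℰxt^{p+1}(X₁, G) ≅ ℰxt^{p+2}(X₃, G)` when `ℰxt^{p+1}(X₂, G) = 0 = ℰxt^{p+2}(X₂, G)` -/
lemma nonempty_shift (G : ModSite.Mod O) (S : ShortComplex (ModSite.Mod O)) (hS : S.ShortExact)
    (p : ℕ) (hz1 : IsZero (T G (p + 1) S.X₂)) (hz2 : IsZero (T G (p + 2) S.X₂)) :
    Nonempty (T G (p + 1) S.X₁ ≅ T G (p + 2) S.X₃) := by
  obtain ⟨-, -, δ, hδ⟩ := les G S hS
  obtain ⟨w1, hex1⟩ := (hδ (p + 1)).1
  obtain ⟨w2, hex2⟩ := (hδ (p + 1)).2
  haveI : Mono (δ (p + 1)) := (ShortComplex.exact_iff_mono _ (hz1.eq_of_src _ _)).1 hex1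
  haveI : Epi (δ (p + 1)) := (ShortComplex.exact_iff_epi _ (hz2.eq_of_tgt _ _)).1 hex2
  haveI : IsIso (δ (p + 1)) := isIso_of_mono_of_epi _
  exact ⟨asIso (δ (p + 1))⟩

end Tside

section Sside

variable (R : Type u) [CommRing R] {K F M : Type u} [AddCommGroup K] [Module R K]
  [AddCommGroup F] [Module R F] [AddCommGroup M] [Module R M]
  (N : ModuleCat.{u} R) (i₀ : K →ₗ[R] F) (p : F →ₗ[R] M)

/-- `Hom(F, N) → Hom(K, N) → Ext^1(M, N) → 0` is exact, in `ModuleCat` -/
lemma sside_one (hi : Function.Injective i₀) (hip : Function.Exact i₀ p)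
    (hp : Function.Surjective p) [Module.Projective R F] :
    ∃ ψ : (ihom (ModuleCat.of R K)).obj N ⟶ ModuleCat.of R (Ext (ModuleCat.of R M) N 1),
      Epi ψ ∧ ∃ w : (MonoidalClosed.pre (ModuleCat.ofHom i₀)).app N ≫ ψ = 0,
        (ShortComplex.mk _ _ w).Exact := by
  obtain ⟨ψ₀, hex, hsurj⟩ := Groth.Agent.Lib.helper10.ExtShift.one_modules R (↑N) i₀ p hi hip hp
  let hK : (ModuleCat.of R K ⟶ N) ≃ₗ[R] (K →ₗ[R] N) := ModuleCat.homLinearEquiv
  let hF : (ModuleCat.of R F ⟶ N) ≃ₗ[R] (F →ₗ[R] N) := ModuleCat.homLinearEquiv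
  let ψ : (ihom (ModuleCat.of R K)).obj N ⟶ ModuleCat.of R (Ext (ModuleCat.of R M) N 1) :=
    ModuleCat.ofHom (ψ₀ ∘ₗ hK.toLinearMap)
  have hpre : ∀ x : (ModuleCat.of R F ⟶ N),
      ((MonoidalClosed.pre (ModuleCat.ofHom i₀)).app N).hom x =
        hK.symm (LinearMap.lcomp R N i₀ (hF x)) := fun x => rfl
  have hfe : Function.Exact ((MonoidalClosed.pre (ModuleCat.ofHom i₀)).app N).hom ψ.hom := by
    intro y
    change ψ₀ (hK y) = 0 ↔ _
    rw [hex (hK y)]
    constructor
    · rintro ⟨x', hx'⟩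
      refine ⟨hF.symm x', ?_⟩
      rw [hpre, LinearEquiv.apply_symm_apply, hx', LinearEquiv.symm_apply_apply]
    · rintro ⟨x, hx⟩
      refine ⟨hF x, ?_⟩
      rw [← hx, hpre, LinearEquiv.apply_symm_apply]
  have w : (MonoidalClosed.pre (ModuleCat.ofHom i₀)).app N ≫ ψ = 0 := by
    ext x
    exact hfe.apply_apply_eq_zero x
  refine ⟨ψ, ?_, w, ?_⟩
  · rw [ModuleCat.epi_iff_surjective]
    exact hsurj.comp hK.surjective
  · rw [ShortComplex.ShortExact.moduleCat_exact_iff_function_exact]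
    exact hfe

end Sside

instance (R : CommRingCat.{u}) : PreservesFiniteLimits (tilde.functor R) :=
  Groth.Agent.S9498.preservesFiniteLimits_tilde R

attribute [local instance] Groth.Agent.Lib.helper21.ShHomCoh.hasInjRes

variable (R : CommRingCat.{u}) [IsNoetherianRing R]
  (G : (Spec R).Modules) (hG : G.IsQuasicoherent)

/-- `ℰxt^p(O^n, G) = 0` for `p ≥ 1` -/
lemma isZero_T_stdFree (n p : ℕ) :
    IsZero (T (O := (Spec R).sheaf) G (p + 1)
      (tilde (ModuleCat.of R (Fin n → R)))) :=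
  isZero_T_of_iso_free (O := (Spec R).sheaf) G (p + 1) (by omega) n _
    (Groth.Agent.Lib.helper16.FLF.tildeFreeModIso R n)

/-- tilde of a linear equivalence -/
noncomputable def tildeIsoOfLinearEquiv {B C : Type u} [AddCommGroup B] [Module R B]
    [AddCommGroup C] [Module R C] (e : B ≃ₗ[R] C) :
    tilde (R := R) (ModuleCat.of R B) ≅ tilde (R := R) (ModuleCat.of R C) :=
  (tilde.functor R).mapIso e.toModuleIso

include hG in
theorem main_zero (M : Type u) [AddCommGroup M] [Module R M] [Module.Finite R M] :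
    Nonempty (T (O := (Spec R).sheaf) G 0 (tilde (R := R) (ModuleCat.of R M)) ≅
      tilde (R := R) (ModuleCat.of R
        (Ext (ModuleCat.of R M) ((moduleSpecΓFunctor (R := R)).obj G) 0))) := by
  let N : ModuleCat.{u} R := (moduleSpecΓFunctor (R := R)).obj G
  let e : (ModuleCat.of R M ⟶ N) ≃ₗ[R] Ext (ModuleCat.of R M) N 0 :=
    (Ext.linearEquiv₀ (R := R)).symm
  exact ⟨bIso R G hG (ModuleCat.of R M) ≪≫ (tilde.functor R).mapIso e.toModuleIso⟩

include hG in
theorem main_succ (i : ℕ) : ∀ (M : Type u) [AddCommGroup M] [Module R M] [Module.Finite R M],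
    Nonempty (T (O := (Spec R).sheaf) G (i + 1) (tilde (R := R) (ModuleCat.of R M)) ≅
      tilde (R := R) (ModuleCat.of R
        (Ext (ModuleCat.of R M) ((moduleSpecΓFunctor (R := R)).obj G) (i + 1)))) := by
  induction i with
  | zero =>
    intro M _ _ _
    let N : ModuleCat.{u} R := (moduleSpecΓFunctor (R := R)).obj G
    obtain ⟨n, p, hp⟩ := Module.Finite.exists_fin' R M
    let K := LinearMap.ker p
    let i₀ : K →ₗ[R] (Fin n → R) := K.subtype
    have hi : Function.Injective i₀ := Submodule.injective_subtype _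
    have hip : Function.Exact i₀ p := LinearMap.exact_subtype_ker_map p
    let S₀ := Groth.Agent.Lib.helper10.ExtShift.sc R i₀ p hip
    have hS₀ : S₀.ShortExact := Groth.Agent.Lib.helper10.ExtShift.sc_shortExact R i₀ p hi hip hp
    let S := S₀.map (tilde.functor R)
    have hS : S.ShortExact := hS₀.map_of_exact (tilde.functor R)
    obtain ⟨δ, hδepi, w, hex⟩ := exists_delta_zero (O := (Spec R).sheaf) G
      S hS (isZero_T_stdFree R G n 0)
    obtain ⟨ψ, hψepi, wψ, hexψ⟩ := sside_one R N i₀ p hi hip hp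
    haveI := hδepi
    haveI := hψepi
    let f' : tilde ((ihom (ModuleCat.of R (Fin n → R))).obj N) ⟶
        tilde ((ihom (ModuleCat.of R K)).obj N) :=
      tilde.map ((MonoidalClosed.pre (ModuleCat.ofHom i₀)).app N)
    let g' : tilde ((ihom (ModuleCat.of R K)).obj N) ⟶
        tilde (ModuleCat.of R (Ext (ModuleCat.of R M) N 1)) := tilde.map ψ
    have hg' : Epi g' := (tilde.functor R).map_epi ψ
    have wψ' : f' ≫ g' = 0 := by
      have := congrArg (tilde.functor R).map wψ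
      rw [Functor.map_comp, Functor.map_zero] at this
      exact this
    have hexψ' : (ShortComplex.mk f' g' wψ').Exact := hexψ.map (tilde.functor R)
    exact nonempty_iso_of_exact_epi (𝒞 := (Spec R).Modules)
      (Tmap (O := (Spec R).sheaf) G 0 (tilde.map (ModuleCat.ofHom i₀))) δ w hex hδepi
      f' g' wψ' hexψ' hg'
      (bIso R G hG (ModuleCat.of R (Fin n → R))) (bIso R G hG (ModuleCat.of R K))
      (bIso_naturality R G hG (ModuleCat.ofHom i₀))
  | succ i ih =>
    intro M _ _ _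
    let N : ModuleCat.{u} R := (moduleSpecΓFunctor (R := R)).obj G
    obtain ⟨n, p, hp⟩ := Module.Finite.exists_fin' R M
    let K := LinearMap.ker p
    let i₀ : K →ₗ[R] (Fin n → R) := K.subtype
    have hi : Function.Injective i₀ := Submodule.injective_subtype _
    have hip : Function.Exact i₀ p := LinearMap.exact_subtype_ker_map p
    let S₀ := Groth.Agent.Lib.helper10.ExtShift.sc R i₀ p hip
    have hS₀ : S₀.ShortExact := Groth.Agent.Lib.helper10.ExtShift.sc_shortExact R i₀ p hi hip hp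
    let S := S₀.map (tilde.functor R)
    have hS : S.ShortExact := hS₀.map_of_exact (tilde.functor R)
    obtain ⟨e1⟩ := nonempty_shift (O := (Spec R).sheaf) G S hS i
      (isZero_T_stdFree R G n i) (isZero_T_stdFree R G n (i + 1))
    obtain ⟨e2⟩ := ih K
    obtain ⟨e3⟩ := Groth.Agent.Lib.helper10.ExtShift.shift_modules R (↑N) i₀ p hi hip hp i
    exact ⟨e1.symm ≪≫ e2 ≪≫ tildeIsoOfLinearEquiv R e3⟩

include hG in
/-- **`ℰxt^i(M^~, G) ≅ (Ext^i_R(M, Γ(G)))^~`** -/
theorem main (i : ℕ) (M : Type u) [AddCommGroup M] [Module R M] [Module.Finite R M] :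
    Nonempty (T (O := (Spec R).sheaf) G i (tilde (R := R) (ModuleCat.of R M)) ≅
      tilde (R := R) (ModuleCat.of R
        (Ext (ModuleCat.of R M) ((moduleSpecΓFunctor (R := R)).obj G) i))) := by
  cases i with
  | zero => exact main_zero R G hG M
  | succ i => exact main_succ R G hG i M

end Groth.Agent.Lib.helper21.TildeHom
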