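import Mathlib
import Groth.Agent.Lib.Helper21.TildeHom3
import Groth.Agent.Lib.Helper21.ExtCongr
import Groth.Agent.Lib.Helper21.ShRestrIso

/-!
# Sections of `ℰxt^i(F, G)` over an affine open (helper21)

`X` locally Noetherian, `U ⊆ X` affine open, `F` coherent, `G` quasi-coherent:
`Γ(U, ℰxt^i(F, G)) ≃ₗ[Γ(X, U)] Ext^i_{Γ(X, U)}(F(U), G(U))`.
-/

set_option autoImplicit false
universe u

open CategoryTheory CategoryTheory.Limits AlgebraicGeometry Opposite TopologicalSpace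

namespace Groth.Agent.Lib.helper21.ExtShAffine

open Groth.Agent.Lib.helper21.ExtShDelta Groth.Agent.Lib.helper21.ShHomCoh
  Groth.Agent.Lib.helper21.ShRestr Groth.Agent.Lib.helper21.TildeHom
  Groth.Agent.Lib.helper16.CohFinite
open Scheme.Modules Abelian

attribute [local instance] Groth.Agent.Lib.helper21.ShHomCoh.hasInjRes

variable {X : Scheme.{u}} {U : X.Opens} (hU : IsAffineOpen U)

/-- `Γ(H, U) ≃ₗ Γ(Spec Γ(X,U), H|_{Spec Γ(X,U)})` -/
noncomputable def secEquiv (H : X.Modules) :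
    Γ(H, U) ≃ₗ[Γ(X, U)] ((modulesSpecToSheaf.obj (H.restrict hU.fromSpec)).presheaf.obj (.op ⊤)) :=
  LinearEquiv.ofBijective (toSpecSections H hU)
    ⟨toSpecSections_injective H hU, toSpecSections_surjective H hU⟩

instance hasSheafHomInst' (Y : Scheme.{u}) (F : Y.Modules) : ModSite.HasSheafHom (O := Y.sheaf) F :=
  Groth.Agent.Lib.helper21.ExtShDelta.hasSheafHom Y.sheaf F

variable [IsLocallyNoetherian X] (F G : X.Modules) (hF : Coh.IsCoh F) (hG : G.IsQuasicoherent)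

include hU hF hG in
/-- **sections of `ℰxt^i(F, G)` over an affine open** -/
theorem nonempty_sections_linearEquiv (i : ℕ) :
    Nonempty (Γ((ModSite.extSh (O := X.sheaf) F i).obj G, U) ≃ₗ[Γ(X, U)]
      Ext (ModuleCat.of Γ(X, U) Γ(F, U)) (ModuleCat.of Γ(X, U) Γ(G, U)) i) := by
  classical
  haveI : IsNoetherianRing Γ(X, U) := IsLocallyNoetherian.component_noetherian ⟨U, hU⟩
  haveI : F.IsQuasicoherent := hF.1
  haveI : G.IsQuasicoherent := hG
  haveI : Module.Finite Γ(X, U) Γ(F, U) := finite_sections_of_isCoh F hF hU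
  let A : CommRingCat.{u} := Γ(X, U)
  let e : Spec A ⟶ (↑U : Scheme.{u}) := hU.isoSpec.inv
  let j : Spec A ⟶ X := hU.fromSpec
  let H : X.Modules := (ModSite.extSh (O := X.sheaf) F i).obj G
  -- the modules on `Spec A`
  let F₂ : (Spec A).Modules := F.restrict j
  let G₂ : (Spec A).Modules := G.restrict j
  haveI hF₂ : F₂.IsQuasicoherent :=
    inferInstanceAs ((restrictFunctor hU.fromSpec).obj F).IsQuasicoherent
  haveI hG₂ : G₂.IsQuasicoherent :=
    inferInstanceAs ((restrictFunctor hU.fromSpec).obj G).IsQuasicoherent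
  have hiso : IsIso (Scheme.Modules.fromTildeΓ (R := A) F₂) :=
    Scheme.Modules.isIso_fromTildeΓ_of_isQuasicoherent F₂
  -- step 1: restriction of `H` to `Spec A`
  have c : ∀ K : X.Modules, K.restrict j ≅ (restrictFunctor e).obj ((restrictFunctor U.ι).obj K) :=
    fun K => (restrictFunctorComp e U.ι).app K
  have i1 : H.restrict j ≅ (ModSite.extSh (O := (Spec A).sheaf) F₂ i).obj G₂ := by
    refine c H ≪≫ (restrictFunctor e).mapIso ((extShRestrIso U F i).app G) ≪≫
      (extShRestrIso' e ((restrictFunctor U.ι).obj F) i).app ((restrictFunctor U.ι).obj G) ≪≫ ?_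
    refine (ModSite.extSh (O := (Spec A).sheaf) _ i).mapIso (c G).symm ≪≫ ?_
    exact Groth.Agent.Lib.helper21.AcycRes.isoOfIso (cd (O := (Spec A).sheaf) G₂) (cd_map_id G₂) i (c F)
  -- step 2: `F₂ ≅ tilde (F(U))`
  let MF : ModuleCat.{u} A := ModuleCat.of A Γ(F, U)
  have i2 : tilde MF ≅ F₂ :=
    (tilde.functor A).mapIso (secEquiv hU F).toModuleIso ≪≫ @asIso _ _ _ _ (Scheme.Modules.fromTildeΓ (R := A) F₂) hiso
  have i3 : (ModSite.extSh (O := (Spec A).sheaf) F₂ i).obj G₂ ≅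
      T (O := (Spec A).sheaf) G₂ i (tilde MF) :=
    Groth.Agent.Lib.helper21.AcycRes.isoOfIso (cd (O := (Spec A).sheaf) G₂) (cd_map_id G₂) i i2
  obtain ⟨i4⟩ := Groth.Agent.Lib.helper21.TildeHom.main A G₂ hG₂ i Γ(F, U)
  -- step 3: global sections
  let E : ModuleCat.{u} A := ModuleCat.of A
    (Ext (ModuleCat.of A Γ(F, U)) ((moduleSpecΓFunctor (R := A)).obj G₂) i)
  have i5 : (moduleSpecΓFunctor (R := A)).obj (H.restrict j) ≅ E :=
    (moduleSpecΓFunctor (R := A)).mapIso (i1 ≪≫ i3 ≪≫ i4) ≪≫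
      ((tilde.toTildeΓNatIso (R := A)).app E).symm
  let eG : (moduleSpecΓFunctor (R := A)).obj G₂ ≅ ModuleCat.of A Γ(G, U) :=
    (secEquiv hU G).symm.toModuleIso
  exact ⟨(secEquiv hU H) ≪≫ₗ i5.toLinearEquiv ≪≫ₗ
    Groth.Agent.Lib.helper21.ExtCongr.right (R := A) (ModuleCat.of A Γ(F, U)) eG i⟩

end Groth.Agent.Lib.helper21.ExtShAffine
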