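import Groth.Agent.Lib.Helper16.QCohPullback

/-!
# Morphisms out of a quasi-coherent module on an affine scheme (helper21)

* `exists_restrict_hom`: `U` an affine open of `X`, `Q` quasi-coherent, `G` any module: a `Γ(X,U)`-linear map
  `Γ(Q,U) → Γ(G,U)` is induced by a morphism `Q|_{Spec Γ(X,U)} ⟶ G|_{Spec Γ(X,U)}`.
* `exists_hom_of_linearMap`: `X` affine: every `Γ(X,⊤)`-linear map `Γ(Q,⊤) → Γ(G,⊤)` is `Γ(u)` for some `u : Q ⟶ G`.
-/

set_option autoImplicit false
set_option linter.style.haveILetI false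
universe u
open CategoryTheory CategoryTheory.Limits AlgebraicGeometry TopologicalSpace Opposite

namespace Groth.Agent.Lib.helper21.AffHom

open Scheme.Modules Groth.Agent.Lib.helper16.CohFinite Groth.Agent.Lib.helper16.QCohPullback

section Restrict
variable {X : Scheme.{u}} (Q G : X.Modules) [Q.IsQuasicoherent] {U : X.Opens} (hU : IsAffineOpen U)

theorem exists_restrict_hom (u₀ : Γ(Q, U) →ₗ[Γ(X, U)] Γ(G, U)) :
    ∃ u'' : Q.restrict hU.fromSpec ⟶ G.restrict hU.fromSpec, ∀ y : Γ(Q, U),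
      (u''.app ⊤).hom (Q.presheaf.map (homOfLE (Groth.Agent.Lib.helper7.image_top_eq hU).le).op y) =
        G.presheaf.map (homOfLE (Groth.Agent.Lib.helper7.image_top_eq hU).le).op (u₀ y) := by
  let g₀ : secMod Q hU →ₗ[Γ(X, U)] secMod G hU :=
    ((secEquiv G hU).toLinearMap.comp u₀).comp (secEquiv Q hU).symm.toLinearMap
  let g' := ModuleCat.ofHom g₀
  let g : secMod Q hU ⟶ secMod G hU := g'
  haveI : IsIso (Q.restrict hU.fromSpec).fromTildeΓ :=
    Scheme.Modules.isIso_fromTildeΓ_of_isQuasicoherent _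
  let adj := tilde.adjunction (R := Γ(X, U))
  let c : (tilde.functor Γ(X, U)).obj (secMod Q hU) ⟶ Q.restrict hU.fromSpec :=
    (Q.restrict hU.fromSpec).fromTildeΓ
  haveI : IsIso c := inferInstanceAs (IsIso (Q.restrict hU.fromSpec).fromTildeΓ)
  let w : (tilde.functor Γ(X, U)).obj (secMod Q hU) ⟶ G.restrict hU.fromSpec :=
    (adj.homEquiv _ _).symm g
  refine ⟨inv c ≫ w, ?_⟩
  have h1 : adj.unit.app (secMod Q hU) ≫ moduleSpecΓFunctor.map w = g := by
    have := adj.homEquiv_unit (f := w)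
    rw [← this]
    exact (adj.homEquiv _ _).apply_symm_apply g
  have h2 : adj.unit.app (secMod Q hU) ≫ moduleSpecΓFunctor.map c = 𝟙 _ :=
    adj.right_triangle_components (Q.restrict hU.fromSpec)
  have h4 : moduleSpecΓFunctor.map c ≫ moduleSpecΓFunctor.map (inv c ≫ w) =
      moduleSpecΓFunctor.map w := by
    rw [← Functor.map_comp, IsIso.hom_inv_id_assoc]
  have h3 : moduleSpecΓFunctor.map (inv c ≫ w) = g := by
    have h5 : (adj.unit.app (secMod Q hU) ≫ moduleSpecΓFunctor.map c) ≫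
        moduleSpecΓFunctor.map (inv c ≫ w) = g := by
      rw [Category.assoc, h4, h1]
    rw [h2] at h5
    exact (Category.id_comp _).symm.trans h5
  intro y
  have h5 := congr($(h3).hom (toSpecSections Q hU y))
  refine Eq.trans ?_ (h5.trans ?_)
  · rfl
  · change (secEquiv G hU) (u₀ ((secEquiv Q hU).symm (secEquiv Q hU y))) = _
    rw [LinearEquiv.symm_apply_apply]
    rfl

end Restrict

section UnitIso
variable {X Y : Scheme.{u}} (j : Y ⟶ X) [IsIso j]

theorem image_preimage_eq_of_isIso (V : X.Opens) : j ''ᵁ (j ⁻¹ᵁ V) = V := by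
  apply le_antisymm (j.image_preimage_le V)
  intro x hx
  obtain ⟨y, rfl⟩ := (ConcreteCategory.bijective_of_isIso j.base).2 x
  exact ⟨y, hx, rfl⟩

instance isIso_restrictAdjunction_unit_app (G : X.Modules) :
    IsIso ((restrictAdjunction j).unit.app G) := by
  rw [Scheme.Modules.Hom.isIso_iff_isIso_app]
  intro V
  rw [restrictAdjunction_unit_app_app]
  have h : homOfLE (j.image_preimage_le V) = eqToHom (image_preimage_eq_of_isIso j V) :=
    Subsingleton.elim _ _
  rw [h]
  exact Functor.map_isIso _ _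

end UnitIso

section Affine
variable {X : Scheme.{u}} [IsAffine X] (Q G : X.Modules) [Q.IsQuasicoherent]

theorem exists_hom_of_linearMap (u₀ : Γ(Q, ⊤) →ₗ[Γ(X, ⊤)] Γ(G, ⊤)) :
    ∃ u : Q ⟶ G, ∀ y : Γ(Q, ⊤), (u.app ⊤).hom y = u₀ y := by
  have hU := isAffineOpen_top X
  haveI : IsIso hU.fromSpec := by
    rw [IsAffineOpen.fromSpec_top]
    infer_instance
  obtain ⟨u'', hu''⟩ := exists_restrict_hom Q G hU u₀
  let adjR := restrictAdjunction hU.fromSpec
  let ũ : Q ⟶ (pushforward hU.fromSpec).obj (G.restrict hU.fromSpec) := adjR.homEquiv _ _ u''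
  refine ⟨ũ ≫ inv (adjR.unit.app G), fun y => ?_⟩
  have hinj : Function.Injective ((adjR.unit.app G).app ⊤).hom := by
    have : IsIso ((adjR.unit.app G).app ⊤) :=
      Scheme.Modules.Hom.isIso_iff_isIso_app.mp inferInstance ⊤
    exact (ConcreteCategory.bijective_of_isIso ((adjR.unit.app G).app ⊤)).1
  apply hinj
  have h1 : (ũ ≫ inv (adjR.unit.app G)) ≫ adjR.unit.app G = ũ := by
    rw [Category.assoc, IsIso.inv_hom_id, Category.comp_id]
  have h2 : ((adjR.unit.app G).app ⊤).hom (((ũ ≫ inv (adjR.unit.app G)).app ⊤).hom y) =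
      (ũ.app ⊤).hom y := congr((($h1).app ⊤).hom y)
  rw [h2]
  have h3 : ũ = adjR.unit.app Q ≫ (pushforward hU.fromSpec).map u'' := adjR.homEquiv_unit _ _ _
  rw [h3]
  exact hu'' y

end Affine

end Groth.Agent.Lib.helper21.AffHom
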