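import Mathlib
import Groth.Prelude.Def_FlatCA
import Groth.Agent.Lib.Helper23.RelFP

/-!
# Relative finite presentation of modules: independence, localization, gluing (helper21)

Ring-level lemmas for `FlatCA.RelFinitePresentation R A N` (`N` an `A`-module, `A` an `R`-algebra:
for some surjection `R[x₁..xₙ] → A`, `N` is finitely presented over the polynomial ring).

* `relFP_iff_fp_compHom`: for ANY finitely presented `R`-algebra `P` and surjection `γ : P →ₐ[R] A`,
  `RelFinitePresentation R A N ↔ N` is f.p. over `P` (via `γ`).
* `relFP_iff_of_fp_base`: change of base along a finitely presented `R → R'`.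
* `relFP_away`: passes to `A_g`, `N_g`.
* `relFP_of_localizationSpan`: glue along a family of `g`'s spanning the unit ideal of `A`.
-/

set_option autoImplicit false
universe u
open Groth.Agent.Lib.helper23

namespace Groth.Agent.Lib.helper21.RelFPAlg

section LemmaA

variable {R A : Type u} [CommRing R] [CommRing A] [Algebra R A]
  {N : Type u} [AddCommGroup N] [Module A N]

/-- **Independence of the presentation, general form**: for any finitely presented `R`-algebra `P`
surjecting onto `A`, relative finite presentation of `N` means f.p. over `P`. -/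
theorem relFP_iff_fp_compHom (P : Type u) [CommRing P] [Algebra R P]
    [Algebra.FinitePresentation R P] (γ : P →ₐ[R] A) (hγ : Function.Surjective γ) :
    FlatCA.RelFinitePresentation R A N ↔
      @Module.FinitePresentation P N _ _ (Module.compHom N γ.toRingHom) := by
  obtain ⟨m, ψ, hψ, hker⟩ := (Algebra.FinitePresentation.out (R := R) (A := P))
  have hβ : Function.Surjective (γ.comp ψ) := hγ.comp hψ
  have key := fp_compHom_comp_iff (M := N) γ.toRingHom ψ.toRingHom hψ hker
  constructor
  · rintro ⟨n, φ, hφ, hfp⟩
    rw [← key]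
    exact (fp_iff_of_mvPolynomial φ (γ.comp ψ) hβ hφ N).mp hfp
  · intro h
    exact ⟨m, γ.comp ψ, hβ, key.mpr h⟩

end LemmaA

section LemmaC

variable {R R' A' : Type u} [CommRing R] [CommRing R'] [CommRing A'] [Algebra R R']
  [Algebra.FinitePresentation R R'] [Algebra R' A'] [Algebra R A'] [IsScalarTower R R' A']
  {N' : Type u} [AddCommGroup N'] [Module A' N']

/-- **Change of base along a finitely presented ring map** `R → R'` (e.g. a localization away from
an element): relative finite presentation over `R'` and over `R` agree. -/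
theorem relFP_iff_of_fp_base :
    FlatCA.RelFinitePresentation R' A' N' ↔ FlatCA.RelFinitePresentation R A' N' := by
  constructor
  · rintro ⟨n, φ', hφ', hfp⟩
    exact (relFP_iff_fp_compHom (R := R) (A := A') (N := N') (MvPolynomial (Fin n) R')
      (φ'.restrictScalars R) hφ').mpr hfp
  · rintro ⟨n, φ, hφ, hfp⟩
    let φ' : MvPolynomial (Fin n) R' →ₐ[R'] A' := MvPolynomial.aeval (fun i => φ (MvPolynomial.X i))
    have hcomp : φ'.toRingHom.comp (MvPolynomial.map (algebraMap R R')) = φ.toRingHom := by
      apply MvPolynomial.ringHom_ext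
      · intro r
        simp [φ', ← IsScalarTower.algebraMap_apply]
      · intro i
        simp [φ']
    have hφ' : Function.Surjective φ' := by
      intro a
      obtain ⟨p, rfl⟩ := hφ a
      exact ⟨MvPolynomial.map (algebraMap R R') p, congrArg (fun ψ : _ →+* A' => ψ p) hcomp⟩
    refine ⟨n, φ', hφ', ?_⟩
    exact (relFP_iff_fp_compHom (R := R) (A := A') (N := N') (MvPolynomial (Fin n) R')
      (φ'.restrictScalars R) hφ').mp ⟨n, φ, hφ, hfp⟩

end LemmaC

section SetupS

variable {P A : Type u} [CommRing P] [CommRing A] [Algebra P A]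
  (hφ : Function.Surjective (algebraMap P A)) (G : P)
  {A' : Type u} [CommRing A'] [Algebra A A'] [IsLocalization.Away (algebraMap P A G) A']
  {N N' : Type u} [AddCommGroup N] [Module A N] [Module P N] [IsScalarTower P A N]
  [AddCommGroup N'] [Module A' N'] [Module A N'] [IsScalarTower A A' N']
  [Module P N'] [IsScalarTower P A N']
  (l : N →ₗ[A] N') [IsLocalizedModule (Submonoid.powers (algebraMap P A G)) l]

variable (A A') in
/-- the induced map `P_G → A_g` -/
noncomputable def awayLift : Localization.Away G →+* A' :=
  IsLocalization.Away.lift (S := Localization.Away G) G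
    (g := (algebraMap A A').comp (algebraMap P A))
    (IsLocalization.Away.algebraMap_isUnit (algebraMap P A G))

lemma awayLift_algebraMap (p : P) :
    awayLift A G A' (algebraMap P (Localization.Away G) p) = algebraMap A A' (algebraMap P A p) :=
  IsLocalization.Away.lift_eq _ _ _

include hφ in
lemma awayLift_surjective : Function.Surjective (awayLift A G A') := by
  intro z
  obtain ⟨n, a, hz⟩ := IsLocalization.Away.surj (algebraMap P A G) z
  obtain ⟨p, rfl⟩ := hφ a
  have hu : IsUnit (algebraMap A A' (algebraMap P A G) ^ n) :=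
    (IsLocalization.Away.algebraMap_isUnit (algebraMap P A G)).pow n
  refine ⟨IsLocalization.mk' (Localization.Away G) p (⟨G ^ n, n, rfl⟩ : Submonoid.powers G), ?_⟩
  apply hu.mul_right_cancel
  rw [hz]
  have h1 : IsLocalization.mk' (Localization.Away G) p (⟨G ^ n, n, rfl⟩ : Submonoid.powers G) *
      algebraMap P (Localization.Away G) (G ^ n) = algebraMap P (Localization.Away G) p :=
    IsLocalization.mk'_spec _ _ _
  have h2 := congrArg (awayLift A G A') h1
  rw [map_mul, awayLift_algebraMap, awayLift_algebraMap, map_pow, map_pow] at h2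
  exact h2

/-- `l` viewed as a `P`-linear map -/
noncomputable def lP : N →ₗ[P] N' := l.restrictScalars P

/-- `N_g` is the localization of `N` at `G` over `P`. -/
lemma isLocalizedModule_lP : IsLocalizedModule (Submonoid.powers G) (lP (P := P) l) := by
  have hsm : ∀ (k : ℕ) (y : N'), (G ^ k) • y = (algebraMap P A G ^ k) • y := by
    intro k y
    rw [← map_pow, algebraMap_smul]
  have hsmN : ∀ (k : ℕ) (y : N), (G ^ k) • y = (algebraMap P A G ^ k) • y := by
    intro k y
    rw [← map_pow, algebraMap_smul]
  refine ⟨?_, ?_, ?_⟩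
  · rintro ⟨_, k, rfl⟩
    have h1 := IsLocalizedModule.map_units l
      (⟨algebraMap P A G ^ k, k, rfl⟩ : Submonoid.powers (algebraMap P A G))
    rw [Module.End.isUnit_iff] at h1 ⊢
    have : ⇑((algebraMap P (Module.End P N')) (G ^ k)) =
        ⇑((algebraMap A (Module.End A N')) (algebraMap P A G ^ k)) := by
      funext y
      simp only [Module.algebraMap_end_apply]
      exact hsm k y
    rw [this]
    exact h1
  · intro y
    obtain ⟨⟨n, ⟨_, k, rfl⟩⟩, hn⟩ := IsLocalizedModule.surj (Submonoid.powers (algebraMap P A G)) l y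
    refine ⟨(n, ⟨G ^ k, k, rfl⟩), ?_⟩
    change (G ^ k) • y = l n
    rw [hsm]
    exact hn
  · intro x₁ x₂ hx
    have hx' : l x₁ = l x₂ := hx
    obtain ⟨⟨_, k, rfl⟩, hc⟩ := IsLocalizedModule.exists_of_eq
      (S := Submonoid.powers (algebraMap P A G)) (f := l) hx'
    refine ⟨⟨G ^ k, k, rfl⟩, ?_⟩
    change (G ^ k) • x₁ = (G ^ k) • x₂
    rw [hsmN, hsmN]
    exact hc

variable (A A') in
/-- the `P_G`-module structure on `N_g` through `awayLift` -/
@[reducible] noncomputable def modAway : Module (Localization.Away G) N' :=
  Module.compHom N' (awayLift A G A')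

lemma isScalarTower_modAway :
    @IsScalarTower P (Localization.Away G) N' _ (modAway A G A' (N' := N')).toSMul _ := by
  letI := modAway A G A' (N' := N')
  refine ⟨fun p w y => ?_⟩
  change awayLift A G A' (p • w) • y = p • (awayLift A G A' w • y)
  rw [Algebra.smul_def, map_mul, awayLift_algebraMap, mul_smul, algebraMap_smul,
    algebraMap_smul]

include l in
/-- f.p. over `P` passes to f.p. of `N_g` over `P_G`. -/
theorem fp_modAway [Module.FinitePresentation P N] :
    @Module.FinitePresentation (Localization.Away G) N' _ _ (modAway A G A' (N' := N')) := by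
  letI := modAway A G A' (N' := N')
  haveI := isScalarTower_modAway (P := P) (A := A) (A' := A') (N' := N') G
  haveI := isLocalizedModule_lP G l
  have hbc : IsBaseChange (Localization.Away G) (lP (P := P) l) :=
    (isLocalizedModule_iff_isBaseChange (Submonoid.powers G) (Localization.Away G) _).mp
      inferInstance
  exact _root_.FinitePresentation.of_isBaseChange (lP (P := P) l) hbc

include l in
/-- conversely, f.p. of `N_g` over `P_G` gives f.p. of the concrete localized module. -/
theorem fp_localizedModule_of_fp_modAway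
    (h : @Module.FinitePresentation (Localization.Away G) N' _ _ (modAway A G A' (N' := N'))) :
    Module.FinitePresentation (Localization.Away G) (LocalizedModule.Away G N) := by
  letI := modAway A G A' (N' := N')
  haveI := isScalarTower_modAway (P := P) (A := A) (A' := A') (N' := N') G
  haveI := isLocalizedModule_lP G l
  let e : LocalizedModule (Submonoid.powers G) N ≃ₗ[P] N' :=
    IsLocalizedModule.iso (Submonoid.powers G) (lP (P := P) l)
  let e' : LocalizedModule (Submonoid.powers G) N ≃ₗ[Localization.Away G] N' :=
    e.extendScalarsOfIsLocalization (Submonoid.powers G) (Localization.Away G)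
  exact Module.FinitePresentation.of_equiv e'.symm

end SetupS

section Away

variable {R A : Type u} [CommRing R] [CommRing A] [Algebra R A]
  {N : Type u} [AddCommGroup N] [Module A N]

/-- data attached to a presentation `φ : R[x] → A` and a lift `G` of `g`: the `R`-algebra map
`R[x]_G → A_g`. -/
noncomputable def awayLiftAlgHom {n : ℕ} (φ : MvPolynomial (Fin n) R →ₐ[R] A)
    (G : MvPolynomial (Fin n) R)
    (A' : Type u) [CommRing A'] [Algebra A A'] [Algebra R A'] [IsScalarTower R A A']
    [IsLocalization.Away (φ G) A'] :
    Localization.Away G →ₐ[R] A' :=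
  letI : Algebra (MvPolynomial (Fin n) R) A := φ.toRingHom.toAlgebra
  { awayLift A G A' with
    commutes' := fun r => by
      letI : Algebra (MvPolynomial (Fin n) R) A := φ.toRingHom.toAlgebra
      change awayLift A G A' (algebraMap R (Localization.Away G) r) = algebraMap R A' r
      rw [IsScalarTower.algebraMap_apply R (MvPolynomial (Fin n) R) (Localization.Away G),
        awayLift_algebraMap]
      change algebraMap A A' (φ (algebraMap R (MvPolynomial (Fin n) R) r)) = _
      rw [AlgHom.commutes, ← IsScalarTower.algebraMap_apply] }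

lemma awayLiftAlgHom_toRingHom {n : ℕ} (φ : MvPolynomial (Fin n) R →ₐ[R] A)
    (G : MvPolynomial (Fin n) R)
    (A' : Type u) [CommRing A'] [Algebra A A'] [Algebra R A'] [IsScalarTower R A A']
    [IsLocalization.Away (φ G) A'] :
    (awayLiftAlgHom φ G A').toRingHom =
      (letI : Algebra (MvPolynomial (Fin n) R) A := φ.toRingHom.toAlgebra
       awayLift A G A') := rfl

/-- **Relative finite presentation passes to a principal localization** `A_g`, `N_g`. -/
theorem relFP_away (g : A) {A' : Type u} [CommRing A'] [Algebra A A'] [Algebra R A']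
    [IsScalarTower R A A'] [IsLocalization.Away g A']
    {N' : Type u} [AddCommGroup N'] [Module A' N'] [Module A N'] [IsScalarTower A A' N']
    (l : N →ₗ[A] N') [IsLocalizedModule (Submonoid.powers g) l]
    (h : FlatCA.RelFinitePresentation R A N) : FlatCA.RelFinitePresentation R A' N' := by
  obtain ⟨n, φ, hφ, hfp⟩ := h
  obtain ⟨G, rfl⟩ := hφ g
  letI : Algebra (MvPolynomial (Fin n) R) A := φ.toRingHom.toAlgebra
  letI : Module (MvPolynomial (Fin n) R) N := Module.compHom N φ.toRingHom
  letI : Module (MvPolynomial (Fin n) R) N' := Module.compHom N' φ.toRingHom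
  haveI : IsScalarTower (MvPolynomial (Fin n) R) A N := ⟨fun p a y => by
    change (φ p * a) • y = φ p • (a • y)
    rw [mul_smul]⟩
  haveI : IsScalarTower (MvPolynomial (Fin n) R) A N' := ⟨fun p a y => by
    change (φ p * a) • y = φ p • (a • y)
    rw [mul_smul]⟩
  haveI : Module.FinitePresentation (MvPolynomial (Fin n) R) N := hfp
  have h1 := fp_modAway (P := MvPolynomial (Fin n) R) (A := A) (A' := A') G l
  rw [relFP_iff_fp_compHom (R := R) (A := A') (N := N') (Localization.Away G)
    (awayLiftAlgHom φ G A') (awayLift_surjective (A := A) (A' := A') hφ G)]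
  exact h1

end Away

section Glue

variable {R A : Type u} [CommRing R] [CommRing A] [Algebra R A] [Algebra.FiniteType R A]
  {N : Type u} [AddCommGroup N] [Module A N]

/-- **Gluing**: if `t ⊆ A` spans the unit ideal and each `N_g` (`g ∈ t`) is finitely presented
relative to `R` as an `A_g`-module, then so is `N` as an `A`-module. -/
theorem relFP_of_localizationSpan (t : Set A) (ht : Ideal.span t = ⊤)
    {Aₚ : t → Type u} [∀ g, CommRing (Aₚ g)] [∀ g, Algebra A (Aₚ g)] [∀ g, Algebra R (Aₚ g)]
    [∀ g, IsScalarTower R A (Aₚ g)] [∀ g : t, IsLocalization.Away g.val (Aₚ g)]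
    {Nₚ : t → Type u} [∀ g, AddCommGroup (Nₚ g)] [∀ g, Module (Aₚ g) (Nₚ g)]
    [∀ g, Module A (Nₚ g)] [∀ g, IsScalarTower A (Aₚ g) (Nₚ g)]
    (l : ∀ g, N →ₗ[A] Nₚ g) [∀ g : t, IsLocalizedModule (Submonoid.powers g.val) (l g)]
    (h : ∀ g, FlatCA.RelFinitePresentation R (Aₚ g) (Nₚ g)) :
    FlatCA.RelFinitePresentation R A N := by
  obtain ⟨n, φ, hφ⟩ := Algebra.FiniteType.iff_quotient_mvPolynomial''.mp
    (inferInstance : Algebra.FiniteType R A)
  refine ⟨n, φ, hφ, ?_⟩
  letI : Algebra (MvPolynomial (Fin n) R) A := φ.toRingHom.toAlgebra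
  letI : Module (MvPolynomial (Fin n) R) N := Module.compHom N φ.toRingHom
  haveI : IsScalarTower (MvPolynomial (Fin n) R) A N := ⟨fun p a y => by
    change (φ p * a) • y = φ p • (a • y)
    rw [mul_smul]⟩
  let s : Set (MvPolynomial (Fin n) R) := φ ⁻¹' t ∪ (RingHom.ker φ.toRingHom : Set _)
  have hs : Ideal.span s = ⊤ := by
    have h1 : (Ideal.span s).map φ.toRingHom = ⊤ := by
      rw [eq_top_iff, ← ht, Ideal.span_le]
      intro a ha
      obtain ⟨p, rfl⟩ := hφ a
      exact Ideal.mem_map_of_mem _ (Ideal.subset_span (Or.inl ha))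
    have h2 : RingHom.ker φ.toRingHom ≤ Ideal.span s :=
      fun x hx => Ideal.subset_span (Or.inr hx)
    have h3 := Ideal.comap_map_of_surjective φ.toRingHom hφ (Ideal.span s)
    rw [h1, Ideal.comap_top] at h3
    rw [eq_top_iff, h3]
    refine sup_le le_rfl ?_
    rw [← RingHom.ker_eq_comap_bot]
    exact h2
  refine Module.FinitePresentation.of_localizationSpan s hs (fun r => ?_)
  rcases r.2 with hr | hr
  · -- `φ r ∈ t`
    let g : t := ⟨φ r.1, hr⟩
    letI : Module (MvPolynomial (Fin n) R) (Nₚ g) := Module.compHom (Nₚ g) φ.toRingHom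
    haveI : IsScalarTower (MvPolynomial (Fin n) R) A (Nₚ g) := ⟨fun p a y => by
      change (φ p * a) • y = φ p • (a • y)
      rw [mul_smul]⟩
    haveI : IsLocalization.Away (algebraMap (MvPolynomial (Fin n) R) A r.1) (Aₚ g) :=
      (inferInstance : IsLocalization.Away g.val (Aₚ g))
    haveI : IsLocalizedModule (Submonoid.powers (algebraMap (MvPolynomial (Fin n) R) A r.1))
        (l g) := (inferInstance : IsLocalizedModule (Submonoid.powers g.val) (l g))
    haveI : IsLocalization.Away (φ r.1) (Aₚ g) :=
      (inferInstance : IsLocalization.Away g.val (Aₚ g))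
    have h1 := (relFP_iff_fp_compHom (R := R) (A := Aₚ g) (N := Nₚ g) (Localization.Away r.1)
      (awayLiftAlgHom φ r.1 (Aₚ g)) (awayLift_surjective (A := A) (A' := Aₚ g) hφ r.1)).mp (h g)
    exact fp_localizedModule_of_fp_modAway (P := MvPolynomial (Fin n) R) (A := A) (A' := Aₚ g)
      r.1 (l g) h1
  · -- `r ∈ ker φ`: the localization vanishes
    haveI : Subsingleton (LocalizedModule.Away r.1 N) := by
      refine ⟨fun x y => ?_⟩
      induction x using LocalizedModule.induction_on with
      | h m₁ s₁ =>
        induction y using LocalizedModule.induction_on with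
        | h m₂ s₂ =>
          rw [LocalizedModule.mk_eq]
          refine ⟨⟨r.1, Submonoid.mem_powers _⟩, ?_⟩
          have hz : ∀ z : N, r.1 • z = 0 := by
            intro z
            change φ r.1 • z = 0
            have : φ r.1 = 0 := hr
            rw [this, zero_smul]
          change r.1 • (s₂ • m₁) = r.1 • (s₁ • m₂)
          rw [hz, hz]
    infer_instance

end Glue

end Groth.Agent.Lib.helper21.RelFPAlg
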