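import Mathlib
import Groth.Prelude.Def_FlatCA
import Groth.Agent.Lib.Helper21.RelFPAlg

/-!
# Relative finite presentation under base change (helper21)

* `isBaseChange_restrictScalars_iff_of_isPushout`: in a pushout square of rings
  `B = S ⊗[R] A`, an `A`-linear map `k : M → N` into a `B`-module is a base change along `A → B`
  iff it is a base change along `R → S`.
* `relFP_baseChange`: `N` relatively f.p. over `R` (as `A`-module), `A' = R' ⊗[R] A`,
  `N' = A' ⊗[A] N` ⇒ `N'` relatively f.p. over `R'`.
-/

set_option autoImplicit false
universe u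
open TensorProduct

namespace Groth.Agent.Lib.helper21.RelFPAlg

section PO

variable (R S A B : Type u) [CommRing R] [CommRing S] [CommRing A] [CommRing B]
  [Algebra R S] [Algebra R A] [Algebra R B] [Algebra A B] [Algebra S B]
  [IsScalarTower R A B] [IsScalarTower R S B] [Algebra.IsPushout R S A B]
  {M N : Type u} [AddCommGroup M] [Module R M] [Module A M] [IsScalarTower R A M]
  [AddCommGroup N] [Module R N] [Module A N] [Module B N] [Module S N]
  [IsScalarTower A B N] [IsScalarTower R A N] [IsScalarTower S B N] [IsScalarTower R S N]

/-- In a pushout square `B = S ⊗[R] A`: base change along `A → B` is base change along `R → S`. -/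
theorem isBaseChange_restrictScalars_iff_of_isPushout (k : M →ₗ[A] N) :
    IsBaseChange S (k.restrictScalars R) ↔ IsBaseChange B k := by
  let ψ : B ⊗[A] M →ₗ[B] N := LinearMap.liftBaseChange B k
  let ψ' : S ⊗[R] M →ₗ[S] N := LinearMap.liftBaseChange S (k.restrictScalars R)
  have h1 : IsBaseChange B k ↔ Function.Bijective ψ := by
    constructor
    · intro h
      have : ⇑ψ = ⇑h.equiv := by
        ext t
        induction t with
        | zero => simp
        | tmul b m => simp [ψ, IsBaseChange.equiv_tmul]
        | add x y hx hy => simp only [map_add, hx, hy]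
      rw [this]
      exact h.equiv.bijective
    · intro h
      exact IsBaseChange.of_equiv (LinearEquiv.ofBijective ψ h) (fun m => by simp [ψ])
  have h2 : IsBaseChange S (k.restrictScalars R) ↔ Function.Bijective ψ' := by
    constructor
    · intro h
      have : ⇑ψ' = ⇑h.equiv := by
        ext t
        induction t with
        | zero => simp
        | tmul b m => simp [ψ', IsBaseChange.equiv_tmul]
        | add x y hx hy => simp only [map_add, hx, hy]
      rw [this]
      exact h.equiv.bijective
    · intro h
      exact IsBaseChange.of_equiv (LinearEquiv.ofBijective ψ' h) (fun m => by simp [ψ'])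
  have h3 : ⇑ψ' = ⇑ψ ∘ ⇑(Algebra.IsPushout.cancelBaseChange R S A B M).symm := by
    ext t
    induction t with
    | zero => simp
    | tmul s m =>
      simp only [Function.comp_apply, Algebra.IsPushout.cancelBaseChange_symm_tmul]
      simp [ψ, ψ']
    | add x y hx hy =>
      simp only [Function.comp_apply, map_add] at hx hy ⊢
      rw [hx, hy]
  rw [h1, h2, h3]
  exact Function.Bijective.of_comp_iff _
    (Algebra.IsPushout.cancelBaseChange R S A B M).symm.bijective

end PO

section BC

attribute [local instance] MvPolynomial.algebraMvPolynomial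

variable {R A : Type u} [CommRing R] [CommRing A] [Algebra R A]
  {R' A' : Type u} [CommRing R'] [CommRing A'] [Algebra R R'] [Algebra R A'] [Algebra A A']
  [Algebra R' A'] [IsScalarTower R A A'] [IsScalarTower R R' A'] [Algebra.IsPushout R R' A A']
  {N N' : Type u} [AddCommGroup N] [Module A N] [AddCommGroup N'] [Module A' N'] [Module A N']
  [IsScalarTower A A' N']

/-- **Base change**: `A' = R' ⊗[R] A`, `N' = A' ⊗[A] N`; if `N` is finitely presented relative to
`R` then `N'` is finitely presented relative to `R'`. -/
theorem relFP_baseChange (k : N →ₗ[A] N') (hk : IsBaseChange A' k)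
    (h : FlatCA.RelFinitePresentation R A N) : FlatCA.RelFinitePresentation R' A' N' := by
  obtain ⟨n, φ, hφ, hfp⟩ := h
  let φ' : MvPolynomial (Fin n) R' →ₐ[R'] A' :=
    MvPolynomial.aeval (fun i => algebraMap A A' (φ (MvPolynomial.X i)))
  have hcomp : ∀ p : MvPolynomial (Fin n) R,
      φ' (MvPolynomial.map (algebraMap R R') p) = algebraMap A A' (φ p) := by
    have : φ'.toRingHom.comp (MvPolynomial.map (algebraMap R R')) =
        (algebraMap A A').comp φ.toRingHom := by
      apply MvPolynomial.ringHom_ext
      · intro r
        simp [φ', ← IsScalarTower.algebraMap_apply]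
      · intro i
        simp [φ']
    exact fun p => congrArg (fun ψ : _ →+* A' => ψ p) this
  have hφ' : Function.Surjective φ' := by
    intro x
    have hpo : IsBaseChange R' (IsScalarTower.toAlgHom R A A').toLinearMap :=
      (Algebra.IsPushout.out : IsBaseChange R' (IsScalarTower.toAlgHom R A A').toLinearMap)
    change x ∈ Set.range φ'
    rw [← AlgHom.coe_range]
    refine hpo.inductionOn x (fun x => x ∈ φ'.range) (zero_mem _) ?_ ?_ ?_
    · intro a
      obtain ⟨p, rfl⟩ := hφ a
      exact ⟨MvPolynomial.map (algebraMap R R') p, hcomp p⟩
    · intro r' y hy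
      rw [Algebra.smul_def]
      exact mul_mem ⟨MvPolynomial.C r', by simp [φ']⟩ hy
    · intro y z hy hz
      exact add_mem hy hz
  refine ⟨n, φ', hφ', ?_⟩
  -- module structures
  letI mRN : Module R N := Module.compHom N (algebraMap R A)
  haveI tRAN : IsScalarTower R A N := IsScalarTower.of_algebraMap_smul (fun _ _ => rfl)
  letI mR'N' : Module R' N' := Module.compHom N' (algebraMap R' A')
  haveI tR'A'N' : IsScalarTower R' A' N' := IsScalarTower.of_algebraMap_smul (fun _ _ => rfl)
  letI mRN' : Module R N' := Module.compHom N' (algebraMap R A')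
  haveI tRAN' : IsScalarTower R A N' := IsScalarTower.of_algebraMap_smul (fun r x => by
    rw [← algebraMap_smul A' (algebraMap R A r) x, ← IsScalarTower.algebraMap_apply]
    rfl)
  haveI tRR'N' : IsScalarTower R R' N' := IsScalarTower.of_algebraMap_smul (fun r x => by
    change algebraMap R' A' (algebraMap R R' r) • x = algebraMap R A' r • x
    rw [← IsScalarTower.algebraMap_apply])
  -- step 1: base change along `R → R'`
  have hk1 : IsBaseChange R' (k.restrictScalars R) :=
    (isBaseChange_restrictScalars_iff_of_isPushout R R' A A' k).mpr hk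
  -- the polynomial ring structures
  letI mPN : Module (MvPolynomial (Fin n) R) N := Module.compHom N φ.toRingHom
  haveI tRPN : IsScalarTower R (MvPolynomial (Fin n) R) N :=
    IsScalarTower.of_algebraMap_smul (fun r x => by
      change φ (algebraMap R (MvPolynomial (Fin n) R) r) • x = algebraMap R A r • x
      rw [AlgHom.commutes])
  letI mPN' : Module (MvPolynomial (Fin n) R) N' := Module.compHom N' φ.toRingHom
  letI mP'N' : Module (MvPolynomial (Fin n) R') N' := Module.compHom N' φ'.toRingHom
  haveI tPP'N' : IsScalarTower (MvPolynomial (Fin n) R) (MvPolynomial (Fin n) R') N' :=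
    IsScalarTower.of_algebraMap_smul (fun p x => by
      change φ' (MvPolynomial.map (algebraMap R R') p) • x = φ p • x
      rw [hcomp, algebraMap_smul])
  haveI tRPN' : IsScalarTower R (MvPolynomial (Fin n) R) N' :=
    IsScalarTower.of_algebraMap_smul (fun r x => by
      change φ (algebraMap R (MvPolynomial (Fin n) R) r) • x = r • x
      rw [AlgHom.commutes, algebraMap_smul])
  haveI tR'P'N' : IsScalarTower R' (MvPolynomial (Fin n) R') N' :=
    IsScalarTower.of_algebraMap_smul (fun r x => by
      change φ' (algebraMap R' (MvPolynomial (Fin n) R') r) • x = algebraMap R' A' r • x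
      rw [AlgHom.commutes])
  let kP : N →ₗ[MvPolynomial (Fin n) R] N' :=
    { toFun := k
      map_add' := k.map_add
      map_smul' := fun p x => k.map_smul (φ p) x }
  have hkP : kP.restrictScalars R = k.restrictScalars R := LinearMap.ext (fun _ => rfl)
  have hk2 : IsBaseChange (MvPolynomial (Fin n) R') kP := by
    rw [← isBaseChange_restrictScalars_iff_of_isPushout R R' (MvPolynomial (Fin n) R)
      (MvPolynomial (Fin n) R') kP, hkP]
    exact hk1
  haveI : Module.FinitePresentation (MvPolynomial (Fin n) R) N := hfp
  exact _root_.FinitePresentation.of_isBaseChange kP hk2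

end BC

end Groth.Agent.Lib.helper21.RelFPAlg
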