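import Mathlib
import Groth.Prelude.Def_Flatn
import Groth.Agent.Lib.Helper21.RelFPAlg
import Groth.Agent.Lib.Helper16.CohFinite

/-!
# Relative finite presentation of quasi-coherent modules: independence of the covers (helper21)

`Flatn.IsRelFP f F` (for `f` locally of finite type, `F` quasi-coherent) implies `Flatn.RelFPOn f F U V`
for ALL affine opens `U ⊆ f⁻¹ V`.
-/

set_option autoImplicit false
universe u
open CategoryTheory CategoryTheory.Limits AlgebraicGeometry TopologicalSpace Opposite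
open Groth.Agent.Lib.helper16.CohFinite Groth.Agent.Lib.helper21.RelFPAlg

namespace Groth.Agent.Lib.helper21.RelFPSch

variable {X S : Scheme.{u}} (f : X ⟶ S) (F : X.Modules)

/-- `Flatn.RelFPOn` for plain opens -/
def RelFPOn' (U : X.Opens) (V : S.Opens) (h : U ≤ f ⁻¹ᵁ V) : Prop :=
  letI := (f.appLE V U h).hom.toAlgebra
  FlatCA.RelFinitePresentation Γ(S, V) Γ(X, U) (F.val.obj (op U))

lemma relFPOn_iff (U : X.affineOpens) (V : S.affineOpens)
    (h : (U : X.Opens) ≤ f ⁻¹ᵁ (V : S.Opens)) :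
    Flatn.RelFPOn f F U V h ↔ RelFPOn' f F U.1 V.1 h := Iff.rfl

/-- passing to a basic open of the source -/
theorem relFPOn'_basicOpen [F.IsQuasicoherent] {U : X.Opens} (hU : IsAffineOpen U) {V : S.Opens}
    (h : U ≤ f ⁻¹ᵁ V) (g : Γ(X, U)) {U' : X.Opens} (e : U' = X.basicOpen g)
    (h' : U' ≤ f ⁻¹ᵁ V) (H : RelFPOn' f F U V h) : RelFPOn' f F U' V h' := by
  have hle : U' ≤ U := e ▸ X.basicOpen_le g
  unfold RelFPOn' at H ⊢
  letI algRA := (f.appLE V U h).hom.toAlgebra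
  letI algRA' := (f.appLE V U' h').hom.toAlgebra
  letI algAA' := algOfLE (X := X) hle
  letI modAN' := modOfLE F hle
  haveI tower1 : IsScalarTower Γ(S, V) Γ(X, U) Γ(X, U') := by
    refine IsScalarTower.of_algebraMap_eq' ?_
    have := f.appLE_map h (homOfLE hle).op
    exact congrArg CommRingCat.Hom.hom this.symm
  haveI := isScalarTower_ofLE F hle
  haveI : IsLocalization.Away g Γ(X, U') := hU.isLocalization_of_eq_basicOpen g (homOfLE hle) e
  haveI := isLocalizedModule_of_eq_basicOpen F hU g hle e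
  change FlatCA.RelFinitePresentation Γ(S, V) Γ(X, U') Γ(F, U')
  exact relFP_away (N := Γ(F, U)) g (resLin F hle) H

/-- changing the affine open of the base to a basic open containing the image -/
theorem relFPOn'_iff_of_basicOpen {U : X.Opens} {V W : S.Opens} (hV : IsAffineOpen V)
    (s : Γ(S, V)) (eW : W = S.basicOpen s) (hUW : U ≤ f ⁻¹ᵁ W) (hUV : U ≤ f ⁻¹ᵁ V) :
    RelFPOn' f F U W hUW ↔ RelFPOn' f F U V hUV := by
  have hWV : W ≤ V := eW ▸ S.basicOpen_le s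
  unfold RelFPOn'
  letI algRR' : Algebra Γ(S, V) Γ(S, W) := (S.presheaf.map (homOfLE hWV).op).hom.toAlgebra
  letI algR'A := (f.appLE W U hUW).hom.toAlgebra
  letI algRA := (f.appLE V U hUV).hom.toAlgebra
  haveI : IsLocalization.Away s Γ(S, W) := hV.isLocalization_of_eq_basicOpen s (homOfLE hWV) eW
  haveI : Algebra.FinitePresentation Γ(S, V) Γ(S, W) := IsLocalization.Away.finitePresentation s
  haveI : IsScalarTower Γ(S, V) Γ(S, W) Γ(X, U) := by
    refine IsScalarTower.of_algebraMap_eq' ?_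
    have := f.map_appLE hUW (homOfLE hWV).op
    exact congrArg CommRingCat.Hom.hom this.symm
  exact relFP_iff_of_fp_base

/-- gluing over a family of basic opens of the source -/
theorem relFPOn'_of_span [LocallyOfFiniteType f] [F.IsQuasicoherent] {U : X.Opens}
    (hU : IsAffineOpen U) {V : S.Opens} (hV : IsAffineOpen V)
    (h : U ≤ f ⁻¹ᵁ V) (t : Set Γ(X, U)) (ht : Ideal.span t = ⊤)
    (H : ∀ g : t, RelFPOn' f F (X.basicOpen g.1) V ((X.basicOpen_le g.1).trans h)) :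
    RelFPOn' f F U V h := by
  unfold RelFPOn' at H ⊢
  letI algRA := (f.appLE V U h).hom.toAlgebra
  haveI : Algebra.FiniteType Γ(S, V) Γ(X, U) := f.finiteType_appLE hV hU h
  letI i0 (g : t) : Algebra Γ(S, V) Γ(X, X.basicOpen g.1) :=
    (f.appLE V (X.basicOpen g.1) ((X.basicOpen_le g.1).trans h)).hom.toAlgebra
  letI i1 (g : t) : Algebra Γ(X, U) Γ(X, X.basicOpen g.1) := algOfLE (X := X) (X.basicOpen_le g.1)
  letI i2 (g : t) : Module Γ(X, U) Γ(F, X.basicOpen g.1) := modOfLE F (X.basicOpen_le g.1)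
  haveI i3 (g : t) : IsScalarTower Γ(X, U) Γ(X, X.basicOpen g.1) Γ(F, X.basicOpen g.1) :=
    isScalarTower_ofLE F (X.basicOpen_le g.1)
  haveI i4 (g : t) : IsLocalization.Away g.1 Γ(X, X.basicOpen g.1) :=
    hU.isLocalization_basicOpen g.1
  haveI i5 (g : t) : IsLocalizedModule (Submonoid.powers g.1) (resLin F (X.basicOpen_le g.1)) :=
    isLocalizedModule_of_eq_basicOpen F hU g.1 (X.basicOpen_le g.1) rfl
  haveI i6 (g : t) : IsScalarTower Γ(S, V) Γ(X, U) Γ(X, X.basicOpen g.1) := by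
    refine IsScalarTower.of_algebraMap_eq' ?_
    have := f.appLE_map h (homOfLE (X.basicOpen_le g.1)).op
    exact congrArg CommRingCat.Hom.hom this.symm
  change FlatCA.RelFinitePresentation Γ(S, V) Γ(X, U) Γ(F, U)
  exact relFP_of_localizationSpan (R := Γ(S, V)) (A := Γ(X, U)) (N := Γ(F, U)) t ht
    (Aₚ := fun g => Γ(X, X.basicOpen g.1)) (Nₚ := fun g => Γ(F, X.basicOpen g.1))
    (fun g => resLin F (X.basicOpen_le g.1)) H

/-- **Independence of the covers**: a quasi-coherent module that is finitely presented relative to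
the base in the sense of `Flatn.IsRelFP` satisfies `RelFPOn` on EVERY pair of affine opens. -/
theorem relFPOn'_of_isRelFP [LocallyOfFiniteType f] [F.IsQuasicoherent] (hF : Flatn.IsRelFP f F)
    {U : X.Opens} (hU : IsAffineOpen U) {V : S.Opens} (hV : IsAffineOpen V) (h : U ≤ f ⁻¹ᵁ V) :
    RelFPOn' f F U V h := by
  obtain ⟨𝒱, h𝒱, H⟩ := hF
  let t : Set Γ(X, U) := {g | RelFPOn' f F (X.basicOpen g) V ((X.basicOpen_le g).trans h)}
  refine relFPOn'_of_span f F hU hV h t ?_ (fun g => g.2)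
  rw [← hU.self_le_iSup_basicOpen_iff]
  intro x hxU
  have hfxV : f x ∈ V := h hxU
  -- a member of the cover of the base containing `f x`
  have hx1 : f x ∈ (⨆ V₀ ∈ 𝒱, (V₀ : S.Opens)) := by rw [h𝒱]; trivial
  simp only [Opens.mem_iSup] at hx1
  obtain ⟨V₀, hV₀mem, hfxV₀⟩ := hx1
  obtain ⟨𝒰, h𝒰, HU⟩ := H V₀ hV₀mem
  -- a member of the cover of `f⁻¹ V₀` containing `x`
  have hx2 : x ∈ (⨆ U₀ ∈ 𝒰, (U₀ : X.Opens)) := by rw [h𝒰]; exact hfxV₀
  simp only [Opens.mem_iSup] at hx2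
  obtain ⟨U₀, hU₀mem, hxU₀⟩ := hx2
  have hU₀le : (U₀ : X.Opens) ≤ f ⁻¹ᵁ (V₀ : S.Opens) := by
    rw [← h𝒰]
    exact le_iSup₂ (f := fun (U₀ : X.affineOpens) (_ : U₀ ∈ 𝒰) => (U₀ : X.Opens)) U₀ hU₀mem
  have R0 : RelFPOn' f F U₀.1 V₀.1 hU₀le := HU U₀ hU₀mem hU₀le
  -- a common basic open `W` of `V` and `V₀` containing `f x`
  obtain ⟨s, s₀, hss₀, hfxs⟩ := exists_basicOpen_le_affine_inter hV V₀.2 (f x) ⟨hfxV, hfxV₀⟩
  -- `U₁ = U₀ ∩ f⁻¹ W`, a basic open of `U₀`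
  have hU₁eq := Scheme.basicOpen_appLE f U₀.1 V₀.1 hU₀le s₀
  have hU₁ : IsAffineOpen (X.basicOpen (f.appLE V₀.1 U₀.1 hU₀le s₀)) := U₀.2.basicOpen _
  have hxU₁ : x ∈ X.basicOpen (f.appLE V₀.1 U₀.1 hU₀le s₀) := by
    rw [hU₁eq]
    exact ⟨hxU₀, by rw [← hss₀]; exact hfxs⟩
  have hU₁W : X.basicOpen (f.appLE V₀.1 U₀.1 hU₀le s₀) ≤ f ⁻¹ᵁ (S.basicOpen s) := by
    rw [hU₁eq, hss₀]
    exact inf_le_right
  have hU₁V₀ : X.basicOpen (f.appLE V₀.1 U₀.1 hU₀le s₀) ≤ f ⁻¹ᵁ V₀.1 :=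
    (X.basicOpen_le _).trans hU₀le
  have hU₁V : X.basicOpen (f.appLE V₀.1 U₀.1 hU₀le s₀) ≤ f ⁻¹ᵁ V :=
    hU₁W.trans (fun y hy => S.basicOpen_le s hy)
  have R1 : RelFPOn' f F (X.basicOpen (f.appLE V₀.1 U₀.1 hU₀le s₀)) V₀.1 hU₁V₀ :=
    relFPOn'_basicOpen f F U₀.2 hU₀le _ rfl hU₁V₀ R0
  have R2 : RelFPOn' f F (X.basicOpen (f.appLE V₀.1 U₀.1 hU₀le s₀)) (S.basicOpen s) hU₁W :=
    (relFPOn'_iff_of_basicOpen f F V₀.2 s₀ hss₀ hU₁W hU₁V₀).mpr R1
  have R3 : RelFPOn' f F (X.basicOpen (f.appLE V₀.1 U₀.1 hU₀le s₀)) V hU₁V :=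
    (relFPOn'_iff_of_basicOpen f F hV s rfl hU₁W hU₁V).mp R2
  -- a common basic open of `U` and `U₁` containing `x`
  obtain ⟨g, g₁, hgg₁, hxg⟩ := exists_basicOpen_le_affine_inter hU hU₁ x ⟨hxU, hxU₁⟩
  have R4 : RelFPOn' f F (X.basicOpen g) V ((X.basicOpen_le g).trans h) :=
    relFPOn'_basicOpen f F hU₁ hU₁V g₁ hgg₁ _ R3
  exact Opens.mem_iSup.mpr ⟨⟨g, R4⟩, hxg⟩

/-- the statement in the prelude's form -/
theorem relFPOn_of_isRelFP [LocallyOfFiniteType f] [F.IsQuasicoherent] (hF : Flatn.IsRelFP f F)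
    (U : X.affineOpens) (V : S.affineOpens) (h : (U : X.Opens) ≤ f ⁻¹ᵁ (V : S.Opens)) :
    Flatn.RelFPOn f F U V h :=
  relFPOn'_of_isRelFP f F hF U.2 V.2 h

/-- conversely, `RelFPOn` on all pairs of affine opens gives `IsRelFP`. -/
theorem isRelFP_of_forall (H : ∀ (U : X.affineOpens) (V : S.affineOpens)
    (h : (U : X.Opens) ≤ f ⁻¹ᵁ (V : S.Opens)), Flatn.RelFPOn f F U V h) : Flatn.IsRelFP f F := by
  refine ⟨Set.univ, ?_, fun V _ => ⟨{U | (U : X.Opens) ≤ f ⁻¹ᵁ (V : S.Opens)}, ?_,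
    fun U _ h => H U V h⟩⟩
  · rw [eq_top_iff]
    intro y _
    obtain ⟨W, hW, hyW, -⟩ := Opens.isBasis_iff_nbhd.mp S.isBasis_affineOpens
      (show y ∈ (⊤ : S.Opens) from trivial)
    simp only [Opens.mem_iSup]
    exact ⟨⟨W, hW⟩, Set.mem_univ _, hyW⟩
  · apply le_antisymm
    · exact iSup₂_le (fun U hU => hU)
    · intro x hx
      obtain ⟨W, hW, hxW, hWle⟩ := Opens.isBasis_iff_nbhd.mp X.isBasis_affineOpens hx
      simp only [Opens.mem_iSup]
      exact ⟨⟨W, hW⟩, hWle, hxW⟩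

theorem isRelFP_iff [LocallyOfFiniteType f] [F.IsQuasicoherent] :
    Flatn.IsRelFP f F ↔ ∀ (U : X.affineOpens) (V : S.affineOpens)
      (h : (U : X.Opens) ≤ f ⁻¹ᵁ (V : S.Opens)), Flatn.RelFPOn f F U V h :=
  ⟨fun hF U V h => relFPOn_of_isRelFP f F hF U V h, isRelFP_of_forall f F⟩

end Groth.Agent.Lib.helper21.RelFPSch
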