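import Mathlib
import Groth.Prelude.Def_Flatn
import Groth.Agent.Lib.Helper21.RelFPSch
import Groth.Agent.Lib.Helper23.RelFP2
import Groth.Agent.Lib.Helper7.QCohPushQC

/-!
# Relative finite presentation: composition and finite pushforward (helper21)
-/

set_option autoImplicit false
universe u
open CategoryTheory CategoryTheory.Limits AlgebraicGeometry TopologicalSpace Opposite
open Groth.Agent.Lib.helper16.CohFinite Groth.Agent.Lib.helper21.RelFPAlg

namespace Groth.Agent.Lib.helper21.RelFPAlg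

section Finite

variable {R A B : Type u} [CommRing R] [CommRing A] [CommRing B]
  [Algebra R A] [Algebra A B] [Algebra R B] [IsScalarTower R A B]

/-- finite extension of the algebra: relative finite presentation of a `B`-module does not depend
on whether it is regarded over `A` or over `B` (`B` finite over `A`, `A` of finite type over `R`). -/
theorem relFP_iff_of_finite [Algebra.FiniteType R A] [Module.Finite A B]
    (M : Type u) [AddCommGroup M] [Module B M] [Module A M] [IsScalarTower A B M] :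
    FlatCA.RelFinitePresentation R A M ↔ FlatCA.RelFinitePresentation R B M := by
  have h1 : Algebra.FiniteType A B := inferInstance
  have h0 : Algebra.FiniteType R A := inferInstance
  haveI : Algebra.FiniteType R B := Algebra.FiniteType.trans h0 h1
  obtain ⟨n, α, hα⟩ := Algebra.FiniteType.iff_quotient_mvPolynomial''.mp
    (inferInstance : Algebra.FiniteType R A)
  obtain ⟨k, β, hβ⟩ := Algebra.FiniteType.iff_quotient_mvPolynomial''.mp
    (inferInstance : Algebra.FiniteType R B)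
  rw [relFP_iff_fp_compHom (MvPolynomial (Fin n) R) α hα,
    relFP_iff_fp_compHom (MvPolynomial (Fin k) R) β hβ]
  exact Groth.Agent.Lib.helper23.DRingPC.fp_compHom_iff_of_finite M α hα β hβ

end Finite

end Groth.Agent.Lib.helper21.RelFPAlg

namespace Groth.Agent.Lib.helper21.RelFPSch

lemma iSup_affineOpens_univ (S : Scheme.{u}) :
    (⨆ V ∈ (Set.univ : Set S.affineOpens), (V : S.Opens)) = ⊤ := by
  rw [eq_top_iff]
  intro y _
  obtain ⟨W, hW, hyW, -⟩ := Opens.isBasis_iff_nbhd.mp S.isBasis_affineOpens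
    (show y ∈ (⊤ : S.Opens) from trivial)
  simp only [Opens.mem_iSup]
  exact ⟨⟨W, hW⟩, Set.mem_univ _, hyW⟩

variable {X Y S : Scheme.{u}}

/-- composition with a morphism locally of finite presentation -/
theorem isRelFP_comp (f : X ⟶ Y) (g : Y ⟶ S) [LocallyOfFiniteType f]
    [LocallyOfFinitePresentation g] (F : X.Modules) [F.IsQuasicoherent]
    (hF : Flatn.IsRelFP f F) : Flatn.IsRelFP (f ≫ g) F := by
  refine ⟨Set.univ, iSup_affineOpens_univ S, fun W _ =>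
    ⟨{U | ∃ V : Y.affineOpens, (V : Y.Opens) ≤ g ⁻¹ᵁ (W : S.Opens) ∧
      (U : X.Opens) ≤ f ⁻¹ᵁ (V : Y.Opens)}, ?_, ?_⟩⟩
  · apply le_antisymm
    · refine iSup₂_le ?_
      rintro U ⟨V, hVW, hUV⟩
      exact hUV.trans (fun x hx => hVW hx)
    · intro x hx
      have hfx : f x ∈ g ⁻¹ᵁ (W : S.Opens) := hx
      obtain ⟨V, hV, hfxV, hVle⟩ := Opens.isBasis_iff_nbhd.mp Y.isBasis_affineOpens hfx
      have hx' : x ∈ f ⁻¹ᵁ V := hfxV
      obtain ⟨U, hU, hxU, hUle⟩ := Opens.isBasis_iff_nbhd.mp X.isBasis_affineOpens hx'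
      simp only [Opens.mem_iSup]
      exact ⟨⟨U, hU⟩, ⟨⟨V, hV⟩, hVle, hUle⟩, hxU⟩
  · rintro U ⟨V, hVW, hUV⟩ h
    have H := relFPOn_of_isRelFP f F hF U V hUV
    unfold Flatn.RelFPOn at H ⊢
    letI algRR' : Algebra Γ(S, (W : S.Opens)) Γ(Y, (V : Y.Opens)) :=
      (g.appLE (W : S.Opens) (V : Y.Opens) hVW).hom.toAlgebra
    letI := (f.appLE (V : Y.Opens) (U : X.Opens) hUV).hom.toAlgebra
    letI := ((f ≫ g).appLE (W : S.Opens) (U : X.Opens) h).hom.toAlgebra
    haveI : Algebra.FinitePresentation Γ(S, (W : S.Opens)) Γ(Y, (V : Y.Opens)) :=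
      g.finitePresentation_appLE W.2 V.2 hVW
    haveI : IsScalarTower Γ(S, (W : S.Opens)) Γ(Y, (V : Y.Opens)) Γ(X, (U : X.Opens)) := by
      refine IsScalarTower.of_algebraMap_eq' ?_
      have := Scheme.Hom.appLE_comp_appLE f g (W : S.Opens) (V : Y.Opens) (U : X.Opens) hVW hUV
      exact congrArg CommRingCat.Hom.hom this.symm
    exact relFP_iff_of_fp_base.mp H

section FinitePush

variable (π : X ⟶ Y) (g : Y ⟶ S) [IsFinite π] [LocallyOfFiniteType g]
  (F : X.Modules) [F.IsQuasicoherent]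

/-- the key comparison over a pair of affine opens `V ⊆ g⁻¹ W` -/
theorem relFPOn'_push_iff {V : Y.Opens} (hV : IsAffineOpen V) {W : S.Opens} (hW : IsAffineOpen W)
    (hVW : V ≤ g ⁻¹ᵁ W) (h' : π ⁻¹ᵁ V ≤ (π ≫ g) ⁻¹ᵁ W) :
    RelFPOn' g ((Scheme.Modules.pushforward π).obj F) V W hVW ↔
      RelFPOn' (π ≫ g) F (π ⁻¹ᵁ V) W h' := by
  unfold RelFPOn'
  letI algRA : Algebra Γ(S, W) Γ(Y, V) := (g.appLE W V hVW).hom.toAlgebra
  letI algAB : Algebra Γ(Y, V) Γ(X, π ⁻¹ᵁ V) := (π.app V).hom.toAlgebra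
  letI algRB : Algebra Γ(S, W) Γ(X, π ⁻¹ᵁ V) := ((π ≫ g).appLE W (π ⁻¹ᵁ V) h').hom.toAlgebra
  haveI : IsScalarTower Γ(S, W) Γ(Y, V) Γ(X, π ⁻¹ᵁ V) := by
    refine IsScalarTower.of_algebraMap_eq' ?_
    have := Scheme.Hom.appLE_comp_appLE π g W V (π ⁻¹ᵁ V) hVW le_rfl
    rw [← Scheme.Hom.app_eq_appLE] at this
    exact congrArg CommRingCat.Hom.hom this.symm
  haveI : Algebra.FiniteType Γ(S, W) Γ(Y, V) := g.finiteType_appLE hW hV hVW
  haveI : Module.Finite Γ(Y, V) Γ(X, π ⁻¹ᵁ V) := π.finite_app V hV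
  letI modAM : Module Γ(Y, V) Γ(F, π ⁻¹ᵁ V) := Module.compHom Γ(F, π ⁻¹ᵁ V) (π.app V).hom
  haveI : IsScalarTower Γ(Y, V) Γ(X, π ⁻¹ᵁ V) Γ(F, π ⁻¹ᵁ V) := ⟨fun a b m => by
    change ((π.app V).hom a * b) • m = (π.app V).hom a • (b • m)
    rw [mul_smul]⟩
  exact relFP_iff_of_finite (R := Γ(S, W)) (A := Γ(Y, V)) (B := Γ(X, π ⁻¹ᵁ V)) Γ(F, π ⁻¹ᵁ V)

theorem isRelFP_iff_push_finite :
    Flatn.IsRelFP (π ≫ g) F ↔ Flatn.IsRelFP g ((Scheme.Modules.pushforward π).obj F) := by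
  haveI : ((Scheme.Modules.pushforward π).obj F).IsQuasicoherent :=
    Groth.Agent.Lib.helper7.QCohPushQC.isQuasicoherent_pushforward π F
  constructor
  · intro hF
    refine isRelFP_of_forall g _ (fun V W hVW => ?_)
    have h' : π ⁻¹ᵁ (V : Y.Opens) ≤ (π ≫ g) ⁻¹ᵁ (W : S.Opens) := fun x hx => hVW hx
    exact (relFPOn'_push_iff π g F V.2 W.2 hVW h').mpr
      (relFPOn'_of_isRelFP (π ≫ g) F hF (V.2.preimage π) W.2 h')
  · intro hG
    refine ⟨Set.univ, iSup_affineOpens_univ S, fun W _ =>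
      ⟨{U | ∃ V : Y.affineOpens, (V : Y.Opens) ≤ g ⁻¹ᵁ (W : S.Opens) ∧
        (U : X.Opens) = π ⁻¹ᵁ (V : Y.Opens)}, ?_, ?_⟩⟩
    · apply le_antisymm
      · refine iSup₂_le ?_
        rintro U ⟨V, hVW, hUV⟩
        rw [hUV]
        exact fun x hx => hVW hx
      · intro x hx
        have hfx : π x ∈ g ⁻¹ᵁ (W : S.Opens) := hx
        obtain ⟨V, hV, hfxV, hVle⟩ := Opens.isBasis_iff_nbhd.mp Y.isBasis_affineOpens hfx
        simp only [Opens.mem_iSup]
        exact ⟨⟨π ⁻¹ᵁ V, IsAffineOpen.preimage hV π⟩, ⟨⟨V, hV⟩, hVle, rfl⟩, hfxV⟩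
    · rintro ⟨U, hU⟩ ⟨V, hVW, hUV⟩ h
      change U = π ⁻¹ᵁ (V : Y.Opens) at hUV
      subst hUV
      exact (relFPOn'_push_iff π g F V.2 W.2 hVW h).mp
        (relFPOn'_of_isRelFP g _ hG V.2 W.2 hVW)

end FinitePush

end Groth.Agent.Lib.helper21.RelFPSch
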