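import Mathlib
import Groth.Prelude.Def_Flatn
import Groth.Agent.Lib.Helper21.RelFPSch3
import Groth.Agent.Lib.Helper21.RelFPAlg3
import Groth.Agent.Lib.Helper8.PullbackUnit

/-!
# Relative finite presentation under base change of schemes (helper21)
-/

set_option autoImplicit false
universe u
open CategoryTheory CategoryTheory.Limits AlgebraicGeometry TopologicalSpace Opposite
open Groth.Agent.Lib.helper16.CohFinite Groth.Agent.Lib.helper21.RelFPAlg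
open Groth.Agent.Lib.helper8.PullbackUnit

namespace Groth.Agent.Lib.helper21.RelFPSch

section PullSections

variable {X Y : Scheme.{u}} (g : Y ⟶ X) {U : X.Opens} (hU : IsAffineOpen U) {V : Y.Opens}
  (hV : IsAffineOpen V) (e : V ≤ g ⁻¹ᵁ U) (A : X.Modules) [A.IsQuasicoherent]

/-- `Γ(X,U)`-module structure on `Γ(g^*A, V)` for `V ≤ g⁻¹ U` -/
@[reducible] noncomputable def modPull :
    Module Γ(X, U) Γ((Scheme.Modules.pullback g).obj A, V) :=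
  Module.compHom _ (g.appLE U V e).hom

omit [A.IsQuasicoherent] in
theorem isScalarTower_modPull :
    @IsScalarTower Γ(X, U) Γ(Y, V) Γ((Scheme.Modules.pullback g).obj A, V)
      (g.appLE U V e).hom.toAlgebra.toSMul _ (modPull g e A).toSMul := by
  letI := (g.appLE U V e).hom.toAlgebra
  letI := modPull g e A
  exact ⟨fun a b m => by
    change ((g.appLE U V e).hom a * b) • m = (g.appLE U V e).hom a • (b • m)
    rw [mul_smul]⟩

include hU hV in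
/-- the pullback unit as a linear map, and it is a base change -/
theorem exists_isBaseChange_pull :
    letI := (g.appLE U V e).hom.toAlgebra
    letI := modPull g e A
    haveI := isScalarTower_modPull g e A
    ∃ k : Γ(A, U) →ₗ[Γ(X, U)] Γ((Scheme.Modules.pullback g).obj A, V),
      IsBaseChange Γ(Y, V) k := by
  letI := (g.appLE U V e).hom.toAlgebra
  letI := modPull g e A
  haveI := isScalarTower_modPull g e A
  have hbc := isBC_ρ g hU hV e A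
  let k : Γ(A, U) →ₗ[Γ(X, U)] Γ((Scheme.Modules.pullback g).obj A, V) :=
    { toFun := ρ g e A
      map_add' := (ρ g e A).map_add
      map_smul' := fun r a => hbc.map_smul r a }
  exact ⟨k, IsBC.isBaseChange k hbc⟩

end PullSections

section BaseChange

variable {X S X' S' : Scheme.{u}} (f : X ⟶ S) (g : S' ⟶ S) (f' : X' ⟶ S') (g' : X' ⟶ X)
  (hc : IsPullback g' f' f g) (F : X.Modules) [F.IsQuasicoherent]

include hc in
theorem isAffineOpen_inf_of_isPullback {W : S.Opens} (hW : IsAffineOpen W) {W' : S'.Opens}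
    (hW' : IsAffineOpen W') {U : X.Opens} (hU : IsAffineOpen U) (hW'W : W' ≤ g ⁻¹ᵁ W)
    (hUW : U ≤ f ⁻¹ᵁ W) : IsAffineOpen (g' ⁻¹ᵁ U ⊓ f' ⁻¹ᵁ W') := by
  have : IsAffine _ := hW
  have : IsAffine _ := hW'
  have : IsAffine _ := hU
  exact .of_isIso (Scheme.Hom.isPullback_resLE hc hW'W hUW rfl).isoPullback.hom

include hc in
theorem relFPOn'_baseChange {W : S.Opens} (hW : IsAffineOpen W) {W' : S'.Opens}
    (hW' : IsAffineOpen W') {U : X.Opens} (hU : IsAffineOpen U) (hW'W : W' ≤ g ⁻¹ᵁ W)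
    (hUW : U ≤ f ⁻¹ᵁ W) (h' : g' ⁻¹ᵁ U ⊓ f' ⁻¹ᵁ W' ≤ f' ⁻¹ᵁ W')
    (H : RelFPOn' f F U W hUW) :
    RelFPOn' f' ((Scheme.Modules.pullback g').obj F) (g' ⁻¹ᵁ U ⊓ f' ⁻¹ᵁ W') W' h' := by
  have hU' := isAffineOpen_inf_of_isPullback f g f' g' hc hW hW' hU hW'W hUW
  have e : g' ⁻¹ᵁ U ⊓ f' ⁻¹ᵁ W' ≤ g' ⁻¹ᵁ U := inf_le_left
  unfold RelFPOn' at H ⊢
  letI algRR' : Algebra Γ(S, W) Γ(S', W') := (g.appLE W W' hW'W).hom.toAlgebra
  letI algRA : Algebra Γ(S, W) Γ(X, U) := (f.appLE W U hUW).hom.toAlgebra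
  letI algAA' : Algebra Γ(X, U) Γ(X', g' ⁻¹ᵁ U ⊓ f' ⁻¹ᵁ W') :=
    (g'.appLE U (g' ⁻¹ᵁ U ⊓ f' ⁻¹ᵁ W') e).hom.toAlgebra
  letI algR'A' : Algebra Γ(S', W') Γ(X', g' ⁻¹ᵁ U ⊓ f' ⁻¹ᵁ W') :=
    (f'.appLE W' (g' ⁻¹ᵁ U ⊓ f' ⁻¹ᵁ W') h').hom.toAlgebra
  letI algRA' : Algebra Γ(S, W) Γ(X', g' ⁻¹ᵁ U ⊓ f' ⁻¹ᵁ W') :=
    (f.appLE W U hUW ≫ g'.appLE U (g' ⁻¹ᵁ U ⊓ f' ⁻¹ᵁ W') e).hom.toAlgebra
  haveI t1 : IsScalarTower Γ(S, W) Γ(X, U) Γ(X', g' ⁻¹ᵁ U ⊓ f' ⁻¹ᵁ W') :=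
    IsScalarTower.of_algebraMap_eq' rfl
  have hsq : g.appLE W W' hW'W ≫ f'.appLE W' (g' ⁻¹ᵁ U ⊓ f' ⁻¹ᵁ W') h' =
      f.appLE W U hUW ≫ g'.appLE U (g' ⁻¹ᵁ U ⊓ f' ⁻¹ᵁ W') e := by
    rw [Scheme.Hom.appLE_comp_appLE, Scheme.Hom.appLE_comp_appLE]
    simp only [hc.w]
  haveI t2 : IsScalarTower Γ(S, W) Γ(S', W') Γ(X', g' ⁻¹ᵁ U ⊓ f' ⁻¹ᵁ W') := by
    refine IsScalarTower.of_algebraMap_eq' ?_
    exact congrArg CommRingCat.Hom.hom hsq.symm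
  have h1 := isIso_pushoutSection_of_isAffineOpen hc hW'W hUW rfl hW hW' hU
  rw [isIso_pushoutSection_iff] at h1
  haveI hpo : Algebra.IsPushout Γ(S, W) Γ(S', W') Γ(X, U) Γ(X', g' ⁻¹ᵁ U ⊓ f' ⁻¹ᵁ W') := by
    apply Algebra.IsPushout.symm
    exact (CommRingCat.isPushout_iff_isPushout (R := Γ(S, W)) (R' := Γ(X, U)) (S := Γ(S', W'))
      (S' := Γ(X', g' ⁻¹ᵁ U ⊓ f' ⁻¹ᵁ W'))).mp h1
  letI := modPull g' e F
  haveI := isScalarTower_modPull g' e F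
  obtain ⟨k, hk⟩ := exists_isBaseChange_pull g' hU hU' e F
  change FlatCA.RelFinitePresentation Γ(S', W') Γ(X', g' ⁻¹ᵁ U ⊓ f' ⁻¹ᵁ W')
    Γ((Scheme.Modules.pullback g').obj F, g' ⁻¹ᵁ U ⊓ f' ⁻¹ᵁ W')
  exact relFP_baseChange (R := Γ(S, W)) (A := Γ(X, U)) (N := Γ(F, U)) k hk H

include hc in
/-- **Relative finite presentation is stable under base change.** -/
theorem isRelFP_baseChange [LocallyOfFiniteType f] (hF : Flatn.IsRelFP f F) :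
    Flatn.IsRelFP f' ((Scheme.Modules.pullback g').obj F) := by
  refine ⟨{W' | ∃ W : S.affineOpens, (W' : S'.Opens) ≤ g ⁻¹ᵁ (W : S.Opens)}, ?_, ?_⟩
  · rw [eq_top_iff]
    intro y _
    obtain ⟨W, hW, hyW, -⟩ := Opens.isBasis_iff_nbhd.mp S.isBasis_affineOpens
      (show g y ∈ (⊤ : S.Opens) from trivial)
    have hy : y ∈ g ⁻¹ᵁ W := hyW
    obtain ⟨W', hW', hyW', hW'le⟩ := Opens.isBasis_iff_nbhd.mp S'.isBasis_affineOpens hy
    simp only [Opens.mem_iSup]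
    exact ⟨⟨W', hW'⟩, ⟨⟨W, hW⟩, hW'le⟩, hyW'⟩
  · rintro W' ⟨W, hW'W⟩
    refine ⟨{U' | ∃ U : X.affineOpens, (U : X.Opens) ≤ f ⁻¹ᵁ (W : S.Opens) ∧
      (U' : X'.Opens) = g' ⁻¹ᵁ (U : X.Opens) ⊓ f' ⁻¹ᵁ (W' : S'.Opens)}, ?_, ?_⟩
    · apply le_antisymm
      · refine iSup₂_le ?_
        rintro U' ⟨U, hUW, hU'⟩
        rw [hU']
        exact inf_le_right
      · intro x hx
        have hfx : f' x ∈ (W' : S'.Opens) := hx
        have hgx : g' x ∈ f ⁻¹ᵁ (W : S.Opens) := by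
          change f (g' x) ∈ (W : S.Opens)
          have h1 : f (g' x) = g (f' x) := by
            have := congrArg (fun φ : X' ⟶ S => φ x) hc.w
            simpa using this
          rw [h1]
          exact hW'W hfx
        obtain ⟨U, hU, hxU, hUle⟩ := Opens.isBasis_iff_nbhd.mp X.isBasis_affineOpens hgx
        simp only [Opens.mem_iSup]
        exact ⟨⟨g' ⁻¹ᵁ U ⊓ f' ⁻¹ᵁ (W' : S'.Opens),
          isAffineOpen_inf_of_isPullback f g f' g' hc W.2 W'.2 hU hW'W hUle⟩,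
          ⟨⟨U, hU⟩, hUle, rfl⟩, ⟨hxU, hfx⟩⟩
    · rintro ⟨U', hU'aff⟩ ⟨U, hUW, hU'⟩ h
      change U' = g' ⁻¹ᵁ (U : X.Opens) ⊓ f' ⁻¹ᵁ (W' : S'.Opens) at hU'
      subst hU'
      exact relFPOn'_baseChange f g f' g' hc F W.2 W'.2 U.2 hW'W hUW h
        (relFPOn'_of_isRelFP f F hF U.2 W.2 hUW)

end BaseChange

end Groth.Agent.Lib.helper21.RelFPSch
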