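import Mathlib
import Groth.Prelude.Def_ModSite
import Groth.Agent.Lib.Helper21.TensorMon
import Groth.Agent.Lib.Helper21.ModSh
import Groth.Agent.Lib.Helper21.FlatSES
import Groth.Agent.Lib.Helper21.TensorRestr
import Groth.Agent.Lib.Helper21.ExtZeroT

/-!
Helper library (helper21): equational criterion of flatness on ringed sites.
-/

set_option autoImplicit false
universe u
open CategoryTheory MonoidalCategory Opposite Limits TensorProduct

namespace Groth.Agent.Lib.Helper21.FlatEq

open Groth.Agent.Lib.Helper21.TensorW Groth.Agent.Lib.Helper21.TensorAdj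
  Groth.Agent.Lib.Helper21.TensorMon

variable {C : Type u} [SmallCategory C] {J : GrothendieckTopology C} (O : Sheaf J CommRingCat.{u})

/-- If the sheafification of a morphism of presheaves of modules is mono, the morphism is
locally injective. -/
theorem isLocallyInjective_of_mono_shf_map {P P' : PM O} (ψ : P ⟶ P') [Mono ((shf O).map ψ)] :
    Presheaf.IsLocallyInjective J ((PresheafOfModules.toPresheaf _).map ψ) := by
  have hlim := Groth.Agent.Lib.Helper21.ModSh.toSheaf_preservesLimits (ModSite.ringSh O)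
  haveI : PreservesFiniteLimits (SheafOfModules.toSheaf.{u} (ModSite.ringSh O)) :=
    PreservesLimitsOfSize.preservesFiniteLimits _
  have h1 : Mono ((SheafOfModules.toSheaf.{u} (ModSite.ringSh O)).map ((shf O).map ψ)) :=
    Functor.map_mono _ _
  have h2 : Mono ((presheafToSheaf J AddCommGrpCat.{u}).map
      ((PresheafOfModules.toPresheaf _).map ψ)) := h1
  rw [← Presheaf.isLocallyInjective_presheafToSheaf_map_iff]
  have h3 : Mono ((sheafToPresheaf J AddCommGrpCat.{u}).map ((presheafToSheaf J AddCommGrpCat.{u}).map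
      ((PresheafOfModules.toPresheaf _).map ψ))) := Functor.map_mono _ _
  apply Presheaf.isLocallyInjective_of_injective
  intro X
  have h4 := (NatTrans.mono_iff_mono_app _).1 h3 X
  exact (AddCommGrpCat.mono_iff_injective _).1 h4

/-- For a flat module `G`, tensoring a monomorphism of presheaves of modules with `G` is
locally injective. -/
theorem isLocallyInjective_whiskerRight_of_flat (G : ModSite.Mod O) (hG : ModSite.IsFlat G)
    {P P' : PM O} (ι : P ⟶ P') [Mono ι] :
    Presheaf.IsLocallyInjective J ((PresheafOfModules.toPresheaf _).map (ι ▷ pv G)) := by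
  haveI : PreservesFiniteLimits (shf O) :=
    (inferInstance : PreservesFiniteLimits (ModSite.sheafify O))
  haveI : Mono ((shf O).map ι) := Functor.map_mono _ _
  haveI : PreservesFiniteLimits (tens O G) := hG.1
  haveI : Mono ((tens O G).map ((shf O).map ι)) := Functor.map_mono _ _
  have e : (shf O).map (ι ▷ pv G) =
      (compIso O G).hom.app P ≫ (tens O G).map ((shf O).map ι) ≫ (compIso O G).inv.app P' := by
    have h := (compIso O G).hom.naturality ι
    have h' : (shf O).map (ι ▷ pv G) ≫ (compIso O G).hom.app P' =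
        (compIso O G).hom.app P ≫ (tens O G).map ((shf O).map ι) := h
    rw [← Category.assoc, ← h', Category.assoc, Iso.hom_inv_id_app]
    exact (Category.comp_id _).symm
  haveI : Mono ((shf O).map (ι ▷ pv G)) := by
    rw [e]; infer_instance
  exact isLocallyInjective_of_mono_shf_map O (ι ▷ pv G)

section span

variable (H : PM O) {n : ℕ} (f : Fin n → ∀ Y : C, H.obj (op Y))
  (hf : ∀ (i : Fin n) {Y' Y : C} (h : Y' ⟶ Y), rmap H h.op (f i Y) = f i Y')

/-- the sub-presheaf of modules of `H` generated by finitely many global sections -/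
noncomputable def spanSub : PresheafOfModules.Submodule H where
  obj X := Submodule.span ((O.obj ⋙ forget₂ CommRingCat.{u} RingCat.{u}).obj X)
    (Set.range fun i => f i X.unop)
  map {X Y} g := by
    refine Submodule.span_le.2 ?_
    rintro _ ⟨i, rfl⟩
    have h1 : H.restrictₛₗ g (f i X.unop) = f i Y.unop := hf i g.unop
    refine Submodule.mem_comap.2 ?_
    rw [h1]
    exact Submodule.subset_span ⟨i, rfl⟩

/-- the generators as elements of the span -/
noncomputable def gen (i : Fin n) (Y : C) : (spanSub O H f hf).obj (op Y) :=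
  ⟨f i Y, Submodule.subset_span ⟨i, rfl⟩⟩

theorem span_gen (Y : C) :
    Submodule.span (O.obj.obj (op Y)) (Set.range fun i => gen O H f hf i Y) = ⊤ := by
  rw [eq_top_iff]
  rintro ⟨x, hx⟩ -
  refine Submodule.span_induction (p := fun x hx => (⟨x, hx⟩ : (spanSub O H f hf).obj (op Y)) ∈
    Submodule.span (O.obj.obj (op Y)) (Set.range fun i => gen O H f hf i Y)) ?_ ?_ ?_ ?_ hx
  · rintro _ ⟨i, rfl⟩
    exact Submodule.subset_span ⟨i, rfl⟩
  · exact Submodule.zero_mem _
  · intro a b ha hb h1 h2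
    exact Submodule.add_mem _ h1 h2
  · intro r a ha h1
    exact Submodule.smul_mem _ r h1

theorem rmap_gen (i : Fin n) {Y' Y : C} (h : Y' ⟶ Y) :
    rmap (spanSub O H f hf).toPresheafOfModules h.op (gen O H f hf i Y) = gen O H f hf i Y' :=
  Subtype.ext (hf i h)

theorem locally_zero_in_span (G : ModSite.Mod O) (hG : ModSite.IsFlat G) (T : C)
    (s : Fin n → (pv G).obj (op T))
    (hrel : ∑ i, f i T ⊗ₜ[O.obj.obj (op T)] s i = 0) :
    ∃ S ∈ J T, ∀ ⦃Y : C⦄ (h : Y ⟶ T), S h →
      ∑ i, gen O H f hf i Y ⊗ₜ[O.obj.obj (op Y)] rmap (pv G) h.op (s i) = 0 := by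
  let N := (spanSub O H f hf).toPresheafOfModules
  let ι : N ⟶ H := (spanSub O H f hf).ι
  haveI := isLocallyInjective_whiskerRight_of_flat O G hG ι
  have hx : amap (ι ▷ pv G) (op T) (∑ i, gen O H f hf i T ⊗ₜ[O.obj.obj (op T)] s i) =
      amap (ι ▷ pv G) (op T) 0 := by
    refine (map_sum (amap (ι ▷ pv G) (op T)) _ _).trans ?_
    refine Eq.trans ?_ (hrel.trans (map_zero (amap (ι ▷ pv G) (op T))).symm)
    refine Finset.sum_congr rfl (fun i _ => ?_)
    rfl
  have hS := Presheaf.equalizerSieve_mem J ((PresheafOfModules.toPresheaf _).map (ι ▷ pv G))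
    (X := op T) _ _ hx
  refine ⟨_, hS, ?_⟩
  intro Y h hh
  have h1 : rmap (N ⊗ pv G) h.op (∑ i, gen O H f hf i T ⊗ₜ[O.obj.obj (op T)] s i) =
      rmap (N ⊗ pv G) h.op 0 := hh
  have h2 := (map_sum (rmap (N ⊗ pv G) h.op) _ _).symm.trans
    (h1.trans (map_zero (rmap (N ⊗ pv G) h.op)))
  refine Eq.trans ?_ h2
  refine Finset.sum_congr rfl (fun i _ => ?_)
  have e1 : rmap (N ⊗ pv G) h.op (gen O H f hf i T ⊗ₜ[O.obj.obj (op T)] s i) =
      rmap N h.op (gen O H f hf i T) ⊗ₜ rmap (pv G) h.op (s i) := rfl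
  rw [e1, rmap_gen]
  rfl

include hf in
theorem locally_trivial (G : ModSite.Mod O) (hG : ModSite.IsFlat G) (T : C)
    (s : Fin n → (pv G).obj (op T))
    (hrel : ∑ i, f i T ⊗ₜ[O.obj.obj (op T)] s i = 0) :
    ∃ S ∈ J T, ∀ ⦃Y : C⦄ (h : Y ⟶ T), S h →
      ∃ (l : ℕ) (b : Fin n → Fin l → O.obj.obj (op Y)) (t : Fin l → (pv G).obj (op Y)),
        (∀ i, rmap (pv G) h.op (s i) = ∑ k, b i k • t k) ∧ ∀ k, ∑ i, b i k • f i Y = 0 := by
  obtain ⟨S, hS, hS'⟩ := locally_zero_in_span O H f hf G hG T s hrel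
  refine ⟨S, hS, ?_⟩
  intro Y h hh
  obtain ⟨l, b, t, h1, h2⟩ := TensorProduct.vanishesTrivially_of_sum_tmul_eq_zero
    (O.obj.obj (op Y)) (span_gen O H f hf Y) (hS' h hh)
  refine ⟨l, b, t, h1, ?_⟩
  intro k
  have := congrArg Subtype.val (h2 k)
  rw [Submodule.coe_sum] at this
  exact this

end span

section overU

open Groth.Agent.Lib.Helper21.TensorRestr

/-- Equational criterion, general form: if `F` is flat, `f i ∈ H(U)` (for a presheaf of modules
`H`) and `s i ∈ F(U)` satisfy `∑ f i ⊗ s i = 0` in `H(U) ⊗ F(U)`, then locally on `U` the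
relation is trivial. -/
theorem locally_trivial_over (F : ModSite.Mod O) (hF : ModSite.IsFlat F) (H : PM O) (U : C)
    {n : ℕ} (f : Fin n → H.obj (op U)) (s : Fin n → (pv F).obj (op U))
    (hrel : ∑ i, f i ⊗ₜ[O.obj.obj (op U)] s i = 0) :
    ∃ S ∈ J U, ∀ ⦃V : C⦄ (g : V ⟶ U), S g →
      ∃ (l : ℕ) (b : Fin n → Fin l → O.obj.obj (op V)) (t : Fin l → (pv F).obj (op V)),
        (∀ i, rmap (pv F) g.op (s i) = ∑ k, b i k • t k) ∧
          ∀ k, ∑ i, b i k • rmap H g.op (f i) = 0 := by
  let H' : PM (O.over U) := (restrP O U).obj H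
  let G : ModSite.Mod (O.over U) := (ModSite.restr O U).obj F
  have hG : ModSite.IsFlat G := Groth.Agent.Lib.Helper21.ExtZeroT.isFlat_restr O U F hF
  let f' : Fin n → ∀ Y : Over U, H'.obj (op Y) := fun i Y => rmap H Y.hom.op (f i)
  have hf' : ∀ (i : Fin n) {Y' Y : Over U} (h : Y' ⟶ Y), rmap H' h.op (f' i Y) = f' i Y' := by
    intro i Y' Y h
    show rmap H h.left.op (rmap H Y.hom.op (f i)) = rmap H Y'.hom.op (f i)
    rw [← rmap_comp, ← op_comp, Over.w]
  let T : Over U := Over.mk (𝟙 U)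
  have hT : ∀ i, f' i T = f i := by
    intro i
    show rmap H (𝟙 U).op (f i) = f i
    show (H.presheaf.map (𝟙 (op U))).hom (f i) = f i
    rw [H.presheaf.map_id]
    rfl
  let s' : Fin n → (pv G).obj (op T) := s
  have hrel' : ∑ i, f' i T ⊗ₜ[(O.over U).obj.obj (op T)] s' i = 0 := by
    refine Eq.trans ?_ hrel
    refine Finset.sum_congr rfl (fun i _ => ?_)
    rw [hT]
    rfl
  obtain ⟨S', hS', hS''⟩ := locally_trivial (O.over U) H' f' hf' G hG T s' hrel'
  refine ⟨Sieve.overEquiv T S', (GrothendieckTopology.mem_over_iff J S').1 hS', ?_⟩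
  intro V g hg
  have hg' := (Sieve.overEquiv_iff S' g).1 hg
  obtain ⟨l, b, t, h1, h2⟩ := hS'' _ hg'
  let b' : Fin n → Fin l → O.obj.obj (op V) := b
  refine ⟨l, b', t, h1, ?_⟩
  intro k
  refine Eq.trans ?_ (h2 k)
  refine Finset.sum_congr rfl (fun i _ => ?_)
  have e : rmap H g.op (f i) = rmap H (g ≫ 𝟙 U).op (f i) := by
    rw [Category.comp_id]
  exact congrArg (fun z : H.obj (op V) => b' i k • z) e

theorem alg_sum_tmul {R M : Type*} [CommRing R] [AddCommGroup M] [Module R M] {n : ℕ}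
    (f : Fin n → R) (s : Fin n → M) (h : ∑ j, f j • s j = 0) :
    ∑ i, f i ⊗ₜ[R] s i = 0 := by
  have h1 : ∀ i, f i ⊗ₜ[R] s i = (1 : R) ⊗ₜ[R] (f i • s i) := by
    intro i
    rw [TensorProduct.tmul_smul, TensorProduct.smul_tmul', smul_eq_mul, mul_one]
  rw [Finset.sum_congr rfl (fun i _ => h1 i), ← TensorProduct.tmul_sum, h,
    TensorProduct.tmul_zero]

/-- Equational criterion of flatness, direction flat ⇒ relations are locally trivial. -/
theorem eq_criterion_single (F : ModSite.Mod O) (hF : ModSite.IsFlat F) (U : C) {n : ℕ}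
    (f : Fin n → O.obj.obj (op U)) (s : Fin n → ModSite.sect F U)
    (hrel : ∑ j, f j • s j = 0) :
    ∃ S ∈ J U, ∀ ⦃V : C⦄ (g : V ⟶ U), S g →
      ∃ (l : ℕ) (t : Fin l → ModSite.sect F V) (a : Fin n → Fin l → O.obj.obj (op V)),
        (∀ j, (F.val.map g.op).hom (s j) = ∑ k, a j k • t k) ∧
        (∀ k, ∑ j, a j k * (O.obj.map g.op).hom (f j) = 0) := by
  let H : PM O := PresheafOfModules.unit _
  let f' : Fin n → H.obj (op U) := f
  let s' : Fin n → (pv F).obj (op U) := s
  have hrel' : ∑ i, f' i ⊗ₜ[O.obj.obj (op U)] s' i = 0 :=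
    alg_sum_tmul (R := O.obj.obj (op U)) f s hrel
  obtain ⟨S, hS, hS'⟩ := locally_trivial_over O F hF H U f' s' hrel'
  refine ⟨S, hS, ?_⟩
  intro V g hg
  obtain ⟨l, b, t, h1, h2⟩ := hS' g hg
  exact ⟨l, t, b, h1, h2⟩

end overU

end Groth.Agent.Lib.Helper21.FlatEq
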