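import Mathlib
import Groth.Prelude.Def_ModSite
import Groth.Agent.Lib.Helper21.FlatEq

/-!
Helper library (helper21): equational criterion of flatness on ringed sites, converse direction.
-/

set_option autoImplicit false
universe u
open CategoryTheory MonoidalCategory Opposite Limits TensorProduct

namespace Groth.Agent.Lib.Helper21.FlatEq2

open Groth.Agent.Lib.Helper21.TensorW Groth.Agent.Lib.Helper21.TensorAdj
  Groth.Agent.Lib.Helper21.TensorMon

section alg

/-- General equational criterion for vanishing of a sum of pure tensors (Stacks 00HK), with the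
relations on the left factors. -/
theorem alg_vanish {A S N : Type u} [CommRing A] [AddCommGroup S] [Module A S]
    [AddCommGroup N] [Module A N] {n : ℕ} (s : Fin n → S) (x : Fin n → N)
    (h : ∑ i, s i ⊗ₜ[A] x i = 0) :
    ∃ (n' : ℕ) (s' : Fin n' → S) (k : ℕ) (a : Fin n → Fin k → A) (a' : Fin n' → Fin k → A)
      (y : Fin k → N),
      (∀ i, x i = ∑ j, a i j • y j) ∧ (∀ i, ∑ j, a' i j • y j = 0) ∧
        (∀ j, ∑ i, a i j • s i + ∑ i, a' i j • s' i = 0) := by
  classical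
  let J₀ : Submodule A S := Submodule.span A (Set.range s)
  have hJ₀ : J₀.FG := Submodule.fg_span (Set.finite_range s)
  have hsJ : ∀ i, s i ∈ J₀ := fun i => Submodule.subset_span ⟨i, rfl⟩
  let z : J₀ ⊗[A] N := ∑ i, (⟨s i, hsJ i⟩ : J₀) ⊗ₜ[A] x i
  have e1 : J₀.subtype.rTensor N z = J₀.subtype.rTensor N 0 := by
    rw [map_zero, map_sum]
    refine Eq.trans ?_ h
    refine Finset.sum_congr rfl (fun i _ => ?_)
    rfl
  obtain ⟨P, hP, hle, e2⟩ := hJ₀.exists_rTensor_fg_inclusion_eq e1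
  obtain ⟨t, ht⟩ := hP
  let n' := t.card
  let s' : Fin n' → S := fun j => ((t.equivFin.symm j : t) : S)
  have hs' : ∀ j, s' j ∈ P := fun j => by
    rw [← ht]
    exact Submodule.subset_span (t.equivFin.symm j).2
  let m : Fin n ⊕ Fin n' → P :=
    Sum.elim (fun i => ⟨s i, hle (hsJ i)⟩) (fun j => ⟨s' j, hs' j⟩)
  let nn : Fin n ⊕ Fin n' → N := Sum.elim x (fun _ => 0)
  have hm : Submodule.span A (Set.range m) = ⊤ := by
    rw [eq_top_iff]
    rintro ⟨p, hp⟩ -
    have hp' : p ∈ Submodule.span A (t : Set S) := by rw [ht]; exact hp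
    refine Submodule.span_induction (p := fun p _ => ∀ hp : p ∈ P,
      (⟨p, hp⟩ : P) ∈ Submodule.span A (Set.range m)) ?_ ?_ ?_ ?_ hp' hp
    · intro q hq hq'
      refine Submodule.subset_span ⟨Sum.inr (t.equivFin ⟨q, hq⟩), ?_⟩
      apply Subtype.ext
      simp [m, s']
    · intro _
      exact Submodule.zero_mem _
    · intro a b ha hb iha ihb hab
      have ha' : a ∈ P := by rw [← ht]; exact ha
      have hb' : b ∈ P := by rw [← ht]; exact hb
      exact Submodule.add_mem _ (iha ha') (ihb hb')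
    · intro r a ha iha hra
      have ha' : a ∈ P := by rw [← ht]; exact ha
      exact Submodule.smul_mem _ r (iha ha')
  have hmn : ∑ i, m i ⊗ₜ[A] nn i = 0 := by
    rw [Fintype.sum_sum_type]
    have h1 : ∑ j : Fin n', m (Sum.inr j) ⊗ₜ[A] nn (Sum.inr j) = 0 := by
      refine Finset.sum_eq_zero (fun j _ => ?_)
      exact TensorProduct.tmul_zero _ _
    rw [h1, add_zero]
    have h2 : (J₀.inclusion hle).rTensor N z = 0 := by rw [e2, map_zero]
    rw [map_sum] at h2
    refine Eq.trans ?_ h2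
    refine Finset.sum_congr rfl (fun i _ => ?_)
    rfl
  obtain ⟨k, a, y, h1, h2⟩ := TensorProduct.vanishesTrivially_of_sum_tmul_eq_zero A hm hmn
  refine ⟨n', s', k, fun i => a (Sum.inl i), fun j => a (Sum.inr j), y,
    fun i => h1 (Sum.inl i), fun j => (h1 (Sum.inr j)).symm, fun j => ?_⟩
  have h3 := congrArg Subtype.val (h2 j)
  rw [Fintype.sum_sum_type] at h3
  simpa [m, Submodule.coe_sum] using h3

theorem alg1 {R₁ R₂ : Type u} [CommRing R₁] [CommRing R₂] (φ : R₁ →+* R₂) {n l₁ l₂ : ℕ}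
    (b1 : Fin n → Fin l₁ → R₁) (b2 : Fin l₁ → Fin l₂ → R₂) (c : Fin n → R₁) (m : Fin l₂) :
    ∑ j, (∑ k, φ (b1 j k) * b2 k m) * φ (c j) = ∑ k, b2 k m * φ (∑ j, b1 j k * c j) := by
  simp only [Finset.sum_mul, map_sum, map_mul, Finset.mul_sum]
  rw [Finset.sum_comm]
  refine Finset.sum_congr rfl (fun k _ => Finset.sum_congr rfl (fun j _ => ?_))
  ring

theorem alg2 {R₁ R₂ M₁ M₂ : Type u} [CommRing R₁] [CommRing R₂] [AddCommGroup M₁] [Module R₁ M₁]
    [AddCommGroup M₂] [Module R₂ M₂] (φ : R₁ →+* R₂) (σ : M₁ →+ M₂)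
    (hσ : ∀ (a : R₁) (m : M₁), σ (a • m) = φ a • σ m) {l₁ l₂ : ℕ}
    (b : Fin l₁ → R₁) (t : Fin l₁ → M₁) (b2 : Fin l₁ → Fin l₂ → R₂) (t2 : Fin l₂ → M₂)
    (ht : ∀ k, σ (t k) = ∑ m, b2 k m • t2 m) (x : M₁) (hx : x = ∑ k, b k • t k) :
    σ x = ∑ m, (∑ k, φ (b k) * b2 k m) • t2 m := by
  rw [hx, map_sum]
  simp only [hσ, ht, Finset.smul_sum, Finset.sum_smul, smul_smul]
  rw [Finset.sum_comm]

theorem alg3 {R₀ R₁ M₀ M₁ : Type u} [CommRing R₀] [CommRing R₁] [AddCommGroup M₀] [Module R₀ M₀]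
    [AddCommGroup M₁] [Module R₁ M₁] (φ : R₀ →+* R₁) (σ : M₀ →+ M₁)
    (hσ : ∀ (a : R₀) (m : M₀), σ (a • m) = φ a • σ m) {n l : ℕ}
    (c : Fin n → R₀) (s : Fin n → M₀) (hcs : ∑ j, c j • s j = 0)
    (b : Fin n → Fin l → R₁) (t : Fin l → M₁) (hs : ∀ j, σ (s j) = ∑ k, b j k • t k) :
    ∑ k, (∑ j, b j k * φ (c j)) • t k = 0 := by
  have h1 : σ (∑ j, c j • s j) = 0 := by rw [hcs, map_zero]
  rw [map_sum] at h1
  simp only [hσ, hs, Finset.smul_sum, smul_smul] at h1
  rw [Finset.sum_comm] at h1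
  rw [← h1]
  refine Finset.sum_congr rfl (fun k _ => ?_)
  rw [Finset.sum_smul]
  refine Finset.sum_congr rfl (fun j _ => ?_)
  rw [mul_comm]

theorem alg4 {R₀ R₁ : Type u} [CommRing R₀] [CommRing R₁] (φ : R₀ →+* R₁)
    {M₀ M₀' F₀ : Type u} [AddCommGroup M₀] [Module R₀ M₀] [AddCommGroup M₀'] [Module R₀ M₀']
    [AddCommGroup F₀] [Module R₀ F₀]
    {M₁ M₁' F₁ : Type u} [AddCommGroup M₁] [Module R₁ M₁] [AddCommGroup M₁'] [Module R₁ M₁']
    [AddCommGroup F₁] [Module R₁ F₁]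
    (ι₀ : M₀ →ₗ[R₀] M₀') (ι₁ : M₁ →ₗ[R₁] M₁') (hι₁ : Function.Injective ι₁)
    (σM : M₀ →+ M₁) (σM' : M₀' →+ M₁') (hσM' : ∀ (a : R₀) (m : M₀'), σM' (a • m) = φ a • σM' m)
    (hcomm : ∀ m, ι₁ (σM m) = σM' (ι₀ m))
    (σF : F₀ →+ F₁)
    {n n' k l : ℕ} (m : Fin n → M₀) (s : Fin n → F₀) (s' : Fin n' → F₀)
    (a : Fin n → Fin k → R₀) (a' : Fin n' → Fin k → R₀) (y : Fin k → M₀')
    (h1 : ∀ i, ι₀ (m i) = ∑ j, a i j • y j) (h2 : ∀ i, ∑ j, a' i j • y j = 0)
    (b : Fin (n + n') → Fin l → R₁) (t : Fin l → F₁)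
    (hb : ∀ i, σF (Fin.append s s' i) = ∑ c, b i c • t c)
    (hb' : ∀ j c, ∑ i, b i c * φ (Fin.append (fun i => a i j) (fun i => a' i j) i) = 0) :
    ∑ i, σM (m i) ⊗ₜ[R₁] σF (s i) = 0 := by
  have hs : ∀ i : Fin n, σF (s i) = ∑ c, b (Fin.castAdd n' i) c • t c := by
    intro i
    have := hb (Fin.castAdd n' i)
    rwa [Fin.append_left] at this
  have hμ : ∀ c, ∑ i : Fin n, b (Fin.castAdd n' i) c • σM (m i) = 0 := by
    intro c
    apply hι₁
    rw [map_zero, map_sum]
    simp only [map_smul, hcomm, h1, map_sum, hσM', Finset.smul_sum, smul_smul]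
    rw [Finset.sum_comm]
    have hrel : ∀ j, ∑ i : Fin n, b (Fin.castAdd n' i) c * φ (a i j) =
        - ∑ i' : Fin n', b (Fin.natAdd n i') c * φ (a' i' j) := by
      intro j
      have := hb' j c
      rw [Fin.sum_univ_add] at this
      simp only [Fin.append_left, Fin.append_right] at this
      exact eq_neg_of_add_eq_zero_left this
    simp only [← Finset.sum_smul]
    simp only [hrel]
    simp only [neg_smul, Finset.sum_neg_distrib, Finset.sum_smul]
    rw [neg_eq_zero, Finset.sum_comm]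
    refine Finset.sum_eq_zero (fun i' _ => ?_)
    have h3 : σM' (∑ j, a' i' j • y j) = 0 := by rw [h2, map_zero]
    rw [map_sum] at h3
    simp only [hσM'] at h3
    simp only [mul_smul, ← Finset.smul_sum, h3, smul_zero]
  simp only [hs, TensorProduct.tmul_sum, TensorProduct.tmul_smul]
  rw [Finset.sum_comm]
  refine Finset.sum_eq_zero (fun c _ => ?_)
  simp only [TensorProduct.smul_tmul', ← TensorProduct.sum_tmul, hμ, TensorProduct.zero_tmul]

end alg

variable {C : Type u} [SmallCategory C] {J : GrothendieckTopology C} (O : Sheaf J CommRingCat.{u})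

section sys

variable (F : ModSite.Mod O)

/-- restriction of sections of `F` -/
noncomputable def res {U V : C} (g : V ⟶ U) : ModSite.sect F U →+ ModSite.sect F V :=
  rmap (pv F) g.op

/-- restriction of sections of `O` -/
noncomputable def rho {U V : C} (g : V ⟶ U) : O.obj.obj (op U) →+* O.obj.obj (op V) :=
  (O.obj.map g.op).hom

lemma res_smul {U V : C} (g : V ⟶ U) (a : O.obj.obj (op U)) (m : ModSite.sect F U) :
    res O F g (a • m) = rho O g a • res O F g m :=
  rmap_smul (pv F) g.op a m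

lemma res_comp {U V W : C} (g : V ⟶ U) (h : W ⟶ V) (x : ModSite.sect F U) :
    res O F (h ≫ g) x = res O F h (res O F g x) :=
  rmap_comp (pv F) g.op h.op x

lemma rho_comp {U V W : C} (g : V ⟶ U) (h : W ⟶ V) (a : O.obj.obj (op U)) :
    rho O (h ≫ g) a = rho O h (rho O g a) := by
  unfold rho
  rw [op_comp, O.obj.map_comp]
  rfl

/-- the equational condition of S9095 -/
def EC : Prop :=
  ∀ (U : C) (n : ℕ) (f : Fin n → O.obj.obj (op U)) (s : Fin n → ModSite.sect F U),
    ∑ j, f j • s j = 0 →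
    ∃ S ∈ J U, ∀ ⦃V : C⦄ (g : V ⟶ U), S g →
      ∃ (l : ℕ) (t : Fin l → ModSite.sect F V) (a : Fin n → Fin l → O.obj.obj (op V)),
        (∀ j, (F.val.map g.op).hom (s j) = ∑ k, a j k • t k) ∧
        (∀ k, ∑ j, a j k * (O.obj.map g.op).hom (f j) = 0)

/-- the equational condition for systems of relations -/
theorem EC_sys (hEC : EC O F) : ∀ (K : ℕ) (U : C) (n : ℕ) (A : Fin K → Fin n → O.obj.obj (op U))
    (s : Fin n → ModSite.sect F U), (∀ r, ∑ j, A r j • s j = 0) →
    ∃ S ∈ J U, ∀ ⦃V : C⦄ (g : V ⟶ U), S g →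
      ∃ (l : ℕ) (t : Fin l → ModSite.sect F V) (b : Fin n → Fin l → O.obj.obj (op V)),
        (∀ j, res O F g (s j) = ∑ k, b j k • t k) ∧
        (∀ r k, ∑ j, b j k * rho O g (A r j) = 0) := by
  intro K
  induction K with
  | zero =>
    intro U n A s _
    refine ⟨⊤, J.top_mem U, ?_⟩
    intro V g _
    refine ⟨n, fun k => res O F g (s k), fun j k => if j = k then 1 else 0, ?_, ?_⟩
    · intro j
      simp
    · intro r
      exact Fin.elim0 r
  | succ K ih =>
    intro U n A s hA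
    obtain ⟨S₁, hS₁, hS₁'⟩ := hEC U n (A 0) s (hA 0)
    choose l₁ t1 b1 h1 h1' using hS₁'
    -- the new system over `V`
    have key : ∀ ⦃V : C⦄ (g : V ⟶ U) (hg : S₁ g),
        ∃ S ∈ J V, ∀ ⦃W : C⦄ (h : W ⟶ V), S h →
          ∃ (l : ℕ) (t : Fin l → ModSite.sect F W) (b : Fin (l₁ g hg) → Fin l → O.obj.obj (op W)),
            (∀ k, res O F h (t1 g hg k) = ∑ m, b k m • t m) ∧
            (∀ (r : Fin K) m, ∑ k, b k m *
              rho O h (∑ j, b1 g hg j k * rho O g (A r.succ j)) = 0) := by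
      intro V g hg
      refine ih V (l₁ g hg) (fun r k => ∑ j, b1 g hg j k * rho O g (A r.succ j)) (t1 g hg) ?_
      intro r
      exact alg3 (rho O g) (res O F g) (res_smul O F g) (A r.succ) s (hA r.succ)
        (b1 g hg) (t1 g hg) (h1 g hg)
    choose S₂ hS₂ hS₂' using key
    refine ⟨Sieve.bind S₁.arrows (fun V g hg => S₂ g hg), J.bind_covering hS₁ (fun V g hg => hS₂ g hg),
      ?_⟩
    rintro W w ⟨V, h, g, hg, hh, rfl⟩
    obtain ⟨l, t, b, hb, hb'⟩ := hS₂' g hg h hh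
    refine ⟨l, t, fun j m => ∑ k, rho O h (b1 g hg j k) * b k m, ?_, ?_⟩
    · intro j
      rw [res_comp]
      exact alg2 (rho O h) (res O F h) (res_smul O F h) (b1 g hg j) (t1 g hg) b t hb _ (h1 g hg j)
    · intro r m
      have e : ∀ j, rho O (h ≫ g) (A r j) = rho O h (rho O g (A r j)) := fun j => rho_comp O g h _
      simp only [e]
      rw [alg1 (rho O h) (b1 g hg) b (fun j => rho O g (A r j)) m]
      refine Fin.cases ?_ (fun r' => ?_) r
      · have : ∀ k, ∑ j, b1 g hg j k * rho O g (A 0 j) = 0 := h1' g hg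
        simp only [this, map_zero, mul_zero, Finset.sum_const_zero]
      · exact hb' r' m

end sys

section conv

variable (F : ModSite.Mod O)

theorem mono_shf_map_of_isLocallyInjective {P P' : PM O} (ψ : P ⟶ P')
    [Presheaf.IsLocallyInjective J ((PresheafOfModules.toPresheaf _).map ψ)] :
    Mono ((shf O).map ψ) := by
  have h1 : Sheaf.IsLocallyInjective ((presheafToSheaf J AddCommGrpCat.{u}).map
      ((PresheafOfModules.toPresheaf _).map ψ)) :=
    (Presheaf.isLocallyInjective_presheafToSheaf_map_iff J _).2 inferInstance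
  have h2 : Mono ((presheafToSheaf J AddCommGrpCat.{u}).map
      ((PresheafOfModules.toPresheaf _).map ψ)) := Sheaf.mono_of_isLocallyInjective _
  have h3 : Mono ((SheafOfModules.toSheaf.{u} (ModSite.ringSh O)).map ((shf O).map ψ)) := h2
  exact Functor.mono_of_mono_map (SheafOfModules.toSheaf.{u} (ModSite.ringSh O)) h3

theorem equalizerSieve_mem_of_EC (hEC : EC O F) {M M' : ModSite.Mod O} (ι : M ⟶ M') [Mono ι]
    {V : C} (z : (pv M).obj (op V) ⊗[O.obj.obj (op V)] (pv F).obj (op V))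
    (hz : amap (pvMap ι ▷ pv F) (op V) z = 0) :
    Presheaf.equalizerSieve (F := (pv M ⊗ pv F).presheaf) (X := op V) z 0 ∈ J V := by
  obtain ⟨n, m, s, rfl⟩ := TensorProduct.exists_sum_tmul_eq z
  have h0 : ∑ i, amap (pvMap ι) (op V) (m i) ⊗ₜ[O.obj.obj (op V)] s i = 0 := by
    refine Eq.trans ?_ hz
    refine Eq.trans ?_ (map_sum (amap (pvMap ι ▷ pv F) (op V)) _ _).symm
    exact Finset.sum_congr rfl (fun i _ => rfl)
  have h0' : ∑ i, s i ⊗ₜ[O.obj.obj (op V)] amap (pvMap ι) (op V) (m i) = 0 := by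
    have h := congrArg (TensorProduct.comm (O.obj.obj (op V)) _ _) h0
    rw [map_sum, map_zero] at h
    exact h
  obtain ⟨n', s', k, a, a', y, e1, e2, e3⟩ :=
    alg_vanish (A := O.obj.obj (op V)) s (fun i => amap (pvMap ι) (op V) (m i)) h0'
  let sh : Fin (n + n') → ModSite.sect F V := Fin.append s s'
  let Ah : Fin k → Fin (n + n') → O.obj.obj (op V) :=
    fun j => Fin.append (fun i => a i j) (fun i => a' i j)
  have hAh : ∀ j, ∑ i, Ah j i • sh i = 0 := by
    intro j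
    rw [Fin.sum_univ_add]
    simp only [Ah, sh, Fin.append_left, Fin.append_right]
    exact e3 j
  obtain ⟨S, hS, hS'⟩ := EC_sys O F hEC k V (n + n') Ah sh hAh
  refine J.superset_covering ?_ hS
  intro W g hg
  obtain ⟨l, t, b, hb, hb'⟩ := hS' g hg
  haveI : Mono (pvMap ι) := inferInstanceAs (Mono ((SheafOfModules.forget _).map ι))
  have hinj : Function.Injective ((pvMap ι).app (op W)).hom :=
    PresheafOfModules.injective_of_mono (pvMap ι) (op W)
  show rmap (pv M ⊗ pv F) g.op (∑ i, m i ⊗ₜ s i) = rmap (pv M ⊗ pv F) g.op 0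
  rw [map_zero, map_sum]
  refine Eq.trans ?_ (alg4 (rho O g) ((pvMap ι).app (op V)).hom ((pvMap ι).app (op W)).hom hinj
    (rmap (pv M) g.op) (rmap (pv M') g.op) (rmap_smul (pv M') g.op)
    (fun x => amap_rmap (pvMap ι) g.op x) (res O F g) m s s' a a' y e1 e2 b t hb hb')
  exact Finset.sum_congr rfl (fun i _ => rfl)

theorem isLocallyInjective_of_EC (hEC : EC O F) {M M' : ModSite.Mod O} (ι : M ⟶ M') [Mono ι] :
    Presheaf.IsLocallyInjective J ((PresheafOfModules.toPresheaf _).map (pvMap ι ▷ pv F)) where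
  equalizerSieve_mem {X} x y hxy := by
    obtain ⟨V⟩ := X
    have hxy' : amap (pvMap ι ▷ pv F) (op V) x = amap (pvMap ι ▷ pv F) (op V) y := hxy
    have ht : amap (pvMap ι ▷ pv F) (op V) (x - y) = 0 :=
      (map_sub (amap (pvMap ι ▷ pv F) (op V)) x y).trans (sub_eq_zero.2 hxy')
    refine J.superset_covering ?_ (equalizerSieve_mem_of_EC O F hEC ι (x - y) ht)
    intro W g hg
    have hg' : rmap (pv M ⊗ pv F) g.op (x - y) = rmap (pv M ⊗ pv F) g.op 0 := hg
    show rmap (pv M ⊗ pv F) g.op x = rmap (pv M ⊗ pv F) g.op y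
    have e1 : rmap (pv M ⊗ pv F) g.op (x - y) =
        rmap (pv M ⊗ pv F) g.op x - rmap (pv M ⊗ pv F) g.op y :=
      map_sub (rmap (pv M ⊗ pv F) g.op) x y
    have e2 : rmap (pv M ⊗ pv F) g.op 0 = 0 := map_zero _
    rw [e1, e2, sub_eq_zero] at hg'
    exact hg'

/-- the equational criterion implies flatness -/
theorem isFlat_of_EC (hEC : EC O F) : ModSite.IsFlat F := by
  refine Groth.Agent.Lib.Helper21.FlatSES.isFlat_of_mono F (fun {M M'} ι _ => ?_)
  rw [tens_map]
  haveI := isLocallyInjective_of_EC O F hEC ι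
  exact mono_shf_map_of_isLocallyInjective O (pvMap ι ▷ pv F)

end conv

end Groth.Agent.Lib.Helper21.FlatEq2
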