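import Mathlib
import Groth.Prelude.Def_ModSite2
import Groth.Agent.Lib.Helper21.FlatEq2

/-!
Helper library (helper21): stalks of flat modules on a ringed site are flat.
-/

set_option autoImplicit false
universe u
open CategoryTheory Opposite Limits

namespace Groth.Agent.Lib.Helper21.StalkFlat

open Groth.Agent.Lib.Helper21.FlatEq2

variable {C : Type u} [SmallCategory C] {J : GrothendieckTopology C}
  (p : GrothendieckTopology.Point.{u} J) {O : Sheaf J CommRingCat.{u}} (F : ModSite.Mod O)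

lemma germ_res {X Y : C} (g : Y ⟶ X) (y : p.fiber.obj Y) (s : ModSite.sect F X) :
    ModSite.germ p F Y y (res O F g s) = ModSite.germ p F X (p.fiber.map g y) s :=
  p.toPresheafFiber_w_apply g y (ModSite.toAb F).obj s

lemma germRing_res {X Y : C} (g : Y ⟶ X) (y : p.fiber.obj Y) (r : O.obj.obj (op X)) :
    ModSite.germRing p Y y (rho O g r) = ModSite.germRing p X (p.fiber.map g y) r :=
  p.toPresheafFiber_w_apply g y O.obj r

lemma germ_sum {X : C} (x : p.fiber.obj X) {ι : Type*} (s : Finset ι) (f : ι → ModSite.sect F X) :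
    ModSite.germ p F X x (∑ i ∈ s, f i) = ∑ i ∈ s, ModSite.germ p F X x (f i) :=
  map_sum (p.toPresheafFiber X x (ModSite.toAb F).obj).hom f s

lemma germ_zero {X : C} (x : p.fiber.obj X) : ModSite.germ p F X x 0 = 0 :=
  map_zero (p.toPresheafFiber X x (ModSite.toAb F).obj).hom

lemma germRing_sum {X : C} (x : p.fiber.obj X) {ι : Type*} (s : Finset ι)
    (f : ι → O.obj.obj (op X)) :
    ModSite.germRing p X x (∑ i ∈ s, f i) = ∑ i ∈ s, ModSite.germRing p X x (f i) :=
  map_sum (p.toPresheafFiber X x O.obj).hom f s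

lemma germRing_mul {X : C} (x : p.fiber.obj X) (a b : O.obj.obj (op X)) :
    ModSite.germRing p X x (a * b) = ModSite.germRing p X x a * ModSite.germRing p X x b :=
  map_mul (p.toPresheafFiber X x O.obj).hom a b

lemma germRing_zero {X : C} (x : p.fiber.obj X) : ModSite.germRing (O := O) p X x 0 = 0 :=
  map_zero (p.toPresheafFiber X x O.obj).hom

lemma lift_fin : ∀ {l : ℕ} (r : Fin l → ModSite.stalkRing p O) (m : Fin l → ModSite.stalkAb p F),
    ∃ (X : C) (x : p.fiber.obj X) (r0 : Fin l → O.obj.obj (op X)) (m0 : Fin l → ModSite.sect F X),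
      (∀ i, ModSite.germRing p X x (r0 i) = r i) ∧ (∀ i, ModSite.germ p F X x (m0 i) = m i) := by
  intro l
  induction l with
  | zero =>
    intro r m
    obtain ⟨⟨X, x⟩⟩ := IsCofiltered.nonempty (C := p.fiber.Elements)
    exact ⟨X, x, Fin.elim0, Fin.elim0, fun i => Fin.elim0 i, fun i => Fin.elim0 i⟩
  | succ l ih =>
    intro r m
    obtain ⟨X₁, x₁, r1, m1, hr1, hm1⟩ := ih (fun i => r i.succ) (fun i => m i.succ)
    obtain ⟨X₂, x₂, a, ha⟩ := p.toPresheafFiber_jointly_surjective (P := O.obj) (r 0)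
    obtain ⟨X₃, x₃, c, hc⟩ :=
      p.toPresheafFiber_jointly_surjective (P := (ModSite.toAb F).obj) (m 0)
    let e₁ : p.fiber.Elements := ⟨X₁, x₁⟩
    let e₂ : p.fiber.Elements := ⟨X₂, x₂⟩
    let e₃ : p.fiber.Elements := ⟨X₃, x₃⟩
    let W := IsCofiltered.min (IsCofiltered.min e₁ e₂) e₃
    let g₁ : W ⟶ e₁ := IsCofiltered.minToLeft _ _ ≫ IsCofiltered.minToLeft _ _
    let g₂ : W ⟶ e₂ := IsCofiltered.minToLeft _ _ ≫ IsCofiltered.minToRight _ _
    let g₃ : W ⟶ e₃ := IsCofiltered.minToRight _ _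
    have h₁ : p.fiber.map g₁.1 W.2 = x₁ := g₁.2
    have h₂ : p.fiber.map g₂.1 W.2 = x₂ := g₂.2
    have h₃ : p.fiber.map g₃.1 W.2 = x₃ := g₃.2
    refine ⟨W.1, W.2, Fin.cons (rho O g₂.1 a) (fun i => rho O g₁.1 (r1 i)),
      Fin.cons (res O F g₃.1 c) (fun i => res O F g₁.1 (m1 i)), ?_, ?_⟩
    · intro i
      refine Fin.cases ?_ (fun i => ?_) i
      · rw [Fin.cons_zero, germRing_res, h₂]
        exact ha
      · rw [Fin.cons_succ, germRing_res, h₁]
        exact hr1 i
    · intro i
      refine Fin.cases ?_ (fun i => ?_) i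
      · rw [Fin.cons_zero, germ_res, h₃]
        exact hc
      · rw [Fin.cons_succ, germ_res, h₁]
        exact hm1 i

theorem flat_stalk (hF : ModSite.IsFlat F) :
    Module.Flat (ModSite.stalkRing p O) (ModSite.stalkMod p F) := by
  rw [Module.Flat.iff_forall_isTrivialRelation]
  intro l f x hfx
  obtain ⟨X, x₀, r0, m0, hr0, hm0⟩ := lift_fin p F f x
  have h1 : ModSite.germ p F X x₀ (∑ i, r0 i • m0 i) = ModSite.germ p F X x₀ 0 := by
    rw [germ_sum, germ_zero]
    refine Eq.trans ?_ hfx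
    refine Finset.sum_congr rfl (fun i _ => ?_)
    rw [ModSite.germ_smul, hr0, hm0]
  obtain ⟨Y, g, y, hy, hY⟩ := (p.toPresheafFiber_eq_iff' X x₀ _ _).1 h1
  have hY' : res O F g (∑ i, r0 i • m0 i) = res O F g 0 := hY
  have hrelY : ∑ i, rho O g (r0 i) • res O F g (m0 i) = 0 := by
    rw [map_zero, map_sum] at hY'
    refine Eq.trans ?_ hY'
    refine Finset.sum_congr rfl (fun i _ => ?_)
    exact (res_smul O F g _ _).symm
  obtain ⟨S, hS, hS'⟩ := Groth.Agent.Lib.Helper21.FlatEq.eq_criterion_single O F hF Y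
    (fun i => rho O g (r0 i)) (fun i => res O F g (m0 i)) hrelY
  obtain ⟨V, h, hh, v, hv⟩ := p.jointly_surjective S hS y
  obtain ⟨k, t, a, ha, ha'⟩ := hS' h hh
  refine ⟨k, fun i j => ModSite.germRing p V v (a i j), fun j => ModSite.germ p F V v (t j), ?_, ?_⟩
  · intro i
    have e1 : x i = ModSite.germ p F V v (res O F h (res O F g (m0 i))) := by
      rw [germ_res, hv, germ_res, hy, hm0]
    rw [e1]
    have e2 : res O F h (res O F g (m0 i)) = ∑ j, a i j • t j := ha i
    rw [e2, germ_sum]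
    refine Finset.sum_congr rfl (fun j _ => ?_)
    exact ModSite.germ_smul p F V v _ _
  · intro j
    have e1 : ∀ i, f i = ModSite.germRing p V v (rho O h (rho O g (r0 i))) := by
      intro i
      rw [germRing_res, hv, germRing_res, hy, hr0]
    have e3 : ∑ i, rho O h (rho O g (r0 i)) * a i j = 0 := by
      refine Eq.trans ?_ (ha' j)
      refine Finset.sum_congr rfl (fun i _ => ?_)
      exact mul_comm _ _
    have e4 := congrArg (ModSite.germRing p V v) e3
    rw [germRing_sum, germRing_zero] at e4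
    refine Eq.trans ?_ e4
    refine Finset.sum_congr rfl (fun i _ => ?_)
    rw [e1 i, germRing_mul]

end Groth.Agent.Lib.Helper21.StalkFlat
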