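import Mathlib
import Groth.Prelude.Def_ModSite2
import Groth.Agent.Lib.Helper21.StalkFlat

/-!
Helper library (helper21): a module on a ringed site whose stalks at a conservative family of
points are flat is flat.
-/

set_option autoImplicit false
universe u
open CategoryTheory Opposite Limits

namespace Groth.Agent.Lib.Helper21.StalkFlat2

open Groth.Agent.Lib.Helper21.FlatEq2 Groth.Agent.Lib.Helper21.StalkFlat

variable {C : Type u} [SmallCategory C] {J : GrothendieckTopology C}
  (p : GrothendieckTopology.Point.{u} J) {O : Sheaf J CommRingCat.{u}} (F : ModSite.Mod O)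

lemma exists_res_eq_fin : ∀ {n : ℕ} (X : C) (x : p.fiber.obj X) (u v : Fin n → ModSite.sect F X)
    (_ : ∀ j, ModSite.germ p F X x (u j) = ModSite.germ p F X x (v j)),
    ∃ (Y : C) (f : Y ⟶ X) (y : p.fiber.obj Y), p.fiber.map f y = x ∧
      ∀ j, res O F f (u j) = res O F f (v j) := by
  intro n
  induction n with
  | zero =>
    intro X x u v _
    exact ⟨X, 𝟙 X, x, by simp, fun j => Fin.elim0 j⟩
  | succ n ih =>
    intro X x u v h
    obtain ⟨Y₁, f₁, y₁, hy₁, htail⟩ := ih X x (fun j => u j.succ) (fun j => v j.succ)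
      (fun j => h j.succ)
    have h0 : ModSite.germ p F Y₁ y₁ (res O F f₁ (u 0)) =
        ModSite.germ p F Y₁ y₁ (res O F f₁ (v 0)) := by
      rw [germ_res, germ_res, hy₁]
      exact h 0
    obtain ⟨Y₂, f₂, y₂, hy₂, hhead⟩ := (p.toPresheafFiber_eq_iff' Y₁ y₁ _ _).1 h0
    have hhead' : res O F f₂ (res O F f₁ (u 0)) = res O F f₂ (res O F f₁ (v 0)) := hhead
    refine ⟨Y₂, f₂ ≫ f₁, y₂, ?_, ?_⟩
    · rw [Functor.map_comp_apply, hy₂, hy₁]
    · intro j
      refine Fin.cases ?_ (fun j => ?_) j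
      · rw [res_comp, res_comp]
        exact hhead'
      · rw [res_comp, res_comp]
        exact congrArg (res O F f₂) (htail j)

lemma exists_rho_eq_fin : ∀ {n : ℕ} (X : C) (x : p.fiber.obj X) (u v : Fin n → O.obj.obj (op X))
    (_ : ∀ j, ModSite.germRing p X x (u j) = ModSite.germRing p X x (v j)),
    ∃ (Y : C) (f : Y ⟶ X) (y : p.fiber.obj Y), p.fiber.map f y = x ∧
      ∀ j, rho O f (u j) = rho O f (v j) := by
  intro n
  induction n with
  | zero =>
    intro X x u v _
    exact ⟨X, 𝟙 X, x, by simp, fun j => Fin.elim0 j⟩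
  | succ n ih =>
    intro X x u v h
    obtain ⟨Y₁, f₁, y₁, hy₁, htail⟩ := ih X x (fun j => u j.succ) (fun j => v j.succ)
      (fun j => h j.succ)
    have h0 : ModSite.germRing p Y₁ y₁ (rho O f₁ (u 0)) =
        ModSite.germRing p Y₁ y₁ (rho O f₁ (v 0)) := by
      rw [germRing_res, germRing_res, hy₁]
      exact h 0
    obtain ⟨Y₂, f₂, y₂, hy₂, hhead⟩ := (p.toPresheafFiber_eq_iff' Y₁ y₁ _ _).1 h0
    have hhead' : rho O f₂ (rho O f₁ (u 0)) = rho O f₂ (rho O f₁ (v 0)) := hhead
    refine ⟨Y₂, f₂ ≫ f₁, y₂, ?_, ?_⟩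
    · rw [Functor.map_comp_apply, hy₂, hy₁]
    · intro j
      refine Fin.cases ?_ (fun j => ?_) j
      · rw [rho_comp, rho_comp]
        exact hhead'
      · rw [rho_comp, rho_comp]
        exact congrArg (rho O f₂) (htail j)

lemma lift_fintype {ι : Type} [Fintype ι] (r : ι → ModSite.stalkRing p O)
    (m : ι → ModSite.stalkAb p F) :
    ∃ (X : C) (x : p.fiber.obj X) (r0 : ι → O.obj.obj (op X)) (m0 : ι → ModSite.sect F X),
      (∀ i, ModSite.germRing p X x (r0 i) = r i) ∧ (∀ i, ModSite.germ p F X x (m0 i) = m i) := by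
  let e := Fintype.equivFin ι
  obtain ⟨X, x, r0, m0, h1, h2⟩ := lift_fin p F (fun i => r (e.symm i)) (fun i => m (e.symm i))
  refine ⟨X, x, fun i => r0 (e i), fun i => m0 (e i), ?_, ?_⟩
  · intro i
    have := h1 (e i)
    rwa [Equiv.symm_apply_apply] at this
  · intro i
    have := h2 (e i)
    rwa [Equiv.symm_apply_apply] at this

/-- the sieve of arrows over which a given relation becomes trivial -/
def trivSieve (U : C) {n : ℕ} (f : Fin n → O.obj.obj (op U)) (s : Fin n → ModSite.sect F U) :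
    Sieve U where
  arrows V g := ∃ (l : ℕ) (t : Fin l → ModSite.sect F V) (a : Fin n → Fin l → O.obj.obj (op V)),
    (∀ j, res O F g (s j) = ∑ k, a j k • t k) ∧ (∀ k, ∑ j, a j k * rho O g (f j) = 0)
  downward_closed := by
    rintro V W g ⟨l, t, a, h1, h2⟩ h
    refine ⟨l, fun k => res O F h (t k), fun j k => rho O h (a j k), ?_, ?_⟩
    · intro j
      rw [res_comp, h1, map_sum]
      exact Finset.sum_congr rfl (fun k _ => res_smul O F h _ _)
    · intro k
      have h3 := congrArg (rho O h) (h2 k)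
      rw [map_sum, map_zero] at h3
      refine Eq.trans ?_ h3
      refine Finset.sum_congr rfl (fun j _ => ?_)
      rw [map_mul, rho_comp]

/-- at a point with flat stalk, a relation is trivial on a neighbourhood -/
theorem exists_mem_trivSieve (hp : Module.Flat (ModSite.stalkRing p O) (ModSite.stalkMod p F))
    (U : C) {n : ℕ} (f : Fin n → O.obj.obj (op U)) (s : Fin n → ModSite.sect F U)
    (hrel : ∑ j, f j • s j = 0) (x : p.fiber.obj U) :
    ∃ (V : C) (g : V ⟶ U) (_ : trivSieve F U f s g) (v : p.fiber.obj V), p.fiber.map g v = x := by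
  -- the relation in the stalk
  have h0 : ∑ j, ModSite.germRing p U x (f j) • (ModSite.germ p F U x (s j) : ModSite.stalkMod p F)
      = 0 := by
    have := congrArg (ModSite.germ p F U x) hrel
    rw [germ_sum, germ_zero] at this
    refine Eq.trans ?_ this
    exact Finset.sum_congr rfl (fun j _ => (ModSite.germ_smul p F U x _ _).symm)
  obtain ⟨k, a, y, hy, ha⟩ := hp.isTrivialRelation_of_sum_smul_eq_zero h0
  -- lift `a` and `y` to a neighbourhood
  obtain ⟨X₁, x₁, r0, m0, hr0, hm0⟩ := lift_fintype p F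
    (ι := (Fin n × Fin k) ⊕ Fin k)
    (Sum.elim (fun jk => a jk.1 jk.2) (fun _ => 0)) (Sum.elim (fun _ => 0) y)
  let e₁ : p.fiber.Elements := ⟨X₁, x₁⟩
  let e₂ : p.fiber.Elements := ⟨U, x⟩
  let W := IsCofiltered.min e₁ e₂
  let g₁ : W ⟶ e₁ := IsCofiltered.minToLeft _ _
  let g : W ⟶ e₂ := IsCofiltered.minToRight _ _
  have hw₁ : p.fiber.map g₁.1 W.2 = x₁ := g₁.2
  have hw : p.fiber.map g.1 W.2 = x := g.2
  let a1 : Fin n → Fin k → O.obj.obj (op W.1) := fun j c => rho O g₁.1 (r0 (Sum.inl (j, c)))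
  let t1 : Fin k → ModSite.sect F W.1 := fun c => res O F g₁.1 (m0 (Sum.inr c))
  have ha1 : ∀ j c, ModSite.germRing p W.1 W.2 (a1 j c) = a j c := by
    intro j c
    show ModSite.germRing p W.1 W.2 (rho O g₁.1 _) = _
    rw [germRing_res, hw₁]
    exact hr0 (Sum.inl (j, c))
  have ht1 : ∀ c, ModSite.germ p F W.1 W.2 (t1 c) = y c := by
    intro c
    show ModSite.germ p F W.1 W.2 (res O F g₁.1 _) = _
    rw [germ_res, hw₁]
    exact hm0 (Sum.inr c)
  -- module equations in the stalk
  have hM : ∀ j, ModSite.germ p F W.1 W.2 (res O F g.1 (s j)) =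
      ModSite.germ p F W.1 W.2 (∑ c, a1 j c • t1 c) := by
    intro j
    rw [germ_res, hw, germ_sum]
    refine (hy j).trans ?_
    refine Finset.sum_congr rfl (fun c _ => ?_)
    rw [ModSite.germ_smul, ha1, ht1]
  obtain ⟨Y, h, y', hy', hMY⟩ := exists_res_eq_fin p F W.1 W.2 _ _ hM
  -- ring equations in the stalk
  have hR : ∀ c, ModSite.germRing p Y y' (rho O h (∑ j, a1 j c * rho O g.1 (f j))) =
      ModSite.germRing p Y y' 0 := by
    intro c
    rw [germRing_res, hy', germRing_sum, germRing_zero]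
    refine Eq.trans ?_ (ha c)
    refine Finset.sum_congr rfl (fun j _ => ?_)
    rw [germRing_mul, ha1, germRing_res, hw]
    exact mul_comm _ _
  obtain ⟨Z, h', z, hz, hRZ⟩ := exists_rho_eq_fin p Y y' _ _ hR
  -- the data over `Z`
  let q : Z ⟶ W.1 := h' ≫ h
  have hMq : ∀ j, res O F q (res O F g.1 (s j)) = res O F q (∑ c, a1 j c • t1 c) := by
    intro j
    show res O F (h' ≫ h) _ = res O F (h' ≫ h) _
    rw [res_comp, res_comp]
    exact congrArg (res O F h') (hMY j)
  have hRq : ∀ c, rho O q (∑ j, a1 j c * rho O g.1 (f j)) = 0 := by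
    intro c
    show rho O (h' ≫ h) _ = 0
    rw [rho_comp]
    exact (hRZ c).trans (map_zero _)
  refine ⟨Z, q ≫ g.1, ⟨k, fun c => res O F q (t1 c), fun j c => rho O q (a1 j c), ?_, ?_⟩, z, ?_⟩
  · intro j
    rw [res_comp, hMq, map_sum]
    exact Finset.sum_congr rfl (fun c _ => res_smul O F q _ _)
  · intro c
    refine Eq.trans ?_ (hRq c)
    rw [map_sum]
    refine Finset.sum_congr rfl (fun j _ => ?_)
    rw [map_mul, rho_comp]
  · show p.fiber.map ((h' ≫ h) ≫ g.1) z = x
    rw [Functor.map_comp_apply, Functor.map_comp_apply, hz, hy', hw]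

/-- a module whose stalks at a conservative family of points are flat satisfies the equational
criterion, hence is flat -/
theorem isFlat_of_flat_stalks (P : ObjectProperty (GrothendieckTopology.Point.{u} J))
    (hP : P.IsConservativeFamilyOfPoints)
    (hst : ∀ p : GrothendieckTopology.Point.{u} J, P p →
      Module.Flat (ModSite.stalkRing p O) (ModSite.stalkMod p F)) : ModSite.IsFlat F := by
  refine isFlat_of_EC O F ?_
  intro U n f s hrel
  refine ⟨trivSieve F U f s, ?_, ?_⟩
  · let ι : Type u := Σ V : C, {g : V ⟶ U // trivSieve F U f s g}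
    have hle : Sieve.ofArrows (fun i : ι => i.1) (fun i => i.2.1) ≤ trivSieve F U f s := by
      rw [Sieve.ofArrows, Sieve.generate_le_iff]
      rintro V g ⟨i⟩
      exact i.2.2
    refine J.superset_covering hle ?_
    rw [hP.jointly_reflect_ofArrows_mem]
    intro Φ x
    obtain ⟨V, g, hg, v, hv⟩ := exists_mem_trivSieve Φ.obj F (hst Φ.obj Φ.property) U f s hrel x
    exact ⟨⟨V, g, hg⟩, v, hv⟩
  · intro V g hg
    obtain ⟨l, t, a, h1, h2⟩ := hg
    exact ⟨l, t, a, h1, h2⟩

end Groth.Agent.Lib.Helper21.StalkFlat2
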