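import Mathlib
import Groth.Prelude.Def_CohTop

/-!
# Pushforward of abelian sheaves along an inducing map (e.g. a closed embedding)

`Opens.map i` is cover dense and locally full for `i` inducing, hence `i_*` is fully faithful, and
sheaves on the target for the induced topology are exactly the direct images.
-/

set_option autoImplicit false

open CategoryTheory Limits Opposite TopologicalSpace

universe u

namespace Groth.Agent.Lib.helper21.ClosedPush

variable {Z X : TopCat.{u}} (i : Z ⟶ X)

lemma exists_map_eq (hi : Topology.IsInducing i) (W : Opens Z) :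
    ∃ V : Opens X, (Opens.map i).obj V = W := by
  obtain ⟨V, hV, hVW⟩ := hi.isOpen_iff.1 W.2
  exact ⟨⟨V, hV⟩, Opens.ext hVW⟩

lemma mem_grothendieckTopology {Y : TopCat.{u}} {W : Opens Y} (S : Sieve W)
    (h : ∀ x ∈ W, ∃ (W' : Opens Y) (f : W' ⟶ W), S f ∧ x ∈ W') :
    S ∈ Opens.grothendieckTopology Y W := h

lemma isCoverDense (hi : Topology.IsInducing i) :
    (Opens.map i).IsCoverDense (Opens.grothendieckTopology Z) where
  is_cover W := by
    obtain ⟨V, rfl⟩ := exists_map_eq i hi W
    apply mem_grothendieckTopology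
    intro x hx
    exact ⟨(Opens.map i).obj V, 𝟙 _, Presieve.in_coverByImage (Opens.map i) (𝟙 _), hx⟩

lemma isLocallyFull : (Opens.map i).IsLocallyFull (Opens.grothendieckTopology Z) where
  functorPushforward_imageSieve_mem {V V'} f := by
    apply mem_grothendieckTopology
    intro x hx
    have hle : (Opens.map i).obj V ≤ (Opens.map i).obj V' := leOfHom f
    refine ⟨(Opens.map i).obj (V ⊓ V'), (Opens.map i).map (homOfLE inf_le_left), ?_, ⟨hx, hle hx⟩⟩
    exact ⟨V ⊓ V', homOfLE inf_le_left, 𝟙 _, ⟨homOfLE inf_le_right, Subsingleton.elim _ _⟩,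
      (Category.id_comp _).symm⟩

instance isLocallyFaithful : (Opens.map i).IsLocallyFaithful (Opens.grothendieckTopology Z) where
  functorPushforward_equalizer_mem {V V'} f₁ f₂ _ := by
    apply mem_grothendieckTopology
    intro x hx
    exact ⟨(Opens.map i).obj V, 𝟙 _, ⟨V, 𝟙 _, 𝟙 _, Subsingleton.elim _ _, (Category.id_comp _).symm⟩, hx⟩

lemma push_full (hi : Topology.IsInducing i) : (CohTop.push i).Full := by
  haveI := isCoverDense i hi
  haveI := isLocallyFull i
  exact Functor.IsCoverDense.full_sheafPushforwardContinuous (G := Opens.map i)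
    (A := AddCommGrpCat.{u}) (J := Opens.grothendieckTopology X)
    (K := Opens.grothendieckTopology Z)

lemma push_faithful (hi : Topology.IsInducing i) : (CohTop.push i).Faithful := by
  haveI := isCoverDense i hi
  haveI := isLocallyFull i
  exact Functor.IsCoverDense.faithful_sheafPushforwardContinuous (G := Opens.map i)
    (A := AddCommGrpCat.{u}) (J := Opens.grothendieckTopology X)
    (K := Opens.grothendieckTopology Z)

section induced

variable (hi : Topology.IsClosedEmbedding i)

/-- the topology on `Opens X` induced from `Z` -/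
noncomputable abbrev Jind : GrothendieckTopology (Opens X) :=
  (Opens.map i).inducedTopology (Opens.grothendieckTopology Z)

/-- the sieve of opens not meeting the range -/
def S₀ (V : Opens X) : Sieve V where
  arrows Y _ := (Opens.map i).obj Y = ⊥
  downward_closed {Y Y'} f hf g := by
    apply le_antisymm _ bot_le
    exact ((Opens.map i).map g).le.trans (le_of_eq hf)

include hi in
lemma sup_S₀_mem (V : Opens X) (S : Sieve V)
    (hS : S.functorPushforward (Opens.map i) ∈ Opens.grothendieckTopology Z ((Opens.map i).obj V)) :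
    S ⊔ S₀ i V ∈ Opens.grothendieckTopology X V := by
  apply mem_grothendieckTopology
  intro x hx
  by_cases hxr : x ∈ Set.range i
  · obtain ⟨z, rfl⟩ := hxr
    obtain ⟨W', f, ⟨Y, g, l, hg, -⟩, hz⟩ := hS z hx
    exact ⟨Y, g, Or.inl hg, l.le hz⟩
  · let C : Opens X := ⟨(Set.range i)ᶜ, hi.isClosed_range.isOpen_compl⟩
    refine ⟨V ⊓ C, homOfLE inf_le_left, Or.inr ?_, ⟨hx, hxr⟩⟩
    apply le_antisymm _ bot_le
    rintro z ⟨-, hz⟩
    exact (hz ⟨z, rfl⟩).elim

variable (M : CohTop.Ab X)
  (hM : ∀ V : Opens X, (Opens.map i).obj V = ⊥ → IsZero (M.obj.obj (op V)))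

include hi hM in
/-- a sheaf vanishing on opens not meeting the range is a sheaf for the induced topology -/
theorem isSheaf_Jind : Presheaf.IsSheaf (Jind i) M.obj := by
  haveI := isCoverDense i hi.isInducing
  haveI := isLocallyFull i
  intro E V S hS
  rw [Functor.mem_inducedTopology_iff_of_isCoverDense] at hS
  have hR := sup_S₀_mem i hi V S hS
  refine Presieve.isSheafFor_trans _ (S ⊔ S₀ i V) S (M.cond E _ hR) ?_ ?_
  · intro Y f _
    exact (M.cond E _ ((Opens.grothendieckTopology X).pullback_stable f hR)).isSeparatedFor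
  · rintro Y f (hf | hf)
    · rw [Sieve.pullback_eq_top_of_mem S hf]
      exact Presieve.isSheafFor_top _
    · have hz : ∀ (Y' : Opens X) (g : Y' ⟶ Y), IsZero (M.obj.obj (op Y')) := fun Y' g =>
        hM Y' ((S₀ i V).downward_closed hf g)
      intro x _
      refine ⟨(hM Y hf).from_ E, ?_, ?_⟩
      · intro Y' g _
        exact (hz Y' g).eq_of_tgt _ _
      · intro t _
        exact (hM Y hf).eq_of_tgt _ _

include hi hM in
/-- a sheaf vanishing on opens not meeting the range is a direct image -/
theorem exists_push_iso : ∃ G' : CohTop.Ab Z, Nonempty ((CohTop.push i).obj G' ≅ M) := by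
  haveI := isCoverDense i hi.isInducing
  haveI := isLocallyFull i
  let M' : Sheaf (Jind i) AddCommGrpCat.{u} := ⟨M.obj, isSheaf_Jind i hi M hM⟩
  let Φ := (Opens.map i).sheafPushforwardContinuous AddCommGrpCat.{u} (Jind i)
    (Opens.grothendieckTopology Z)
  haveI : Φ.IsEquivalence := inferInstance
  let e : Φ.obj (Φ.objPreimage M') ≅ M' := Φ.objObjPreimageIso M'
  let e' : (Opens.map i).op ⋙ (Φ.objPreimage M').obj ≅ M.obj :=
    (sheafToPresheaf (Jind i) AddCommGrpCat.{u}).mapIso e
  exact ⟨Φ.objPreimage M', ⟨(fullyFaithfulSheafToPresheaf (Opens.grothendieckTopology X)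
    AddCommGrpCat.{u}).preimageIso e'⟩⟩

end induced

end Groth.Agent.Lib.helper21.ClosedPush
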