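import Mathlib
import Groth.Agent.Lib.Helper21.ClosedPush
import Groth.Agent.Lib.Helper16.PushColim3

/-!
# The direct image of modules along a closed immersion is fully faithful (helper21)

`i : Z ⟶ X` a closed immersion of schemes.  `i_* : Z.Modules ⥤ X.Modules` is faithful and full
(`faithful_pushforward`, `full_pushforward`); in particular `i_* A ≅ i_* B` implies `A ≅ B`
(`isoOfPushIso`).
-/

set_option autoImplicit false
universe u

open CategoryTheory CategoryTheory.Limits AlgebraicGeometry Opposite TopologicalSpace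

namespace Groth.Agent.Lib.helper21.ClosedFF

variable {Z X : Scheme.{u}} (i : Z ⟶ X)

/-- on abelian sheaves the direct image of a morphism of modules is the direct image of the
underlying morphism of abelian sheaves -/
lemma toSheaf_map_pushforward {A B : Z.Modules} (φ : A ⟶ B) :
    (SheafOfModules.toSheaf X.ringCatSheaf).map ((Scheme.Modules.pushforward i).map φ) =
      (CohTop.push i.base).map ((SheafOfModules.toSheaf Z.ringCatSheaf).map φ) := rfl

theorem faithful_pushforward [IsClosedImmersion i] : (Scheme.Modules.pushforward i).Faithful := by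
  haveI := Groth.Agent.Lib.helper21.ClosedPush.push_faithful i.base i.isClosedEmbedding.isInducing
  refine ⟨fun {A B} φ ψ h => ?_⟩
  have h1 := congrArg (SheafOfModules.toSheaf X.ringCatSheaf).map h
  rw [toSheaf_map_pushforward, toSheaf_map_pushforward] at h1
  exact (SheafOfModules.toSheaf Z.ringCatSheaf).map_injective ((CohTop.push i.base).map_injective h1)

theorem full_pushforward [IsClosedImmersion i] : (Scheme.Modules.pushforward i).Full := by
  haveI := Groth.Agent.Lib.helper21.ClosedPush.push_full i.base i.isClosedEmbedding.isInducing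
  refine ⟨fun {A B} f => ?_⟩
  let f' : (CohTop.push i.base).obj ((SheafOfModules.toSheaf Z.ringCatSheaf).obj A) ⟶
      (CohTop.push i.base).obj ((SheafOfModules.toSheaf Z.ringCatSheaf).obj B) :=
    (SheafOfModules.toSheaf X.ringCatSheaf).map f
  obtain ⟨g, hg⟩ := (CohTop.push i.base).map_surjective f'
  let G : ∀ W : Z.Opens, Γ(A, W) → Γ(B, W) := fun W m => g.hom.app (op W) m
  -- `g` agrees with `f` on opens of the form `i⁻¹ U`
  have key : ∀ (U : X.Opens) (m : Γ(A, i ⁻¹ᵁ U)), G (i ⁻¹ᵁ U) m = f.app U m := by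
    intro U m
    have h1 := congrArg (fun φ => φ.hom.app (op U)) hg
    exact congrArg (fun φ => φ.hom m) h1
  have hres : ∀ {W W' : Z.Opens} (h : W' ≤ W) (m : Γ(A, W)),
      B.presheaf.map (homOfLE h).op (G W m) = G W' (A.presheaf.map (homOfLE h).op m) := by
    intro W W' h m
    have n1 := congrArg (fun φ => φ.hom m) (g.hom.naturality (homOfLE h).op)
    exact n1.symm
  -- linearity over affine opens `i⁻¹ U`
  have hlinU : ∀ (U : X.Opens) (_ : IsAffineOpen U) (r : Γ(Z, i ⁻¹ᵁ U)) (m : Γ(A, i ⁻¹ᵁ U)),
      G (i ⁻¹ᵁ U) (r • m) = r • G (i ⁻¹ᵁ U) m := by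
    intro U hU r m
    obtain ⟨a, rfl⟩ := i.app_surjective U hU r
    rw [key, key]
    exact Scheme.Modules.Hom.app_smul f a m
  have hlin : ∀ (W : Z.Opens) (r : Γ(Z, W)) (m : Γ(A, W)), G W (r • m) = r • G W m := by
    intro W r m
    refine TopCat.Presheaf.IsSheaf.section_ext B.isSheaf (U := op W) (fun x hx => ?_)
    obtain ⟨V, hV⟩ := Groth.Agent.Lib.helper21.ClosedPush.exists_map_eq i.base
      i.isClosedEmbedding.isInducing W
    have hxV : i.base x ∈ V := by
      have : x ∈ (Opens.map i.base).obj V := hV ▸ hx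
      exact this
    obtain ⟨_, ⟨U, hU : IsAffineOpen U, rfl⟩, hxU, hUV⟩ :=
      X.isBasis_affineOpens.exists_subset_of_mem_open hxV V.2
    have hle : i ⁻¹ᵁ U ≤ W := by
      rw [← hV]
      exact fun z hz => hUV hz
    refine ⟨i ⁻¹ᵁ U, hle, hxU, ?_⟩
    rw [hres hle, Scheme.Modules.map_smul A (homOfLE hle) r m,
      Scheme.Modules.map_smul B (homOfLE hle) r, hres hle, hlinU U hU]
  refine ⟨⟨PresheafOfModules.homMk g.hom (fun W r m => hlin W.unop r m)⟩, ?_⟩
  apply (SheafOfModules.toSheaf X.ringCatSheaf).map_injective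
  rw [toSheaf_map_pushforward]
  refine Eq.trans ?_ hg
  rfl

/-- `i_* A ≅ i_* B` implies `A ≅ B` -/
noncomputable def isoOfPushIso [IsClosedImmersion i] {A B : Z.Modules}
    (e : (Scheme.Modules.pushforward i).obj A ≅ (Scheme.Modules.pushforward i).obj B) : A ≅ B :=
  haveI := full_pushforward i
  haveI := faithful_pushforward i
  (Scheme.Modules.pushforward i).preimageIso e

end Groth.Agent.Lib.helper21.ClosedFF
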