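import Mathlib

/-!
# K-injective complexes are preserved by right adjoints of exact functors
-/

open CategoryTheory Limits

universe v v' u u'

namespace Groth.Agent.Lib.Helper21.KInjAdj

variable {A : Type u} [Category.{v} A] [Abelian A] {B : Type u'} [Category.{v'} B] [Abelian B]
  {L : B ⥤ A} {G : A ⥤ B} (adj : L ⊣ G)

lemma aux1 {X Y : B} {P Q : A} (a : X ⟶ G.obj P) (b : Y ⟶ G.obj Q) (d : X ⟶ Y) (e : P ⟶ Q)
    (h : a ≫ G.map e = d ≫ b) :
    (L.map a ≫ adj.counit.app P) ≫ e = L.map d ≫ L.map b ≫ adj.counit.app Q := by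
  have h2 : L.map (G.map e) ≫ adj.counit.app Q = adj.counit.app P ≫ e := adj.counit.naturality e
  rw [Category.assoc, ← h2, ← Category.assoc, ← L.map_comp, h, L.map_comp, Category.assoc]

lemma aux2 {X : B} {P : A} (a : X ⟶ G.obj P) :
    adj.unit.app X ≫ G.map (L.map a ≫ adj.counit.app P) = a := by
  simp

variable [L.Additive] [G.Additive]

/-- the unit as a morphism of complexes -/
noncomputable def unitCx (K : CochainComplex B ℤ) :
    K ⟶ (G.mapHomologicalComplex (ComplexShape.up ℤ)).obj
      ((L.mapHomologicalComplex (ComplexShape.up ℤ)).obj K) where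
  f n := adj.unit.app (K.X n)
  comm' i j _ := by
    show adj.unit.app (K.X i) ≫ G.map (L.map (K.d i j)) = K.d i j ≫ adj.unit.app (K.X j)
    exact (adj.unit.naturality (K.d i j)).symm

/-- the adjunct of a morphism of complexes -/
noncomputable def adjunctCx {K : CochainComplex B ℤ} {I : CochainComplex A ℤ}
    (f : K ⟶ (G.mapHomologicalComplex (ComplexShape.up ℤ)).obj I) :
    (L.mapHomologicalComplex (ComplexShape.up ℤ)).obj K ⟶ I where
  f n := L.map (f.f n) ≫ adj.counit.app (I.X n)
  comm' i j _ := aux1 adj (f.f i) (f.f j) (K.d i j) (I.d i j) (f.comm i j)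

lemma unitCx_adjunctCx {K : CochainComplex B ℤ} {I : CochainComplex A ℤ}
    (f : K ⟶ (G.mapHomologicalComplex (ComplexShape.up ℤ)).obj I) :
    unitCx adj K ≫ (G.mapHomologicalComplex (ComplexShape.up ℤ)).map (adjunctCx adj f) = f := by
  ext n
  exact aux2 adj (f.f n)

omit [G.Additive] in
lemma acyclic_map [L.PreservesHomology] (K : CochainComplex B ℤ) (hK : K.Acyclic) :
    ((L.mapHomologicalComplex (ComplexShape.up ℤ)).obj K).Acyclic := by
  intro i
  have h := hK i
  rw [HomologicalComplex.exactAt_iff] at h ⊢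
  exact h.map L

include adj in
theorem isKInjective_obj [L.PreservesHomology] (I : CochainComplex A ℤ) [I.IsKInjective] :
    CochainComplex.IsKInjective ((G.mapHomologicalComplex (ComplexShape.up ℤ)).obj I) where
  nonempty_homotopy_zero {K} f hK := by
    have h : Homotopy (adjunctCx adj f) 0 :=
      CochainComplex.IsKInjective.homotopyZero _ (acyclic_map K hK)
    have h2 := (G.mapHomotopy h).compLeft (unitCx adj K)
    rw [unitCx_adjunctCx] at h2
    exact ⟨h2.trans (Homotopy.ofEq (by simp))⟩

end Groth.Agent.Lib.Helper21.KInjAdj
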