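import Mathlib
import Groth.Prelude.Def_ModSite
import Groth.Agent.Lib.Helper1.QcSections

/-!
# Modules of the form `Coker(⊕ j_! O_{V_j} ⟶ ⊕ j_! O_{U_i})` on a ringed site (helper21)

`B` a set of quasi-compact objects such that every object has a covering by members of `B`.

* `exists_finite_refinement`: a covering sieve of a quasi-compact object contains finitely many arrows from
  members of `B` which already generate a covering sieve.
* `IsTypeA O B F`, `isTypeA_of_finite` (reindexing).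
* `zeroSieve`, `eq_zero_of_zeroSieve`.
* `isTypeA_cokernel`: cokernels of morphisms between modules of type A are of type A.
-/

set_option autoImplicit false
universe u

open CategoryTheory CategoryTheory.Limits Opposite

namespace Groth.Agent.Lib.helper21.TypeA

open Groth.Agent.H1.QcSections Groth.Agent.H1.FreeOnLoc

section

variable {C : Type u} [SmallCategory C] {J : GrothendieckTopology C} (B : Set C)

/-- finite refinement by members of `B` of a covering of a quasi-compact object -/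
lemma exists_finite_refinement
    (hB₁ : ∀ X : C, ∃ (κ : Type u) (Y : κ → C) (g : ∀ k, Y k ⟶ X), Sieve.ofArrows Y g ∈ J X ∧ ∀ k, Y k ∈ B)
    {U : C} (hU : CohCx.IsQcObject ((presheafToSheaf J (Type u)).obj (yoneda.obj U)))
    (T : Sieve U) (hT : T ∈ J U) :
    ∃ (m : ℕ) (Z : Fin m → C) (g : ∀ k, Z k ⟶ U), (∀ k, Z k ∈ B) ∧ (∀ k, T (g k)) ∧
      ∀ G : Sieve U, (∀ k, G (g k)) → G ∈ J U := by
  classical
  let TB : Sieve U :=
    { arrows := fun V h => ∃ (V' : C) (a : V ⟶ V') (b : V' ⟶ U), V' ∈ B ∧ T b ∧ a ≫ b = h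
      downward_closed := by
        rintro V W h ⟨V', a, b, hV', hb, rfl⟩ k
        exact ⟨V', k ≫ a, b, hV', hb, Category.assoc _ _ _⟩ }
  have hTB : TB ∈ J U := by
    refine J.transitive hT TB ?_
    intro Y g hg
    obtain ⟨κ, Y', g', hcov, hY'⟩ := hB₁ Y
    refine J.superset_covering ?_ hcov
    rintro W _ ⟨W', a, _, ⟨k⟩, rfl⟩
    change TB ((a ≫ g' k) ≫ g)
    exact ⟨Y' k, a, g' k ≫ g, hY' k, T.downward_closed hg _, (Category.assoc _ _ _).symm⟩
  obtain ⟨t, ht⟩ := hU (Σ V : C, {g : V ⟶ U // TB g}) (fun i => hSh J i.1)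
    (fun i => hMap J i.2.1) (jointlySurjective_of_covering TB hTB)
  choose V' a b hV' hb hab using fun i : (Σ V : C, {g : V ⟶ U // TB g}) => i.2.2
  let e := t.equivFin
  refine ⟨t.card, fun k => V' (e.symm k).1, fun k => b (e.symm k).1, fun k => hV' _, fun k => hb _, ?_⟩
  intro G hG
  refine covering_of_jointlySurjective (fun i : (Σ V : C, {g : V ⟶ U // TB g}) => i.1)
      (fun i => i.2.1) t ht G ?_
  intro i hi
  have h1 : G (b (e.symm (e ⟨i, hi⟩)).1) := hG (e ⟨i, hi⟩)
  rw [Equiv.symm_apply_apply] at h1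
  have h2 : i.2.1 = a i ≫ b i := (hab i).symm
  rw [h2]
  exact G.downward_closed h1 _


end

variable {C : Type u} [SmallCategory C] {J : GrothendieckTopology C} (O : Sheaf J CommRingCat.{u})
  (B : Set C)

/-- modules of the form `Coker(⊕ j_! O_{V_j} ⟶ ⊕ j_! O_{U_i})` with finitely many `U_i, V_j ∈ B` -/
def IsTypeA (F : ModSite.Mod O) : Prop :=
  ∃ (m' n' : ℕ) (V' : Fin m' → C) (U' : Fin n' → C)
    (ψ : (∐ fun j => ModSite.freeOn O (V' j)) ⟶ ∐ fun i => ModSite.freeOn O (U' i)),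
    (∀ j, V' j ∈ B) ∧ (∀ i, U' i ∈ B) ∧ Nonempty (F ≅ cokernel ψ)

/-- the index type of the relations may be any finite type -/
lemma isTypeA_of_finite {ι₁ : Type} [Finite ι₁] (V : ι₁ → C) {n : ℕ} (U : Fin n → C)
    (ψ : (∐ fun j => ModSite.freeOn O (V j)) ⟶ ∐ fun i => ModSite.freeOn O (U i))
    (hV : ∀ j, V j ∈ B) (hU : ∀ i, U i ∈ B) (F : ModSite.Mod O) (e : F ≅ cokernel ψ) :
    IsTypeA O B F := by
  let ε : Fin (Nat.card ι₁) ≃ ι₁ := (Finite.equivFin ι₁).symm
  let r := Sigma.reindex ε (fun j => ModSite.freeOn O (V j))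
  refine ⟨Nat.card ι₁, n, fun k => V (ε k), U, r.hom ≫ ψ, fun k => hV _, hU, ⟨e ≪≫ ?_⟩⟩
  exact (cokernelEpiComp r.hom ψ).symm

/-- the sieve of arrows along which a section vanishes -/
def zeroSieve {X : C} {M : ModSite.Mod O} (s : ModSite.freeOn O X ⟶ M) : Sieve X where
  arrows := fun _ a => fmap O a ≫ s = 0
  downward_closed := by
    intro Y Z a ha k
    change fmap O (k ≫ a) ≫ s = 0
    rw [fmap_comp, Category.assoc, ha, comp_zero]

lemma eq_zero_of_zeroSieve {X : C} {M : ModSite.Mod O} (s : ModSite.freeOn O X ⟶ M)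
    (h : zeroSieve O s ∈ J X) : s = 0 := by
  apply hom_ext_of_cover O s 0 (zeroSieve O s) h
  intro Y g hg
  rw [comp_zero]
  exact hg

theorem isTypeA_cokernel
    (hB₁ : ∀ X : C, ∃ (κ : Type u) (Y : κ → C) (g : ∀ k, Y k ⟶ X), Sieve.ofArrows Y g ∈ J X ∧ ∀ k, Y k ∈ B)
    (hB₂ : ∀ U ∈ B, CohCx.IsQcObject ((presheafToSheaf J (Type u)).obj (yoneda.obj U)))
    {F G : ModSite.Mod O} (α : F ⟶ G) (hF : IsTypeA O B F) (hG : IsTypeA O B G) :
    IsTypeA O B (cokernel α) := by
  classical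
  obtain ⟨mF, nF, VF, UF, ψF, hVF, hUF, ⟨eF⟩⟩ := hF
  obtain ⟨mG, nG, VG, UG, ψG, hVG, hUG, ⟨eG⟩⟩ := hG
  let πF : (∐ fun i => ModSite.freeOn O (UF i)) ⟶ F := cokernel.π ψF ≫ eF.inv
  let πG : (∐ fun i => ModSite.freeOn O (UG i)) ⟶ G := cokernel.π ψG ≫ eG.inv
  haveI : Epi πF := epi_comp _ _
  haveI : Epi πG := epi_comp _ _
  have hψG : ψG ≫ πG = 0 := by
    simp only [πG]
    rw [← Category.assoc, cokernel.condition, zero_comp]
  let s : ∀ i : Fin nF, ModSite.freeOn O (UF i) ⟶ G :=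
    fun i => Sigma.ι (fun i => ModSite.freeOn O (UF i)) i ≫ πF ≫ α
  choose T hT hlift using fun i => exists_local_lift O πG (s i)
  choose m Z g hZ hTg hcov using
    fun i => exists_finite_refinement B hB₁ (hB₂ (UF i) (hUF i)) (T i) (hT i)
  choose l hl using fun (i : Fin nF) (k : Fin (m i)) => hlift i (g i k) (hTg i k)
  let V'' : (Fin mG ⊕ (Σ i : Fin nF, Fin (m i))) → C := Sum.elim VG (fun p => Z p.1 p.2)
  let comp : ∀ x : (Fin mG ⊕ (Σ i : Fin nF, Fin (m i))),
      ModSite.freeOn O (V'' x) ⟶ ∐ fun i => ModSite.freeOn O (UG i) := fun x =>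
    match x with
    | Sum.inl j => Sigma.ι (fun j => ModSite.freeOn O (VG j)) j ≫ ψG
    | Sum.inr p => l p.1 p.2
  let ψ'' : (∐ fun x => ModSite.freeOn O (V'' x)) ⟶ ∐ fun i => ModSite.freeOn O (UG i) :=
    Sigma.desc comp
  have hcompl : ∀ j : Fin mG, Sigma.ι (fun x => ModSite.freeOn O (V'' x)) (Sum.inl j) ≫ ψ'' =
      Sigma.ι (fun j => ModSite.freeOn O (VG j)) j ≫ ψG := fun j => Sigma.ι_desc _ _
  have hcompr : ∀ (i : Fin nF) (k : Fin (m i)),
      Sigma.ι (fun x => ModSite.freeOn O (V'' x)) (Sum.inr ⟨i, k⟩) ≫ ψ'' = l i k :=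
    fun i k => Sigma.ι_desc _ _
  refine isTypeA_of_finite O B V'' UG ψ''
    (by
      rintro (j | p)
      · exact hVG j
      · exact hZ p.1 p.2) hUG _ ?_
  let q := πG ≫ cokernel.π α
  have hA : ∀ j : Fin mG, (Sigma.ι (fun j => ModSite.freeOn O (VG j)) j ≫ ψG) ≫ q = 0 := by
    intro j
    simp only [q]
    rw [Category.assoc, ← Category.assoc ψG, hψG, zero_comp, comp_zero]
  have hB : ∀ (i : Fin nF) (k : Fin (m i)), l i k ≫ q = 0 := by
    intro i k
    simp only [q]
    rw [← Category.assoc, hl i k]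
    simp only [s, Category.assoc]
    rw [cokernel.condition, comp_zero, comp_zero, comp_zero]
  have w : ψ'' ≫ q = 0 := by
    apply Sigma.hom_ext
    rintro (j | ⟨i, k⟩)
    · rw [← Category.assoc, hcompl]
      exact (hA j).trans comp_zero.symm
    · rw [← Category.assoc, hcompr]
      exact (hB i k).trans comp_zero.symm
  have key : ∀ {M : ModSite.Mod O} (h : (∐ fun i => ModSite.freeOn O (UG i)) ⟶ M)
      (hh : ψ'' ≫ h = 0), ∃ h₂ : cokernel α ⟶ M, q ≫ h₂ = h := by
    intro M h hh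
    have hψGh : ψG ≫ h = 0 := by
      apply Sigma.hom_ext
      intro j
      have e1 : (Sigma.ι (fun x => ModSite.freeOn O (V'' x)) (Sum.inl j) ≫ ψ'') ≫ h = 0 := by
        rw [Category.assoc, hh, comp_zero]
      have e2 : (Sigma.ι (fun j => ModSite.freeOn O (VG j)) j ≫ ψG) ≫ h = 0 :=
        (congrArg (fun z => z ≫ h) (hcompl j)).symm.trans e1
      rw [comp_zero, ← Category.assoc]
      exact e2
    let h₁ : G ⟶ M := eG.hom ≫ cokernel.desc ψG h hψGh
    have hh₁ : πG ≫ h₁ = h := by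
      simp only [πG, h₁, Category.assoc, Iso.inv_hom_id_assoc, cokernel.π_desc]
    have hαh₁ : α ≫ h₁ = 0 := by
      rw [← cancel_epi πF, comp_zero]
      apply Sigma.hom_ext
      intro i
      rw [comp_zero]
      have : Sigma.ι (fun i => ModSite.freeOn O (UF i)) i ≫ πF ≫ α ≫ h₁ = s i ≫ h₁ := by
        simp only [s, Category.assoc]
      rw [this]
      apply eq_zero_of_zeroSieve
      apply hcov i
      intro k
      change fmap O (g i k) ≫ s i ≫ h₁ = 0
      rw [← Category.assoc, ← hl i k, Category.assoc, hh₁]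
      have e1 : (Sigma.ι (fun x => ModSite.freeOn O (V'' x)) (Sum.inr ⟨i, k⟩) ≫ ψ'') ≫ h = 0 := by
        rw [Category.assoc, hh, comp_zero]
      exact (congrArg (fun z => z ≫ h) (hcompr i k)).symm.trans e1
    refine ⟨cokernel.desc α h₁ hαh₁, ?_⟩
    simp only [q, Category.assoc, cokernel.π_desc]
    exact hh₁
  haveI : Epi q := epi_comp _ _
  have hq : IsColimit (CokernelCofork.ofπ q w) :=
    CokernelCofork.IsColimit.ofπ q w (fun h hh => (key h hh).choose)
      (fun h hh => (key h hh).choose_spec)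
      (fun h hh m hm => by
        rw [← cancel_epi q, hm, (key h hh).choose_spec])
  exact hq.coconePointUniqueUpToIso (colimit.isColimit _)

end Groth.Agent.Lib.helper21.TypeA
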