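import Mathlib
import Groth.Agent.Lib.Helper21.LiftL
import Groth.Agent.Lib.Helper2.TpGlobal
import Groth.Agent.Lib.Helper11.NegCxRows

/-!
# Lifting homology classes from the fibre: general form and the reduced case (helper21)

* `exists_lift_class_of_mem_freeLocus`: if `coker(d^p)` is free at `x` then every class in `H^p(L ⊗ κ(x))` lifts
  (up to a unit from `A ∖ x`) to `H^p(L)`.
* `mem_freeLocus_coker_of_isReduced`: over a reduced Noetherian ring, if `x ↦ dim H^p(L ⊗ κ(x))` is locally constant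
  then `coker(d^p)` is projective (Grauert).
-/

set_option autoImplicit false
universe u

open CategoryTheory CategoryTheory.Limits TensorProduct

namespace Groth.Agent.Lib.helper21.LiftL

open Groth.Agent.Lib.helper21.CxClass Groth.Agent.Lib.helper21.BcMap Groth.Agent.Lib.helper21.ModCx
open Groth.Agent.Lib.helper21.LiftAlg

variable {A : Type u} [CommRing A] [IsNoetherianRing A] (L : CochainComplex (ModuleCat.{u} A) ℤ)
  (hL : ∀ i, Module.Finite A (L.X i) ∧ Module.Flat A (L.X i))

/-- **lifting classes from the fibre**, general form -/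
theorem exists_lift_class_of_mem_freeLocus (p : ℤ) (x : PrimeSpectrum A)
    (hfree : x ∈ Module.freeLocus A
      (L.X ((ComplexShape.up ℤ).next p) ⧸ LinearMap.range (L.sc p).g.hom))
    (w : (CohIII.bcCx (algebraMap A x.asIdeal.ResidueField) L).homology p) :
    ∃ a : A, a ∉ x.asIdeal ∧ ∃ z : L.homology p,
      bcMap (algebraMap A x.asIdeal.ResidueField) L p z =
        algebraMap A x.asIdeal.ResidueField a • w := by
  obtain ⟨c, rfl⟩ := scCls_surjective
    ((CohIII.bcCx (algebraMap A x.asIdeal.ResidueField) L).sc p) w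
  have hc : ((ModuleCat.extendScalars (algebraMap A x.asIdeal.ResidueField)).map (L.sc p).g).hom c.1
      = 0 := c.2
  have e1 := eM_natural (κ := x.asIdeal.ResidueField) (L.sc p).g c.1
  have hc' : (L.sc p).g.hom.lTensor x.asIdeal.ResidueField
      (Groth.Agent.S2380.eM (κ := x.asIdeal.ResidueField) (L.X p) c.1) = 0 :=
    e1.symm.trans ((congrArg (Groth.Agent.S2380.eM (κ := x.asIdeal.ResidueField)
      (L.X ((ComplexShape.up ℤ).next p))) hc).trans (map_zero _))
  obtain ⟨a, ha, z0, hz0, hz⟩ := exists_lift_of_mem_freeLocus (L.sc p).g.hom x hfree _ hc'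
  refine ⟨a, ha, scCls (L.sc p) ⟨z0, hz0⟩, ?_⟩
  refine (bcMap_cls _ L p ⟨z0, hz0⟩).trans ?_
  refine Eq.trans ?_ (map_smul (scCls ((CohIII.bcCx (algebraMap A x.asIdeal.ResidueField) L).sc p))
    (algebraMap A x.asIdeal.ResidueField a) c)
  congr 1
  apply Subtype.ext
  apply (Groth.Agent.S2380.eM (κ := x.asIdeal.ResidueField) (L.X p)).injective
  show Groth.Agent.S2380.eM (κ := x.asIdeal.ResidueField) (L.X p)
    (toExt (algebraMap A x.asIdeal.ResidueField) (L.X p) z0) =
    Groth.Agent.S2380.eM (κ := x.asIdeal.ResidueField) (L.X p)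
      (algebraMap A x.asIdeal.ResidueField a • c.1)
  rw [eM_toExt]
  refine hz.symm.trans ?_
  exact ((Groth.Agent.S2380.eM (κ := x.asIdeal.ResidueField) (L.X p)).map_smul _ _).symm

include hL in
/-- Grauert: over a reduced ring, local constancy of `dim H^p(L ⊗ κ(x))` makes `coker(d^p)` projective -/
lemma mem_freeLocus_coker_of_isReduced [IsReduced A] (p : ℤ)
    (hc : IsLocallyConstant (CohIII.dRank L p)) (x : PrimeSpectrum A) :
    x ∈ Module.freeLocus A
      (L.X ((ComplexShape.up ℤ).next p) ⧸ LinearMap.range (L.sc p).g.hom) := by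
  have hP := Groth.Agent.Lib.helper11.NegCx.neg_fin_flat L hL
  have hfl : ∀ i, Module.Flat A ((Groth.Agent.Lib.helper11.NegCx.neg L).X i) := fun i => (hP i).2
  have hc' : IsLocallyConstant (CohIII.dRank (Groth.Agent.Lib.helper11.NegCx.neg L) (-p)) := by
    rw [Groth.Agent.Lib.helper11.NegCx.dRank_neg']
    exact hc
  obtain ⟨-, he⟩ := Groth.Agent.Lib.helper2.TpLib.exact_of_locConst_dRank
    (Groth.Agent.Lib.helper11.NegCx.neg L) hP (-p) hc'
  have hm' : (CohIII.TFun (Groth.Agent.Lib.helper11.NegCx.neg L) (-(p + 1))).PreservesMonomorphisms :=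
    (Groth.Agent.Lib.helper2.TpLib.preservesMono_iff_preservesEpi
      (Groth.Agent.Lib.helper11.NegCx.neg L) hfl (-p) (-(p + 1)) (by ring)).mpr he
  haveI hflat : Module.Flat A
      (Groth.Agent.Lib.helper2.TpLib.W (Groth.Agent.Lib.helper11.NegCx.neg L) (-(p + 1))) :=
    (Groth.Agent.Lib.helper2.TpLib.preservesMono_iff_flat_W _ hfl _).mp hm'
  haveI : Module.Finite A ((Groth.Agent.Lib.helper11.NegCx.neg L).X (-(p + 1))) := (hP _).1
  have h2 : x ∈ Module.freeLocus A
      (Groth.Agent.Lib.helper2.TpLib.W (Groth.Agent.Lib.helper11.NegCx.neg L) (-(p + 1))) := by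
    rw [Module.freeLocus_eq_univ]
    trivial
  have e : Groth.Agent.Lib.helper2.TpLib.W (Groth.Agent.Lib.helper11.NegCx.neg L) (-(p + 1)) ≃ₗ[A]
      (L.X ((ComplexShape.up ℤ).next p) ⧸ LinearMap.range (L.sc p).g.hom) :=
    quotEquivOfIdx L (i := -((ComplexShape.down ℤ).prev (-(p + 1)))) (i' := p)
      (j := -(-(p + 1))) (j' := (ComplexShape.up ℤ).next p)
      (by simp) (by simp)
  rwa [Module.freeLocus_congr e] at h2

end Groth.Agent.Lib.helper21.LiftL
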