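import Mathlib
import Groth.Agent.Lib.Helper21.GCB
import Groth.Agent.Lib.Helper21.GCRes0
import Groth.Agent.Lib.Helper21.LiftL
import Groth.Agent.Lib.Helper21.LiftL2
import Groth.Agent.Lib.Helper21.GCFibre

/-!
# Lifting sections from a fibre: core form (affine Noetherian base) (helper21)

`A` Noetherian, `X` proper over `Spec A`, `F` coherent and flat over `A`, `x ∈ Spec A`, `X' = X ×_A Spec κ(x)`.
If for every complex `L` of finite flat modules computing the cohomology of `F` universally the cokernel of `d^0` is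
free at `x`, then every global section `t` of `g'^*F` is, up to a unit `a ∈ A ∖ x`, the restriction of a
global section of `F` (`exists_lift_section_core`).  Consequence: the reduced case with locally constant `h^0`
(`exists_lift_section_of_isReduced`).
-/

set_option autoImplicit false
universe u

open CategoryTheory CategoryTheory.Limits Opposite TopologicalSpace AlgebraicGeometry

namespace Groth.Agent.Lib.helper21.GCCech

open Groth.Agent.Lib.helper8.PullbackUnit Groth.Agent.Lib.helper8.FlatCohBC
open Groth.Agent.Lib.helper27 Groth.Agent.Lib.Helper18 Groth.Agent.Lib.helper21.ModCx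
open Groth.Agent.Lib.Helper20 Groth.Agent.Lib.Helper20.CechNatTop
open Groth.Agent.Lib.helper21.BcMap

section main

variable (A : Type u) [CommRing A] [IsNoetherianRing A] (X : Scheme.{u})
  [X.Over (Spec (CommRingCat.of A))] [IsProper (X ↘ Spec (CommRingCat.of A))]
  (F : X.Modules) (hF : Coh.IsCoh F)
  (hfl : FlatMod.IsFlatOver (X ↘ Spec (CommRingCat.of A)) F)
  (x : PrimeSpectrum A) (X' : Scheme.{u})
  [X'.Over (Spec (CommRingCat.of x.asIdeal.ResidueField))] (g' : X' ⟶ X)
  (h : IsPullback g' (X' ↘ Spec (CommRingCat.of x.asIdeal.ResidueField))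
    (X ↘ Spec (CommRingCat.of A))
    (Spec.map (CommRingCat.ofHom (algebraMap A x.asIdeal.ResidueField))))

include hF hfl h in
/-- **lifting sections from the fibre**, core form -/
theorem exists_lift_section_core
    (hfree : ∀ L : CochainComplex (ModuleCat.{u} A) ℤ,
      (∀ i, Module.Finite A (L.X i) ∧ Module.Flat A (L.X i)) →
      Groth.Agent.Lib.helper21.GCFibre.Computes A X F L →
      x ∈ Module.freeLocus A
        (L.X ((ComplexShape.up ℤ).next ((0 : ℕ) : ℤ)) ⧸ LinearMap.range (L.sc ((0 : ℕ) : ℤ)).g.hom))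
    (t : (Coh.toAb ((Coh.push g').obj ((Scheme.Modules.pullback g').obj F))).obj.obj (op ⊤)) :
    letI := modSec' (X' ↘ Spec (CommRingCat.of x.asIdeal.ResidueField)) g' F (⊤ : X.Opens)
    ∃ a : A, a ∉ x.asIdeal ∧ ∃ s : (Coh.toAb F).obj.obj (op ⊤),
      ((ηM g' F).hom.app (op ⊤)).hom s = algebraMap A x.asIdeal.ResidueField a • t := by
  letI := modSec' (X' ↘ Spec (CommRingCat.of x.asIdeal.ResidueField)) g' F (⊤ : X.Opens)
  haveI : F.IsQuasicoherent := hF.1
  haveI : CompactSpace X :=
    QuasiCompact.compactSpace_of_compactSpace (X ↘ Spec (CommRingCat.of A))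
  have hd := affine_inf_of_isSeparated (X ↘ Spec (CommRingCat.of A))
  obtain ⟨ι, hfin, U, hUa, hcov⟩ := exists_finite_affine_cover X
  have hU : ∀ (n : ℕ) (a : Fin (n + 1) → ι), IsAffineOpen (∏ᶜ (U ∘ a) : X.Opens) :=
    fun n a => Groth.Agent.Lib.Lead.CechLoc.isAffineOpen_prod U (isAffineOpen_biInf hd U hUa) n a
  let fX := X ↘ Spec (CommRingCat.of A)
  let fX' := X' ↘ Spec (CommRingCat.of x.asIdeal.ResidueField)
  let K := cechMod fX F U
  -- properties of the Čech complex
  have hflat : ∀ i, Module.Flat A (K.X i) := flat_cechMod _ F U hfl hU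
  have hKfin : ∀ i, Module.Finite A (K.homology i) := by
    intro i
    by_cases hi : i < 0
    · haveI : Subsingleton (K.homology i) :=
        ModuleCat.subsingleton_of_isZero (isZero_cechMod_homology _ F U i hi)
      infer_instance
    · obtain ⟨p, rfl⟩ : ∃ n : ℕ, (n : ℤ) = i := ⟨i.toNat, by omega⟩
      haveI := Groth.Agent.S0002.result A X F hF p
      exact Module.Finite.equiv (cechModHomology fX F U hU hcov p).symm
  have hKN : ∀ (B : Type u) [CommRing B] [Algebra A B] (i : ℤ), ((Nat.card ι : ℕ) : ℤ) ≤ i →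
      IsZero ((CohIII.bcCx (algebraMap A B) K).homology i) := by
    intro B _ _ i hi
    obtain ⟨p, rfl⟩ : ∃ n : ℕ, (n : ℤ) = i := ⟨i.toNat, by omega⟩
    have hp : Nat.card ι ≤ p := by exact_mod_cast hi
    let sB := Spec.map (CommRingCat.ofHom (algebraMap A B))
    let XB := pullback fX sB
    let gB : XB ⟶ X := pullback.fst fX sB
    let fXB : XB ⟶ Spec (CommRingCat.of B) := pullback.snd fX sB
    have hB : IsPullback gB fXB fX sB := IsPullback.of_hasPullback fX sB
    haveI : IsSeparated fXB := MorphismProperty.of_isPullback (P := @IsSeparated) hB inferInstance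
    haveI : IsAffineHom gB := isAffineHom_g' fX fXB gB hB
    haveI := qcoh_pull fX fXB gB hB F
    have hd' := affine_inf_of_isSeparated fXB
    have hsub : Subsingleton (Coh.HH XB ((Scheme.Modules.pullback gB).obj F) p) :=
      subsingleton_HH_of_cover _ hd' (fun i => gB ⁻¹ᵁ U i) (fun i => (hUa i).preimage gB)
        (by
          rw [← Scheme.Hom.preimage_iSup, hcov]
          rfl) p hp
    letI := modHH fXB ((Scheme.Modules.pullback gB).obj F) p
    have e := cechModBCHomology fX fXB gB hB F U hU hcov p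
    haveI : Subsingleton ((CohIII.bcCx (algebraMap A B) K).homology (p : ℤ)) :=
      e.toEquiv.subsingleton
    exact ModuleCat.isZero_of_subsingleton _
  -- the finite free approximation
  obtain ⟨L, φ, hL, -, hφ0, hφ, -⟩ :=
    Groth.Agent.Lib.helper11.GCAlg.exists_finite_free_quasiIso_bc_tensor A K hflat hKfin
      ((Nat.card ι : ℕ) : ℤ) hKN
  have hL' : ∀ i, Module.Finite A (L.X i) ∧ Module.Flat A (L.X i) := fun i =>
    ⟨(hL i).1, by haveI := (hL i).2; infer_instance⟩
  haveI := hφ x.asIdeal.ResidueField (algebraMap A x.asIdeal.ResidueField)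
  let bφ := ((ModuleCat.extendScalars.{u, u, u} (algebraMap A x.asIdeal.ResidueField)).mapHomologicalComplex
    (ComplexShape.up ℤ)).map φ
  -- `L` computes the cohomology of `F` universally
  have hcomp : Groth.Agent.Lib.helper21.GCFibre.Computes A X F L := by
    intro B _ _ X'' _ g'' h'' p
    haveI := hφ B (algebraMap A B)
    have e : (CohIII.bcCx (algebraMap A B) L).homology (p : ℤ) ≅
        (CohIII.bcCx (algebraMap A B) K).homology (p : ℤ) :=
      asIso (HomologicalComplex.homologyMap
        (((ModuleCat.extendScalars.{u, u, u} (algebraMap A B)).mapHomologicalComplex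
          (ComplexShape.up ℤ)).map φ) (p : ℤ))
    letI := modHH (X'' ↘ Spec (CommRingCat.of B)) ((Scheme.Modules.pullback g'').obj F) p
    have e2 := cechModBCHomology fX (X'' ↘ Spec (CommRingCat.of B)) g'' h'' F U hU hcov p
    exact ⟨e.toLinearEquiv.trans e2⟩
  have hfreeL := hfree L hL' hcomp
  -- the class of `t`
  let w := (sec0N fX fX' g' h F U hU hcov).symm t
  let eL : (CohIII.bcCx (algebraMap A x.asIdeal.ResidueField) L).homology ((0 : ℕ) : ℤ) ≅
      (CohIII.bcCx (algebraMap A x.asIdeal.ResidueField) K).homology ((0 : ℕ) : ℤ) :=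
    asIso (HomologicalComplex.homologyMap bφ ((0 : ℕ) : ℤ))
  let wL := eL.toLinearEquiv.symm w
  obtain ⟨a, ha, zL, hzL⟩ := Groth.Agent.Lib.helper21.LiftL.exists_lift_class_of_mem_freeLocus L
    ((0 : ℕ) : ℤ) x hfreeL wL
  refine ⟨a, ha, sec0M fX F U hU hcov ((HomologicalComplex.homologyMap φ ((0 : ℕ) : ℤ)).hom zL), ?_⟩
  rw [← sec0N_bcMap fX fX' g' h F U hU hcov, bcMap_natural, hzL]
  have e3 : (HomologicalComplex.homologyMap bφ ((0 : ℕ) : ℤ)).hom
      (algebraMap A x.asIdeal.ResidueField a • wL) =
      algebraMap A x.asIdeal.ResidueField a • w := by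
    rw [map_smul]
    congr 1
    exact eL.toLinearEquiv.apply_symm_apply w
  refine (congrArg (sec0N fX fX' g' h F U hU hcov) e3).trans ?_
  rw [sec0N_smul]
  congr 1
  exact (sec0N fX fX' g' h F U hU hcov).apply_symm_apply t

include hF hfl h in
/-- **lifting sections from the fibre over a reduced base** when `h^0` is locally constant (complex form) -/
theorem exists_lift_section_of_isReduced' [IsReduced A]
    (hc : ∀ L : CochainComplex (ModuleCat.{u} A) ℤ,
      (∀ i, Module.Finite A (L.X i) ∧ Module.Flat A (L.X i)) →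
      Groth.Agent.Lib.helper21.GCFibre.Computes A X F L →
      IsLocallyConstant (CohIII.dRank L ((0 : ℕ) : ℤ)))
    (t : (Coh.toAb ((Coh.push g').obj ((Scheme.Modules.pullback g').obj F))).obj.obj (op ⊤)) :
    letI := modSec' (X' ↘ Spec (CommRingCat.of x.asIdeal.ResidueField)) g' F (⊤ : X.Opens)
    ∃ a : A, a ∉ x.asIdeal ∧ ∃ s : (Coh.toAb F).obj.obj (op ⊤),
      ((ηM g' F).hom.app (op ⊤)).hom s = algebraMap A x.asIdeal.ResidueField a • t :=
  exists_lift_section_core A X F hF hfl x X' g' h (fun L hL hcomp =>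
    Groth.Agent.Lib.helper21.LiftL.mem_freeLocus_coker_of_isReduced L hL ((0 : ℕ) : ℤ)
      (hc L hL hcomp) x) t

include hF hfl h in
/-- **lifting sections from the fibre over a reduced base** when `y ↦ h^0(X_y, F_y)` is locally constant -/
theorem exists_lift_section_of_isReduced [IsReduced A]
    (hc : IsLocallyConstant (CohIII.fiberRank (X ↘ Spec (CommRingCat.of A)) F 0))
    (t : (Coh.toAb ((Coh.push g').obj ((Scheme.Modules.pullback g').obj F))).obj.obj (op ⊤)) :
    letI := modSec' (X' ↘ Spec (CommRingCat.of x.asIdeal.ResidueField)) g' F (⊤ : X.Opens)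
    ∃ a : A, a ∉ x.asIdeal ∧ ∃ s : (Coh.toAb F).obj.obj (op ⊤),
      ((ηM g' F).hom.app (op ⊤)).hom s = algebraMap A x.asIdeal.ResidueField a • t :=
  exists_lift_section_of_isReduced' A X F hF hfl x X' g' h (fun L _ hcomp => by
    have h0 : CohIII.dRank L ((0 : ℕ) : ℤ) =
        CohIII.fiberRank (X ↘ Spec (CommRingCat.of A)) F 0 :=
      funext fun x' => Groth.Agent.Lib.helper21.GCFibre.dRank_eq_fiberRank hcomp x' 0
    rw [h0]
    exact hc) t

end main

end Groth.Agent.Lib.helper21.GCCech
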