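import Mathlib
import Groth.Agent.Lib.Helper21.InvFibre
import Groth.Agent.Lib.Helper21.GCLift2

/-!
# Invertible modules trivial on a fibre, reduced base (helper21)

`f : X ⟶ Y` proper flat, `Y` locally Noetherian and reduced, `N` invertible on `X` with `N|_{X_y} ≅ O_{X_y}` and
`y' ↦ h^0(X_y', N_y')` locally constant.  Then `N` is trivial on `f⁻¹U` for some open neighbourhood `U` of `y`.
-/

set_option autoImplicit false
universe u

open CategoryTheory CategoryTheory.Limits Opposite TopologicalSpace AlgebraicGeometry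

namespace Groth.Agent.Lib.helper21.InvFibre

open Scheme.Modules Groth.Agent.Lib.helper16.FLF
open Groth.Agent.Lib.helper11.InvMod Groth.Agent.Lib.helper11.IsoLocus
open Groth.Agent.Lib.helper11.InvPullback Groth.Agent.Lib.helper11.GenLocus
open Groth.Agent.Lib.helper11.InvHom

section main2

open Groth.Agent.Lib.helper21.GCBase Groth.Agent.Lib.helper21.GCChart
open Groth.Agent.Lib.helper21.GCCech Groth.Agent.Lib.Helper18

variable {X Y : Scheme.{u}} (f : X ⟶ Y) [IsProper f] [Flat f] [IsLocallyNoetherian Y]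

/-- **an invertible module trivial on a fibre is trivial over a neighbourhood**, when the base is reduced and
`y ↦ h^0(X_y, N_y)` is locally constant -/
theorem exists_isTrivOn_preimage_of_isReduced [IsReduced Y] (y : Y)
    (N : X.Modules) (hN : PicF.IsInvertible N)
    (hc : IsLocallyConstant (CohIII.fiberRank f N 0))
    (hy : Nonempty (CohIII.fiberMod f N y ≅ Coh.structureModule (f.fiber y))) :
    ∃ U : Y.Opens, y ∈ U ∧ IsTrivOn N (f ⁻¹ᵁ U) := by
  obtain ⟨V, hV, hyV⟩ : ∃ V : Y.Opens, IsAffineOpen V ∧ y ∈ V := by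
    obtain ⟨_, ⟨V, hV, rfl⟩, hyV, -⟩ :=
      Y.isBasis_affineOpens.exists_subset_of_mem_open (Set.mem_univ y) isOpen_univ
    exact ⟨V, hV, hyV⟩
  obtain ⟨x, rfl⟩ : ∃ x, hV.fromSpec x = y := by
    have : y ∈ Set.range hV.fromSpec := by
      rw [hV.range_fromSpec]
      exact hyV
    exact this
  haveI : IsNoetherianRing Γ(Y, V) := IsLocallyNoetherian.component_noetherian ⟨V, hV⟩
  haveI : _root_.IsReduced Γ(Y, V) := inferInstance
  letI := GCBase.overA f hV
  haveI : IsProper ((↑(f ⁻¹ᵁ V) : Scheme.{u}) ↘ Spec (CommRingCat.of Γ(Y, V))) :=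
    inferInstanceAs (IsProper (fA f hV))
  have hsq := GCBase.isPullback_chart f hV
  have hNc := isCoh_of_isInvertible hN
  haveI : N.IsQuasicoherent := hNc.1
  have hFAc : Coh.IsCoh (FA f (V := V) N) := GCBase.isCoh_FA f N hNc
  have hfl : FlatMod.IsFlatOver (fA f hV) (FA f (V := V) N) :=
    GCBase.isFlatOver_FA f hV N (isFlatOver_of_isFinLocFree f N (isFinLocFree_of_isInvertible hN))
  have hFAinv : PicF.IsInvertible (FA f (V := V) N) := isInvertible_restrict _ hN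
  letI := GCChart.fibreOver f Γ(Y, V) hV.fromSpec x
  let g' := GCChart.lift f Γ(Y, V) hV.fromSpec (f ⁻¹ᵁ V).ι hsq x
  have hpb := GCChart.isPullback_lift f Γ(Y, V) hV.fromSpec (f ⁻¹ᵁ V).ι hsq x
  let e1 := GCChart.fibreModIso f Γ(Y, V) hV.fromSpec (f ⁻¹ᵁ V).ι hsq x N (FA f (V := V) N)
    (GCBase.eF f (V := V) N)
  obtain ⟨e2⟩ := hy
  let ε : Coh.structureModule (f.fiber (hV.fromSpec x)) ≅
      (Scheme.Modules.pullback g').obj (FA f (V := V) N) := (e1 ≪≫ e2).symm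
  have hcL : ∀ L : CochainComplex (ModuleCat.{u} Γ(Y, V)) ℤ,
      (∀ i, Module.Finite Γ(Y, V) (L.X i) ∧ Module.Flat Γ(Y, V) (L.X i)) →
      Groth.Agent.Lib.helper21.GCFibre.Computes Γ(Y, V) (↑(f ⁻¹ᵁ V) : Scheme.{u}) (FA f (V := V) N) L →
      IsLocallyConstant (CohIII.dRank L ((0 : ℕ) : ℤ)) := by
    intro L _ hcomp
    have h0 : CohIII.dRank L ((0 : ℕ) : ℤ) = (CohIII.fiberRank f N 0) ∘ hV.fromSpec :=
      funext fun x' => GCChart.dRank_eq_fiberRank f Γ(Y, V) hV.fromSpec (f ⁻¹ᵁ V).ι hsq x' N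
        (FA f (V := V) N) (GCBase.eF f (V := V) N) L hcomp 0
    rw [h0]
    exact hc.comp_continuous hV.fromSpec.continuous
  let t : (Coh.toAb ((Coh.push g').obj
      ((Scheme.Modules.pullback g').obj (FA f (V := V) N)))).obj.obj (op ⊤) :=
    (ε.hom.val.app (op (g' ⁻¹ᵁ ⊤))).hom
      (1 : (f.fiber (hV.fromSpec x)).ringCatSheaf.obj.obj (op (g' ⁻¹ᵁ ⊤)))
  obtain ⟨a, ha, s, hs⟩ := GCCech.exists_lift_section_of_isReduced' Γ(Y, V) (↑(f ⁻¹ᵁ V) : Scheme.{u})
    (FA f (V := V) N) hFAc hfl x (f.fiber (hV.fromSpec x)) g' hpb hcL t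
  let σ := homOfSec (FA f (V := V) N) s
  have hb : algebraMap Γ(Y, V) x.asIdeal.ResidueField a ≠ 0 := by
    intro h0
    exact ha (Ideal.algebraMap_residueField_eq_zero.mp h0)
  have hiso : IsIso (pullSec g' (FA f (V := V) N) σ) :=
    isIso_pullSec_of_smul (GCChart.fibreTo f Γ(Y, V) hV.fromSpec x) g' (FA f (V := V) N) σ ε
      (algebraMap Γ(Y, V) x.asIdeal.ResidueField a) hb s t (homOfSec_app (FA f (V := V) N) s) rfl hs
  have hloc : g' ⁻¹ᵁ (isoLocus σ) = ⊤ := by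
    have h2 := genLocus_pullback g' (FA f (V := V) N) hFAinv σ (pullbackUnitIso g').symm
    have h3 : CohB1.genLocus ((Scheme.Modules.pullback g').obj (FA f (V := V) N))
        ((pullbackUnitIso g').symm.hom ≫ (Scheme.Modules.pullback g').map σ) = ⊤ :=
      (genLocus_eq_top_iff _ _).mpr hiso
    rw [h3] at h2
    exact h2.symm
  -- the closed complement of the iso locus and its closed image
  let Z : Set (↑(f ⁻¹ᵁ V) : Scheme.{u}) := ((isoLocus σ : (↑(f ⁻¹ᵁ V) : Scheme.{u}).Opens) : Set _)ᶜ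
  have hZ : IsClosed Z := (isoLocus σ).2.isClosed_compl
  have hcl : IsClosed ((fA f hV) '' Z) := (fA f hV).isClosedMap _ hZ
  have hw : ∀ p : (↑(f ⁻¹ᵁ V) : Scheme.{u}), hV.fromSpec ((fA f hV) p) = f ((f ⁻¹ᵁ V).ι p) := by
    intro p
    have := congrArg (fun φ : (↑(f ⁻¹ᵁ V) : Scheme.{u}) ⟶ Y => φ p) hsq.w
    exact this.symm
  have hinj : Function.Injective hV.fromSpec := hV.fromSpec.isOpenEmbedding.injective
  have hx : x ∉ (fA f hV) '' Z := by
    rintro ⟨p, hpZ, hpx⟩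
    apply hpZ
    have h4 : (f ⁻¹ᵁ V).ι p ∈ Set.range (f.fiberι (hV.fromSpec x)) := by
      rw [f.range_fiberι]
      show f ((f ⁻¹ᵁ V).ι p) = hV.fromSpec x
      rw [← hw p, hpx]
    obtain ⟨p', hp'⟩ := h4
    have h5 : g' p' = p := by
      apply (f ⁻¹ᵁ V).ι.isOpenEmbedding.injective
      rw [← hp']
      have := congrArg (fun φ : f.fiber (hV.fromSpec x) ⟶ X => φ p')
        (GCChart.lift_i f Γ(Y, V) hV.fromSpec (f ⁻¹ᵁ V).ι hsq x)
      exact this
    have h6 : p' ∈ g' ⁻¹ᵁ (isoLocus σ) := by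
      rw [hloc]
      trivial
    rw [← h5]
    exact h6
  let U0 : (Spec (CommRingCat.of Γ(Y, V))).Opens := ⟨((fA f hV) '' Z)ᶜ, hcl.isOpen_compl⟩
  have hUV : f ⁻¹ᵁ (hV.fromSpec ''ᵁ U0) ≤ f ⁻¹ᵁ V := by
    rintro p ⟨q, -, hq⟩
    show f p ∈ V
    have : f p ∈ Set.range hV.fromSpec := ⟨q, hq⟩
    rw [hV.range_fromSpec] at this
    exact this
  refine ⟨hV.fromSpec ''ᵁ U0, ⟨x, hx, rfl⟩, ?_⟩
  let j0 := X.homOfLE hUV
  have hle : j0.opensRange ≤ isoLocus σ := by
    rw [Scheme.opensRange_homOfLE]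
    intro p hp
    obtain ⟨q, hq, hqp⟩ := hp
    by_contra hcon
    have h7 : q = (fA f hV) p := by
      apply hinj
      rw [hw p]
      exact hqp
    exact hq ⟨p, hcon, h7.symm⟩
  haveI : IsIso ((restrictFunctor j0).map σ) :=
    (isIso_restrictFunctor_iff_opensRange j0 σ).mpr ((le_isoLocus_iff σ _).mp hle)
  exact ⟨(Groth.Agent.Lib.helper11.InvMod.restrictRestrictIso N hUV).symm ≪≫ (asIso ((restrictFunctor j0).map σ)).symm ≪≫
    restrictUnitIso j0⟩


end main2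

end Groth.Agent.Lib.helper21.InvFibre
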