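import Mathlib
import Groth.Agent.Lib.Helper21.InvFibre2
import Groth.Agent.Lib.Helper21.ModOpenBC
import Groth.Agent.Lib.Helper12.InvDual2

/-!
# Invertible modules trivial on all fibres over a reduced base (helper21, for S16759)
-/

set_option autoImplicit false
universe u

open CategoryTheory CategoryTheory.Limits Opposite TopologicalSpace AlgebraicGeometry

namespace Groth.Agent.Lib.helper21.PicFibre

open Scheme.Modules Groth.Agent.Lib.helper16.FLF
open Groth.Agent.Lib.helper11.InvMod Groth.Agent.Lib.helper11.IsoLocus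
open Groth.Agent.Lib.helper11.InvPullback Groth.Agent.Lib.helper11.GenLocus
open Groth.Agent.Lib.helper11.InvHom

section field

/-- an invertible module on a one-point scheme is trivial -/
theorem nonempty_iso_structureModule_of_unique {Z : Scheme.{u}} [Unique Z]
    (M : Z.Modules) (hM : PicF.IsInvertible M) :
    Nonempty (M ≅ Coh.structureModule Z) := by
  obtain ⟨U, hU, hT⟩ := hM default
  have hUtop : U = ⊤ := by
    ext q
    simp only [Opens.coe_top, Set.mem_univ, iff_true]
    rw [Unique.eq_default q]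
    exact hU
  rw [hUtop] at hT
  exact isTrivOn_top_iff.mp hT

end field

section fibres

variable {X Y : Scheme.{u}} (f : X ⟶ Y)

/-- the pullback of an invertible module on the base is trivial on every fibre -/
theorem nonempty_fiberMod_pullback_iso (M : Y.Modules) (hM : PicF.IsInvertible M) (y : Y) :
    Nonempty (CohIII.fiberMod f ((Scheme.Modules.pullback f).obj M) y ≅
      Coh.structureModule (f.fiber y)) := by
  obtain ⟨e0⟩ := nonempty_iso_structureModule_of_unique
    ((Scheme.Modules.pullback (Y.fromSpecResidueField y)).obj M)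
    (isInvertible_pullback _ hM)
  exact ⟨(Scheme.Modules.pullbackComp (f.fiberι y) f).app M ≪≫
    (Scheme.Modules.pullbackCongr (f.fiber_fac y)).app M ≪≫
    ((Scheme.Modules.pullbackComp (f.fiberToSpecResidueField y)
      (Y.fromSpecResidueField y)).app M).symm ≪≫
    (Scheme.Modules.pullback (f.fiberToSpecResidueField y)).mapIso e0 ≪≫
    pullbackUnitIso (f.fiberToSpecResidueField y)⟩

/-- `h^0(X_y, N_y) = dim_κ(y) Γ(X_y, O)` when `N_y ≅ O_{X_y}` -/
theorem fiberRank_zero_of_iso (N : X.Modules) (y : Y)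
    (e : CohIII.fiberMod f N y ≅ Coh.structureModule (f.fiber y)) :
    CohIII.fiberRank f N 0 y = Module.finrank (Y.residueField y) Γ(f.fiber y, ⊤) := by
  unfold CohIII.fiberRank
  let φ : (Y.residueField y) →+* Coh.Γtop (f.fiber y) :=
    Coh.toGlobal (X := f.fiber y) (A := Y.residueField y) (f.fiberToSpecResidueField y)
  let e0 := Groth.Agent.Lib.Helper18.HH.equiv₀ (CohIII.fiberMod f N y)
  let e1 : (CohIII.fiberMod f N y).val.obj (op ⊤) ≃ₗ[Coh.Γtop (f.fiber y)]
      (Coh.structureModule (f.fiber y)).val.obj (op ⊤) :=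
    ((SheafOfModules.evaluation _ (op ⊤)).mapIso e).toLinearEquiv
  let e2 : CohIII.fiberH f N y 0 ≃ₗ[Coh.Γtop (f.fiber y)] Coh.Γtop (f.fiber y) := e0.trans e1
  let E : CohIII.fiberH f N y 0 ≃ₗ[Y.residueField y] Γ(f.fiber y, ⊤) :=
    { toFun := fun z => e2 z
      invFun := fun c => e2.symm c
      map_add' := fun a b => map_add e2 a b
      map_smul' := fun c z => by
        have h1 : c • z = φ c • z := rfl
        rw [h1, e2.map_smul, RingHom.id_apply, smul_eq_mul]
        rfl
      left_inv := fun z => e2.symm_apply_apply z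
      right_inv := fun c => e2.apply_symm_apply c }
  exact E.finrank_eq

end fibres

section push

variable {X Y : Scheme.{u}} (f : X ⟶ Y)

/-- `O_Y → f_* O_X` is an isomorphism when all `f.app V` are -/
theorem isIso_unitToPush (h : ∀ V : Y.Opens, IsIso (f.app V)) : IsIso (unitToPush f) := by
  rw [Scheme.Modules.Hom.isIso_iff_isIso_app]
  intro V
  rw [ConcreteCategory.isIso_iff_bijective]
  haveI := h V
  exact ConcreteCategory.bijective_of_isIso (f.app V)

theorem isIso_app_morphismRestrict (U : Y.Opens) (hU : ∀ V : Y.Opens, V ≤ U → IsIso (f.app V))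
    (W : (↑U : Scheme.{u}).Opens) : IsIso ((f ∣_ U).app W) := by
  rw [morphismRestrict_app]
  haveI h1 : IsIso (f.app (U.ι ''ᵁ W)) := hU (U.ι ''ᵁ W) (by
    rintro _ ⟨w, -, rfl⟩
    exact w.2)
  haveI h2 : IsIso (X.presheaf.map (eqToHom (image_morphismRestrict_preimage f U W)).op) :=
    inferInstance
  exact @IsIso.comp_isIso _ _ _ _ _ _ _ h1 h2

/-- if `L` is trivial on `f⁻¹U` and `O_Y → f_*O_X` is an isomorphism over `U`, then `f_*L` is trivial on `U` -/
theorem isTrivOn_pushforward (L : X.Modules) (U : Y.Opens) (hT : IsTrivOn L (f ⁻¹ᵁ U))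
    (hU : ∀ V : Y.Opens, V ≤ U → IsIso (f.app V)) :
    IsTrivOn ((Scheme.Modules.pushforward f).obj L) U := by
  obtain ⟨eL⟩ := hT
  haveI : IsIso (unitToPush (f ∣_ U)) :=
    isIso_unitToPush (f ∣_ U) (isIso_app_morphismRestrict f U hU)
  exact ⟨(Groth.Agent.Lib.helper21.ModOpenBC.bcIso f U).app L ≪≫
    (Scheme.Modules.pushforward (f ∣_ U)).mapIso eL ≪≫ (asIso (unitToPush (f ∣_ U))).symm⟩

end push

section counit

open Groth.Agent.Lib.helper21.InvFibre

variable {X Y : Scheme.{u}} (f : X ⟶ Y) (L : X.Modules)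

/-- the counit `f^*f_*L ⟶ L` is an isomorphism over `f⁻¹U` when `L|_{f⁻¹U}` is trivial and `f_*L` is
invertible -/
theorem isIso_restrict_counit (U : Y.Opens)
    (eL : L.restrict (f ⁻¹ᵁ U).ι ≅ Coh.structureModule (↑(f ⁻¹ᵁ U) : Scheme.{u}))
    (hP : PicF.IsInvertible ((Scheme.Modules.pushforward f).obj L)) :
    IsIso ((restrictFunctor (f ⁻¹ᵁ U).ι).map
      ((Scheme.Modules.pullbackPushforwardAdjunction f).counit.app L)) := by
  let adj := Scheme.Modules.pullbackPushforwardAdjunction f
  let ε := adj.counit.app L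
  let η := adj.unit.app ((Scheme.Modules.pushforward f).obj L)
  let T : X.Opens := f ⁻¹ᵁ U
  let j := T.ι
  have hT : j ''ᵁ ⊤ = T := by simp [j]
  let P := (Scheme.Modules.pullback f).obj ((Scheme.Modules.pushforward f).obj L)
  have hM : PicF.IsInvertible (P.restrict j) :=
    isInvertible_restrict j (isInvertible_pullback f hP)
  let φ : P.restrict j ⟶ Coh.structureModule (↑T : Scheme.{u}) :=
    (restrictFunctor j).map ε ≫ eL.hom
  -- the generating section and its lift
  let s0 : L.val.obj (op (j ''ᵁ ⊤)) :=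
    (eL.inv.val.app (op ⊤)).hom (1 : (↑T : Scheme.{u}).ringCatSheaf.obj.obj (op ⊤))
  let s1 : L.val.obj (op T) := L.val.map (homOfLE (le_of_eq hT.symm)).op s0
  let z1 : P.val.obj (op T) := (η.val.app (op U)).hom s1
  have htri : (ε.val.app (op T)).hom z1 = s1 := by
    have h := congrArg (fun ψ : (Scheme.Modules.pushforward f).obj L ⟶
        (Scheme.Modules.pushforward f).obj L => (ψ.val.app (op U)).hom s1)
      (adj.right_triangle_components L)
    exact h
  let z0 : P.val.obj (op (j ''ᵁ ⊤)) := P.val.map (homOfLE (le_of_eq hT)).op z1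
  have hz0 : (ε.val.app (op (j ''ᵁ ⊤))).hom z0 = s0 := by
    have h1 := PresheafOfModules.naturality_apply ε.val (homOfLE (le_of_eq hT)).op z1
    refine h1.trans ?_
    have h2 : (ε.val.app (op T)).hom z1 = s1 := htri
    refine (congrArg (L.val.map (homOfLE (le_of_eq hT)).op) h2).trans ?_
    have h3 := PresheafOfModules.map_comp_apply L.val (homOfLE (le_of_eq hT.symm)).op
      (homOfLE (le_of_eq hT)).op s0
    refine h3.symm.trans ?_
    have h4 : (homOfLE (le_of_eq hT.symm)).op ≫ (homOfLE (le_of_eq hT)).op =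
        𝟙 (op (j ''ᵁ ⊤)) := Subsingleton.elim _ _
    rw [PresheafOfModules.congr_map_apply L.val h4 s0, PresheafOfModules.map_id]
    rfl
  let ψ : Coh.structureModule (↑T : Scheme.{u}) ⟶ P.restrict j := homOfSec (P.restrict j) z0
  have hsplit : ψ ≫ φ = 𝟙 _ := by
    apply Groth.Agent.Lib.Helper21.TermSec.ev_injective (X := (⊤ : (↑T : Scheme.{u}).Opens))
      Limits.isTerminalTop (Coh.structureModule (↑T : Scheme.{u}))
    have h1 : ((ψ.val.app (op ⊤)).hom (1 : (↑T : Scheme.{u}).ringCatSheaf.obj.obj (op ⊤))) = z0 :=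
      homOfSec_app (P.restrict j) z0
    have h2 : Groth.Agent.Lib.Helper21.TermSec.ev (X := (⊤ : (↑T : Scheme.{u}).Opens))
        (Coh.structureModule (↑T : Scheme.{u})) (ψ ≫ φ) =
        (eL.hom.val.app (op ⊤)).hom ((ε.val.app (op (j ''ᵁ ⊤))).hom
          ((ψ.val.app (op ⊤)).hom (1 : (↑T : Scheme.{u}).ringCatSheaf.obj.obj (op ⊤)))) := rfl
    refine h2.trans ?_
    have h3 : (ε.val.app (op (j ''ᵁ ⊤))).hom
        ((ψ.val.app (op ⊤)).hom (1 : (↑T : Scheme.{u}).ringCatSheaf.obj.obj (op ⊤))) = s0 :=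
      (congrArg (ε.val.app (op (j ''ᵁ ⊤))).hom h1).trans hz0
    refine (congrArg (eL.hom.val.app (op ⊤)).hom h3).trans ?_
    exact congrArg (fun χ : Coh.structureModule (↑T : Scheme.{u}) ⟶
        Coh.structureModule (↑T : Scheme.{u}) =>
      (χ.val.app (op ⊤)).hom (1 : (↑T : Scheme.{u}).ringCatSheaf.obj.obj (op ⊤))) eL.inv_hom_id
  haveI : Epi φ := (IsSplitEpi.mk' ⟨ψ, hsplit⟩).epi
  haveI : IsIso φ := Groth.Agent.Lib.helper12.InvDual.isIso_of_epi_of_isInvertible hM φ
  have : (restrictFunctor j).map ε = φ ≫ eL.inv := by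
    simp [φ]
  rw [this]
  infer_instance

end counit

section main

open Groth.Agent.Lib.helper21.InvFibre Groth.Agent.Lib.helper21.GCStein

variable {X Y : Scheme.{u}} (f : X ⟶ Y) [IsProper f] [Flat f] [IsLocallyNoetherian Y] [IsReduced Y]
  (h0 : ∀ y : Y, Module.finrank (Y.residueField y) Γ(f.fiber y, ⊤) = 1)
  (L : X.Modules) (hL : PicF.IsInvertible L)
  (hfib : ∀ y : Y, Nonempty (CohIII.fiberMod f L y ≅ Coh.structureModule (f.fiber y)))

include h0 hL hfib in
theorem exists_nhd (y : Y) : ∃ U : Y.Opens, y ∈ U ∧ IsTrivOn L (f ⁻¹ᵁ U) ∧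
    ∀ V : Y.Opens, V ≤ U → IsIso (f.app V) := by
  have hc : IsLocallyConstant (CohIII.fiberRank f L 0) := by
    have : CohIII.fiberRank f L 0 = fun _ => 1 := by
      funext y'
      obtain ⟨e⟩ := hfib y'
      rw [fiberRank_zero_of_iso f L y' e, h0 y']
    rw [this]
    exact IsLocallyConstant.const 1
  obtain ⟨U1, hy1, hT1⟩ := exists_isTrivOn_preimage_of_isReduced f y L hL hc (hfib y)
  have hy : Function.Bijective (algebraMap (Y.residueField y) Γ(f.fiber y, ⊤)) :=
    Algebra.finrank_eq_one_iff_bijective_algebraMap.mp (h0 y)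
  obtain ⟨U2, hy2, hU2⟩ := exists_nhd_isIso_app f y hy
  refine ⟨U1 ⊓ U2, ⟨hy1, hy2⟩, IsTrivOn.of_le ?_ hT1, fun V hV => hU2 V (hV.trans inf_le_right)⟩
  intro p hp
  exact hp.1

include h0 hL hfib in
theorem isInvertible_pushforward : PicF.IsInvertible ((Scheme.Modules.pushforward f).obj L) := by
  intro y
  obtain ⟨U, hyU, hT, hU⟩ := exists_nhd f h0 L hL hfib y
  exact ⟨U, hyU, isTrivOn_pushforward f L U hT hU⟩

include h0 hL hfib in
theorem isIso_counit :
    IsIso ((Scheme.Modules.pullbackPushforwardAdjunction f).counit.app L) := by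
  have hP := isInvertible_pushforward f h0 L hL hfib
  refine isIso_of_forall_restrict _ fun x => ?_
  obtain ⟨U, hyU, ⟨eL⟩, -⟩ := exists_nhd f h0 L hL hfib (f x)
  exact ⟨f ⁻¹ᵁ U, hyU, isIso_restrict_counit f L U eL hP⟩

end main

end Groth.Agent.Lib.helper21.PicFibre
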