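import Mathlib

/-!
# Units of localizations of a UFD: a cocycle is a coboundary (helper21)

`R` a unique factorisation domain with fraction field `K`.  `UnitAway g x` : `x ∈ K` is a unit of `R[1/g]`.
`exists_common_factor`: if `c i / c j` is a unit of `R[1/(g i * g j)]` for all `i, j` then there is `m ∈ K^*` with
`c i / m` a unit of `R[1/g i]` for all `i`.
-/

set_option autoImplicit false

namespace Groth.Agent.Lib.helper21.UfdCocycle

variable {R : Type*} [CommRing R] [IsDomain R] {K : Type*} [Field K] [Algebra R K] [IsFractionRing R K]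

/-- `x ∈ R[1/g]` -/
def InAway (g : R) (x : K) : Prop :=
  ∃ (n : ℕ) (a : R), x * algebraMap R K g ^ n = algebraMap R K a

/-- `x` is a unit of `R[1/g]` -/
def UnitAway (g : R) (x : K) : Prop := x ≠ 0 ∧ InAway g x ∧ InAway g x⁻¹

/-- `x` is a quotient of two elements not divisible by `p` -/
def PU (p : R) (x : K) : Prop :=
  ∃ a b : R, ¬ p ∣ a ∧ ¬ p ∣ b ∧ x * algebraMap R K b = algebraMap R K a

omit [IsDomain R] in
lemma map_ne_zero' {a : R} (h : a ≠ 0) : algebraMap R K a ≠ 0 := by
  intro h0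
  exact h ((IsFractionRing.injective R K) (h0.trans (map_zero _).symm))

lemma PU.ne_zero {p : R} {x : K} (h : PU p x) : x ≠ 0 := by
  obtain ⟨a, b, ha, -, e⟩ := h
  intro hx
  rw [hx, zero_mul] at e
  have : a = 0 := (IsFractionRing.injective R K) (e.symm.trans (map_zero _).symm)
  exact ha (this ▸ dvd_zero p)

lemma PU.one {p : R} (hp : Prime p) : PU p (1 : K) :=
  ⟨1, 1, fun h => hp.not_unit (isUnit_of_dvd_one h), fun h => hp.not_unit (isUnit_of_dvd_one h),
    by simp⟩

lemma PU.mul {p : R} (hp : Prime p) {x y : K} (hx : PU p x) (hy : PU p y) : PU p (x * y) := by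
  obtain ⟨a, b, ha, hb, e⟩ := hx
  obtain ⟨a', b', ha', hb', e'⟩ := hy
  refine ⟨a * a', b * b', fun h => (hp.dvd_or_dvd h).elim ha ha',
    fun h => (hp.dvd_or_dvd h).elim hb hb', ?_⟩
  rw [map_mul, map_mul, ← e, ← e']
  ring

lemma PU.inv {p : R} {x : K} (hx : PU p x) : PU p x⁻¹ := by
  have h0 := hx.ne_zero
  obtain ⟨a, b, ha, hb, e⟩ := hx
  refine ⟨b, a, hb, ha, ?_⟩
  rw [← e]
  field_simp

lemma PU.div {p : R} (hp : Prime p) {x y : K} (hx : PU p x) (hy : PU p y) : PU p (x / y) := by
  rw [div_eq_mul_inv]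
  exact hx.mul hp hy.inv

lemma PU.pow {p : R} (hp : Prime p) {x : K} (hx : PU p x) (n : ℕ) : PU p (x ^ n) := by
  induction n with
  | zero => rw [pow_zero]; exact PU.one hp
  | succ n ih => rw [pow_succ]; exact ih.mul hp hx

lemma PU.zpow {p : R} (hp : Prime p) {x : K} (hx : PU p x) (n : ℤ) : PU p (x ^ n) := by
  cases n with
  | ofNat n => rw [Int.ofNat_eq_natCast, zpow_natCast]; exact hx.pow hp n
  | negSucc n => rw [zpow_negSucc]; exact (hx.pow hp _).inv

lemma PU.of_associated {p p' : R} (h : Associated p p') {x : K} (hx : PU p x) : PU p' x := by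
  obtain ⟨a, b, ha, hb, e⟩ := hx
  exact ⟨a, b, fun h' => ha (h.dvd.trans h'), fun h' => hb (h.dvd.trans h'), e⟩

lemma PU.of_not_dvd {p : R} (hp : Prime p) {a : R} (h : ¬ p ∣ a) : PU p (algebraMap R K a) :=
  ⟨a, 1, h, fun h => hp.not_unit (isUnit_of_dvd_one h), by simp⟩

lemma PU.prime_of_not_associated {p q : R} (hp : Prime p) (hq : Prime q) (h : ¬ Associated p q) :
    PU p (algebraMap R K q) :=
  PU.of_not_dvd hp (fun hd => h (hp.associated_of_dvd hq hd))

lemma UnitAway.pu {p g : R} (hp : Prime p) (hpg : ¬ p ∣ g) {x : K} (hx : UnitAway g x) : PU p x := by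
  obtain ⟨h0, ⟨n, a, e⟩, ⟨m, b, e'⟩⟩ := hx
  have hab : a * b = g ^ (n + m) := by
    apply IsFractionRing.injective R K
    rw [map_mul, ← e, ← e', map_pow, pow_add]
    field_simp
  have hpa : ¬ p ∣ a := by
    intro h
    have : p ∣ g ^ (n + m) := hab ▸ Dvd.dvd.mul_right h b
    exact hpg (hp.dvd_of_dvd_pow this)
  refine ⟨a, g ^ n, hpa, fun h => hpg (hp.dvd_of_dvd_pow h), ?_⟩
  rw [map_pow, e]

section UFD

variable [UniqueFactorizationMonoid R]

lemma exists_dvd_pow (g b : R) (hb : b ≠ 0) (h : ∀ p, Prime p → p ∣ b → p ∣ g) :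
    ∃ n : ℕ, b ∣ g ^ n := by
  induction b using UniqueFactorizationMonoid.induction_on_prime with
  | h₁ => exact absurd rfl hb
  | h₂ x hx => exact ⟨0, by rw [pow_zero]; exact hx.dvd⟩
  | h₃ a p ha hp ih =>
    obtain ⟨n, hn⟩ := ih ha (fun q hq hqa => h q hq (Dvd.dvd.mul_left hqa p))
    have hpg : p ∣ g := h p hp (Dvd.intro a rfl)
    exact ⟨n + 1, by rw [pow_succ']; exact mul_dvd_mul hpg hn⟩

lemma inAway_of_forall_pu (g : R) (x : K) (h : ∀ p, Prime p → ¬ p ∣ g → PU p x) : InAway g x := by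
  obtain ⟨a, b, hrel, hx⟩ := IsFractionRing.exists_reduced_fraction (A := R) x
  have hb0 : (b : R) ≠ 0 := nonZeroDivisors.ne_zero b.2
  have hspec : x * algebraMap R K b = algebraMap R K a := by
    rw [← hx]; exact IsLocalization.mk'_spec K a b
  have key : ∀ p, Prime p → p ∣ (b : R) → p ∣ g := by
    intro p hp hpb
    by_contra hpg
    obtain ⟨a', b', ha', hb', e'⟩ := h p hp hpg
    have e2 : a * b' = a' * b := by
      apply IsFractionRing.injective R K
      rw [map_mul, map_mul, ← hspec, ← e']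
      ring
    have : p ∣ a * b' := e2 ▸ Dvd.dvd.mul_left hpb a'
    rcases hp.dvd_or_dvd this with h1 | h1
    · exact hp.not_unit (hrel h1 hpb)
    · exact hb' h1
  obtain ⟨n, d, hd⟩ := exists_dvd_pow g b hb0 key
  refine ⟨n, a * d, ?_⟩
  rw [← map_pow, hd, map_mul, map_mul, ← mul_assoc, hspec]

lemma unitAway_of_forall_pu (g : R) (x : K) (h : ∀ p, Prime p → ¬ p ∣ g → PU p x) (hx : x ≠ 0) :
    UnitAway g x :=
  ⟨hx, inAway_of_forall_pu g x h, inAway_of_forall_pu g x⁻¹ (fun p hp hpg => (h p hp hpg).inv)⟩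

lemma exists_zpow_pu {p : R} (hp : Prime p) {x : K} (hx : x ≠ 0) :
    ∃ e : ℤ, PU p (x / algebraMap R K p ^ e) := by
  obtain ⟨a, b, -, hxab⟩ := IsFractionRing.exists_reduced_fraction (A := R) x
  have hb0 : (b : R) ≠ 0 := nonZeroDivisors.ne_zero b.2
  have hspec : x * algebraMap R K b = algebraMap R K a := by
    rw [← hxab]; exact IsLocalization.mk'_spec K a b
  have ha0 : a ≠ 0 := by
    rintro rfl
    rw [map_zero] at hspec
    exact (mul_ne_zero hx (map_ne_zero' hb0)) hspec
  obtain ⟨k, a', ha', rfl⟩ := WfDvdMonoid.max_power_factor ha0 hp.irreducible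
  obtain ⟨l, b', hb', hbe⟩ := WfDvdMonoid.max_power_factor hb0 hp.irreducible
  have hp0 : algebraMap R K p ≠ 0 := map_ne_zero' hp.ne_zero
  refine ⟨(k : ℤ) - l, a', b', ha', hb', ?_⟩
  rw [hbe, map_mul, map_mul, map_pow, map_pow] at hspec
  rw [zpow_sub₀ hp0, zpow_natCast, zpow_natCast]
  have h1 : algebraMap R K p ^ k ≠ 0 := pow_ne_zero _ hp0
  have h2 : algebraMap R K p ^ l ≠ 0 := pow_ne_zero _ hp0
  field_simp
  linear_combination hspec

theorem exists_common_factor {ι : Type*} (g : ι → R) (hg : ∀ i, g i ≠ 0) (c : ι → K)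
    (hc : ∀ i j, UnitAway (g i * g j) (c i / c j)) :
    ∃ m : K, m ≠ 0 ∧ ∀ i, UnitAway (g i) (c i / m) := by
  classical
  by_cases hι : IsEmpty ι
  · exact ⟨1, one_ne_zero, fun i => (hι.false i).elim⟩
  rw [not_isEmpty_iff] at hι
  obtain ⟨i₀⟩ := hι
  have hc0 : ∀ i, c i ≠ 0 := by
    intro i h
    have := (hc i i).1
    rw [h, div_zero] at this
    exact this rfl
  have claim : ∀ Q : List R, (∀ q ∈ Q, Prime q) → ∃ m : K, m ≠ 0 ∧
      ∀ i, ∀ p, Prime p → ¬ p ∣ g i → (¬ p ∣ g i₀ ∨ ∃ q ∈ Q, Associated p q) →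
        PU p (c i / (c i₀ * m)) := by
    intro Q
    induction Q with
    | nil =>
      intro _
      refine ⟨1, one_ne_zero, ?_⟩
      intro i p hp hpi hor
      rcases hor with h | ⟨q, hq, -⟩
      · rw [mul_one]
        exact (hc i i₀).pu hp (fun hd => (hp.dvd_or_dvd hd).elim hpi h)
      · simp at hq
    | cons q Q' ih =>
      intro hQ
      have hq : Prime q := hQ q List.mem_cons_self
      obtain ⟨m, hm0, hm⟩ := ih (fun q' hq' => hQ q' (List.mem_cons_of_mem _ hq'))
      by_cases hcase : (∃ q' ∈ Q', Associated q q') ∨ (∀ i, q ∣ g i) ∨ ¬ q ∣ g i₀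
      · refine ⟨m, hm0, ?_⟩
        intro i p hp hpi hor
        rcases hor with h | ⟨q'', hq'', hass⟩
        · exact hm i p hp hpi (Or.inl h)
        · rcases List.mem_cons.mp hq'' with rfl | hq''
          · rcases hcase with ⟨q', hq', hass'⟩ | hall | hnd
            · exact hm i p hp hpi (Or.inr ⟨q', hq', hass.trans hass'⟩)
            · exact absurd (hass.dvd.trans (hall i)) hpi
            · exact hm i p hp hpi (Or.inl (fun hd => hnd (hass.symm.dvd.trans hd)))
          · exact hm i p hp hpi (Or.inr ⟨q'', hq'', hass⟩)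
      · push_neg at hcase
        obtain ⟨hnass, ⟨iq, hiq⟩, hqi₀⟩ := hcase
        have hne : c iq / (c i₀ * m) ≠ 0 :=
          div_ne_zero (hc0 iq) (mul_ne_zero (hc0 i₀) hm0)
        obtain ⟨e, he⟩ := exists_zpow_pu hq hne
        have hq0 : algebraMap R K q ≠ 0 := map_ne_zero' hq.ne_zero
        refine ⟨m * algebraMap R K q ^ e, mul_ne_zero hm0 (zpow_ne_zero _ hq0), ?_⟩
        intro i p hp hpi hor
        by_cases hpq : Associated p q
        · have h1 : PU q (c i / c iq) :=
            (hc i iq).pu hq (fun hd => (hq.dvd_or_dvd hd).elim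
              (fun h => hpi (hpq.dvd.trans h)) hiq)
          have h2 := h1.mul hq he
          have e1 : c i / c iq * (c iq / (c i₀ * m) / algebraMap R K q ^ e) =
              c i / (c i₀ * (m * algebraMap R K q ^ e)) := by
            have := hc0 iq
            have := hc0 i₀
            have := zpow_ne_zero e hq0
            field_simp
          rw [e1] at h2
          exact h2.of_associated hpq.symm
        · have h1 : PU p (c i / (c i₀ * m)) := by
            rcases hor with h | ⟨q'', hq'', hass⟩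
            · exact hm i p hp hpi (Or.inl h)
            · rcases List.mem_cons.mp hq'' with rfl | hq''
              · exact absurd hass hpq
              · exact hm i p hp hpi (Or.inr ⟨q'', hq'', hass⟩)
          have h2 : PU p (algebraMap R K q ^ e) :=
            (PU.prime_of_not_associated hp hq hpq).zpow hp e
          have h3 := h1.div hp h2
          have e1 : c i / (c i₀ * m) / algebraMap R K q ^ e =
              c i / (c i₀ * (m * algebraMap R K q ^ e)) := by
            have := hc0 i₀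
            have := zpow_ne_zero e hq0
            field_simp
          rw [e1] at h3
          exact h3
  have hg0 : g i₀ ≠ 0 := hg i₀
  obtain ⟨m, hm0, hm⟩ := claim (UniqueFactorizationMonoid.factors (g i₀)).toList
    (fun q hq => UniqueFactorizationMonoid.prime_of_factor q (Multiset.mem_toList.mp hq))
  refine ⟨c i₀ * m, mul_ne_zero (hc0 i₀) hm0, fun i => ?_⟩
  apply unitAway_of_forall_pu
  · intro p hp hpi
    apply hm i p hp hpi
    by_cases hd : p ∣ g i₀
    · right
      obtain ⟨q, hq, hass⟩ := UniqueFactorizationMonoid.exists_mem_factors_of_dvd hg0 hp.irreducible hd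
      exact ⟨q, Multiset.mem_toList.mpr hq, hass⟩
    · exact Or.inl hd
  · exact div_ne_zero (hc0 i) (mul_ne_zero (hc0 i₀) hm0)

end UFD

end Groth.Agent.Lib.helper21.UfdCocycle
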