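import Mathlib
import Groth.Agent.Lib.Helper21.UfdCocycle

/-!
# Gluing local generators of a module on `Spec R`, `R` a UFD (helper21)

`P` a sheaf of modules on `Spec R`, `R` a unique factorisation domain; `s i` sections over `D(g i)` generating `P`
freely on every open contained in `D(g i)`.  Then there is a section `t` over `⋃ D(g i)` generating `P` freely
on every open contained in some `D(g i)` (`exists_generator`).
-/

set_option autoImplicit false
universe u
open AlgebraicGeometry CategoryTheory Opposite TopologicalSpace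

namespace Groth.Agent.Lib.helper21.UfdPic

open Groth.Agent.Lib.helper21.UfdCocycle

variable (R : Type u) [CommRing R] [IsDomain R]

/-- the function field of `Spec R` -/
noncomputable abbrev K : Type u := (Spec (CommRingCat.of R)).functionField

noncomputable instance : Algebra R (K R) :=
  instAlgebraCarrierFunctionFieldSpec (CommRingCat.of R)

instance : IsFractionRing R (K R) :=
  functionField_isFractionRing_of_affine (CommRingCat.of R)

/-- the generic point -/
noncomputable abbrev η : Spec (CommRingCat.of R) := genericPoint (Spec (CommRingCat.of R))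

lemma η_mem_basicOpen {g : R} (hg : g ≠ 0) :
    η R ∈ (PrimeSpectrum.basicOpen g : (Spec (CommRingCat.of R)).Opens) := by
  have h : η R = (⊥ : PrimeSpectrum R) := genericPoint_eq_bot_of_affine (CommRingCat.of R)
  rw [h]
  change g ∉ (⊥ : Ideal R)
  simpa using hg

variable {R}

/-- the germ at the generic point -/
noncomputable def γ (V : (Spec (CommRingCat.of R)).Opens) (hV : η R ∈ V) :
    Γ(Spec (CommRingCat.of R), V) →+* K R :=
  ((Spec (CommRingCat.of R)).presheaf.germ V (η R) hV).hom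

lemma γ_injective (V : (Spec (CommRingCat.of R)).Opens) (hV : η R ∈ V) :
    Function.Injective (γ V hV) :=
  germ_injective_of_isIntegral (Spec (CommRingCat.of R)) (η R) hV

lemma γ_res {V W : (Spec (CommRingCat.of R)).Opens} (h : W ≤ V) (hW : η R ∈ W)
    (a : Γ(Spec (CommRingCat.of R), V)) :
    γ W hW ((Spec (CommRingCat.of R)).presheaf.map (homOfLE h).op a) = γ V (h hW) a :=
  TopCat.Presheaf.germ_res_apply _ (homOfLE h) (η R) hW a

/-- the ring map `R → Γ(Spec R, V)` -/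
noncomputable def toΓ (V : (Spec (CommRingCat.of R)).Opens) : R →+* Γ(Spec (CommRingCat.of R), V) :=
  algebraMap R ((Spec.structureSheaf R).obj.obj (op V))

lemma γ_toΓ (V : (Spec (CommRingCat.of R)).Opens) (hV : η R ∈ V) (r : R) :
    γ V hV (toΓ V r) = algebraMap R (K R) r :=
  StructureSheaf.algebraMap_germ_apply (R := R) V (η R) hV r

lemma exists_mul_toΓ_eq (g : R) (a : Γ(Spec (CommRingCat.of R), PrimeSpectrum.basicOpen g)) :
    ∃ (n : ℕ) (r : R), a * toΓ _ (g ^ n) = toΓ _ r := by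
  obtain ⟨⟨r, ⟨_, n, rfl⟩⟩, h⟩ := IsLocalization.surj (Submonoid.powers g)
    (show (Spec.structureSheaf R).obj.obj (op (PrimeSpectrum.basicOpen g)) from a)
  exact ⟨n, r, h⟩

lemma exists_eq_mul_toΓ (g : R) (n : ℕ) (r : R) :
    ∃ a : Γ(Spec (CommRingCat.of R), PrimeSpectrum.basicOpen g), a * toΓ _ (g ^ n) = toΓ _ r :=
  ⟨IsLocalization.mk' ((Spec.structureSheaf R).obj.obj (op (PrimeSpectrum.basicOpen g))) r
      (⟨g ^ n, n, rfl⟩ : Submonoid.powers g),
    IsLocalization.mk'_spec ((Spec.structureSheaf R).obj.obj (op (PrimeSpectrum.basicOpen g)))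
      r (⟨g ^ n, n, rfl⟩ : Submonoid.powers g)⟩

lemma inAway_γ {g : R} (V : (Spec (CommRingCat.of R)).Opens)
    (hV : V = PrimeSpectrum.basicOpen g) (hη : η R ∈ V) (a : Γ(Spec (CommRingCat.of R), V)) :
    InAway g (γ V hη a) := by
  subst hV
  obtain ⟨n, r, h⟩ := exists_mul_toΓ_eq g a
  refine ⟨n, r, ?_⟩
  have h2 := congrArg (γ (PrimeSpectrum.basicOpen g) hη) h
  rw [map_mul, γ_toΓ, γ_toΓ, map_pow] at h2
  exact h2

lemma exists_γ_eq {g : R} (hg : g ≠ 0) (x : K R) (hx : InAway g x) :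
    ∃ a : Γ(Spec (CommRingCat.of R), PrimeSpectrum.basicOpen g),
      γ _ (η_mem_basicOpen R hg) a = x := by
  obtain ⟨n, r, e⟩ := hx
  obtain ⟨a, h⟩ := exists_eq_mul_toΓ g n r
  refine ⟨a, ?_⟩
  have h2 := congrArg (γ (PrimeSpectrum.basicOpen g) (η_mem_basicOpen R hg)) h
  rw [map_mul, γ_toΓ, γ_toΓ, map_pow] at h2
  have h0 : algebraMap R (K R) g ^ n ≠ 0 := pow_ne_zero _ (map_ne_zero' hg)
  exact mul_right_cancel₀ h0 (h2.trans e.symm)

lemma exists_unit_γ_eq {g : R} (hg : g ≠ 0) (x : K R) (hx : UnitAway g x) :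
    ∃ a b : Γ(Spec (CommRingCat.of R), PrimeSpectrum.basicOpen g),
      a * b = 1 ∧ γ _ (η_mem_basicOpen R hg) a = x ∧ γ _ (η_mem_basicOpen R hg) b = x⁻¹ := by
  obtain ⟨h0, h1, h2⟩ := hx
  obtain ⟨a, ha⟩ := exists_γ_eq hg x h1
  obtain ⟨b, hb⟩ := exists_γ_eq hg x⁻¹ h2
  refine ⟨a, b, ?_, ha, hb⟩
  apply γ_injective _ (η_mem_basicOpen R hg)
  rw [map_mul, ha, hb, map_one, mul_inv_cancel₀ h0]

lemma unitAway_γ {g : R} (V : (Spec (CommRingCat.of R)).Opens)
    (hV : V = PrimeSpectrum.basicOpen g) (hη : η R ∈ V) (a b : Γ(Spec (CommRingCat.of R), V))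
    (hab : a * b = 1) : UnitAway g (γ V hη a) := by
  have h1 : γ V hη a * γ V hη b = 1 := by rw [← map_mul, hab, map_one]
  have h0 : γ V hη a ≠ 0 := left_ne_zero_of_mul_eq_one h1
  refine ⟨h0, inAway_γ V hV hη a, ?_⟩
  have : (γ V hη a)⁻¹ = γ V hη b := (eq_inv_of_mul_eq_one_right h1).symm
  rw [this]
  exact inAway_γ V hV hη b

section glue

variable (P : (Spec (CommRingCat.of R)).Modules)

/-- restriction of sections of `P` -/
noncomputable abbrev ρ {A V : (Spec (CommRingCat.of R)).Opens} (h : V ≤ A) (x : Γ(P, A)) : Γ(P, V) :=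
  P.presheaf.map (homOfLE h).op x

/-- restriction of functions -/
noncomputable abbrev rr {A V : (Spec (CommRingCat.of R)).Opens} (h : V ≤ A)
    (a : Γ(Spec (CommRingCat.of R), A)) : Γ(Spec (CommRingCat.of R), V) :=
  (Spec (CommRingCat.of R)).presheaf.map (homOfLE h).op a

lemma ρ_ρ {A B V : (Spec (CommRingCat.of R)).Opens} (h₁ : B ≤ A) (h₂ : V ≤ B) (x : Γ(P, A)) :
    ρ P h₂ (ρ P h₁ x) = ρ P (h₂.trans h₁) x := by
  unfold ρ
  rw [← ConcreteCategory.comp_apply, ← Functor.map_comp]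
  rfl

lemma ρ_smul {A V : (Spec (CommRingCat.of R)).Opens} (h : V ≤ A)
    (a : Γ(Spec (CommRingCat.of R), A)) (x : Γ(P, A)) :
    ρ P h (a • x) = rr h a • ρ P h x :=
  Scheme.Modules.map_smul P (homOfLE h) a x

lemma γ_rr {A V : (Spec (CommRingCat.of R)).Opens} (h : V ≤ A) (hV : η R ∈ V)
    (a : Γ(Spec (CommRingCat.of R), A)) : γ V hV (rr h a) = γ A (h hV) a :=
  γ_res h hV a

variable [UniqueFactorizationMonoid R]

theorem exists_generator {ι : Type*} (g : ι → R) (hg : ∀ i, g i ≠ 0)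
    (s : ∀ i, Γ(P, (PrimeSpectrum.basicOpen (g i) : (Spec (CommRingCat.of R)).Opens)))
    (hs : ∀ (i : ι) (V : (Spec (CommRingCat.of R)).Opens)
      (h : V ≤ (PrimeSpectrum.basicOpen (g i) : (Spec (CommRingCat.of R)).Opens)),
      Function.Bijective (fun a : Γ(Spec (CommRingCat.of R), V) => a • ρ P h (s i))) :
    ∃ t : Γ(P, ⨆ i, (PrimeSpectrum.basicOpen (g i) : (Spec (CommRingCat.of R)).Opens)),
      ∀ (i : ι) (V : (Spec (CommRingCat.of R)).Opens)
        (h : V ≤ (PrimeSpectrum.basicOpen (g i) : (Spec (CommRingCat.of R)).Opens)),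
        Function.Bijective (fun a : Γ(Spec (CommRingCat.of R), V) =>
          a • ρ P (h.trans (le_iSup (fun i => (PrimeSpectrum.basicOpen (g i) :
            (Spec (CommRingCat.of R)).Opens)) i)) t) := by
  classical
  by_cases hι : IsEmpty ι
  · exact ⟨0, fun i => (hι.false i).elim⟩
  obtain ⟨i₀⟩ := not_isEmpty_iff.mp hι
  let D : ι → (Spec (CommRingCat.of R)).Opens := fun i => PrimeSpectrum.basicOpen (g i)
  let W : ι → ι → (Spec (CommRingCat.of R)).Opens := fun i j => D i ⊓ D j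
  have hW : ∀ i j, W i j = PrimeSpectrum.basicOpen (g i * g j) :=
    fun i j => (PrimeSpectrum.basicOpen_mul _ _).symm
  have hηD : ∀ i, η R ∈ D i := fun i => η_mem_basicOpen R (hg i)
  have hηW : ∀ i j, η R ∈ W i j := fun i j => ⟨hηD i, hηD j⟩
  -- transition functions
  have hu : ∀ i j, ∃ u : Γ(Spec (CommRingCat.of R), W i j),
      ρ P (inf_le_left : W i j ≤ D i) (s i) = u • ρ P (inf_le_right : W i j ≤ D j) (s j) :=
    fun i j => ((hs j (W i j) inf_le_right).2 _).imp (fun u hu => hu.symm)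
  choose u hu using hu
  have hunit : ∀ i j, ∃ v : Γ(Spec (CommRingCat.of R), W i j), u i j * v = 1 := by
    intro i j
    obtain ⟨v, hv⟩ := (hs i (W i j) inf_le_left).2 (ρ P (inf_le_right : W i j ≤ D j) (s j))
    refine ⟨v, (hs i (W i j) inf_le_left).1 ?_⟩
    change (u i j * v) • ρ P _ (s i) = (1 : Γ(Spec (CommRingCat.of R), W i j)) • ρ P _ (s i)
    have hv' : v • ρ P (inf_le_left : W i j ≤ D i) (s i) = ρ P (inf_le_right : W i j ≤ D j) (s j) := hv
    rw [mul_smul, hv', ← hu, one_smul]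
  choose v hv using hunit
  -- cocycle condition at the generic point
  have hcoc : ∀ i j, γ _ (hηW i i₀) (u i i₀) = γ _ (hηW i j) (u i j) * γ _ (hηW j i₀) (u j i₀) := by
    intro i j
    let T : (Spec (CommRingCat.of R)).Opens := D i ⊓ D j ⊓ D i₀
    have hT : η R ∈ T := ⟨⟨hηD i, hηD j⟩, hηD i₀⟩
    have hTi : T ≤ D i := inf_le_left.trans inf_le_left
    have hTj : T ≤ D j := inf_le_left.trans inf_le_right
    have hT0 : T ≤ D i₀ := inf_le_right
    have hTij : T ≤ W i j := inf_le_left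
    have hTj0 : T ≤ W j i₀ := le_inf hTj hT0
    have hTi0 : T ≤ W i i₀ := le_inf hTi hT0
    have e1 : ρ P hTi (s i) = rr hTij (u i j) • ρ P hTj (s j) := by
      have := congrArg (ρ P hTij) (hu i j)
      rwa [ρ_smul, ρ_ρ, ρ_ρ] at this
    have e2 : ρ P hTj (s j) = rr hTj0 (u j i₀) • ρ P hT0 (s i₀) := by
      have := congrArg (ρ P hTj0) (hu j i₀)
      rwa [ρ_smul, ρ_ρ, ρ_ρ] at this
    have e3 : ρ P hTi (s i) = rr hTi0 (u i i₀) • ρ P hT0 (s i₀) := by
      have := congrArg (ρ P hTi0) (hu i i₀)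
      rwa [ρ_smul, ρ_ρ, ρ_ρ] at this
    have e4 : rr hTi0 (u i i₀) = rr hTij (u i j) * rr hTj0 (u j i₀) := by
      apply (hs i₀ T hT0).1
      change rr hTi0 (u i i₀) • ρ P hT0 (s i₀) = (rr hTij (u i j) * rr hTj0 (u j i₀)) • ρ P hT0 (s i₀)
      rw [← e3, mul_smul, ← e2, ← e1]
    have e5 := congrArg (γ T hT) e4
    rwa [map_mul, γ_rr, γ_rr, γ_rr] at e5
  let c : ι → K R := fun i => γ _ (hηW i i₀) (u i i₀)
  have hc0 : ∀ i, c i ≠ 0 := by
    intro i
    have : c i * γ _ (hηW i i₀) (v i i₀) = 1 := by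
      change γ _ (hηW i i₀) (u i i₀) * γ _ (hηW i i₀) (v i i₀) = 1
      rw [← map_mul, hv, map_one]
    exact left_ne_zero_of_mul_eq_one this
  have hcdiv : ∀ i j, c i / c j = γ _ (hηW i j) (u i j) := by
    intro i j
    rw [div_eq_iff (hc0 j)]
    exact hcoc i j
  have hcu : ∀ i j, UnitAway (g i * g j) (c i / c j) := by
    intro i j
    rw [hcdiv]
    exact unitAway_γ (W i j) (hW i j) (hηW i j) (u i j) (v i j) (hv i j)
  obtain ⟨m, hm0, hm⟩ := exists_common_factor g hg c hcu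
  have hβ : ∀ i, ∃ a b : Γ(Spec (CommRingCat.of R), D i),
      a * b = 1 ∧ γ _ (hηD i) a = c i / m ∧ γ _ (hηD i) b = (c i / m)⁻¹ :=
    fun i => exists_unit_γ_eq (hg i) _ (hm i)
  choose β β' hββ' hβc hβ'c using hβ
  let t₀ : ∀ i, Γ(P, D i) := fun i => β' i • s i
  -- compatibility
  have hcomp : TopCat.Presheaf.IsCompatible P.presheaf D t₀ := by
    intro i j
    change ρ P (inf_le_left : W i j ≤ D i) (β' i • s i) = ρ P (inf_le_right : W i j ≤ D j) (β' j • s j)
    rw [ρ_smul, ρ_smul, hu i j, ← mul_smul]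
    congr 1
    apply γ_injective _ (hηW i j)
    rw [map_mul, γ_rr, γ_rr, hβ'c, hβ'c, ← hcdiv]
    have := hc0 i
    have := hc0 j
    field_simp
  obtain ⟨t, ht, -⟩ := TopCat.Sheaf.existsUnique_gluing'
    (⟨P.presheaf, P.isSheaf⟩ : TopCat.Sheaf Ab (Spec (CommRingCat.of R))) D (⨆ i, D i)
    (fun i => homOfLE (le_iSup D i)) le_rfl t₀ hcomp
  refine ⟨t, ?_⟩
  intro i V h
  have ht' : ρ P (le_iSup D i) t = β' i • s i := ht i
  have e : ρ P (h.trans (le_iSup D i)) t = rr h (β' i) • ρ P h (s i) := by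
    rw [← ρ_ρ P (le_iSup D i) h, ht', ρ_smul]
  have hb := hs i V h
  have hunitV : rr h (β i) * rr h (β' i) = 1 := by
    change (Spec (CommRingCat.of R)).presheaf.map (homOfLE h).op (β i) *
      (Spec (CommRingCat.of R)).presheaf.map (homOfLE h).op (β' i) = 1
    rw [← map_mul, hββ', map_one]
  have hfun : (fun a : Γ(Spec (CommRingCat.of R), V) => a • ρ P (h.trans (le_iSup D i)) t) =
      (fun a : Γ(Spec (CommRingCat.of R), V) => a • ρ P h (s i)) ∘ (fun a => a * rr h (β' i)) := by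
    funext a
    change a • ρ P (h.trans (le_iSup D i)) t = (a * rr h (β' i)) • ρ P h (s i)
    rw [e, mul_smul]
  refine (congrArg Function.Bijective hfun).mpr (hb.comp ?_)
  constructor
  · intro a a' haa'
    have := congrArg (· * rr h (β i)) haa'
    simpa [mul_assoc, mul_comm (rr h (β' i)), hunitV] using this
  · intro a
    refine ⟨a * rr h (β i), ?_⟩
    change a * rr h (β i) * rr h (β' i) = a
    rw [mul_assoc, hunitV, mul_one]

end glue

end Groth.Agent.Lib.helper21.UfdPic
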