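import Mathlib
import Groth.Agent.Lib.Helper21.UfdPic1
import Groth.Agent.Lib.Helper28.LocalGen
import Groth.Agent.Lib.Helper12.AmpleBasis

/-!
# Invertible modules on open subschemes of `Spec R`, `R` a UFD, are trivial (helper21)

* `exists_generator_of_isTrivOn`: a module trivial on `N` has a section over `N` generating it freely on every
  open contained in `N`.
* `picTrivial`: `R` a unique factorisation domain, `U ⊆ Spec R` open, `L` invertible on `U`: `L ≅ O_U`.
-/

set_option autoImplicit false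
universe u
open AlgebraicGeometry CategoryTheory Opposite TopologicalSpace

namespace Groth.Agent.Lib.helper21.UfdPic

open Groth.Agent.Lib.helper11.InvMod Groth.Agent.Lib.helper28.LocalGen

theorem exists_generator_of_isTrivOn {Y : Scheme.{u}} (L : Y.Modules) (N : Y.Opens)
    (h : IsTrivOn L N) :
    ∃ s : Γ(L, N), ∀ (V : Y.Opens) (hV : V ≤ N),
      Function.Bijective (fun a : Γ(Y, V) => a • L.presheaf.map (homOfLE hV).op s) := by
  obtain ⟨e⟩ := h
  let M := L.restrict N.ι
  let s₁ : Γ(M, ⊤) := (e.inv.app ⊤).hom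
    (show Γ(Coh.structureModule (↑N : Scheme.{u}), ⊤) from (1 : Γ((↑N : Scheme.{u}), ⊤)))
  have hWe : N.ι ''ᵁ ⊤ = N := Scheme.Opens.ι_image_top N
  let s₂ : Γ(L, N.ι ''ᵁ ⊤) := s₁
  refine ⟨L.presheaf.map (eqToHom hWe.symm).op s₂, ?_⟩
  intro V hV
  let V' : (↑N : Scheme.{u}).Opens := N.ι ⁻¹ᵁ V
  have he : N.ι ''ᵁ V' = V := by
    rw [Scheme.Hom.image_preimage_eq_opensRange_inf, Scheme.Opens.opensRange_ι]
    exact inf_eq_right.mpr hV
  have b1 : Function.Bijective (e.inv.app V').hom :=
    ConcreteCategory.bijective_of_isIso (e.inv.app V')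
  have hform : ∀ a : Γ((↑N : Scheme.{u}), V'),
      (e.inv.app V').hom (show Γ(Coh.structureModule (↑N : Scheme.{u}), V') from a) =
        a • M.presheaf.map (homOfLE (le_top : V' ≤ ⊤)).op s₁ := fun a => unit_hom_app M e.inv V' a
  have b2 : Function.Bijective (fun a : Γ((↑N : Scheme.{u}), V') =>
      a • M.presheaf.map (homOfLE (le_top : V' ≤ ⊤)).op s₁) := by
    have : (fun a : Γ((↑N : Scheme.{u}), V') =>
        a • M.presheaf.map (homOfLE (le_top : V' ≤ ⊤)).op s₁) = (e.inv.app V').hom := by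
      funext a
      exact (hform a).symm
    rw [this]
    exact b1
  have hle : N.ι ''ᵁ V' ≤ N.ι ''ᵁ ⊤ := N.ι.image_mono le_top
  let t : Γ(L, N.ι ''ᵁ V') := L.presheaf.map (homOfLE hle).op s₂
  have b3 : Function.Bijective (fun a : Γ(Y, N.ι ''ᵁ V') => a • t) := by
    have : (fun a : Γ(Y, N.ι ''ᵁ V') => a • t) = (fun a : Γ((↑N : Scheme.{u}), V') =>
        a • M.presheaf.map (homOfLE (le_top : V' ≤ ⊤)).op s₁) := by
      funext a
      exact (Groth.Agent.Lib.helper7.IdealCartier.restrict_smul N L V' a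
        (M.presheaf.map (homOfLE (le_top : V' ≤ ⊤)).op s₁)).symm
    rw [this]
    exact b2
  have b4 := bijective_smul_of_eq L he.symm t b3
  have e2 : L.presheaf.map (eqToHom he.symm).op t = L.presheaf.map (homOfLE hV).op
      (L.presheaf.map (eqToHom hWe.symm).op s₂) := by
    change L.presheaf.map (eqToHom he.symm).op (L.presheaf.map (homOfLE hle).op s₂) = _
    rw [← ConcreteCategory.comp_apply, ← Functor.map_comp, ← ConcreteCategory.comp_apply,
      ← Functor.map_comp]
    rfl
  rw [e2] at b4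
  exact b4

section main

variable (R : Type u) [CommRing R] [IsDomain R] [UniqueFactorizationMonoid R]
  (U : (Spec (CommRingCat.of R)).Opens) (L : (U : Scheme.{u}).Modules) (hL : PicF.IsInvertible L)

include hL in
theorem exists_chart (y : ↥(U : Scheme.{u})) :
    ∃ g : R, g ≠ 0 ∧
      U.ι y ∈ (PrimeSpectrum.basicOpen g : (Spec (CommRingCat.of R)).Opens) ∧
      (PrimeSpectrum.basicOpen g : (Spec (CommRingCat.of R)).Opens) ≤ U ∧
      IsTrivOn L (U.ι ⁻¹ᵁ (PrimeSpectrum.basicOpen g : (Spec (CommRingCat.of R)).Opens)) := by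
  obtain ⟨N, -, hyN, -, hT⟩ := exists_affine_isTrivOn hL y ⊤ trivial
  have hx : U.ι y ∈ U.ι ''ᵁ N := ⟨y, hyN, rfl⟩
  obtain ⟨_, ⟨g, rfl⟩, hxg, hgle⟩ :=
    Opens.isBasis_iff_nbhd.mp (PrimeSpectrum.isBasis_basic_opens (R := R)) hx
  refine ⟨g, ?_, hxg, ?_, ?_⟩
  · rintro rfl
    rw [PrimeSpectrum.basicOpen_zero] at hxg
    exact hxg
  · refine hgle.trans ?_
    have := U.ι.image_le_opensRange N
    rwa [Scheme.Opens.opensRange_ι] at this
  · refine IsTrivOn.of_le ?_ hT
    intro y' hy'
    obtain ⟨n, hn, hny⟩ := hgle hy'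
    have : n = y' := U.ι.isOpenEmbedding.injective hny
    exact this ▸ hn

include hL in
theorem picTrivial : Nonempty (L ≅ Coh.structureModule (U : Scheme.{u})) := by
  classical
  haveI : L.IsQuasicoherent := Groth.Agent.Lib.helper12.AmpleBasis.isQuasicoherent_of_isInvertible hL
  choose g hg0 hyg hgU hT using exists_chart R U L hL
  let D : ↥(U : Scheme.{u}) → (Spec (CommRingCat.of R)).Opens := fun y => PrimeSpectrum.basicOpen (g y)
  let N : ↥(U : Scheme.{u}) → (U : Scheme.{u}).Opens := fun y => U.ι ⁻¹ᵁ D y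
  choose s' hs' using fun (y : ↥(U : Scheme.{u})) => exists_generator_of_isTrivOn L (N y) (hT y)
  let P : (Spec (CommRingCat.of R)).Modules := (Scheme.Modules.pushforward U.ι).obj L
  -- the `app` maps are bijective
  have happ : ∀ (y : ↥(U : Scheme.{u})) (V : (Spec (CommRingCat.of R)).Opens) (h : V ≤ D y),
      Function.Bijective (U.ι.app V).hom := by
    intro y V h
    haveI : IsIso (U.ι.app V) := U.ι.isIso_app V (by
      rw [Scheme.Opens.opensRange_ι]; exact h.trans (hgU y))
    exact ConcreteCategory.bijective_of_isIso (U.ι.app V)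
  let s : ∀ y : ↥(U : Scheme.{u}), Γ(P, D y) := fun y => s' y
  have hsP : ∀ (y : ↥(U : Scheme.{u})) (V : (Spec (CommRingCat.of R)).Opens) (h : V ≤ D y),
      Function.Bijective (fun a : Γ(Spec (CommRingCat.of R), V) => a • ρ P h (s y)) := by
    intro y V h
    have hV' : U.ι ⁻¹ᵁ V ≤ N y := fun z hz => h hz
    have b := hs' y (U.ι ⁻¹ᵁ V) hV'
    have : (fun a : Γ(Spec (CommRingCat.of R), V) => a • ρ P h (s y)) =
        (fun b : Γ((U : Scheme.{u}), U.ι ⁻¹ᵁ V) => b • L.presheaf.map (homOfLE hV').op (s' y)) ∘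
          (U.ι.app V).hom := by
      funext a
      rfl
    rw [this]
    exact b.comp (happ y V h)
  obtain ⟨t, ht⟩ := exists_generator P g hg0 s hsP
  have htop : (⊤ : (U : Scheme.{u}).Opens) ≤ U.ι ⁻¹ᵁ (⨆ y, D y) := by
    intro y _
    exact Opens.mem_iSup.mpr ⟨y, hyg y⟩
  let t' : Γ(L, ⊤) := L.presheaf.map (homOfLE htop).op (show Γ(L, U.ι ⁻¹ᵁ (⨆ y, D y)) from t)
  have hNaff : ∀ y : ↥(U : Scheme.{u}), IsAffineOpen (N y) := by
    intro y
    have he : U.ι ''ᵁ (N y) = D y := by
      rw [Scheme.Hom.image_preimage_eq_opensRange_inf, Scheme.Opens.opensRange_ι]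
      exact inf_eq_right.mpr (hgU y)
    rw [← U.ι.isAffineOpen_iff_of_isOpenImmersion, he]
    exact IsAffineOpen.Spec_basicOpen (R := CommRingCat.of R) (g y)
  have hcov : (⊤ : (U : Scheme.{u}).Opens) ≤ ⨆ y, N y := by
    intro y _
    exact Opens.mem_iSup.mpr ⟨y, hyg y⟩
  have key := isTrivOn_of_local_generator L ⊤ t' N hNaff (fun _ => le_top) hcov (by
    intro y
    have b := ht y (D y) le_rfl
    have hb2 := happ y (D y) le_rfl
    have : (fun a : Γ(Spec (CommRingCat.of R), D y) =>
        a • ρ P ((le_rfl : D y ≤ D y).trans (le_iSup (fun y => D y) y)) t) =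
        (fun b : Γ((U : Scheme.{u}), N y) =>
          b • L.presheaf.map (homOfLE (le_top : N y ≤ ⊤)).op t') ∘ (U.ι.app (D y)).hom := by
      funext a
      have e1 : ρ P ((le_rfl : D y ≤ D y).trans (le_iSup (fun y => D y) y)) t =
          L.presheaf.map (homOfLE (le_top : N y ≤ ⊤)).op t' := by
        change L.presheaf.map _ _ = L.presheaf.map _ (L.presheaf.map _ _)
        rw [← ConcreteCategory.comp_apply, ← Functor.map_comp]
        rfl
      rw [e1]
      rfl
    have b' : Function.Bijective ((fun b : Γ((U : Scheme.{u}), N y) =>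
          b • L.presheaf.map (homOfLE (le_top : N y ≤ ⊤)).op t') ∘ (U.ι.app (D y)).hom) := by
      rw [← this]
      exact b
    exact (Function.Bijective.of_comp_iff _ hb2).mp b')
  exact isTrivOn_top_iff.mp key

end main

end Groth.Agent.Lib.helper21.UfdPic
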