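import Mathlib
import Groth.Agent.Lib.Helper21.GCBase
import Groth.Agent.Lib.Helper21.CxClass
import Groth.Agent.Lib.Helper11.NegCxRows
import Groth.Agent.S2380

/-!
# Fibre cohomology of a flat coherent module under a proper morphism: finiteness and semicontinuity (helper21)

`f : X ⟶ Y` proper, `Y` locally Noetherian, `F` coherent and flat over `Y`:
* `upperSemicontinuous_fiberRank`: `y ↦ dim H^p(X_y, F_y)` is upper semicontinuous on `Y`;
* `finite_fiberH`: `H^p(X_y, F_y)` is finite dimensional over `κ(y)`;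
* `fiberRank_pos_iff`: `0 < h^p(y) ↔ H^p(X_y, F_y) ≠ 0`.
-/

set_option autoImplicit false
universe u

open CategoryTheory CategoryTheory.Limits Opposite TopologicalSpace AlgebraicGeometry

namespace Groth.Agent.Lib.helper21.FibreH0

open Groth.Agent.Lib.helper21.CxClass

section alg

variable {A : Type u} [CommRing A] (L : CochainComplex (ModuleCat.{u} A) ℤ)

theorem finite_homology_bcCx (p : ℤ) [Module.Finite A (L.X p)] (κ : Type u) [Field κ]
    [Algebra A κ] : Module.Finite κ ((CohIII.bcCx (algebraMap A κ) L).homology p) := by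
  haveI : Module.Finite κ ((CohIII.bcCx (algebraMap A κ) L).X p) :=
    Module.Finite.equiv (Groth.Agent.S2380.eM (κ := κ) (L.X p)).symm
  haveI : Module.Finite κ (((CohIII.bcCx (algebraMap A κ) L).sc p).X₂) := ‹_›
  exact Module.Finite.of_surjective (scCls ((CohIII.bcCx (algebraMap A κ) L).sc p))
    (scCls_surjective _)

end alg

section geo

variable {X Y : Scheme.{u}} (f : X ⟶ Y) [IsProper f] [IsLocallyNoetherian Y]
  (F : X.Modules) (hF : Coh.IsCoh F) (hfl : FlatMod.IsFlatOver f F)

include hF hfl in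
/-- local data: around every point there is an affine chart with a Grothendieck complex -/
theorem exists_chart (y : Y) :
    ∃ (V : Y.Opens) (hV : IsAffineOpen V) (x : ↑(Spec (CommRingCat.of Γ(Y, V))))
      (L : CochainComplex (ModuleCat.{u} Γ(Y, V)) ℤ),
      hV.fromSpec x = y ∧ IsNoetherianRing Γ(Y, V) ∧
      (∀ i, Module.Finite Γ(Y, V) (L.X i) ∧ Module.Flat Γ(Y, V) (L.X i)) ∧
      (∀ (x' : ↑(Spec (CommRingCat.of Γ(Y, V)))) (p : ℕ),
        CohIII.dRank L (p : ℤ) x' = CohIII.fiberRank f F p (hV.fromSpec x')) ∧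
      (∀ (x' : ↑(Spec (CommRingCat.of Γ(Y, V)))) (p : ℕ),
        Subsingleton (CohIII.fiberH f F (hV.fromSpec x') p) ↔
          IsZero ((CohIII.bcCx (algebraMap Γ(Y, V) x'.asIdeal.ResidueField) L).homology (p : ℤ))) := by
  obtain ⟨V, hV, hyV⟩ : ∃ V : Y.Opens, IsAffineOpen V ∧ y ∈ V := by
    obtain ⟨_, ⟨V, hV, rfl⟩, hyV, -⟩ :=
      Y.isBasis_affineOpens.exists_subset_of_mem_open (Set.mem_univ y) isOpen_univ
    exact ⟨V, hV, hyV⟩
  obtain ⟨x, hx⟩ : ∃ x, hV.fromSpec x = y := by
    have : y ∈ Set.range hV.fromSpec := by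
      rw [hV.range_fromSpec]
      exact hyV
    exact this
  haveI : IsNoetherianRing Γ(Y, V) := IsLocallyNoetherian.component_noetherian ⟨V, hV⟩
  letI := GCBase.overA f hV
  obtain ⟨L, h1, -, -, -, -, -, h7, h8⟩ := GCBase.exists_complex_chart f hV F hF hfl
  exact ⟨V, hV, x, L, hx, inferInstance, fun i => ⟨(h1 i).1, by haveI := (h1 i).2; infer_instance⟩,
    h7, h8⟩

include hF hfl in
/-- **semicontinuity**: `y ↦ dim H^p(X_y, F_y)` is upper semicontinuous -/
theorem upperSemicontinuous_fiberRank (p : ℕ) : UpperSemicontinuous (CohIII.fiberRank f F p) := by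
  intro y c hc
  obtain ⟨V, hV, x, L, rfl, hN, hL, h7, -⟩ := exists_chart f F hF hfl y
  have hc' : CohIII.dRank L (p : ℤ) x < c := (h7 x p).trans_lt hc
  have husc := Groth.Agent.Lib.helper11.NegCx.upperSemicontinuous_dRank L hL (p : ℤ) x c hc'
  rw [← hV.fromSpec.isOpenEmbedding.map_nhds_eq x, Filter.eventually_map]
  filter_upwards [husc] with x' hx'
  exact (h7 x' p).symm.trans_lt hx'

include hF hfl in
/-- `0 < h^p(y) ↔ H^p(X_y, F_y) ≠ 0` -/
theorem fiberRank_pos_iff (y : Y) (p : ℕ) :
    0 < CohIII.fiberRank f F p y ↔ Nontrivial (CohIII.fiberH f F y p) := by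
  obtain ⟨V, hV, x, L, rfl, hN, hL, h7, h8⟩ := exists_chart f F hF hfl y
  haveI := (hL (p : ℤ)).1
  haveI := finite_homology_bcCx L (p : ℤ) x.asIdeal.ResidueField
  rw [← h7 x p, ← not_subsingleton_iff_nontrivial, h8 x p]
  unfold CohIII.dRank
  rw [Module.finrank_pos_iff, ← not_subsingleton_iff_nontrivial]
  constructor
  · intro h hz
    exact h (ModuleCat.subsingleton_of_isZero hz)
  · intro h hs
    exact h (ModuleCat.isZero_of_subsingleton _)

include hF hfl in
/-- `H^p(X_y, F_y)` is finite dimensional over `κ(y)` -/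
theorem finite_fiberH (y : Y) (p : ℕ) :
    Module.Finite (Y.residueField y) (CohIII.fiberH f F y p) := by
  by_cases h : Nontrivial (CohIII.fiberH f F y p)
  · have hpos := (fiberRank_pos_iff f F hF hfl y p).mpr h
    exact Module.finite_of_finrank_pos hpos
  · rw [not_nontrivial_iff_subsingleton] at h
    infer_instance

end geo

end Groth.Agent.Lib.helper21.FibreH0
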