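import Mathlib
import Groth.Agent.Lib.Helper21.FibreH0
import Groth.Agent.Lib.Helper21.PicFibre

/-!
# Global functions on the fibres of a proper flat morphism (helper21)

* `fiberH0Equiv`: `H^0(X_y, N_y) ≃ₗ[κ(y)] Γ(X_y, O)` when `N_y ≅ O_{X_y}`;
* `finite_globalSections_fiber`: `Γ(X_y, O)` is finite dimensional over `κ(y)`;
* `finrank_fiber_eq_one`: integral fibres, compact base whose closed points have algebraically closed residue
  fields: `dim_κ(y) Γ(X_y, O) = 1` for every `y`.
-/

set_option autoImplicit false
universe u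

open CategoryTheory CategoryTheory.Limits Opposite TopologicalSpace AlgebraicGeometry

namespace Groth.Agent.Lib.helper21.FibreH0

open Groth.Agent.Lib.helper11.InvMod

section equiv

variable {X Y : Scheme.{u}} (f : X ⟶ Y)

/-- `H^0(X_y, N_y) ≃ₗ[κ(y)] Γ(X_y, O)` when `N_y ≅ O_{X_y}` -/
noncomputable def fiberH0Equiv (N : X.Modules) (y : Y)
    (e : CohIII.fiberMod f N y ≅ Coh.structureModule (f.fiber y)) :
    CohIII.fiberH f N y 0 ≃ₗ[Y.residueField y] Γ(f.fiber y, ⊤) :=
  let φ : (Y.residueField y) →+* Coh.Γtop (f.fiber y) :=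
    Coh.toGlobal (X := f.fiber y) (A := Y.residueField y) (f.fiberToSpecResidueField y)
  let e0 := Groth.Agent.Lib.Helper18.HH.equiv₀ (CohIII.fiberMod f N y)
  let e1 : (CohIII.fiberMod f N y).val.obj (op ⊤) ≃ₗ[Coh.Γtop (f.fiber y)]
      (Coh.structureModule (f.fiber y)).val.obj (op ⊤) :=
    ((SheafOfModules.evaluation _ (op ⊤)).mapIso e).toLinearEquiv
  let e2 : CohIII.fiberH f N y 0 ≃ₗ[Coh.Γtop (f.fiber y)] Coh.Γtop (f.fiber y) := e0.trans e1
  { toFun := fun z => e2 z
    invFun := fun c => e2.symm c
    map_add' := fun a b => map_add e2 a b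
    map_smul' := fun c z => by
      have h1 : c • z = φ c • z := rfl
      rw [h1, e2.map_smul, RingHom.id_apply, smul_eq_mul]
      rfl
    left_inv := fun z => e2.symm_apply_apply z
    right_inv := fun c => e2.apply_symm_apply c }

end equiv

section finite

variable {X Y : Scheme.{u}} (f : X ⟶ Y) [IsProper f] [Flat f] [IsLocallyNoetherian Y]

theorem isCoh_structureModule (X : Scheme.{u}) : Coh.IsCoh (Coh.structureModule X) :=
  Groth.Agent.Lib.helper21.InvFibre.isCoh_of_isInvertible (isInvertible_structureModule X)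

/-- `H^0(X_y, O_X|_{X_y}) ≃ₗ[κ(y)] Γ(X_y, O)` -/
noncomputable def fiberH0EquivUnit (y : Y) :
    CohIII.fiberH f (Coh.structureModule X) y 0 ≃ₗ[Y.residueField y] Γ(f.fiber y, ⊤) :=
  fiberH0Equiv f (Coh.structureModule X) y (pullbackUnitIso (f.fiberι y))

theorem finite_globalSections_fiber (y : Y) :
    Module.Finite (Y.residueField y) Γ(f.fiber y, ⊤) := by
  haveI := finite_fiberH f (Coh.structureModule X) (isCoh_structureModule X)
    (Groth.Agent.Lib.helper21.GCStein.isFlatOver_structureModule f) y 0
  exact Module.Finite.equiv (fiberH0EquivUnit f y)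

theorem fiberRank_structureModule (y : Y) :
    CohIII.fiberRank f (Coh.structureModule X) 0 y =
      Module.finrank (Y.residueField y) Γ(f.fiber y, ⊤) :=
  (fiberH0EquivUnit f y).finrank_eq

/-- integral fibres, compact base, closed points with algebraically closed residue fields:
`dim Γ(X_y, O) = 1` for all `y` -/
theorem finrank_fiber_eq_one [CompactSpace Y] (hint : ∀ y : Y, IsIntegral (f.fiber y))
    (hcl : ∀ z : Y, IsClosed ({z} : Set Y) → IsAlgClosed (Y.residueField z)) (y : Y) :
    Module.finrank (Y.residueField y) Γ(f.fiber y, ⊤) = 1 := by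
  have hO := isCoh_structureModule X
  have hfl := Groth.Agent.Lib.helper21.GCStein.isFlatOver_structureModule f
  -- closed points
  have hclosed : ∀ z : Y, IsClosed ({z} : Set Y) →
      Module.finrank (Y.residueField z) Γ(f.fiber z, ⊤) = 1 := by
    intro z hz
    haveI := hcl z hz
    haveI := hint z
    haveI := finite_globalSections_fiber f z
    haveI : IsDomain Γ(f.fiber z, ⊤) := inferInstance
    exact Algebra.finrank_eq_one_iff_bijective_algebraMap.mpr
      IsAlgClosed.algebraMap_bijective_of_isIntegral
  -- a closed specialization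
  obtain ⟨z, hzy, hz⟩ := (isClosed_closure (s := ({y} : Set Y))).exists_closed_singleton
    ⟨y, subset_closure rfl⟩
  have hspec : y ⤳ z := specializes_iff_mem_closure.mpr hzy
  have husc := upperSemicontinuous_fiberRank f (Coh.structureModule X) hO hfl 0
  have hle : CohIII.fiberRank f (Coh.structureModule X) 0 y ≤ 1 := by
    have hopen : IsOpen {y' : Y | CohIII.fiberRank f (Coh.structureModule X) 0 y' < 2} :=
      husc.isOpen_preimage 2
    have hzmem : z ∈ {y' : Y | CohIII.fiberRank f (Coh.structureModule X) 0 y' < 2} := by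
      show CohIII.fiberRank f (Coh.structureModule X) 0 z < 2
      rw [fiberRank_structureModule f z, hclosed z hz]
      norm_num
    have := hspec.mem_open hopen hzmem
    exact Nat.lt_succ_iff.mp this
  have hge : 0 < CohIII.fiberRank f (Coh.structureModule X) 0 y := by
    rw [fiberRank_pos_iff f (Coh.structureModule X) hO hfl y 0]
    haveI := hint y
    haveI : Nontrivial Γ(f.fiber y, ⊤) := inferInstance
    exact (fiberH0EquivUnit f y).toEquiv.nontrivial
  rw [← fiberRank_structureModule f y]
  omega

end finite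

end Groth.Agent.Lib.helper21.FibreH0
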