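import Mathlib
import Groth.Agent.Lib.Helper21.FibreH0b
import Groth.Agent.Lib.Helper12.PullTensor
import Groth.Agent.Lib.Helper12.InvDual2
import Groth.Agent.Lib.Helper20.TensorEquiv
import Groth.Agent.Lib.Lead.ModTensor

/-!
# The locus where an invertible module is trivial on the fibre is closed (helper21, for S16760)
-/

set_option autoImplicit false
universe u

open CategoryTheory CategoryTheory.Limits Opposite TopologicalSpace AlgebraicGeometry

namespace Groth.Agent.Lib.helper21.PicClosed

open Scheme.Modules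
open Groth.Agent.Lib.helper11.InvMod Groth.Agent.Lib.helper11.IsoLocus
open Groth.Agent.Lib.helper11.GenLocus Groth.Agent.Lib.helper11.InvHom
open Groth.Agent.Lib.helper21.InvFibre Groth.Agent.Lib.Lead.ModTensor
open Groth.Agent.Lib.Helper20.TensorEquiv

section integral

variable {Z : Scheme.{u}} [IsIntegral Z]

theorem homOfSec_ne_zero (N : Z.Modules) (s : N.val.obj (op ⊤)) (hs : s ≠ 0) : homOfSec N s ≠ 0 := by
  intro h
  apply hs
  rw [← homOfSec_app N s, h]
  rfl

/-- on an integral scheme whose nonzero global functions are units, an invertible module `N` with a nonzero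
section such that its inverse also has a nonzero section is trivial -/
theorem nonempty_iso_of_sections (hZ : ∀ c : Γ(Z, ⊤), c ≠ 0 → IsUnit c)
    (N N' : Z.Modules) (hN : PicF.IsInvertible N) (hN' : PicF.IsInvertible N')
    (e : CohB1.tensorMod N' N ≅ Coh.structureModule Z)
    (s : N.val.obj (op ⊤)) (hs : s ≠ 0) (t : N'.val.obj (op ⊤)) (ht : t ≠ 0) :
    Nonempty (N ≅ Coh.structureModule Z) := by
  have hO := isInvertible_structureModule Z
  let σ := homOfSec N s
  let τ := homOfSec N' t
  have hσ : σ ≠ 0 := homOfSec_ne_zero N s hs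
  have hτ : τ ≠ 0 := homOfSec_ne_zero N' t ht
  let e'' : CohB1.tensorMod N N' ≅ Coh.structureModule Z := braid N N' ≪≫ e
  haveI := isEquivalence_tensorRight e''
  haveI := preservesZeroMorphisms_tensorRight e''
  let τ' : N ⟶ Coh.structureModule Z :=
    (leftUnitor N).inv ≫ (tensorRight N).map τ ≫ e.hom
  have hτ' : τ' ≠ 0 := by
    intro h0
    apply hτ
    apply (tensorRight N).map_injective
    rw [Functor.map_zero]
    have h1 : (tensorRight N).map τ = (leftUnitor N).hom ≫ τ' ≫ e.inv := by
      simp [τ']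
    rw [h1, h0, zero_comp, comp_zero]
    rfl
  have hne : σ ≫ τ' ≠ 0 := comp_ne_zero hO hN hO σ τ' hσ hτ'
  have hc : fn (σ ≫ τ') ⊤ ≠ 0 := by
    intro h0
    apply hne
    apply Groth.Agent.Lib.Helper21.TermSec.ev_injective (X := (⊤ : Z.Opens))
      Limits.isTerminalTop (Coh.structureModule Z)
    exact h0
  haveI : IsIso (σ ≫ τ') := (isIso_iff_isUnit_fn_top _).mpr (hZ _ hc)
  haveI : IsIso σ := (isIso_of_isIso_comp hO hN hO σ τ').1
  exact ⟨(asIso σ).symm⟩

end integral

section main

open Groth.Agent.Lib.helper21.FibreH0 Groth.Agent.Lib.helper12.PullTensor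
open Groth.Agent.Lib.helper16.FLF

variable {X Y : Scheme.{u}} (f : X ⟶ Y) [IsProper f] [Flat f] [IsLocallyNoetherian Y]
  (L M : X.Modules) (hL : PicF.IsInvertible L) (hM : PicF.IsInvertible M)
  (eML : CohB1.tensorMod M L ≅ Coh.structureModule X)

include hL hM eML in
theorem fiber_trivial_iff (y : Y) [IsIntegral (f.fiber y)] :
    Nonempty (CohIII.fiberMod f L y ≅ Coh.structureModule (f.fiber y)) ↔
      0 < CohIII.fiberRank f L 0 y ∧ 0 < CohIII.fiberRank f M 0 y := by
  have hLc := isCoh_of_isInvertible hL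
  have hMc := isCoh_of_isInvertible hM
  have hLfl := isFlatOver_of_isFinLocFree f L (isFinLocFree_of_isInvertible hL)
  have hMfl := isFlatOver_of_isFinLocFree f M (isFinLocFree_of_isInvertible hM)
  let ey : CohB1.tensorMod (CohIII.fiberMod f M y) (CohIII.fiberMod f L y) ≅
      Coh.structureModule (f.fiber y) :=
    (pullTensorIso (f.fiberι y) M L hL).symm ≪≫ (Scheme.Modules.pullback (f.fiberι y)).mapIso eML ≪≫
      pullbackUnitIso (f.fiberι y)
  haveI : Nontrivial Γ(f.fiber y, ⊤) := inferInstance
  constructor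
  · rintro ⟨eL⟩
    let eM : CohIII.fiberMod f M y ≅ Coh.structureModule (f.fiber y) :=
      (rightUnitor _).symm ≪≫ tensorIso (Iso.refl _) eL.symm ≪≫ ey
    refine ⟨?_, ?_⟩
    · rw [fiberRank_pos_iff f L hLc hLfl y 0]
      exact (fiberH0Equiv f L y eL).toEquiv.nontrivial
    · rw [fiberRank_pos_iff f M hMc hMfl y 0]
      exact (fiberH0Equiv f M y eM).toEquiv.nontrivial
  · rintro ⟨h1, h2⟩
    rw [fiberRank_pos_iff f L hLc hLfl y 0] at h1
    rw [fiberRank_pos_iff f M hMc hMfl y 0] at h2
    obtain ⟨a, ha⟩ := exists_ne (0 : CohIII.fiberH f L y 0)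
    obtain ⟨b, hb⟩ := exists_ne (0 : CohIII.fiberH f M y 0)
    have hs : Groth.Agent.Lib.Helper18.HH.equiv₀ (CohIII.fiberMod f L y) a ≠ 0 := by
      intro h0
      exact ha ((Groth.Agent.Lib.Helper18.HH.equiv₀ (CohIII.fiberMod f L y)).map_eq_zero_iff.mp h0)
    have ht : Groth.Agent.Lib.Helper18.HH.equiv₀ (CohIII.fiberMod f M y) b ≠ 0 := by
      intro h0
      exact hb ((Groth.Agent.Lib.Helper18.HH.equiv₀ (CohIII.fiberMod f M y)).map_eq_zero_iff.mp h0)
    haveI := finite_globalSections_fiber f y
    have hZ : ∀ c : Γ(f.fiber y, ⊤), c ≠ 0 → IsUnit c := by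
      intro c hc
      obtain ⟨d, hd⟩ := FiniteDimensional.exists_mul_eq_one (Y.residueField y) hc
      exact IsUnit.of_mul_eq_one d hd
    exact nonempty_iso_of_sections hZ (CohIII.fiberMod f L y) (CohIII.fiberMod f M y)
      (isInvertible_pullback _ hL) (isInvertible_pullback _ hM) ey _ hs _ ht

include hL hM eML in
/-- **the locus where `L` is trivial on the fibre is closed** (integral fibres) -/
theorem isClosed_setOf_fiber_trivial (hint : ∀ y : Y, IsIntegral (f.fiber y)) :
    IsClosed {y : Y | Nonempty (CohIII.fiberMod f L y ≅ Coh.structureModule (f.fiber y))} := by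
  have hLc := isCoh_of_isInvertible hL
  have hMc := isCoh_of_isInvertible hM
  have hLfl := isFlatOver_of_isFinLocFree f L (isFinLocFree_of_isInvertible hL)
  have hMfl := isFlatOver_of_isFinLocFree f M (isFinLocFree_of_isInvertible hM)
  have hset : {y : Y | Nonempty (CohIII.fiberMod f L y ≅ Coh.structureModule (f.fiber y))} =
      {y : Y | CohIII.fiberRank f L 0 y < 1}ᶜ ∩ {y : Y | CohIII.fiberRank f M 0 y < 1}ᶜ := by
    ext y
    haveI := hint y
    simp only [Set.mem_setOf_eq, Set.mem_inter_iff, Set.mem_compl_iff, not_lt]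
    exact fiber_trivial_iff f L M hL hM eML y
  rw [hset]
  exact ((upperSemicontinuous_fiberRank f L hLc hLfl 0).isOpen_preimage 1).isClosed_compl.inter
    ((upperSemicontinuous_fiberRank f M hMc hMfl 0).isOpen_preimage 1).isClosed_compl

end main

end Groth.Agent.Lib.helper21.PicClosed
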