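import Mathlib

/-!
Helper library (helper21): factoring a morphism through a closed immersion when it does so
on a scheme-theoretically dense part.
-/

set_option autoImplicit false
universe u
open CategoryTheory AlgebraicGeometry Limits

namespace Groth.Agent.Lib.Helper21.MagnetSch

lemma isIso_of_factor {V P W : Scheme.{u}} (p : P ⟶ W) [IsClosedImmersion p] (s : V ⟶ P)
    [IsSchemeTheoreticallyDominant (s ≫ p)] : IsIso p := by
  rw [IsClosedImmersion.isIso_iff_ker_eq_bot, ← le_bot_iff]
  calc p.ker ≤ (s ≫ p).ker := s.le_ker_comp p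
    _ = ⊥ := Scheme.Hom.ker_eq_bot _

theorem exists_factor {S : Scheme.{u}} {V W X Z : Over S} (j : Z ⟶ X) [IsClosedImmersion j.left]
    (φ : W ⟶ X) (d : V ⟶ W) [IsSchemeTheoreticallyDominant d.left] (c : V ⟶ Z)
    (h : d ≫ φ = c ≫ j) : ∃ ψ : W ⟶ Z, ψ ≫ j = φ := by
  have h' : d.left ≫ φ.left = c.left ≫ j.left := by
    rw [← Over.comp_left, ← Over.comp_left, h]
  let p : pullback φ.left j.left ⟶ W.left := pullback.fst φ.left j.left
  let s : V.left ⟶ pullback φ.left j.left := pullback.lift d.left c.left h'
  have hs : s ≫ p = d.left := pullback.lift_fst _ _ _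
  haveI : IsSchemeTheoreticallyDominant (s ≫ p) := by rw [hs]; infer_instance
  haveI : IsIso p := isIso_of_factor p s
  refine ⟨Over.homMk (inv p ≫ pullback.snd φ.left j.left) ?_, ?_⟩
  · rw [Category.assoc, IsIso.inv_comp_eq, ← Over.w j, ← Category.assoc (pullback.snd _ _),
      ← pullback.condition, Category.assoc, Over.w φ]
  · ext
    simp only [Over.comp_left, Over.homMk_left, Category.assoc]
    rw [IsIso.inv_comp_eq, ← pullback.condition]

end Groth.Agent.Lib.Helper21.MagnetSch

namespace Groth.Agent.Lib.Helper21.MagnetSch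

open MonoidalCategory CartesianMonoidalCategory

theorem isPullback_whiskerRight {C : Type*} [Category C] [CartesianMonoidalCategory C] {G M : C}
    (i : G ⟶ M) (T : C) : IsPullback (i ▷ T) (fst G T) (fst M T) i := by
  refine ⟨⟨by simp⟩, ⟨PullbackCone.IsLimit.mk _ (fun s => lift s.snd (s.fst ≫ snd M T)) ?_ ?_ ?_⟩⟩
  · intro s
    apply CartesianMonoidalCategory.hom_ext
    · simp [s.condition]
    · simp
  · intro s
    simp
  · intro s m h1 h2
    apply CartesianMonoidalCategory.hom_ext
    · simpa using h2
    · simp [← h1]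

theorem dominant_whiskerRight {k : Type u} [Field k] {G M : Over (Spec (CommRingCat.of k))}
    (i : G ⟶ M) [QuasiCompact i.left] [IsSchemeTheoreticallyDominant i.left]
    (T : Over (Spec (CommRingCat.of k))) : IsSchemeTheoreticallyDominant (i ▷ T).left := by
  have h1 : IsPullback (i ▷ T).left (fst G T).left (fst M T).left i.left :=
    (isPullback_whiskerRight i T).map (Over.forget _)
  have hflat : Flat (fst M T).left := by
    have : Flat T.hom := inferInstance
    have h2 : IsPullback (fst M T).left (snd M T).left M.hom T.hom := by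
      have := (IsPullback.of_hasPullback M.hom T.hom)
      exact this
    exact MorphismProperty.of_isPullback (P := @Flat) h2.flip this
  exact IsSchemeTheoreticallyDominant.of_isPullback h1.flip

end Groth.Agent.Lib.Helper21.MagnetSch
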