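import Mathlib
import Groth.Prelude.Def_ModSite
import Groth.Agent.Lib.Helper21.TensorMon
import Groth.Agent.Lib.Helper21.ModSh

/-!
Helper library (helper21): exact colimits in `Mod O`, and colimits of flat modules are flat.
-/

set_option autoImplicit false
universe u
open CategoryTheory MonoidalCategory Opposite Limits

namespace Groth.Agent.Lib.Helper21.TensorColim

open Groth.Agent.Lib.Helper21.TensorW Groth.Agent.Lib.Helper21.TensorAdj
  Groth.Agent.Lib.Helper21.TensorMon

variable {C : Type u} [SmallCategory C] {J : GrothendieckTopology C} (O : Sheaf J CommRingCat.{u})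

theorem hasExactColimitsOfShape_mod (K : Type u) [SmallCategory K]
    [HasExactColimitsOfShape K (Sheaf J AddCommGrpCat.{u})] :
    HasExactColimitsOfShape K (ModSite.Mod O) := by
  have := Groth.Agent.Lib.Helper21.ModSh.toSheaf_preservesColimits (ModSite.ringSh O)
  have := Groth.Agent.Lib.Helper21.ModSh.toSheaf_preservesLimits (ModSite.ringSh O)
  have : PreservesFiniteLimits (SheafOfModules.toSheaf.{u} (ModSite.ringSh O)) :=
    PreservesLimitsOfSize.preservesFiniteLimits _
  exact HasExactColimitsOfShape.domain_of_functor K (SheafOfModules.toSheaf.{u} (ModSite.ringSh O))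

section colim

variable {O}
variable {K : Type u} [SmallCategory K] (D : K ⥤ ModSite.Mod O) (c : Cocone D) (hc : IsColimit c)

/-- `H ↦ (k ↦ H ⊗ D k)` -/
noncomputable abbrev tensDiag : ModSite.Mod O ⥤ (K ⥤ ModSite.Mod O) :=
  ModSite.tensorBi O ⋙ (Functor.whiskeringLeft K (ModSite.Mod O) (ModSite.Mod O)).obj D

/-- `- ⊗ colim D ≅ colim (- ⊗ D)` -/
noncomputable def tensColimIso : tens O c.pt ≅ tensDiag D ⋙ colim :=
  NatIso.ofComponents
    (fun H => (isColimitOfPreserves (tensL O H) hc).coconePointUniqueUpToIso
      (colimit.isColimit (D ⋙ tensL O H)))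
    (by
      intro H H' ψ
      apply (isColimitOfPreserves (tensL O H) hc).hom_ext
      intro k
      have h1 := (isColimitOfPreserves (tensL O H) hc).comp_coconePointUniqueUpToIso_hom
        (colimit.isColimit (D ⋙ tensL O H)) k
      have h2 := (isColimitOfPreserves (tensL O H') hc).comp_coconePointUniqueUpToIso_hom
        (colimit.isColimit (D ⋙ tensL O H')) k
      have h3 : (tensL O H).map (c.ι.app k) ≫ (tens O c.pt).map ψ =
          ((ModSite.tensorBi O).map ψ).app (D.obj k) ≫ (tensL O H').map (c.ι.app k) :=
        ((ModSite.tensorBi O).map ψ).naturality (c.ι.app k)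
      dsimp only [Functor.mapCocone_ι_app, Functor.comp_map, colim_map] at h1 h2 ⊢
      rw [reassoc_of% h3, h2, reassoc_of% h1]
      erw [ι_colimMap]
      rfl)

include hc in
theorem isFlat_of_isColimit [HasExactColimitsOfShape K (ModSite.Mod O)]
    (hD : ∀ k, ModSite.IsFlat (D.obj k)) : ModSite.IsFlat c.pt := by
  rw [isFlat_iff_preservesFiniteLimits]
  have h1 : ∀ k, PreservesFiniteLimits (tensDiag D ⋙ (evaluation K (ModSite.Mod O)).obj k) := by
    intro k
    exact (isFlat_iff_preservesFiniteLimits (D.obj k)).1 (hD k)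
  have h2 : PreservesFiniteLimits (tensDiag D) :=
    ⟨fun E _ _ => preservesLimitsOfShape_of_evaluation (tensDiag D) E
      (fun k => (h1 k).preservesFiniteLimits E)⟩
  have h3 : PreservesFiniteLimits (colim : (K ⥤ ModSite.Mod O) ⥤ ModSite.Mod O) :=
    HasExactColimitsOfShape.preservesFiniteLimits
  have : PreservesFiniteLimits (tensDiag D ⋙ colim) := comp_preservesFiniteLimits _ _
  exact preservesFiniteLimits_of_natIso (tensColimIso D c hc).symm

end colim

end Groth.Agent.Lib.Helper21.TensorColim
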