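import Mathlib
import Groth.Prelude.Def_ega3
import Groth.Agent.S2380

/-!
# Ranks of the homology of a complex over a field and field extensions (helper21)

* `finrank_homology_ext`: for a field extension `φ : κ → κ'` and a complex `K` of `κ`-vector spaces (any shape),
  `dim_{κ'} H_p(K ⊗ κ') = dim_κ H_p(K)`.
* `dRank_field`: over a field `B`, `dRank K p x = dim_B H_p(K)` for every point `x` of `Spec B`.
-/

set_option autoImplicit false
universe u

open CategoryTheory CategoryTheory.Limits TensorProduct

namespace Groth.Agent.Lib.helper21.FieldRank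

variable {ι : Type} {c : ComplexShape ι}

lemma finrank_homology_ext {κ κ' : Type u} [Field κ] [Field κ'] (φ : κ →+* κ')
    (K : HomologicalComplex (ModuleCat.{u} κ) c) (p : ι) :
    Module.finrank κ' ((CohIII.bcCx φ K).homology p) = Module.finrank κ (K.homology p) := by
  letI := φ.toAlgebra
  have hflat : φ.Flat := (inferInstance : Module.Flat κ κ')
  haveI := ModuleCat.preservesFiniteLimits_extendScalars_of_flat.{u} hflat
  haveI : (ModuleCat.extendScalars.{u, u, u} φ).IsLeftAdjoint :=
    ⟨_, ⟨ModuleCat.extendRestrictScalarsAdj φ⟩⟩
  haveI : (ModuleCat.extendScalars.{u, u, u} φ).PreservesHomology := inferInstance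
  let e : (CohIII.bcCx φ K).homology p ≅ (ModuleCat.extendScalars φ).obj (K.homology p) :=
    (K.sc p).mapHomologyIso (ModuleCat.extendScalars φ)
  rw [e.toLinearEquiv.finrank_eq]
  refine ((Groth.Agent.S2380.eM (A := κ) (κ := κ') (K.homology p)).finrank_eq).trans ?_
  exact Module.finrank_baseChange

/-- over a field, all `dRank`s are the dimension of the homology -/
lemma dRank_field {B : Type u} [Field B] (K : HomologicalComplex (ModuleCat.{u} B) c) (p : ι)
    (x : PrimeSpectrum B) :
    CohIII.dRank K p x = Module.finrank B (K.homology p) := by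
  unfold CohIII.dRank
  exact finrank_homology_ext (algebraMap B x.asIdeal.ResidueField) K p

end Groth.Agent.Lib.helper21.FieldRank
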