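import Mathlib
import Groth.Agent.Lib.Helper21.GCChart
import Groth.Agent.Lib.Helper21.FieldRank
import Groth.Agent.Lib.Helper11.NegCxRows

/-!
# Fibre ranks after an arbitrary base change to a field (helper21)

`f : X ⟶ Y`, an affine chart `k : Spec A ⟶ Y`, `X_A = X ×_Y Spec A`, `L` a complex of finite free `A`-modules
computing the cohomology of `F_A` universally.  For a field `B`, `φ : A ⟶ B` and a pullback square
`T = X ×_Y Spec B` (along `Spec B ⟶ Spec A ⟶ Y`): `dim_B H^p(T, F_T) = fiberRank f F p (k x)` where `x` is the image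
of `Spec B` in `Spec A`.
-/

set_option autoImplicit false
universe u

open CategoryTheory CategoryTheory.Limits Opposite TopologicalSpace AlgebraicGeometry

namespace Groth.Agent.Lib.helper21.GCBC

open Groth.Agent.Lib.helper21.GCFibre Groth.Agent.Lib.Helper18

section

variable {X Y : Scheme.{u}} (f : X ⟶ Y) (A : Type u) [CommRing A]
  (k : Spec (CommRingCat.of A) ⟶ Y) [IsOpenImmersion k]
  {XA : Scheme.{u}} [XA.Over (Spec (CommRingCat.of A))] (i : XA ⟶ X)
  (hsq : IsPullback i (XA ↘ Spec (CommRingCat.of A)) f k)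
  (B : Type u) [Field B] (φ : CommRingCat.of A ⟶ CommRingCat.of B)
  {T : Scheme.{u}} [T.Over (Spec (CommRingCat.of B))] (t : T ⟶ X)
  (hT : IsPullback t (T ↘ Spec (CommRingCat.of B)) f (Spec.map φ ≫ k))

/-- the lift of `T` to `X_A` -/
noncomputable def lift : T ⟶ XA :=
  hsq.lift t ((T ↘ Spec (CommRingCat.of B)) ≫ Spec.map φ) (by rw [hT.w, Category.assoc])

lemma lift_i : lift f A k i hsq B φ t hT ≫ i = t := hsq.lift_fst _ _ _

theorem isPullback_lift :
    IsPullback (lift f A k i hsq B φ t hT) (T ↘ Spec (CommRingCat.of B))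
      (XA ↘ Spec (CommRingCat.of A)) (Spec.map φ) :=
  IsPullback.of_right' hT hsq

variable (F : X.Modules) (FA : XA.Modules) (eF : FA ≅ (Scheme.Modules.pullback i).obj F)
  (G : T.Modules) (eG : G ≅ (Scheme.Modules.pullback t).obj F)

/-- the pullback of `F_A` to `T` is `G` -/
noncomputable def modIso :
    (Scheme.Modules.pullback (lift f A k i hsq B φ t hT)).obj FA ≅ G :=
  (Scheme.Modules.pullback (lift f A k i hsq B φ t hT)).mapIso eF ≪≫
    (Scheme.Modules.pullbackComp (lift f A k i hsq B φ t hT) i).app F ≪≫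
    (Scheme.Modules.pullbackCongr (lift_i f A k i hsq B φ t hT)).app F ≪≫ eG.symm

variable (L : CochainComplex (ModuleCat.{u} A) ℤ) (hL : Computes A XA FA L)

include hL eF eG hsq hT in
/-- `H^p(L ⊗_A B) ≃ H^p(T, G)`, `B`-linearly -/
theorem nonempty_equiv (p : ℕ) :
    Nonempty ((CohIII.bcCx φ.hom L).homology (p : ℤ) ≃ₗ[B] Coh.HH T G p) := by
  letI : Algebra A B := φ.hom.toAlgebra
  obtain ⟨e⟩ := hL B T (lift f A k i hsq B φ t hT) (isPullback_lift f A k i hsq B φ t hT) p
  let α := modIso f A k i hsq B φ t hT F FA eF G eG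
  let m : Coh.HH T ((Scheme.Modules.pullback (lift f A k i hsq B φ t hT)).obj FA) p ≃ₗ[B]
      Coh.HH T G p :=
    { toFun := HH.map α.hom p
      invFun := HH.map α.inv p
      left_inv := fun z => by
        rw [← HH.map_comp_apply, Iso.hom_inv_id, HH.map_id]; rfl
      right_inv := fun z => by
        rw [← HH.map_comp_apply, Iso.inv_hom_id, HH.map_id]; rfl
      map_add' := fun a b => map_add _ a b
      map_smul' := fun b z =>
        (HH.map α.hom p).map_smul (Coh.toGlobal (T ↘ Spec (CommRingCat.of B)) b) z }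
  exact ⟨e.trans m⟩

include hL eF eG hsq hT in
theorem finrank_eq_fiberRank (hfl : ∀ i, Module.Flat A (L.X i)) (p : ℕ) :
    Module.finrank B (Coh.HH T G p) =
      CohIII.fiberRank f F p (k (PrimeSpectrum.comap φ.hom ⊥)) := by
  letI : Algebra A B := φ.hom.toAlgebra
  obtain ⟨e⟩ := nonempty_equiv f A k i hsq B φ t hT F FA eF G eG L hL p
  rw [← e.finrank_eq,
    ← Groth.Agent.Lib.helper21.GCChart.dRank_eq_fiberRank f A k i hsq _ F FA eF L hL p]
  have h1 := Groth.Agent.Lib.helper11.NegCx.dRank_bcCx (A' := B) L hfl (p : ℤ) ⊥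
  have h2 := Groth.Agent.Lib.helper21.FieldRank.dRank_field
    (CohIII.bcCx (algebraMap A B) L) (p : ℤ) ⊥
  exact h2.symm.trans h1

end

end Groth.Agent.Lib.helper21.GCBC
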