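import Mathlib
import Groth.Agent.S4508
import Groth.Agent.Lib.Helper21.FibreH0b
import Groth.Agent.Lib.Helper13.Normal11
import Groth.Agent.Lib.Helper16.IdemAlg

/-!
# `h^0(X_y, O) = 1` for proper flat morphisms with geometrically connected and reduced fibres (helper21)

* `finrank_eq_one_of_isAlgClosed`: a finite reduced nontrivial algebra with only trivial idempotents over an
  algebraically closed field is one-dimensional;
* `finrank_globalSections_eq_one`: for `W` proper (flat) over a locally Noetherian `T`, at a point `t` with
  algebraically closed residue field whose fibre is connected and reduced, `dim Γ(W_t, O) = 1`;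
* `finrank_fiber_eq_one_of_geom`: `f` proper flat, geometrically connected and geometrically reduced,
  `Y` locally Noetherian: `dim_κ(y) Γ(X_y, O) = 1` for all `y`.
-/

set_option autoImplicit false
universe u

open CategoryTheory CategoryTheory.Limits Opposite TopologicalSpace AlgebraicGeometry

namespace Groth.Agent.Lib.helper21.GeomFibre

open Groth.Agent.Lib.helper21.FibreH0 Groth.Agent.Lib.helper11.InvMod

theorem finrank_eq_one_of_isAlgClosed (k B : Type*) [Field k] [IsAlgClosed k] [CommRing B]
    [Algebra k B] [Module.Finite k B] [IsReduced B] [Nontrivial B]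
    (h : ∀ e : B, IsIdempotentElem e → e = 0 ∨ e = 1) : Module.finrank k B = 1 := by
  haveI : IsArtinianRing B := IsArtinianRing.of_finite k B
  haveI : IsLocalRing B := Groth.Agent.Lib.helper16.IdemAlg.isLocalRing_of_idem B h
  have hf : IsField B := IsArtinianRing.isField_of_isReduced_of_isLocalRing B
  letI := hf.toField
  haveI : IsDomain B := inferInstance
  exact Algebra.finrank_eq_one_iff_bijective_algebraMap.mpr
    IsAlgClosed.algebraMap_bijective_of_isIntegral

section

variable {X Y : Scheme.{u}} (f : X ⟶ Y) [IsProper f] [Flat f] [IsLocallyNoetherian Y]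

theorem finrank_globalSections_eq_one (y : Y) [IsAlgClosed (Y.residueField y)]
    [ConnectedSpace (f.fiber y)] [IsReduced (f.fiber y)] :
    Module.finrank (Y.residueField y) Γ(f.fiber y, ⊤) = 1 := by
  haveI := finite_globalSections_fiber f y
  haveI : Nonempty (⊤ : (f.fiber y).Opens) := by
    obtain ⟨w⟩ := (inferInstance : Nonempty ↥(f.fiber y))
    exact ⟨⟨w, trivial⟩⟩
  haveI : Nontrivial Γ(f.fiber y, ⊤) := Scheme.component_nontrivial _ ⊤
  refine finrank_eq_one_of_isAlgClosed _ _ (fun e he => ?_)
  exact Groth.Agent.Lib.helper13.Normal.idempotent_eq_zero_or_one_of_isPreconnected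
    (⊤ : (f.fiber y).Opens) (by simpa using isPreconnected_univ) e he

end

/-- the residue field of the point of `Spec` of an algebraically closed field is algebraically closed -/
theorem isAlgClosed_residueField (Kb : Type u) [Field Kb] [IsAlgClosed Kb]
    (pt : ↥(Spec (CommRingCat.of Kb))) :
    IsAlgClosed ((Spec (CommRingCat.of Kb)).residueField pt) := by
  have hbot : pt.asIdeal = ⊥ := (Ideal.eq_bot_or_top pt.asIdeal).resolve_right pt.2.ne_top
  haveI : pt.asIdeal.IsMaximal := by rw [hbot]; exact Ideal.bot_isMaximal
  have hbij : Function.Bijective (algebraMap Kb pt.asIdeal.ResidueField) :=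
    ⟨(algebraMap Kb pt.asIdeal.ResidueField).injective,
      Ideal.algebraMap_residueField_surjective pt.asIdeal⟩
  let e1 : Kb ≃+* pt.asIdeal.ResidueField := RingEquiv.ofBijective _ hbij
  let e2 : pt.asIdeal.ResidueField ≃+* (Spec (CommRingCat.of Kb)).residueField pt :=
    (Scheme.Spec.residueFieldIso (CommRingCat.of Kb) pt).symm.commRingCatIsoToRingEquiv
  exact IsAlgClosed.of_ringEquiv Kb _ (e1.trans e2)

section

variable {X Y : Scheme.{u}} (f : X ⟶ Y) [IsProper f] [Flat f] [IsLocallyNoetherian Y]

theorem finrank_fiber_eq_one_of_geom [GeometricallyConnected f] [GeometricallyReduced f] (y : Y) :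
    Module.finrank (Y.residueField y) Γ(f.fiber y, ⊤) = 1 := by
  let K := Y.residueField y
  let Kb := AlgebraicClosure K
  let g : Spec (CommRingCat.of Kb) ⟶ Y :=
    Spec.map (CommRingCat.ofHom (algebraMap K Kb)) ≫ Y.fromSpecResidueField y
  let pt : ↥(Spec (CommRingCat.of Kb)) := (⊥ : PrimeSpectrum Kb)
  have hpt : g.base pt = y := Scheme.fromSpecResidueField_apply y _
  haveI : IsAlgClosed ((Spec (CommRingCat.of Kb)).residueField pt) := isAlgClosed_residueField Kb pt
  have h1 := finrank_globalSections_eq_one (pullback.snd f g) pt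
  let e : CohIII.fiberMod (pullback.snd f g)
      ((Scheme.Modules.pullback (pullback.fst f g)).obj (Coh.structureModule X)) pt ≅
      Coh.structureModule ((pullback.snd f g).fiber pt) :=
    (Scheme.Modules.pullback ((pullback.snd f g).fiberι pt)).mapIso
      (pullbackUnitIso (pullback.fst f g)) ≪≫ pullbackUnitIso ((pullback.snd f g).fiberι pt)
  have h2 := Groth.Agent.S4508.fiberRank_baseChange f g (Coh.structureModule X)
    (isCoh_structureModule X) (Groth.Agent.Lib.helper21.GCStein.isFlatOver_structureModule f) pt 0
  rw [Groth.Agent.Lib.helper21.PicFibre.fiberRank_zero_of_iso (pullback.snd f g) _ pt e, h1, hpt,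
    fiberRank_structureModule f y] at h2
  exact h2.symm

end

end Groth.Agent.Lib.helper21.GeomFibre
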