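import Mathlib
import Groth.Agent.Lib.Helper21.GeomFibre
import Groth.Agent.Lib.Helper21.PicFibre
import Groth.Agent.Lib.Helper21.PicClosed
import Groth.Agent.Lib.Helper12.InvDual2
import Groth.Agent.Lib.Lead.ModTensor
import Groth.Agent.Lib.Helper12.TensorInv
import Groth.Agent.Lib.Helper12.PullTensor

/-!
# Seesaw theorem (helper21)

`f : W ⟶ Y` proper flat with geometrically integral fibres, `Y` locally Noetherian reduced and Jacobson;
`L`, `M` invertible on `W` with `L_y ≅ M_y` for all *closed* points `y`. Then `L ≅ M ⊗ f^* N` for an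
invertible `N` on `Y`.

* `fiber_trivial_of_closedPoints`: triviality on the fibres over closed points implies triviality on all fibres;
* `seesaw`: the statement above;
* `seesaw_all`: the same with the hypothesis at all points (no Jacobson assumption).
-/

set_option autoImplicit false
universe u

open CategoryTheory CategoryTheory.Limits Opposite TopologicalSpace AlgebraicGeometry

namespace Groth.Agent.Lib.helper21.Seesaw

variable {W Y : Scheme.{u}} (f : W ⟶ Y) [IsProper f] [Flat f] [IsLocallyNoetherian Y]
  [GeometricallyIntegral f]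

theorem geometricallyConnected_of_geometricallyIntegral {W Y : Scheme.{u}} (f : W ⟶ Y)
    [GeometricallyIntegral f] : GeometricallyConnected f :=
  ⟨fun _ _ y _ fst snd hp => by
    haveI : IsIntegral _ := GeometricallyIntegral.geometrically_isIntegral y fst snd hp
    infer_instance⟩

/-- triviality on the fibres over closed points implies triviality on all fibres (Jacobson base) -/
theorem fiber_trivial_of_closedPoints [JacobsonSpace Y] (L : W.Modules) (hL : PicF.IsInvertible L)
    (h : ∀ y : Y, IsClosed ({y} : Set Y) →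
      Nonempty (CohIII.fiberMod f L y ≅ Coh.structureModule (f.fiber y))) (y : Y) :
    Nonempty (CohIII.fiberMod f L y ≅ Coh.structureModule (f.fiber y)) := by
  obtain ⟨L', hL', -, ⟨eL'L⟩⟩ := Groth.Agent.Lib.helper12.InvDual.exists_inverse hL
  have hint : ∀ y : Y, IsIntegral (f.fiber y) := fun y => inferInstance
  have hcl := Groth.Agent.Lib.helper21.PicClosed.isClosed_setOf_fiber_trivial f L L' hL hL' eL'L hint
  have hsub : closedPoints Y ⊆
      {y : Y | Nonempty (CohIII.fiberMod f L y ≅ Coh.structureModule (f.fiber y))} :=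
    fun z hz => h z ((mem_closedPoints_iff).mp hz)
  have := closure_minimal hsub hcl
  rw [closure_closedPoints] at this
  exact this (Set.mem_univ y)

/-- seesaw, hypothesis at all points -/
theorem seesaw_all [IsReduced Y] (L M : W.Modules) (hL : PicF.IsInvertible L)
    (hM : PicF.IsInvertible M)
    (hLM : ∀ y : Y, Nonempty (CohIII.fiberMod f (CohB1.tensorMod L
      (Groth.Agent.Lib.helper12.InvDual.exists_inverse hM).choose) y ≅
        Coh.structureModule (f.fiber y))) :
    ∃ N : Y.Modules, PicF.IsInvertible N ∧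
      Nonempty (L ≅ CohB1.tensorMod M ((Scheme.Modules.pullback f).obj N)) := by
  haveI := geometricallyConnected_of_geometricallyIntegral f
  have h0 : ∀ y : Y, Module.finrank (Y.residueField y) Γ(f.fiber y, ⊤) = 1 :=
    fun y => Groth.Agent.Lib.helper21.GeomFibre.finrank_fiber_eq_one_of_geom f y
  obtain ⟨hM', -, ⟨eM'M⟩⟩ := (Groth.Agent.Lib.helper12.InvDual.exists_inverse hM).choose_spec
  set M' := (Groth.Agent.Lib.helper12.InvDual.exists_inverse hM).choose with hM'def
  have hN : PicF.IsInvertible (CohB1.tensorMod L M') :=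
    Groth.Agent.Lib.helper12.TensorInv.isInvertible_tensorMod hL hM'
  have hE := Groth.Agent.Lib.helper21.PicFibre.isInvertible_pushforward f h0 _ hN hLM
  haveI := Groth.Agent.Lib.helper21.PicFibre.isIso_counit f h0 _ hN hLM
  refine ⟨(Scheme.Modules.pushforward f).obj (CohB1.tensorMod L M'), hE, ⟨?_⟩⟩
  let e0 : L ≅ CohB1.tensorMod M (CohB1.tensorMod L M') :=
    (Groth.Agent.Lib.Lead.ModTensor.rightUnitor L).symm ≪≫
      Groth.Agent.Lib.Lead.ModTensor.tensorIso (Iso.refl L) eM'M.symm ≪≫
      (Groth.Agent.Lib.Lead.ModTensor.assoc L M' M).symm ≪≫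
      Groth.Agent.Lib.Lead.ModTensor.braid _ _
  exact e0 ≪≫ Groth.Agent.Lib.Lead.ModTensor.tensorIso (Iso.refl M)
    (asIso ((Scheme.Modules.pullbackPushforwardAdjunction f).counit.app
      (CohB1.tensorMod L M'))).symm

/-- **seesaw**: `L_y ≅ M_y` on the fibres over the closed points of a reduced Jacobson base -/
theorem seesaw [IsReduced Y] [JacobsonSpace Y] (L M : W.Modules) (hL : PicF.IsInvertible L)
    (hM : PicF.IsInvertible M)
    (h : ∀ y : Y, IsClosed ({y} : Set Y) →
      Nonempty ((Scheme.Modules.pullback (f.fiberι y)).obj L ≅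
        (Scheme.Modules.pullback (f.fiberι y)).obj M)) :
    ∃ N : Y.Modules, PicF.IsInvertible N ∧
      Nonempty (L ≅ CohB1.tensorMod M ((Scheme.Modules.pullback f).obj N)) := by
  refine seesaw_all f L M hL hM ?_
  obtain ⟨hM', ⟨eMM'⟩, -⟩ := (Groth.Agent.Lib.helper12.InvDual.exists_inverse hM).choose_spec
  set M' := (Groth.Agent.Lib.helper12.InvDual.exists_inverse hM).choose with hM'def
  have hN : PicF.IsInvertible (CohB1.tensorMod L M') :=
    Groth.Agent.Lib.helper12.TensorInv.isInvertible_tensorMod hL hM'
  refine fiber_trivial_of_closedPoints f _ hN (fun y hy => ?_)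
  obtain ⟨e⟩ := h y hy
  exact ⟨Groth.Agent.Lib.helper12.PullTensor.pullTensorIso (f.fiberι y) L M' hM' ≪≫
    Groth.Agent.Lib.Lead.ModTensor.tensorIso e (Iso.refl _) ≪≫
    (Groth.Agent.Lib.helper12.PullTensor.pullTensorIso (f.fiberι y) M M' hM').symm ≪≫
    (Scheme.Modules.pullback (f.fiberι y)).mapIso eMM' ≪≫
    Groth.Agent.Lib.helper11.InvMod.pullbackUnitIso (f.fiberι y)⟩

end Groth.Agent.Lib.helper21.Seesaw
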