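import Mathlib
import Groth.Prelude.Def_SpSeq

/-!
# Weak Serre classes and spectral sequences (helper21)

A class of objects of an abelian category closed under isomorphisms, zero objects, kernels,
cokernels and extensions (`WeakSerre`) passes from the `E₂`-page of a spectral sequence to any
abutment with finite filtrations.
-/

set_option autoImplicit false
universe v u

open CategoryTheory CategoryTheory.Limits

namespace Groth.Agent.Lib.helper21.SSWeakSerre

variable {C : Type u} [Category.{v} C] [Abelian C]

/-- a class of objects closed under isomorphisms, zero objects, kernels, cokernels, extensions -/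
structure WeakSerre (P : C → Prop) : Prop where
  iso : ∀ {A B : C} (_ : A ≅ B), P A → P B
  zero : ∀ Z : C, IsZero Z → P Z
  ker : ∀ {A B : C} (f : A ⟶ B), P A → P B → P (kernel f)
  coker : ∀ {A B : C} (f : A ⟶ B), P A → P B → P (cokernel f)
  ext : ∀ S : ShortComplex C, S.ShortExact → P S.X₁ → P S.X₃ → P S.X₂

variable {P : C → Prop} (hP : WeakSerre P)
include hP

lemma prop_homology (S : ShortComplex C) (h1 : P S.X₁) (h2 : P S.X₂) (h3 : P S.X₃) :
    P S.homology := by
  have hc : P S.cycles := by
    have e : (KernelFork.ofι S.iCycles S.iCycles_g).pt ≅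
        (KernelFork.ofι (kernel.ι S.g) (kernel.condition S.g)).pt :=
      IsLimit.conePointUniqueUpToIso S.cyclesIsKernel (kernelIsKernel S.g)
    exact hP.iso e.symm (hP.ker S.g h2 h3)
  have e : (CokernelCofork.ofπ S.homologyπ S.toCycles_comp_homologyπ).pt ≅
      (CokernelCofork.ofπ (cokernel.π S.toCycles) (cokernel.condition S.toCycles)).pt :=
    IsColimit.coconePointUniqueUpToIso S.homologyIsCokernel (cokernelIsCokernel S.toCycles)
  exact hP.iso e.symm (hP.coker S.toCycles h1 hc)

lemma prop_homologicalComplex_homology {ι : Type*} {c : ComplexShape ι}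
    (K : HomologicalComplex C c) (h : ∀ i, P (K.X i)) (i : ι) : P (K.homology i) :=
  prop_homology hP (K.sc i) (h _) (h _) (h _)

lemma prop_page {r₀ : ℤ} (E : CohomologicalSpectralSequence C r₀)
    (h : ∀ pq, P ((E.page r₀ le_rfl).X pq)) :
    ∀ (r : ℤ) (hr : r₀ ≤ r) (pq : ℤ × ℤ), P ((E.page r hr).X pq) := by
  intro r hr
  induction r, hr using Int.le_induction with
  | base => exact h
  | succ r hr ih =>
    intro pq
    exact hP.iso (E.iso r (r + 1) pq rfl hr)
      (prop_homologicalComplex_homology hP (E.page r hr) ih pq)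

lemma prop_of_filtration {X : C} (fil : ℤ → Subobject X) (anti : Antitone fil)
    (a b : ℤ) (ha : fil a = ⊤) (hb : fil b = ⊥)
    (hgr : ∀ p, P (SpSeq.grPiece fil anti p)) : P X := by
  have hstep : ∀ p, P ((fil (p + 1) : Subobject X) : C) → P ((fil p : Subobject X) : C) := by
    intro p hp
    let S : ShortComplex C := ShortComplex.mk
      ((fil (p + 1)).ofLE (fil p) (anti (Int.le_add_one le_rfl)))
      (cokernel.π ((fil (p + 1)).ofLE (fil p) (anti (Int.le_add_one le_rfl))))
      (cokernel.condition _)
    have hS : S.ShortExact :=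
      { exact := ShortComplex.exact_of_g_is_cokernel S (cokernelIsCokernel _)
        mono_f := inferInstanceAs (Mono ((fil (p + 1)).ofLE (fil p) _))
        epi_g := inferInstanceAs (Epi (cokernel.π _)) }
    exact hP.ext S hS hp (hgr p)
  have hbot : P ((fil b : Subobject X) : C) := by
    rw [hb]
    exact hP.zero _ (IsZero.of_iso (isZero_zero C) Subobject.botCoeIsoZero)
  have hdown : ∀ k : ℕ, P ((fil (b - k) : Subobject X) : C) := by
    intro k
    induction k with
    | zero => simpa using hbot
    | succ k ih =>
      have h := hstep (b - ((k + 1 : ℕ) : ℤ))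
      have e : b - ((k + 1 : ℕ) : ℤ) + 1 = b - (k : ℤ) := by push_cast; ring
      rw [e] at h
      exact h ih
  have htop : P (((⊤ : Subobject X) : Subobject X) : C) := by
    by_cases hab : a ≤ b
    · have h := hdown (b - a).toNat
      have e : b - ((b - a).toNat : ℤ) = a := by
        rw [Int.toNat_of_nonneg (by omega)]; ring
      rw [e, ha] at h
      exact h
    · have h1 : fil a ≤ fil b := anti (by omega)
      rw [ha, hb] at h1
      have h2 : (⊤ : Subobject X) = ⊥ := le_antisymm h1 bot_le
      rw [h2]
      exact hP.zero _ (IsZero.of_iso (isZero_zero C) Subobject.botCoeIsoZero)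
  exact hP.iso (asIso (⊤ : Subobject X).arrow) htop

/-- **a weak Serre class passes from the `E₂`-page to an abutment with finite filtrations** -/
theorem prop_abutment {r₀ : ℤ} (E : CohomologicalSpectralSequence C r₀) {H : ℤ → C}
    (a : SpSeq.Abutment E H) (n : ℤ) (hfin : a.IsFinite n)
    (h : ∀ pq, P ((E.page r₀ le_rfl).X pq)) : P (H n) := by
  obtain ⟨⟨a₀, ha₀⟩, ⟨b₀, hb₀⟩⟩ := hfin
  refine prop_of_filtration hP (a.fil n) (a.anti n) a₀ b₀ ha₀ hb₀ (fun p => ?_)
  have h1 := prop_page hP E h (a.rk (p, n - p)) (a.stat (p, n - p)).1 (p, n - p)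
  have h2 := hP.iso (a.β (p, n - p)) h1
  have e : p + (n - p) = n := by ring
  have h3 : ∀ (m : ℤ), m = n → P (SpSeq.grPiece (a.fil m) (a.anti m) p) →
      P (SpSeq.grPiece (a.fil n) (a.anti n) p) := by
    intro m hm hq
    subst hm
    exact hq
  exact h3 _ e h2

end Groth.Agent.Lib.helper21.SSWeakSerre
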