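import Mathlib

/-!
# Ring-level lemmas for sums of integral effective Cartier divisors (helper21)

* `eq_of_prime_le_minimal`: in a Noetherian ring a prime containing a nonzerodivisor and contained in
  a minimal prime over a principal ideal equals it (Krull's principal ideal theorem).
* `colon_map_localization`: ideal quotients `(I : J)` with `J` finitely generated commute with
  localization.
* `colon_span_mul`: `((f g) : (f)) = (g)` for a nonzerodivisor `f`.
-/

set_option autoImplicit false

universe u

namespace Groth.Agent.Lib.helper21.CartSum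

theorem eq_of_prime_le_minimal {A : Type u} [CommRing A] [IsNoetherianRing A] (f : A)
    (p : Ideal A) (hp : p ∈ (Ideal.span {f}).minimalPrimes) (P : Ideal A) [P.IsPrime]
    (hPp : P ≤ p) (x : A) (hxP : x ∈ P) (hx : x ∈ nonZeroDivisors A) : P = p := by
  haveI := hp.isPrime
  by_contra hne
  have hlt : P < p := lt_of_le_of_ne hPp hne
  have h1 : p.height ≤ 1 := Ideal.height_le_one_of_isPrincipal_of_mem_minimalPrimes _ p hp
  have h2 : P.height < p.height := Ideal.height_strict_mono_of_isPrime_of_isPrime hlt
  have h3 : P.height = 0 := by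
    have : P.height < 1 := lt_of_lt_of_le h2 h1
    exact Order.lt_one_iff.mp this
  have h4 : P ∈ minimalPrimes A := Ideal.height_eq_zero_iff.mp h3
  exact notMem_nonZeroDivisors_of_mem_mem_minimalPrimes hxP h4 hx

/-- membership in a colon ideal by a spanning set -/
theorem mem_colon_span {A : Type u} [CommRing A] (I : Ideal A) (T : Set A) (x : A) :
    x ∈ I.colon ((Ideal.span T : Ideal A) : Set A) ↔ ∀ t ∈ T, x * t ∈ I := by
  rw [Submodule.mem_colon]
  constructor
  · intro h t ht
    exact h t (Ideal.subset_span ht)
  · intro h s hs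
    induction hs using Submodule.span_induction with
    | mem t ht => exact h t ht
    | zero => simp
    | add a b _ _ ha hb => rw [smul_add]; exact I.add_mem ha hb
    | smul c a _ ha =>
      rw [smul_eq_mul, smul_eq_mul, mul_left_comm]
      exact I.mul_mem_left c ha

theorem colon_map_localization {A A' : Type u} [CommRing A] [CommRing A'] [Algebra A A']
    (S : Submonoid A) [IsLocalization S A'] (I J : Ideal A) (hJ : J.FG) :
    (I.colon (J : Set A)).map (algebraMap A A') =
      (I.map (algebraMap A A')).colon ((J.map (algebraMap A A') : Ideal A') : Set A') := by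
  classical
  obtain ⟨T, rfl⟩ := hJ
  apply le_antisymm
  · rw [Ideal.map_le_iff_le_comap]
    intro x hx
    rw [Ideal.mem_comap, Ideal.map_span, mem_colon_span]
    rintro _ ⟨t, ht, rfl⟩
    rw [← map_mul]
    exact Ideal.mem_map_of_mem _ ((mem_colon_span I _ x).mp hx t ht)
  · intro y hy
    rw [Ideal.map_span, mem_colon_span] at hy
    obtain ⟨⟨x, s⟩, hxs⟩ := IsLocalization.surj S y
    simp only at hxs
    have hpt : ∀ t ∈ T, ∃ u : A, u ∈ S ∧ u * (x * t) ∈ I := by
      intro t ht
      have h1 : algebraMap A A' (x * t) ∈ I.map (algebraMap A A') := by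
        rw [map_mul, ← hxs, mul_right_comm]
        exact Ideal.mul_mem_right _ _ (hy _ ⟨t, ht, rfl⟩)
      obtain ⟨⟨⟨a, haI⟩, m⟩, ham⟩ := (IsLocalization.mem_map_algebraMap_iff S A').mp h1
      simp only at ham
      rw [← map_mul] at ham
      obtain ⟨c, hc⟩ := (IsLocalization.eq_iff_exists S A').mp ham
      refine ⟨c * m, S.mul_mem c.2 m.2, ?_⟩
      have : (c : A) * (m : A) * (x * t) = c * (x * t * m) := by ring
      rw [this, hc]
      exact I.mul_mem_left _ haI
    choose! u hu1 hu2 using hpt
    have hU : (∏ t ∈ T, u t) ∈ S := Submonoid.prod_mem S (fun t ht => hu1 t ht)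
    have hmem : (∏ t ∈ T, u t) * x ∈ I.colon ((Ideal.span (T : Set A) : Ideal A) : Set A) := by
      rw [mem_colon_span]
      intro t ht
      obtain ⟨k, hk⟩ := Finset.dvd_prod_of_mem u ht
      rw [hk]
      have : u t * k * x * t = k * (u t * (x * t)) := by ring
      rw [this]
      exact I.mul_mem_left _ (hu2 t ht)
    have hunit : IsUnit (algebraMap A A' ((∏ t ∈ T, u t) * s)) :=
      IsLocalization.map_units A' (⟨_, S.mul_mem hU s.2⟩ : S)
    have hy' : y * algebraMap A A' ((∏ t ∈ T, u t) * s) =
        algebraMap A A' ((∏ t ∈ T, u t) * x) := by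
      rw [map_mul, map_mul, ← hxs]
      ring
    have : y = algebraMap A A' ((∏ t ∈ T, u t) * x) * ((hunit.unit⁻¹ : A'ˣ) : A') := by
      rw [← hy', mul_assoc, IsUnit.mul_val_inv, mul_one]
    rw [this]
    exact Ideal.mul_mem_right _ _ (Ideal.mem_map_of_mem _ hmem)

theorem colon_span_mul {A : Type u} [CommRing A] (f g : A) (hf : f ∈ nonZeroDivisors A) :
    (Ideal.span {f * g}).colon ((Ideal.span {f} : Ideal A) : Set A) = Ideal.span {g} := by
  ext y
  rw [mem_colon_span]
  constructor
  · intro h
    have h1 := h f rfl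
    obtain ⟨z, hz⟩ := Ideal.mem_span_singleton'.mp h1
    have h2 : (y - z * g) * f = 0 := by rw [sub_mul, ← hz]; ring
    have h3 := (mem_nonZeroDivisors_iff_right.mp hf) _ h2
    rw [sub_eq_zero.mp h3]
    exact Ideal.mul_mem_left _ _ (Ideal.mem_span_singleton_self g)
  · intro h t ht
    rw [Set.mem_singleton_iff.mp ht]
    obtain ⟨z, rfl⟩ := Ideal.mem_span_singleton'.mp h
    have : z * g * f = z * (f * g) := by ring
    rw [this]
    exact Ideal.mul_mem_left _ _ (Ideal.mem_span_singleton_self _)

end Groth.Agent.Lib.helper21.CartSum
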