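import Mathlib
import Groth.Prelude.Def_BlowUp2
import Groth.Agent.Lib.Helper21.CartSum1
import Groth.Agent.Lib.Helper16.EffCartier

/-!
# Sums of integral effective Cartier divisors: scheme-level lemmas (helper21)

* `wellFoundedGT_idealSheafData`: ascending chain condition for ideal sheaves on a Noetherian scheme.
* `colonSheaf D E`: the ideal sheaf `(D : E)` on a locally Noetherian scheme.
* `exists_mul_eq_of_le`: `D ≤ E` effective Cartier ideals ⇒ `D = E * D'` with `D'` effective Cartier.
* `isPrime_or_eq_top`, `le_of_support_le`: ideals of an integral closed subscheme.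
* `exists_good_affine`: a common principalising affine neighbourhood for a finite family of effective Cartier ideals.
-/

set_option autoImplicit false
set_option linter.style.haveILetI false

universe u

open CategoryTheory AlgebraicGeometry TopologicalSpace
open AlgebraicGeometry.Scheme AlgebraicGeometry.Scheme.IdealSheafData

namespace Groth.Agent.Lib.helper21.CartSum

theorem wellFoundedGT_idealSheafData (X : Scheme.{u}) [IsNoetherian X] :
    WellFoundedGT X.IdealSheafData := by
  rw [wellFoundedGT_iff_monotone_chain_condition]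
  intro a
  obtain ⟨s, hs, hcov⟩ := (isCompact_and_isOpen_iff_finite_and_eq_biUnion_affineOpens (X := X)
    (U := Set.univ)).mp ⟨isCompact_univ, isOpen_univ⟩
  have hstab : ∀ U : X.affineOpens, ∃ n, ∀ m, n ≤ m → (a n).ideal U = (a m).ideal U := by
    intro U
    haveI : IsNoetherianRing Γ(X, U.1) := IsLocallyNoetherian.component_noetherian U
    exact monotone_stabilizes_iff_noetherian.mpr inferInstance
      ⟨fun n => (a n).ideal U, fun m n h => a.monotone h U⟩
  choose N hN using hstab
  obtain ⟨n, hn⟩ : ∃ n, ∀ U ∈ s, N U ≤ n := by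
    obtain ⟨n, hn⟩ := (hs.image N).bddAbove
    exact ⟨n, fun U hU => hn ⟨U, hU, rfl⟩⟩
  refine ⟨n, fun m hm => ?_⟩
  refine ext_of_iSup_eq_top (fun U : s => U.1) ?_ (fun U => ?_)
  · rw [eq_top_iff]
    intro x _
    have hx : x ∈ ⋃ i ∈ s, ((i : X.Opens) : Set X) := hcov ▸ Set.mem_univ x
    obtain ⟨U, hU, hxU⟩ := Set.mem_iUnion₂.mp hx
    exact Opens.mem_iSup.mpr ⟨⟨U, hU⟩, hxU⟩
  · rw [← hN U.1 n (hn U.1 U.2), ← hN U.1 m ((hn U.1 U.2).trans hm)]

/-- the colon ideal sheaf `(D : E)` -/
noncomputable def colonSheaf {X : Scheme.{u}} [IsLocallyNoetherian X] (D E : X.IdealSheafData) :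
    X.IdealSheafData where
  ideal U := (D.ideal U).colon ((E.ideal U : Ideal Γ(X, U.1)) : Set Γ(X, U.1))
  map_ideal_basicOpen U f := by
    letI : Algebra Γ(X, U.1) Γ(X, (X.affineBasicOpen f).1) :=
      (X.presheaf.map (homOfLE (X.basicOpen_le f)).op).hom.toAlgebra
    haveI : IsLocalization.Away f Γ(X, X.basicOpen f) := U.2.isLocalization_of_eq_basicOpen _ _ rfl
    haveI : IsNoetherianRing Γ(X, U.1) := IsLocallyNoetherian.component_noetherian U
    have h := colon_map_localization (A' := Γ(X, X.basicOpen f)) (.powers f) (D.ideal U) (E.ideal U)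
      (IsNoetherian.noetherian _)
    rw [← D.map_ideal_basicOpen U f, ← E.map_ideal_basicOpen U f]
    exact h

theorem colonSheaf_ideal {X : Scheme.{u}} [IsLocallyNoetherian X] (D E : X.IdealSheafData)
    (U : X.affineOpens) :
    (colonSheaf D E).ideal U = (D.ideal U).colon ((E.ideal U : Ideal Γ(X, U.1)) : Set Γ(X, U.1)) :=
  rfl

/-- `D ≤ E` effective Cartier ideals: `D = E * D'` with `D'` effective Cartier. -/
theorem exists_mul_eq_of_le {X : Scheme.{u}} [IsLocallyNoetherian X] (D E : X.IdealSheafData)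
    (hD : BlowUp.IsEffCartierIdeal D) (hE : BlowUp.IsEffCartierIdeal E) (hle : D ≤ E) :
    ∃ D' : X.IdealSheafData, BlowUp.IsEffCartierIdeal D' ∧ D = E * D' := by
  -- local description on affines where both are principal
  have key : ∀ (W : X.affineOpens) (f g : Γ(X, W.1)), f ∈ nonZeroDivisors Γ(X, W.1) →
      g ∈ nonZeroDivisors Γ(X, W.1) → D.ideal W = Ideal.span {f} → E.ideal W = Ideal.span {g} →
      ∃ h : Γ(X, W.1), h ∈ nonZeroDivisors Γ(X, W.1) ∧ (colonSheaf D E).ideal W = Ideal.span {h} ∧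
        D.ideal W = E.ideal W * (colonSheaf D E).ideal W := by
    intro W f g hf hg hDW hEW
    have hfg : f ∈ Ideal.span {g} := by
      rw [← hEW]; apply hle W; rw [hDW]; exact Ideal.mem_span_singleton_self f
    obtain ⟨h, hh⟩ := Ideal.mem_span_singleton'.mp hfg
    have hfgh : f = g * h := by rw [← hh, mul_comm]
    have hcol : (colonSheaf D E).ideal W = Ideal.span {h} := by
      rw [colonSheaf_ideal, hDW, hEW, hfgh]
      exact colon_span_mul g h hg
    refine ⟨h, ?_, hcol, ?_⟩
    · rw [hfgh] at hf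
      exact (mul_mem_nonZeroDivisors.mp hf).2
    · rw [hcol, hEW, hDW, Ideal.span_singleton_mul_span_singleton, hfgh]
  -- common charts
  have charts : ∀ x : X, ∃ W : X.affineOpens, x ∈ W.1 ∧ ∃ f g : Γ(X, W.1),
      f ∈ nonZeroDivisors Γ(X, W.1) ∧ g ∈ nonZeroDivisors Γ(X, W.1) ∧
      D.ideal W = Ideal.span {f} ∧ E.ideal W = Ideal.span {g} := by
    intro x
    obtain ⟨V, hxV, f, hf, hDV⟩ := hD x
    obtain ⟨W, hxW, hWV, g, hg, hEW⟩ :=
      Groth.Agent.Lib.helper16.EffCartier.exists_principal_le hE x V.1 hxV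
    obtain ⟨hf', hDW⟩ := Groth.Agent.Lib.helper16.EffCartier.principal_of_le D hWV hf hDV
    exact ⟨W, hxW, _, g, hf', hg, hDW, hEW⟩
  refine ⟨colonSheaf D E, ?_, ?_⟩
  · intro x
    obtain ⟨W, hxW, f, g, hf, hg, hDW, hEW⟩ := charts x
    obtain ⟨h, hh, hcol, -⟩ := key W f g hf hg hDW hEW
    exact ⟨W, hxW, h, hh, hcol⟩
  · choose W hxW f g hf hg hDW hEW using charts
    refine ext_of_iSup_eq_top W ?_ (fun x => ?_)
    · rw [eq_top_iff]
      intro x _
      exact Opens.mem_iSup.mpr ⟨x, hxW x⟩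
    · obtain ⟨h, -, -, heq⟩ := key (W x) (f x) (g x) (hf x) (hg x) (hDW x) (hEW x)
      exact heq

/-- the ideals of an integral closed subscheme are prime or the unit ideal -/
theorem isPrime_or_eq_top {X : Scheme.{u}} (I : X.IdealSheafData) [IsIntegral I.subscheme]
    (U : X.affineOpens) : (I.ideal U).IsPrime ∨ I.ideal U = ⊤ := by
  let e := (I.subschemeObjIso U).commRingCatIsoToRingEquiv
  by_cases h : Nonempty ↥(I.subschemeι ⁻¹ᵁ U.1)
  · left
    haveI : IsDomain Γ(I.subscheme, I.subschemeι ⁻¹ᵁ U.1) :=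
      @IsIntegral.component_integral _ _ (I.subschemeι ⁻¹ᵁ U.1) h
    haveI : IsDomain (Γ(X, U.1) ⧸ I.ideal U) := e.symm.toMulEquiv.isDomain _
    exact (Ideal.Quotient.isDomain_iff_prime _).mp this
  · right
    have hbot : I.subschemeι ⁻¹ᵁ U.1 = ⊥ := by
      ext z
      simp only [Opens.coe_bot, Set.mem_empty_iff_false, iff_false]
      exact fun hz => h ⟨⟨z, hz⟩⟩
    haveI : Subsingleton Γ(I.subscheme, I.subschemeι ⁻¹ᵁ U.1) := by rw [hbot]; infer_instance
    haveI : Subsingleton (Γ(X, U.1) ⧸ I.ideal U) := e.symm.injective.subsingleton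
    exact Ideal.Quotient.subsingleton_iff.mp this

theorem le_of_support_le {X : Scheme.{u}} (D I : X.IdealSheafData) [IsIntegral I.subscheme]
    (h : I.support ≤ D.support) : D ≤ I := by
  have h1 : D ≤ vanishingIdeal I.support := le_support_iff_le_vanishingIdeal.mp h
  rw [vanishingIdeal_support] at h1
  refine h1.trans ?_
  intro U
  show (I.ideal U).radical ≤ I.ideal U
  rcases isPrime_or_eq_top I U with hp | ht
  · exact hp.isRadical.radical.le
  · rw [ht]; exact le_top

/-- a common principalising affine neighbourhood for a finite family of effective Cartier ideals -/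
theorem exists_good_affine {X : Scheme.{u}} {ι : Type*} [Finite ι] (I : ι → X.IdealSheafData)
    (hI : ∀ j, BlowUp.IsEffCartierIdeal (I j)) (x : X) :
    ∃ W : X.affineOpens, x ∈ W.1 ∧ ∀ j, ∃ g : Γ(X, W.1), g ∈ nonZeroDivisors Γ(X, W.1) ∧
      (I j).ideal W = Ideal.span {g} := by
  choose V hxV g hg hV using fun j => hI j x
  have hmem : ∀ z : X, z ∈ ⨅ j, (V j).1 ↔ ∀ j, z ∈ (V j).1 := by
    intro z
    rw [← SetLike.mem_coe, TopologicalSpace.Opens.coe_iInf, Set.mem_iInter]
    rfl
  have hxO : x ∈ ⨅ j, (V j).1 := (hmem x).mpr hxV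
  obtain ⟨W, hW, hxW, hWO⟩ := exists_isAffineOpen_mem_and_subset (x := x) (U := ⨅ j, (V j).1) hxO
  refine ⟨⟨W, hW⟩, hxW, fun j => ?_⟩
  have hle : W ≤ (V j).1 := fun z hz => ((hmem z).mp (hWO hz)) j
  obtain ⟨h1, h2⟩ := Groth.Agent.Lib.helper16.EffCartier.principal_of_le (I j) (V := V j)
    (V' := ⟨W, hW⟩) hle (hg j) (hV j)
  exact ⟨_, h1, h2⟩

theorem isIrreducible_support {X : Scheme.{u}} (I : X.IdealSheafData) [IrreducibleSpace I.subscheme] :
    IsIrreducible (I.support : Set X) := by
  rw [← Scheme.IdealSheafData.range_subschemeι, ← Set.image_univ]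
  exact (IrreducibleSpace.isIrreducible_univ _).image _ I.subschemeι.continuous.continuousOn

/-- points of `supp I ∩ W` correspond to primes over `I(W)` -/
theorem fromSpec_mem_support_iff {X : Scheme.{u}} (I : X.IdealSheafData) (W : X.affineOpens)
    (q : PrimeSpectrum Γ(X, W.1)) :
    W.2.fromSpec q ∈ I.support ↔ I.ideal W ≤ q.asIdeal := by
  have hq : W.2.fromSpec q ∈ W.1 := by
    have : W.2.fromSpec q ∈ Set.range W.2.fromSpec := ⟨q, rfl⟩
    rw [IsAffineOpen.range_fromSpec] at this
    exact this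
  have h1 : W.2.fromSpec q ∈ I.support ↔ W.2.fromSpec q ∈ (I.support : Set X) ∩ W.1 :=
    ⟨fun h => ⟨h, hq⟩, fun h => h.1⟩
  rw [h1, I.coe_support_inter W, ← IsAffineOpen.fromSpec_image_zeroLocus W.2,
    W.2.fromSpec.isOpenEmbedding.injective.mem_set_image]
  exact (PrimeSpectrum.mem_zeroLocus q _).trans SetLike.coe_subset_coe

/-- the inductive step: a nontrivial effective Cartier divisor supported in a union of integral
effective Cartier divisors contains one of them. -/
theorem step {X : Scheme.{u}} [IsNoetherian X] (D : X.IdealSheafData)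
    (hD : BlowUp.IsEffCartierIdeal D) (hne : D ≠ ⊤) {r : ℕ} (Ds : Fin r → X.IdealSheafData)
    (hDs : ∀ i, BlowUp.IsEffCartierIdeal (Ds i)) (hint : ∀ i, IsIntegral (Ds i).subscheme)
    (hsub : (D.support : Set X) ⊆ ⋃ i, ((Ds i).support : Set X)) :
    ∃ i, ∃ D' : X.IdealSheafData, BlowUp.IsEffCartierIdeal D' ∧ D < D' ∧ D = Ds i * D' := by
  -- a point of the support
  have hsupp : (D.support : Set X).Nonempty := by
    by_contra hcon
    rw [Set.not_nonempty_iff_eq_empty] at hcon
    apply hne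
    rw [← support_eq_bot_iff]
    exact Closeds.ext hcon
  obtain ⟨x, hx⟩ := hsupp
  -- a common chart
  let I : Option (Fin r) → X.IdealSheafData := fun o => o.elim D Ds
  have hI : ∀ o, BlowUp.IsEffCartierIdeal (I o) := by
    intro o
    cases o with
    | none => exact hD
    | some j => exact hDs j
  obtain ⟨W, hxW, hW⟩ := exists_good_affine I hI x
  obtain ⟨f, hf, hDW⟩ := hW none
  change D.ideal W = Ideal.span {f} at hDW
  haveI : IsNoetherianRing Γ(X, W.1) := IsLocallyNoetherian.component_noetherian W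
  -- x corresponds to a prime over D(W)
  have hxr : x ∈ Set.range W.2.fromSpec := by rw [IsAffineOpen.range_fromSpec]; exact hxW
  obtain ⟨q, rfl⟩ := hxr
  have hq : D.ideal W ≤ q.asIdeal := (fromSpec_mem_support_iff D W q).mp hx
  obtain ⟨p, hp, hpq⟩ := Ideal.exists_minimalPrimes_le hq
  haveI hpp : p.IsPrime := hp.1.1
  -- the generic point of a component
  have hy : W.2.fromSpec ⟨p, hpp⟩ ∈ D.support := (fromSpec_mem_support_iff D W ⟨p, hpp⟩).mpr hp.1.2
  obtain ⟨i, hi⟩ := Set.mem_iUnion.mp (hsub hy)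
  have hip : (Ds i).ideal W ≤ p := (fromSpec_mem_support_iff (Ds i) W ⟨p, hpp⟩).mp hi
  haveI := hint i
  have hprime : ((Ds i).ideal W).IsPrime := by
    rcases isPrime_or_eq_top (Ds i) W with h | h
    · exact h
    · exact absurd (top_le_iff.mp (h ▸ hip)) hpp.ne_top
  obtain ⟨g, hg, hgW⟩ := hW (some i)
  change (Ds i).ideal W = Ideal.span {g} at hgW
  have hgmem : g ∈ (Ds i).ideal W := by rw [hgW]; exact Ideal.mem_span_singleton_self g
  have hPp : (Ds i).ideal W = p := by
    rw [hDW] at hp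
    exact eq_of_prime_le_minimal f p hp _ hip g hgmem hg
  have hDle : D.ideal W ≤ (Ds i).ideal W := by rw [hPp]; exact hp.1.2
  -- supp (Ds i) ⊆ supp D
  have hsupp_le : (Ds i).support ≤ D.support := by
    have hirr := isIrreducible_support (Ds i)
    have hne' : (((Ds i).support : Set X) ∩ W.1).Nonempty := by
      refine ⟨W.2.fromSpec ⟨p, hpp⟩, hi, ?_⟩
      have : W.2.fromSpec ⟨p, hpp⟩ ∈ Set.range W.2.fromSpec := ⟨_, rfl⟩
      rw [IsAffineOpen.range_fromSpec] at this
      exact this
    have h1 := subset_closure_inter_of_isPreirreducible_of_isOpen hirr.isPreirreducible W.1.2 hne'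
    have h2 : ((Ds i).support : Set X) ∩ W.1 ⊆ D.support := by
      rintro z ⟨hz1, hz2⟩
      rw [SetLike.mem_coe, mem_support_iff_of_mem (U := W) hz2] at hz1 ⊢
      exact X.zeroLocus_mono hDle hz1
    intro z hz
    exact (closure_minimal h2 D.support.isClosed) (h1 hz)
  have hle : D ≤ Ds i := le_of_support_le D (Ds i) hsupp_le
  obtain ⟨D', hD', heq⟩ := exists_mul_eq_of_le D (Ds i) hD (hDs i) hle
  refine ⟨i, D', hD', ?_, heq⟩
  have hleD' : D ≤ D' := by
    intro U
    rw [heq]
    show (Ds i).ideal U * D'.ideal U ≤ D'.ideal U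
    exact Ideal.mul_le_right (I := (Ds i).ideal U) (J := D'.ideal U)
  refine lt_of_le_of_ne hleD' ?_
  intro hDD'
  rw [← hDD'] at heq
  have h1 : D.ideal W = (Ds i).ideal W * D.ideal W := congrArg (fun J => J.ideal W) heq
  have h2 : f ∈ (Ds i).ideal W * Ideal.span {f} := by
    rw [← hDW, ← h1, hDW]; exact Ideal.mem_span_singleton_self f
  obtain ⟨z, hz, hzf⟩ := Ideal.mem_mul_span_singleton.mp h2
  have h3 : (z - 1) * f = 0 := by rw [sub_mul, hzf, one_mul, sub_self]
  have h4 : z - 1 = 0 := (mem_nonZeroDivisors_iff_right.mp hf) _ h3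
  have h5 : (1 : Γ(X, W.1)) ∈ (Ds i).ideal W := by rw [← sub_eq_zero.mp h4]; exact hz
  exact hprime.ne_top ((Ideal.eq_top_iff_one _).mpr h5)

theorem main {X : Scheme.{u}} [IsNoetherian X] {r : ℕ} (Ds : Fin r → X.IdealSheafData)
    (hDs : ∀ i, BlowUp.IsEffCartierIdeal (Ds i)) (hint : ∀ i, IsIntegral (Ds i).subscheme) :
    ∀ D : X.IdealSheafData, BlowUp.IsEffCartierIdeal D →
      (D.support : Set X) ⊆ ⋃ i, ((Ds i).support : Set X) → ∃ a : Fin r → ℕ, D = ∏ i, Ds i ^ a i := by
  haveI := wellFoundedGT_idealSheafData X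
  intro D
  induction D using WellFoundedGT.induction with
  | ind D ih =>
    intro hD hsub
    by_cases htop : D = ⊤
    · refine ⟨fun _ => 0, ?_⟩
      rw [htop]
      simp only [pow_zero, Finset.prod_const_one]
      rfl
    · obtain ⟨i, D', hD', hlt, heq⟩ := step D hD htop Ds hDs hint hsub
      have hsub' : (D'.support : Set X) ⊆ ⋃ i, ((Ds i).support : Set X) :=
        (SetLike.coe_subset_coe.mpr (support_antitone hlt.le)).trans hsub
      obtain ⟨a, ha⟩ := ih D' hlt hD' hsub'
      refine ⟨fun j => a j + if j = i then 1 else 0, ?_⟩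
      rw [heq, ha]
      simp only [pow_add, Finset.prod_mul_distrib, pow_ite, pow_one, pow_zero]
      rw [Finset.prod_ite_eq' Finset.univ i (fun j => Ds j)]
      simp [mul_comm]

end Groth.Agent.Lib.helper21.CartSum
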