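import Mathlib
import Groth.Agent.Lib.Helper21.SSWeakSerre
import Groth.Agent.Lib.Helper21.ShHomCoh2
import Groth.Agent.Lib.Helper7.QCohExt
import Groth.Agent.Lib.Helper7.KerSections
import Groth.Agent.Lib.Lead.SerreFin
import Groth.Agent.Lib.Helper16.FLF4

/-!
# Coherent modules on a locally Noetherian scheme form a weak Serre class (helper21)
-/

set_option autoImplicit false
universe u

open CategoryTheory CategoryTheory.Limits Opposite AlgebraicGeometry TopologicalSpace

namespace Groth.Agent.Lib.helper21.CohWeakSerre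

open Groth.Agent.Lib.helper21.SSWeakSerre Groth.Agent.Lib.helper21.ShHomCoh

variable {X : Scheme.{u}}

/-- an extension of coherent modules is coherent -/
theorem isCoh_of_extension [IsLocallyNoetherian X] (S : ShortComplex X.Modules)
    (hS : S.ShortExact) (h1 : Coh.IsCoh S.X₁) (h3 : Coh.IsCoh S.X₃) : Coh.IsCoh S.X₂ := by
  haveI := h1.1
  haveI := h3.1
  haveI : S.X₂.IsQuasicoherent := Groth.Agent.Lib.helper7.QCohExt.isQuasicoherent_of_extension S hS
  rw [Groth.Agent.Lib.helper16.CohFinite.isCoh_iff]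
  refine ⟨inferInstance, fun U => ?_⟩
  haveI : IsNoetherianRing Γ(X, U.1) := IsLocallyNoetherian.component_noetherian U
  haveI := Groth.Agent.Lib.helper16.CohFinite.finite_sections_of_isCoh S.X₁ h1 U.2
  haveI := Groth.Agent.Lib.helper16.CohFinite.finite_sections_of_isCoh S.X₃ h3 U.2
  haveI := hS.mono_f
  obtain ⟨-, hex⟩ := Groth.Agent.Lib.helper7.KerSections.sections_leftExact S hS.exact U.1
  refine Groth.Agent.Lib.Lead.SerreFin.finite_of_exact
    (Groth.Agent.Lib.helper16.FLF.sectionsLin S.f U.1)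
    (Groth.Agent.Lib.helper16.FLF.sectionsLin S.g U.1) ?_
  intro y
  constructor
  · intro hy
    obtain ⟨a, ha⟩ := hex y hy
    exact ⟨a, ha⟩
  · rintro ⟨a, rfl⟩
    have h0 : (S.f ≫ S.g).app U.1 = 0 := by rw [S.zero]; rfl
    have h1 := congrArg (fun φ => φ.hom a) h0
    rw [Scheme.Modules.Hom.comp_app] at h1
    exact h1

/-- coherent modules on a locally Noetherian scheme form a weak Serre class -/
theorem weakSerre_isCoh [IsLocallyNoetherian X] : WeakSerre (fun M : X.Modules => Coh.IsCoh M) where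
  iso e h := isCoh_of_iso' e h
  zero Z hZ := Groth.Agent.Lib.helper7.CohKer.isCoh_of_isZero hZ
  ker f hA hB := Groth.Agent.Lib.helper7.CohKer.isCoh_kernel hA hB f
  coker f hA hB := Groth.Agent.Lib.helper7.CohKer.isCoh_cokernel hA hB f
  ext S hS h1 h3 := isCoh_of_extension S hS h1 h3

end Groth.Agent.Lib.helper21.CohWeakSerre
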