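import Mathlib
import Groth.Agent.Lib.Helper21.ExtShAffine
import Groth.Agent.Lib.Helper16.CohStalk
import Groth.Agent.Lib.Helper19.ExtLoc2

/-!
# Pointwise vanishing of `ℰxt^j(F, G)` via `Ext` over the local rings (helper21)

`X` locally Noetherian, `F` coherent, `G` quasi-coherent, `x : X`:
`(ℰxt^j(F, G))_x = 0 ↔ Ext^j_{O_{X,x}}(F_x, G_x) = 0` (topological stalks), and the global version.
-/

set_option autoImplicit false
universe u

open CategoryTheory CategoryTheory.Limits AlgebraicGeometry Opposite TopologicalSpace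

namespace Groth.Agent.Lib.helper21.ExtStalk

open Groth.Agent.Lib.helper21.ExtShAffine Groth.Agent.Lib.helper16.CohStalk
  Groth.Agent.Lib.helper19.ExtLoc
open Scheme.Modules Abelian

attribute [local instance] Groth.Agent.Lib.helper21.ShHomCoh.hasInjRes

variable {X : Scheme.{u}} [IsLocallyNoetherian X] (F G : X.Modules) (hF : Coh.IsCoh F)
  (hG : G.IsQuasicoherent)

include hF hG in
/-- **pointwise criterion**: the stalk of `ℰxt^j(F, G)` at `x` vanishes iff
`Ext^j_{O_{X,x}}(F_x, G_x)` vanishes -/
theorem subsingleton_stalk_extSh_iff (j : ℕ) (x : X) :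
    Subsingleton ((Scheme.Modules.presheaf (X := X)
        ((ModSite.extSh (O := X.sheaf) F j).obj G)).stalk x) ↔
      Subsingleton (Ext.{u} (ModuleCat.of (X.presheaf.stalk x) (F.presheaf.stalk x))
        (ModuleCat.of (X.presheaf.stalk x) (G.presheaf.stalk x)) j) := by
  classical
  obtain ⟨_, ⟨U, hU : IsAffineOpen U, rfl⟩, hx, -⟩ :=
    X.isBasis_affineOpens.exists_subset_of_mem_open (Set.mem_univ x) isOpen_univ
  haveI : IsNoetherianRing Γ(X, U) := IsLocallyNoetherian.component_noetherian ⟨U, hU⟩
  haveI : F.IsQuasicoherent := hF.1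
  haveI : G.IsQuasicoherent := hG
  haveI : Module.Finite Γ(X, U) Γ(F, U) :=
    Groth.Agent.Lib.helper16.CohFinite.finite_sections_of_isCoh F hF hU
  let E : X.Modules := (ModSite.extSh (O := X.sheaf) F j).obj G
  haveI hE : E.IsQuasicoherent := Groth.Agent.Lib.helper21.ExtShQCoh.isQC_T j X F G hF hG
  letI := TopCat.Presheaf.algebra_section_stalk X.presheaf (⟨x, hx⟩ : U)
  haveI : IsLocalization.AtPrime (X.presheaf.stalk x) (hU.primeIdealOf ⟨x, hx⟩).asIdeal :=
    hU.isLocalization_stalk ⟨x, hx⟩
  letI := modStalk F x hx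
  haveI := isScalarTower_stalk F x hx
  haveI := isLocalizedModule_stalk F hU x hx
  letI := modStalk G x hx
  haveI := isScalarTower_stalk G x hx
  haveI := isLocalizedModule_stalk G hU x hx
  letI := modStalk E x hx
  haveI := isLocalizedModule_stalk E hU x hx
  have h1 := ext_iff (hU.primeIdealOf ⟨x, hx⟩).asIdeal.primeCompl (X.presheaf.stalk x)
    (germLin G x hx) j Γ(F, U) (F.presheaf.stalk x) (germLin F x hx)
  obtain ⟨e⟩ := nonempty_sections_linearEquiv hU F G hF hG j
  have h2 := ttors_congr (hU.primeIdealOf ⟨x, hx⟩).asIdeal.primeCompl e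
  have h3 := IsLocalizedModule.subsingleton_iff (hU.primeIdealOf ⟨x, hx⟩).asIdeal.primeCompl
    (germLin E x hx)
  exact h3.trans (h2.trans h1.symm)

omit [IsLocallyNoetherian X] in
/-- a module is zero iff all its (topological) stalks vanish -/
theorem isZero_iff_forall_subsingleton_stalk (M : X.Modules) :
    IsZero M ↔ ∀ x : X, Subsingleton (M.presheaf.stalk x) := by
  constructor
  · intro hM x
    refine ⟨fun a b => ?_⟩
    have key : ∀ t : M.presheaf.stalk x, t = 0 := by
      intro t
      obtain ⟨U, hx, s, rfl⟩ := TopCat.Presheaf.germ_exist M.presheaf (x := x) t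
      have h0 : (𝟙 M : M ⟶ M) = 0 := (IsZero.iff_id_eq_zero M).1 hM
      have h1 : s = 0 := by
        have := congrArg (fun φ : M ⟶ M => (Scheme.Modules.Hom.app φ U).hom s) h0
        exact this
      rw [h1, map_zero]
    rw [key a, key b]
  · intro h
    rw [IsZero.iff_id_eq_zero]
    ext U s
    change s = 0
    refine TopCat.Presheaf.section_ext ⟨M.presheaf, M.isSheaf⟩ U s 0 (fun y hy => ?_)
    haveI := h y
    exact Subsingleton.elim _ _

include hF hG in
/-- **global criterion**: `ℰxt^j(F, G) = 0` iff `Ext^j_{O_{X,x}}(F_x, G_x) = 0` for all `x` -/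
theorem isZero_extSh_iff (j : ℕ) :
    IsZero ((ModSite.extSh (O := X.sheaf) F j).obj G) ↔
      ∀ x : X, Subsingleton (Ext.{u} (ModuleCat.of (X.presheaf.stalk x) (F.presheaf.stalk x))
        (ModuleCat.of (X.presheaf.stalk x) (G.presheaf.stalk x)) j) := by
  have h := isZero_iff_forall_subsingleton_stalk (X := X)
    ((ModSite.extSh (O := X.sheaf) F j).obj G)
  refine h.trans (forall_congr' fun x => ?_)
  exact subsingleton_stalk_extSh_iff F G hF hG j x

end Groth.Agent.Lib.helper21.ExtStalk
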