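import Mathlib
import Groth.Prelude.Def_SpSeq
import Groth.Agent.Lib.Helper27.DegSS

/-!
# Degenerate spectral sequences: a single surviving term in a total degree (helper21)

If on the first page all terms of total degree `n` vanish except possibly the one at `(p₀, n - p₀)`,
and the sources/targets of all differentials through `(p₀, n - p₀)` vanish, then for an abutment
with finite filtration `H n ≅ E_{r₀}^{p₀, n - p₀}`.
-/

set_option autoImplicit false
universe v u

open CategoryTheory CategoryTheory.Limits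

namespace Groth.Agent.Lib.helper21.SSDegen

variable {C : Type u} [Category.{v} C] [Abelian C]

/-- zero objects persist to later pages -/
lemma isZero_page {r₀ : ℤ} (E : CohomologicalSpectralSequence C r₀) (pq : ℤ × ℤ)
    (h : IsZero ((E.page r₀ le_rfl).X pq)) :
    ∀ (r : ℤ) (hr : r₀ ≤ r), IsZero ((E.page r hr).X pq) := by
  intro r hr
  induction r, hr using Int.le_induction with
  | base => exact h
  | succ r hr ih =>
    refine IsZero.of_iso ?_ (E.iso r (r + 1) pq rfl hr).symm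
    exact ShortComplex.isZero_homology_of_isZero_X₂ _ ih

/-- if the neighbours of `i` vanish, the homology at `i` is the object at `i` -/
noncomputable def homologyIsoOfIsZero {ι : Type*} {c : ComplexShape ι}
    (K : HomologicalComplex C c) (i : ι)
    (hp : IsZero (K.X (c.prev i))) (hn : IsZero (K.X (c.next i))) : K.homology i ≅ K.X i :=
  (ShortComplex.HomologyData.ofZeros (K.sc i) (hp.eq_of_src _ _)
    (hn.eq_of_tgt _ _)).left.homologyIso

lemma prev_eq (r : ℤ) (pq : ℤ × ℤ) :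
    (ComplexShape.up' (⟨r, 1 - r⟩ : ℤ × ℤ)).prev pq = pq - (r, 1 - r) :=
  (ComplexShape.up' (⟨r, 1 - r⟩ : ℤ × ℤ)).prev_eq' (sub_add_cancel pq _)

lemma next_eq (r : ℤ) (pq : ℤ × ℤ) :
    (ComplexShape.up' (⟨r, 1 - r⟩ : ℤ × ℤ)).next pq = pq + (r, 1 - r) :=
  (ComplexShape.up' (⟨r, 1 - r⟩ : ℤ × ℤ)).next_eq' rfl

/-- the term at `pq` is unchanged on all pages if the neighbours along all differentials vanish -/
lemma nonempty_page_iso {r₀ : ℤ} (E : CohomologicalSpectralSequence C r₀) (pq : ℤ × ℤ)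
    (hprev : ∀ r, r₀ ≤ r → IsZero ((E.page r₀ le_rfl).X (pq - (r, 1 - r))))
    (hnext : ∀ r, r₀ ≤ r → IsZero ((E.page r₀ le_rfl).X (pq + (r, 1 - r)))) :
    ∀ (r : ℤ) (hr : r₀ ≤ r), Nonempty ((E.page r hr).X pq ≅ (E.page r₀ le_rfl).X pq) := by
  intro r hr
  induction r, hr using Int.le_induction with
  | base => exact ⟨Iso.refl _⟩
  | succ r hr ih =>
    obtain ⟨e⟩ := ih
    have hp : IsZero ((E.page r hr).X ((ComplexShape.up' (⟨r, 1 - r⟩ : ℤ × ℤ)).prev pq)) := by
      rw [prev_eq]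
      exact isZero_page E _ (hprev r hr) r hr
    have hn : IsZero ((E.page r hr).X ((ComplexShape.up' (⟨r, 1 - r⟩ : ℤ × ℤ)).next pq)) := by
      rw [next_eq]
      exact isZero_page E _ (hnext r hr) r hr
    exact ⟨(E.iso r (r + 1) pq rfl hr).symm ≪≫ homologyIsoOfIsZero (E.page r hr) pq hp hn ≪≫ e⟩

section Fil

variable {A : C} (F : ℤ → Subobject A) (hF : Antitone F)

include hF in
/-- a vanishing graded piece means the filtration does not jump -/
lemma eq_of_isZero_grPiece (p : ℤ) (h : IsZero (SpSeq.grPiece F hF p)) : F p = F (p + 1) := by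
  have hle : F (p + 1) ≤ F p := hF (Int.le_add_one le_rfl)
  haveI : Epi ((F (p + 1)).ofLE (F p) hle) :=
    Preadditive.epi_of_isZero_cokernel _ h
  haveI : IsIso ((F (p + 1)).ofLE (F p) hle) := isIso_of_mono_of_epi _
  refine le_antisymm ?_ hle
  refine Subobject.le_of_comm (inv ((F (p + 1)).ofLE (F p) hle)) ?_
  rw [IsIso.inv_comp_eq, Subobject.ofLE_arrow]

lemma eq_add_of_steps (lo : ℤ) (k : ℕ)
    (h : ∀ q, lo ≤ q → q < lo + k → F q = F (q + 1)) : F lo = F (lo + k) := by
  induction k with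
  | zero => simp
  | succ k ih =>
    have h1 : F lo = F (lo + k) := ih (fun q h1 h2 => h q h1 (by push_cast; omega))
    have h2 : F (lo + k) = F (lo + k + 1) := h (lo + k) (by omega) (by push_cast; omega)
    rw [h1, h2]
    congr 1
    push_cast
    ring

end Fil

/-- **single surviving term**: `H n ≅ E_{r₀}^{p₀, n - p₀}` -/
theorem nonempty_abutment_iso {r₀ : ℤ} (E : CohomologicalSpectralSequence C r₀) {H : ℤ → C}
    (a : SpSeq.Abutment E H) (n p₀ : ℤ) (hfin : a.IsFinite n)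
    (hgr : ∀ p, p ≠ p₀ → IsZero ((E.page r₀ le_rfl).X (p, n - p)))
    (hprev : ∀ r, r₀ ≤ r → IsZero ((E.page r₀ le_rfl).X ((p₀, n - p₀) - (r, 1 - r))))
    (hnext : ∀ r, r₀ ≤ r → IsZero ((E.page r₀ le_rfl).X ((p₀, n - p₀) + (r, 1 - r)))) :
    Nonempty (H n ≅ (E.page r₀ le_rfl).X (p₀, n - p₀)) := by
  -- transport of `β` to total degree `n`
  have hβ : ∀ p : ℤ, Nonempty ((E.page (a.rk (p, n - p)) (a.stat (p, n - p)).1).X (p, n - p) ≅
      SpSeq.grPiece (a.fil n) (a.anti n) p) := by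
    intro p
    have h0 := a.β (p, n - p)
    have e : p + (n - p) = n := by ring
    have h3 : ∀ (m : ℤ), m = n →
        Nonempty ((E.page (a.rk (p, n - p)) (a.stat (p, n - p)).1).X (p, n - p) ≅
          SpSeq.grPiece (a.fil m) (a.anti m) p) →
        Nonempty ((E.page (a.rk (p, n - p)) (a.stat (p, n - p)).1).X (p, n - p) ≅
          SpSeq.grPiece (a.fil n) (a.anti n) p) := by
      intro m hm hq
      subst hm
      exact hq
    exact h3 _ e ⟨h0⟩
  have hz : ∀ p, p ≠ p₀ → IsZero (SpSeq.grPiece (a.fil n) (a.anti n) p) := by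
    intro p hp
    obtain ⟨e⟩ := hβ p
    exact IsZero.of_iso (isZero_page E _ (hgr p hp) _ _) e.symm
  have hstep : ∀ p, p ≠ p₀ → a.fil n p = a.fil n (p + 1) := fun p hp =>
    eq_of_isZero_grPiece (a.fil n) (a.anti n) p (hz p hp)
  obtain ⟨⟨a₀, ha₀⟩, ⟨b₀, hb₀⟩⟩ := hfin
  change a.fil n a₀ = ⊤ at ha₀
  change a.fil n b₀ = ⊥ at hb₀
  have htop : a.fil n p₀ = ⊤ := by
    by_cases h : p₀ ≤ a₀
    · exact top_le_iff.mp (ha₀ ▸ a.anti n h)
    · have h1 := eq_add_of_steps (a.fil n) a₀ (p₀ - a₀).toNat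
        (fun q h1 h2 => hstep q (by
          rw [Int.toNat_of_nonneg (by omega)] at h2
          omega))
      rw [Int.toNat_of_nonneg (by omega)] at h1
      have e : a₀ + (p₀ - a₀) = p₀ := by ring
      rw [e] at h1
      rw [← h1, ha₀]
  have hbot : a.fil n (p₀ + 1) = ⊥ := by
    by_cases h : b₀ ≤ p₀ + 1
    · exact le_bot_iff.mp (hb₀ ▸ a.anti n h)
    · have h1 := eq_add_of_steps (a.fil n) (p₀ + 1) (b₀ - (p₀ + 1)).toNat
        (fun q h1 h2 => hstep q (by omega))
      rw [Int.toNat_of_nonneg (by omega)] at h1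
      have e : p₀ + 1 + (b₀ - (p₀ + 1)) = b₀ := by ring
      rw [e] at h1
      rw [h1, hb₀]
  obtain ⟨e1⟩ := hβ p₀
  obtain ⟨e2⟩ := nonempty_page_iso E (p₀, n - p₀) hprev hnext _ (a.stat (p₀, n - p₀)).1
  exact ⟨(Groth.Agent.Lib.helper27.DegSS.grPieceIso (a.fil n) (a.anti n) p₀ htop hbot).symm ≪≫
    e1.symm ≪≫ e2⟩

end Groth.Agent.Lib.helper21.SSDegen
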