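import Mathlib
import Groth.Agent.Lib.Helper21.ExtStalk
import Groth.Agent.Lib.Helper26.Depth1
import Groth.Agent.Lib.Helper26.DepthLoc3
import Groth.Agent.Lib.Helper8.StalkLen

/-!
# Depth of stalks and vanishing of `ℰxt` sheaves (helper21)

`X` locally Noetherian, `F`, `G` coherent.  If `depth F_y ≥ n` at all points `y` of the support of
`G` then `ℰxt^i(G, F) = 0` for all `i < n` (`isZero_extSh_of_depth`).
-/

set_option autoImplicit false
universe u

open CategoryTheory CategoryTheory.Limits AlgebraicGeometry Opposite TopologicalSpace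

namespace Groth.Agent.Lib.helper21.DepthExt

open Groth.Agent.Lib.helper21.ExtShAffine Groth.Agent.Lib.helper16.CohStalk
  Groth.Agent.Lib.helper16.CohFinite
open Scheme.Modules Abelian

attribute [local instance] Groth.Agent.Lib.helper21.ShHomCoh.hasInjRes

variable {X : Scheme.{u}}

/-- a module whose sections over all affine opens vanish is zero -/
theorem isZero_of_affine_sections (M : X.Modules)
    (h : ∀ V : X.Opens, IsAffineOpen V → Subsingleton Γ(M, V)) : IsZero M := by
  rw [Groth.Agent.Lib.helper21.ExtStalk.isZero_iff_forall_subsingleton_stalk]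
  intro x
  refine ⟨fun a b => ?_⟩
  have key : ∀ t : M.presheaf.stalk x, t = 0 := by
    intro t
    obtain ⟨W, hx, s, rfl⟩ := TopCat.Presheaf.germ_exist M.presheaf (x := x) t
    obtain ⟨_, ⟨V, hV : IsAffineOpen V, rfl⟩, hxV, hVW⟩ :=
      X.isBasis_affineOpens.exists_subset_of_mem_open hx W.2
    have hVW' : V ≤ W := hVW
    have h2 := TopCat.Presheaf.germ_res_apply M.presheaf (homOfLE hVW') x hxV s
    haveI := h V hV
    have h1 : M.presheaf.map (homOfLE hVW').op s = 0 := Subsingleton.elim (α := Γ(M, V)) _ _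
    rw [← h2, h1, map_zero]
  rw [key a, key b]

variable [IsLocallyNoetherian X] {V : X.Opens} (hV : IsAffineOpen V)
  (F G : X.Modules) (hF : Coh.IsCoh F) (hG : Coh.IsCoh G)

include hV hF hG in
/-- the depth of `Γ(F, V)` with respect to the annihilator of `Γ(G, V)` is bounded below by the
depths of the stalks of `F` at the points of `V ∩ Supp G` -/
theorem le_idealDepth_sections (n : ℕ)
    (h : ∀ y ∈ V, y ∈ CohB1.support G →
      (n : ℕ∞) ≤ LocCoh.depth (X.presheaf.stalk y) (F.presheaf.stalk y)) :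
    (n : ℕ∞) ≤ LocCoh.idealDepth (Module.annihilator Γ(X, V) Γ(G, V)) Γ(F, V) := by
  classical
  haveI : IsNoetherianRing Γ(X, V) := IsLocallyNoetherian.component_noetherian ⟨V, hV⟩
  haveI : F.IsQuasicoherent := hF.1
  haveI : G.IsQuasicoherent := hG.1
  haveI : Module.Finite Γ(X, V) Γ(F, V) := finite_sections_of_isCoh F hF hV
  haveI : Module.Finite Γ(X, V) Γ(G, V) := finite_sections_of_isCoh G hG hV
  rw [Groth.Agent.Lib.helper26.Depth.idealDepth_eq_iInf_depth_localization]
  refine le_iInf₂ fun p hp => ?_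
  obtain ⟨y, hy, rfl⟩ := Groth.Agent.Lib.helper8.StalkLen.exists_primeIdealOf_eq hV p
  have hsupp : y ∈ CohB1.support G := by
    have h1 : hV.primeIdealOf ⟨y, hy⟩ ∈ Module.support Γ(X, V) Γ(G, V) :=
      Module.mem_support_iff_of_finite.2 hp
    have h2 := (Groth.Agent.Lib.helper8.StalkLen.nontrivial_stalk_iff G hV y hy).2 h1
    exact not_subsingleton_iff_nontrivial.2 h2
  letI := TopCat.Presheaf.algebra_section_stalk X.presheaf (⟨y, hy⟩ : V)
  haveI : IsLocalization.AtPrime (X.presheaf.stalk y) (hV.primeIdealOf ⟨y, hy⟩).asIdeal :=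
    hV.isLocalization_stalk ⟨y, hy⟩
  letI := modStalk F y hy
  haveI := isScalarTower_stalk F y hy
  haveI := isLocalizedModule_stalk F hV y hy
  rw [← Groth.Agent.Lib.helper26.Depth.depth_eq_of_isLocalizedModule
    (hV.primeIdealOf ⟨y, hy⟩).asIdeal Γ(F, V) (X.presheaf.stalk y) (F.presheaf.stalk y)
    (germLin F y hy)]
  exact h y hy hsupp

include hF hG in
/-- **depth ⇒ vanishing**: if `depth F_y ≥ n` on the support of `G`, then `ℰxt^i(G, F) = 0` for
`i < n` -/
theorem isZero_extSh_of_depth (n : ℕ)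
    (h : ∀ y ∈ CohB1.support G,
      (n : ℕ∞) ≤ LocCoh.depth (X.presheaf.stalk y) (F.presheaf.stalk y))
    (i : ℕ) (hi : i < n) :
    IsZero ((ModSite.extSh (O := X.sheaf) G i).obj F) := by
  classical
  refine isZero_of_affine_sections _ fun V hV => ?_
  haveI : IsNoetherianRing Γ(X, V) := IsLocallyNoetherian.component_noetherian ⟨V, hV⟩
  haveI : Module.Finite Γ(X, V) Γ(F, V) := finite_sections_of_isCoh F hF hV
  haveI : Module.Finite Γ(X, V) Γ(G, V) := finite_sections_of_isCoh G hG hV
  obtain ⟨e⟩ := nonempty_sections_linearEquiv hV G F hG hF.1 i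
  have h1 := le_idealDepth_sections hV F G hF hG n (fun y _ hy => h y hy)
  have hN : Module.support Γ(X, V) (ModuleCat.of Γ(X, V) Γ(G, V)) ⊆
      PrimeSpectrum.zeroLocus (Module.annihilator Γ(X, V) Γ(G, V)) :=
    (Module.support_eq_zeroLocus).le
  haveI := Groth.Agent.Lib.helper26.Depth.subsingleton_ext_of_lt_idealDepth
    (Module.annihilator Γ(X, V) Γ(G, V)) Γ(F, V) (ModuleCat.of Γ(X, V) Γ(G, V)) hN i
    (lt_of_lt_of_le (by exact_mod_cast hi) h1)
  exact e.toEquiv.subsingleton

end Groth.Agent.Lib.helper21.DepthExt
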