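import Mathlib
import Groth.Agent.Lib.Helper21.DepthExt
import Groth.Agent.Lib.Helper3.FTFieldClosureDim
import Groth.Agent.Lib.Helper3.FTFieldLocalDim
import Groth.Agent.Lib.Helper26.Depth7
import Groth.Agent.Lib.Helper16.FLF3
import Groth.Agent.Lib.Lead.RankAdd
import Groth.Agent.Lib.Helper8.DevCore
import Groth.Agent.Lib.Helper8.SupportProper

/-!
# Vanishing of `ℰxt^q(ι_* O_X, E)` below the codimension on a regular scheme of finite type over a
field (helper21)

* `le_ringKrullDim_stalk_add_dim_closure`: on a scheme locally of finite type over a field all of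
  whose irreducible components have dimension `n`: `n ≤ dim O_{P,y} + dim cl{y}`.
* `le_depth_stalk_of_regular`: if moreover the local rings are regular and `dim cl{y} ≤ d`, then
  `n - d ≤ depth E_y` for every finite locally free `E`.
* `isZero_extSh_push_of_codim`: `ℰxt^q(ι_* O_X, E) = 0` for `q < n - d` when every point of `ι(X)`
  has closure of dimension `≤ d`.
-/

set_option autoImplicit false
universe u

open CategoryTheory CategoryTheory.Limits AlgebraicGeometry Opposite TopologicalSpace

namespace Groth.Agent.Lib.helper21.CodimDepth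

open Groth.Agent.Lib.helper3.FTField Groth.Agent.Lib.helper3.DimIneq
open Scheme.Modules

attribute [local instance] Groth.Agent.Lib.helper21.ShHomCoh.hasInjRes

section Dim

/-- **codimension inequality**: `n ≤ dim O_{P,y} + dim cl{y}` on an equidimensional scheme locally
of finite type over a field -/
theorem le_ringKrullDim_stalk_add_dim_closure (k : Type u) [Field k] (P : Scheme.{u})
    [P.Over (Spec (CommRingCat.of k))] [LocallyOfFiniteType (P ↘ Spec (CommRingCat.of k))] (n : ℕ)
    (hP : ∀ Z : Set ↥P, Z ∈ irreducibleComponents ↥P → topologicalKrullDim ↥Z = (n : WithBot ℕ∞))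
    (y : P) :
    (n : WithBot ℕ∞) ≤ ringKrullDim (P.presheaf.stalk y) +
      topologicalKrullDim ↥(closure ({y} : Set P)) := by
  obtain ⟨W, hW, hyW, -⟩ := exists_isAffineOpen_mem_and_subset (x := y) (U := ⊤) trivial
  haveI : IsNoetherianRing Γ(P, W) := isNoetherianRing_of_isAffineOpen k P hW
  set p := (hW.primeIdealOf ⟨y, hyW⟩).asIdeal with hp
  obtain ⟨q, hq, hqle⟩ := Ideal.exists_minimalPrimes_le (I := ⊥) (J := p) bot_le
  haveI : q.IsPrime := hq.1.1
  obtain ⟨ξ, hξW, hξq⟩ := exists_point_of_prime hW q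
  have hcomp : closure ({ξ} : Set P) ∈ irreducibleComponents P :=
    closure_mem_irreducibleComponents hW ξ hξW (by rw [hξq]; exact hq)
  obtain ⟨e, he⟩ := exists_nat_trdeg_residueField k P ξ
  have h1 := dim_closure_eq_trdeg k P ξ e he
  rw [hP _ hcomp] at h1
  have hen : e = n := by exact_mod_cast h1.symm
  obtain ⟨m, hm⟩ := exists_nat_trdeg_residueField k P y
  have h1' := dim_closure_eq_trdeg k P y m hm
  have hle : (hW.primeIdealOf ⟨ξ, hξW⟩).asIdeal ≤ (hW.primeIdealOf ⟨y, hyW⟩).asIdeal := by
    rw [hξq]; exact hqle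
  have h2 := height_map_add_trdeg_residueField k P hW ξ y hξW hyW hle
  rw [hm, he] at h2
  have h3 : ((hW.primeIdealOf ⟨y, hyW⟩).asIdeal.map
      (Ideal.Quotient.mk (hW.primeIdealOf ⟨ξ, hξW⟩).asIdeal)).height + (m : ℕ∞) = (e : ℕ∞) := by
    exact_mod_cast h2
  haveI : (hW.primeIdealOf ⟨ξ, hξW⟩).asIdeal.IsPrime := (hW.primeIdealOf ⟨ξ, hξW⟩).isPrime
  have h4 := height_map_le (hW.primeIdealOf ⟨ξ, hξW⟩).asIdeal (hW.primeIdealOf ⟨y, hyW⟩).asIdeal hle
  rw [ringKrullDim_stalk_eq_height hW y hyW, h1', ← hen]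
  have h5 : (e : ℕ∞) ≤ (hW.primeIdealOf ⟨y, hyW⟩).asIdeal.height + (m : ℕ∞) := by
    rw [← h3]
    exact add_le_add_left h4 _
  exact_mod_cast h5

/-- if `y` has closure of dimension `≤ d` and the local ring at `y` is regular, then
`n - d ≤ depth E_y` for finite locally free `E` -/
theorem le_depth_stalk_of_regular (k : Type u) [Field k] (P : Scheme.{u})
    [P.Over (Spec (CommRingCat.of k))] [LocallyOfFiniteType (P ↘ Spec (CommRingCat.of k))] (n : ℕ)
    (hP : ∀ Z : Set ↥P, Z ∈ irreducibleComponents ↥P → topologicalKrullDim ↥Z = (n : WithBot ℕ∞))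
    (E : P.Modules) (hE : FlatMod.IsFinLocFree E) (y : P)
    (hreg : IsRegularLocalRing (P.presheaf.stalk y)) (d : ℕ)
    (hd : topologicalKrullDim ↥(closure ({y} : Set P)) ≤ (d : WithBot ℕ∞)) :
    ((n - d : ℕ) : ℕ∞) ≤ LocCoh.depth (P.presheaf.stalk y) (E.presheaf.stalk y) := by
  obtain ⟨hfree, hfin⟩ := Groth.Agent.Lib.helper16.FLF.free_stalk_of_isFinLocFree E hE y
  haveI := hreg
  by_cases hsub : Subsingleton (E.presheaf.stalk y)
  · unfold LocCoh.depth
    have hsub' : Subsingleton (Submodule (P.presheaf.stalk y) (E.presheaf.stalk y)) :=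
      (Submodule.subsingleton_iff (P.presheaf.stalk y)).mpr hsub
    rw [Groth.Agent.Lib.helper26.Depth.idealDepth_eq_top_of_smul_top_eq_top _ _
      (Subsingleton.elim _ _)]
    exact le_top
  rw [not_subsingleton_iff_nontrivial] at hsub
  rw [Groth.Agent.Lib.helper26.Depth.depth_free (A := P.presheaf.stalk y) (E.presheaf.stalk y)]
  have h1 := le_ringKrullDim_stalk_add_dim_closure k P n hP y
  have h2 : (n : WithBot ℕ∞) ≤ ringKrullDim (P.presheaf.stalk y) + (d : WithBot ℕ∞) :=
    h1.trans (add_le_add_right hd _)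
  rw [← Groth.Agent.Lib.helper26.Depth.depth_eq_ringKrullDim_of_isRegularLocalRing
    (P.presheaf.stalk y)] at h2
  have h3 : (n : ℕ∞) ≤ LocCoh.depth (P.presheaf.stalk y) (P.presheaf.stalk y) + (d : ℕ∞) := by
    exact_mod_cast h2
  generalize LocCoh.depth (P.presheaf.stalk y) (P.presheaf.stalk y) = t at h3 ⊢
  induction t using ENat.recTopCoe with
  | top => exact le_top
  | coe t =>
    have h4 : n ≤ t + d := by exact_mod_cast h3
    have h5 : n - d ≤ t := by omega
    exact_mod_cast h5

end Dim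

section Main

variable {P X : Scheme.{u}} [IsLocallyNoetherian P] (ι : X ⟶ P) [IsClosedImmersion ι]

/-- `ℰxt^q(ι_* O_X, E) = 0` for `q < m` if `depth E_y ≥ m` at the points of `ι(X)` -/
theorem isZero_extSh_push_of_depth (E : P.Modules) (hE : Coh.IsCoh E) (m : ℕ)
    (h : ∀ x : X, (m : ℕ∞) ≤ LocCoh.depth (P.presheaf.stalk (ι x)) (E.presheaf.stalk (ι x)))
    (q : ℕ) (hq : q < m) :
    IsZero ((ModSite.extSh (O := P.sheaf)
      ((pushforward ι).obj (Coh.structureModule X)) q).obj E) := by
  refine Groth.Agent.Lib.helper21.DepthExt.isZero_extSh_of_depth E _ hE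
    (Groth.Agent.Lib.helper8.Dev.isCoh_push_structureModule ι) m (fun y hy => ?_) q hq
  obtain ⟨x, rfl⟩ := Groth.Agent.Lib.helper8.SchemeSupport.support_subset_range_of_iso _ ι _
    (Iso.refl _) hy
  exact h x

omit [IsLocallyNoetherian P] in
/-- closed immersions do not increase the dimension of the closure of a point -/
theorem dim_closure_image_le (x : X) :
    topologicalKrullDim ↥(closure ({ι x} : Set P)) ≤
      topologicalKrullDim ↥(closure ({x} : Set X)) := by
  refine Groth.Agent.Lib.helper3.TopDim.dim_le_of_range_subset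
    (f := (Subtype.val : ↥(closure ({ι x} : Set P)) → P))
    (g := fun z : ↥(closure ({x} : Set X)) => ι z.1)
    Topology.IsInducing.subtypeVal
    (ι.isClosedEmbedding.isInducing.comp Topology.IsInducing.subtypeVal) ?_
  rintro _ ⟨⟨z, hz⟩, rfl⟩
  have h1 : closure ({ι x} : Set P) = ι '' closure ({x} : Set X) := by
    rw [← ι.isClosedEmbedding.closure_image_eq, Set.image_singleton]
  rw [h1] at hz
  obtain ⟨w, hw, rfl⟩ := hz
  exact ⟨⟨w, hw⟩, rfl⟩

end Main

section Field

/-- **vanishing below the codimension** on a regular equidimensional scheme locally of finite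
type over a field -/
theorem isZero_extSh_push_of_codim (k : Type u) [Field k] (P : Scheme.{u})
    [P.Over (Spec (CommRingCat.of k))] [LocallyOfFiniteType (P ↘ Spec (CommRingCat.of k))]
    (hreg : ∀ p : P, IsRegularLocalRing (P.presheaf.stalk p)) (n : ℕ)
    (hP : ∀ Z : Set ↥P, Z ∈ irreducibleComponents ↥P → topologicalKrullDim ↥Z = (n : WithBot ℕ∞))
    {X : Scheme.{u}} (ι : X ⟶ P) [IsClosedImmersion ι] (E : P.Modules)
    (hE : FlatMod.IsFinLocFree E) (d : ℕ)
    (hd : ∀ x : X, topologicalKrullDim ↥(closure ({x} : Set X)) ≤ (d : WithBot ℕ∞))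
    (q : ℕ) (hq : q < n - d) :
    IsZero ((ModSite.extSh (O := P.sheaf)
      ((pushforward ι).obj (Coh.structureModule X)) q).obj E) := by
  haveI : IsLocallyNoetherian P :=
    LocallyOfFiniteType.isLocallyNoetherian (P ↘ Spec (CommRingCat.of k))
  refine isZero_extSh_push_of_depth ι E
    (Groth.Agent.Lib.Lead.RankAdd.isCoh_of_isFinLocFree hE) (n - d) (fun x => ?_) q hq
  exact le_depth_stalk_of_regular k P n hP E hE (ι x) (hreg _) d
    ((dim_closure_image_le ι x).trans (hd x))

end Field

end Groth.Agent.Lib.helper21.CodimDepth
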