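import Mathlib
import Groth.Agent.Lib.Helper21.ClosedFF
import Groth.Agent.Lib.Helper21.FLFDualExt
import Groth.Agent.Lib.Helper21.DerivedComm
import Groth.Agent.Lib.Helper21.ShHomCoh3
import Groth.Agent.Lib.Helper25.PushProj
import Groth.Agent.Lib.Helper13.KRes5
import Groth.Agent.Lib.Helper16.FLF3

/-!
# Change of rings along a closed immersion: the functor `G ↦ ℋom_X(E, ι^! G)` (helper21)

`ι : X ⟶ P` a closed immersion, `E` an `O_X`-module.

* `Lf ι E : X.Modules ⥤ P.Modules`, `F ↦ ι_*(E ⊗ F)`, with right adjoint `Tf ι E` (`adjLT`).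
* `pushTfIso ι E : Tf ι E ⋙ ι_* ≅ ℋom_P(ι_* E, -)` (projection formula for a closed immersion,
  helper25, and uniqueness of right adjoints).
* for `E` finite locally free `Tf ι E` preserves injectives (`injective_Tf`).
* `nonempty_push_rightDerived_Tf_iso`: `ι_* (R^q (Tf ι E)) G ≅ ℰxt^q_P(ι_* E, G)`.
-/

set_option autoImplicit false
universe u

open CategoryTheory CategoryTheory.Limits AlgebraicGeometry Opposite TopologicalSpace

namespace Groth.Agent.Lib.helper21.ChangeRings

open Groth.Agent.Lib.Helper21.TensorMon Groth.Agent.Lib.Helper21.TensorAdj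
  Groth.Agent.Lib.Lead.ModTensor Groth.Agent.Lib.Helper21.DerivedComm
  Groth.Agent.Lib.helper21.FLFDual

theorem hasInjRes' (Y : Scheme.{u}) : HasInjectiveResolutions Y.Modules :=
  Groth.Agent.Lib.helper21.ShHomCoh.hasInjRes Y

attribute [local instance] Groth.Agent.Lib.helper21.ShHomCoh.hasInjRes hasInjRes'

variable {X P : Scheme.{u}} (ι : X ⟶ P) [IsClosedImmersion ι] (E : X.Modules)

lemma tensL_map_eq {F F' : X.Modules} (φ : F ⟶ F') :
    (tensL X.sheaf E).map φ = tensorMap (𝟙 E) φ := by
  unfold tensorMap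
  rw [CategoryTheory.Functor.map_id]
  exact congrArg (L X).map (MonoidalCategory.id_tensorHom ((V X).obj E) ((V X).map φ)).symm

/-- `E ⊗ -` as an endofunctor of `X.Modules` -/
noncomputable def tensLX : X.Modules ⥤ X.Modules := tensL X.sheaf E

instance additive_tensLX : (tensLX E).Additive := additive_tensL' E

/-- `F ↦ ι_*(E ⊗ F)` -/
noncomputable def Lf : X.Modules ⥤ P.Modules :=
  tensLX E ⋙ Scheme.Modules.pushforward ι

lemma Lf_obj (F : X.Modules) :
    (Lf ι E).obj F = (Scheme.Modules.pushforward ι).obj (CohB1.tensorMod E F) := rfl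

/-- the right adjoint `ι^!` of `ι_*` -/
noncomputable def pushR : P.Modules ⥤ X.Modules :=
  haveI := Groth.Agent.Lib.helper16.PushColim.isLeftAdjoint_pushforward ι
  (Scheme.Modules.pushforward ι).rightAdjoint

noncomputable def pushAdj : Scheme.Modules.pushforward ι ⊣ pushR ι :=
  haveI := Groth.Agent.Lib.helper16.PushColim.isLeftAdjoint_pushforward ι
  Adjunction.ofIsLeftAdjoint _

/-- `G ↦ ℋom_X(E, ι^! G)` -/
noncomputable def Tf : P.Modules ⥤ X.Modules :=
  pushR ι ⋙ ModSite.sheafHom (O := X.sheaf) E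

/-- `ι_*(E ⊗ -) ⊣ ℋom_X(E, ι^! -)` -/
noncomputable def adjLT : Lf ι E ⊣ Tf ι E :=
  ((ModSite.sheafHomAdj (O := X.sheaf) E).ofNatIsoLeft (braidIso X.sheaf E).symm).comp (pushAdj ι)

open Groth.Agent.Lib.Helper25.PushProj in
/-- the projection formula `ι_* E ⊗ N ≅ ι_*(E ⊗ ι^* N)` as a natural isomorphism in `N` -/
noncomputable def projNatIso :
    tensL P.sheaf ((Scheme.Modules.pushforward ι).obj E) ≅
      Scheme.Modules.pullback ι ⋙ Lf ι E :=
  NatIso.ofComponents (fun N => @asIso _ _ _ _ (projHom ι E N) (isIso_projHom ι E N)) (by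
    intro N N' b
    dsimp only [asIso_hom, Functor.comp_map, Lf, tensLX]
    rw [tensL_map_eq, tensL_map_eq]
    have h := projHom_naturality ι (𝟙 E) b
    rw [CategoryTheory.Functor.map_id] at h
    exact h)

/-- `ι^* ⋙ ι_*(E ⊗ -) ⊣ ℋom_X(E, ι^! -) ⋙ ι_*` -/
noncomputable def adjComp :
    Scheme.Modules.pullback ι ⋙ Lf ι E ⊣ Tf ι E ⋙ Scheme.Modules.pushforward ι :=
  (Scheme.Modules.pullbackPushforwardAdjunction ι).comp (adjLT ι E)

/-- `ι_* ℋom_X(E, ι^! G) ≅ ℋom_P(ι_* E, G)`, naturally in `G` -/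
noncomputable def pushTfIso
    [ModSite.HasSheafHom (O := P.sheaf) ((Scheme.Modules.pushforward ι).obj E)] :
    Tf ι E ⋙ Scheme.Modules.pushforward ι ≅
      ModSite.sheafHom (O := P.sheaf) ((Scheme.Modules.pushforward ι).obj E) :=
  ((adjComp ι E).ofNatIsoLeft
    ((projNatIso ι E).symm ≪≫ braidIso P.sheaf ((Scheme.Modules.pushforward ι).obj E))).rightAdjointUniq
    (ModSite.sheafHomAdj (O := P.sheaf) ((Scheme.Modules.pushforward ι).obj E))

theorem isFlat_of_isFinLocFree {E : X.Modules} (hE : FlatMod.IsFinLocFree E) :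
    ModSite.IsFlat (O := X.sheaf) E :=
  (Groth.Agent.Lib.helper13.KRes.flatMod_iff_isFlat E).mp
    (Groth.Agent.Lib.helper16.FLF.isFlat_of_isFinLocFree E hE)

instance additive_Lf : (Lf ι E).Additive := by
  unfold Lf
  infer_instance

instance additive_Tf : (Tf ι E).Additive :=
  (adjLT ι E).right_adjoint_additive

theorem preservesMonomorphisms_Lf {E : X.Modules} (hE : FlatMod.IsFinLocFree E) :
    (Lf ι E).PreservesMonomorphisms := by
  haveI h1 : PreservesFiniteLimits (tens X.sheaf E) := (isFlat_of_isFinLocFree hE).1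
  haveI h2 : PreservesLimitsOfShape WalkingCospan (tens X.sheaf E) :=
    PreservesFiniteLimits.preservesFiniteLimits _
  haveI h3 : (tens X.sheaf E).PreservesMonomorphisms :=
    preservesMonomorphisms_of_preservesLimitsOfShape _
  haveI : (tensLX E).PreservesMonomorphisms :=
    @Functor.PreservesMonomorphisms.of_iso _ _ _ _ _ _ h3 (braidIso X.sheaf E).symm
  unfold Lf
  infer_instance

/-- `ℋom_X(E, ι^! Q)` is injective for `Q` injective and `E` finite locally free -/
theorem injective_Tf {E : X.Modules} (hE : FlatMod.IsFinLocFree E) (Q : P.Modules)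
    [Injective Q] : Injective ((Tf ι E).obj Q) := by
  haveI := preservesMonomorphisms_Lf ι hE
  exact Injective.injective_of_adjoint (adjLT ι E) Q

theorem preservesFiniteColimits_pushforward :
    PreservesFiniteColimits (Scheme.Modules.pushforward ι) := by
  haveI := Groth.Agent.Lib.helper16.PushColim.preservesColimits_pushforward ι
  exact PreservesColimitsOfSize.preservesFiniteColimits.{u, u} _

theorem preservesHomology_pushforward : (Scheme.Modules.pushforward ι).PreservesHomology := by
  haveI := preservesFiniteColimits_pushforward ι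
  haveI : PreservesFiniteLimits (Scheme.Modules.pushforward ι) := inferInstance
  infer_instance

/-- `ι_* (R^q (ℋom_X(E, ι^! -))) G ≅ ℰxt^q_P(ι_* E, G)` -/
theorem nonempty_push_rightDerived_Tf_iso
    [ModSite.HasSheafHom (O := P.sheaf) ((Scheme.Modules.pushforward ι).obj E)]
    [HasInjectiveResolutions (ModSite.Mod P.sheaf)] (q : ℕ) (G : P.Modules) :
    Nonempty ((Scheme.Modules.pushforward ι).obj (((Tf ι E).rightDerived q).obj G) ≅
      (ModSite.extSh (O := P.sheaf) ((Scheme.Modules.pushforward ι).obj E) q).obj G) := by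
  haveI := preservesHomology_pushforward ι
  haveI h0 : (ModSite.sheafHom (O := P.sheaf) ((Scheme.Modules.pushforward ι).obj E)).Additive :=
    ModSite.sheafHom_additive _ _
  haveI h0' : @Functor.Additive P.Modules P.Modules Scheme.Modules.instCategory
      Scheme.Modules.instCategory Scheme.Modules.instAbelian.toPreadditive
      Scheme.Modules.instAbelian.toPreadditive
      (ModSite.sheafHom (O := P.sheaf) ((Scheme.Modules.pushforward ι).obj E)) := h0
  exact ⟨((rightDerivedPostIso (Scheme.Modules.pushforward ι) (Tf ι E) q).symm ≪≫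
    rightDerivedIso (pushTfIso ι E) q).app G⟩

/-- if `ι_* M ≅ ℰxt^q_P(ι_* E, G)` then `M ≅ (R^q (ℋom_X(E, ι^! -))) G` -/
theorem nonempty_iso_rightDerived_Tf
    [ModSite.HasSheafHom (O := P.sheaf) ((Scheme.Modules.pushforward ι).obj E)]
    [HasInjectiveResolutions (ModSite.Mod P.sheaf)] (q : ℕ) (G : P.Modules) (M : X.Modules)
    (hM : Nonempty ((Scheme.Modules.pushforward ι).obj M ≅
      (ModSite.extSh (O := P.sheaf) ((Scheme.Modules.pushforward ι).obj E) q).obj G)) :
    Nonempty (M ≅ ((Tf ι E).rightDerived q).obj G) := by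
  obtain ⟨e1⟩ := hM
  obtain ⟨e2⟩ := nonempty_push_rightDerived_Tf_iso ι E q G
  exact ⟨Groth.Agent.Lib.helper21.ClosedFF.isoOfPushIso ι (e1 ≪≫ e2.symm)⟩

end Groth.Agent.Lib.helper21.ChangeRings
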