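import Mathlib
import Groth.Agent.S11922
import Groth.Agent.Lib.Helper21.SSDegen

/-!
# Lowest-row degeneration of the global change of rings spectral sequence (helper21)

If `ℰxt^q_P(ι_* E, G) = 0` for `q < c` and `ι_* ω ≅ ℰxt^c_P(ι_* E, G)` then
`Ext^c_P(ι_*(E ⊗ F), G) ≅ Hom_X(F, ω)`.
-/

set_option autoImplicit false
universe u

open CategoryTheory CategoryTheory.Limits AlgebraicGeometry Opposite TopologicalSpace

namespace Groth.Agent.Lib.helper21.ChangeRings

open Scheme.Modules
open scoped ZeroObject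

attribute [local instance] Groth.Agent.Lib.helper21.ShHomCoh.hasInjRes hasInjRes'

/-- `Ext` into a zero object vanishes -/
theorem subsingleton_ext_of_isZero_right {C : Type*} [Category C] [Abelian C] [HasExt C]
    {X Y : C} (hY : IsZero Y) (n : ℕ) : Subsingleton (Abelian.Ext X Y n) := by
  refine subsingleton_of_forall_eq 0 fun x => ?_
  have h := Abelian.Ext.comp_mk₀_id x
  rw [hY.eq_of_src (𝟙 Y) 0, Abelian.Ext.mk₀_zero, Abelian.Ext.comp_zero] at h
  exact h.symm

variable {X P : Scheme.{u}} (ι : X ⟶ P) [IsClosedImmersion ι]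

theorem nonempty_ext_iso_of_low_rows (E F : X.Modules) (hE : FlatMod.IsFinLocFree E)
    (G : P.Modules) [HasExt.{u} X.Modules] [HasExt.{u} P.Modules] (c : ℕ)
    (hz : ∀ q : ℕ, q < c →
      IsZero ((ModSite.extSh (O := P.sheaf) ((pushforward ι).obj E) q).obj G))
    (ω : X.Modules)
    (hω : Nonempty ((pushforward ι).obj ω ≅
      (ModSite.extSh (O := P.sheaf) ((pushforward ι).obj E) c).obj G)) :
    Nonempty (AddCommGrpCat.of (Abelian.Ext ((pushforward ι).obj (CohB1.tensorMod E F)) G c) ≅
      AddCommGrpCat.of (Abelian.Ext F ω 0)) := by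
  classical
  let M : ℕ → X.Modules := fun q =>
    if q = c then ω else if q < c then 0 else ((Tf ι E).rightDerived q).obj G
  have hM : ∀ q : ℕ, Nonempty (((pushforward ι).obj (M q)) ≅
      (ModSite.extSh (O := P.sheaf) ((pushforward ι).obj E) q).obj G) := by
    intro q
    by_cases hq : q = c
    · subst hq
      simp only [M, if_true]
      exact hω
    · by_cases hq' : q < c
      · simp only [M, if_neg hq, if_pos hq']
        exact ⟨IsZero.iso ((pushforward ι).map_isZero (isZero_zero _)) (hz q hq')⟩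
      · simp only [M, if_neg hq, if_neg hq']
        exact nonempty_push_rightDerived_Tf_iso ι E q G
  obtain ⟨ES, a, hfin, -, hE2⟩ := Groth.Agent.S11922.result X P ι E F hE G M hM
  have key : ∀ p' q' : ℤ, (p' < 0 ∨ q' < (c : ℤ)) → IsZero ((ES.page 2 le_rfl).X (p', q')) := by
    intro p' q' hpq
    obtain ⟨e⟩ := hE2 p' q'
    refine IsZero.of_iso ?_ e
    split_ifs with h
    · have hlt : q'.toNat < c := by omega
      have hne : q'.toNat ≠ c := by omega
      have hM0 : M q'.toNat = 0 := by simp only [M, if_neg hne, if_pos hlt]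
      change IsZero (AddCommGrpCat.of (Abelian.Ext F (M q'.toNat) p'.toNat))
      rw [hM0]
      haveI := subsingleton_ext_of_isZero_right (X := F) (isZero_zero X.Modules) p'.toNat
      exact AddCommGrpCat.isZero_of_subsingleton _
    · exact isZero_zero _
  obtain ⟨e1⟩ := Groth.Agent.Lib.helper21.SSDegen.nonempty_abutment_iso ES a (c : ℤ) 0 (hfin _)
    (fun p' hp' => by
      rcases lt_or_gt_of_ne hp' with h | h
      · exact key _ _ (Or.inl h)
      · exact key _ _ (Or.inr (by omega)))
    (fun r hr => by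
      rw [Prod.mk_sub_mk]
      exact key _ _ (Or.inl (by omega)))
    (fun r hr => by
      rw [Prod.mk_add_mk]
      exact key _ _ (Or.inr (by omega)))
  obtain ⟨e2⟩ := hE2 0 ((c : ℤ) - 0)
  rw [sub_zero] at e1 e2
  rw [if_pos ⟨le_refl 0, Int.natCast_nonneg c⟩, Int.toNat_natCast, Int.toNat_zero] at e2
  have hMc : M c = ω := by simp only [M, if_true]
  change _ ≅ AddCommGrpCat.of (Abelian.Ext F (M c) 0) at e2
  rw [hMc] at e2
  have e3 := e1 ≪≫ e2
  rw [if_pos (Int.natCast_nonneg _), Int.toNat_natCast] at e3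
  exact ⟨e3⟩

/-- `Hom_X(F, ω) = 0` if `Ext^c_P(ι_*(E ⊗ F), G) = 0` (same hypotheses) -/
theorem subsingleton_hom_of_low_rows (E F : X.Modules) (hE : FlatMod.IsFinLocFree E)
    (G : P.Modules) [HasExt.{u} X.Modules] [HasExt.{u} P.Modules] (c : ℕ)
    (hz : ∀ q : ℕ, q < c →
      IsZero ((ModSite.extSh (O := P.sheaf) ((pushforward ι).obj E) q).obj G))
    (ω : X.Modules)
    (hω : Nonempty ((pushforward ι).obj ω ≅
      (ModSite.extSh (O := P.sheaf) ((pushforward ι).obj E) c).obj G))
    (hsub : Subsingleton (Abelian.Ext ((pushforward ι).obj (CohB1.tensorMod E F)) G c)) :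
    Subsingleton (F ⟶ ω) := by
  obtain ⟨e⟩ := nonempty_ext_iso_of_low_rows ι E F hE G c hz ω hω
  haveI : Subsingleton (Abelian.Ext F ω 0) :=
    (e.symm.addCommGroupIsoToAddEquiv).toEquiv.subsingleton
  exact (Abelian.Ext.addEquiv₀ (X := F) (Y := ω)).symm.toEquiv.subsingleton

end Groth.Agent.Lib.helper21.ChangeRings
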