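import Mathlib
import Groth.Agent.Lib.Helper21.CodimDepth
import Groth.Agent.Lib.Helper5.SmoothFibreDim
import Groth.Agent.Lib.Helper5.FibreDimLocal
import Groth.Agent.S1535

/-!
# Dimension theory on a smooth scheme over a field, depth of finite locally free modules (helper21)

* `localDim_eq_of_smooth`: a `k`-scheme smooth of relative dimension `n` has local dimension `n`
  at every point.
* `ringKrullDim_stalk_add_dim_closure_of_smooth`: `dim O_{X,y} + dim cl{y} = n`.
* `le_depth_stalk_of_smooth`: `n - d ≤ depth E_y` for `E` finite locally free, `dim cl{y} ≤ d`.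
-/

set_option autoImplicit false
universe u

open CategoryTheory CategoryTheory.Limits AlgebraicGeometry Opposite TopologicalSpace

namespace Groth.Agent.Lib.helper21.SmoothCodim

open Groth.Agent.Lib.helper3.FTField Groth.Agent.Lib.helper3.DimIneq

theorem smooth_of_rel (k : Type u) [Field k] (n : ℕ) (X : Scheme.{u})
    [X.Over (Spec (CommRingCat.of k))]
    [SmoothOfRelativeDimension n (X ↘ Spec (CommRingCat.of k))] :
    Smooth (X ↘ Spec (CommRingCat.of k)) :=
  SmoothOfRelativeDimension.smooth n (X ↘ Spec (CommRingCat.of k))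

theorem locallyOfFiniteType_of_rel (k : Type u) [Field k] (n : ℕ) (X : Scheme.{u})
    [X.Over (Spec (CommRingCat.of k))]
    [SmoothOfRelativeDimension n (X ↘ Spec (CommRingCat.of k))] :
    LocallyOfFiniteType (X ↘ Spec (CommRingCat.of k)) := by
  haveI := smooth_of_rel k n X
  infer_instance

/-- a `k`-scheme smooth of relative dimension `n` has local dimension `n` at every point -/
theorem localDim_eq_of_smooth (k : Type u) [Field k] (n : ℕ) (X : Scheme.{u})
    [X.Over (Spec (CommRingCat.of k))]
    [SmoothOfRelativeDimension n (X ↘ Spec (CommRingCat.of k))] (y : X) :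
    FlatMor.localDim X y = (n : WithBot ℕ∞) := by
  have h1 := Groth.Agent.Lib.helper5.SmoothFibreDim.fibreDimAt_of_smoothOfRelativeDimension n
    (X ↘ Spec (CommRingCat.of k)) y
  rw [Groth.Agent.Lib.helper5.FibreDimLocal.fibreDimAt_eq_localDim_preimage] at h1
  have huniv : ((X ↘ Spec (CommRingCat.of k)) ⁻¹' {(X ↘ Spec (CommRingCat.of k)) y} : Set X) =
      Set.univ := by
    ext z
    simp only [Set.mem_preimage, Set.mem_singleton_iff, Set.mem_univ, iff_true]
    exact Subsingleton.elim _ _
  rw [Groth.Agent.Lib.helper5.FibreDimLocal.localDim_congr_set huniv y rfl] at h1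
  rw [← h1]
  exact (Groth.Agent.Lib.helper5.FibreDimLocal.localDim_eq_of_isOpenEmbedding
    (fun z : ((Set.univ : Set X) : Type u) => (z.1 : X))
    (isOpen_univ (X := X)).isOpenEmbedding_subtypeVal ⟨y, trivial⟩).symm

/-- `dim O_{X,y} + dim cl{y} = n` on a `k`-scheme smooth of relative dimension `n` -/
theorem ringKrullDim_stalk_add_dim_closure_of_smooth (k : Type u) [Field k] (n : ℕ)
    (X : Scheme.{u}) [X.Over (Spec (CommRingCat.of k))]
    [SmoothOfRelativeDimension n (X ↘ Spec (CommRingCat.of k))] (y : X) :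
    ringKrullDim (X.presheaf.stalk y) + topologicalKrullDim ↥(closure ({y} : Set X)) =
      (n : WithBot ℕ∞) := by
  haveI := smooth_of_rel k n X
  haveI := locallyOfFiniteType_of_rel k n X
  haveI : IsRegularLocalRing (X.presheaf.stalk y) := Groth.Agent.S1535.result k X y
  obtain ⟨a, ha⟩ := exists_nat_trdeg_residueField k X y
  have hb : ringKrullDim (X.presheaf.stalk y) =
      (((IsLocalRing.maximalIdeal (X.presheaf.stalk y)).spanFinrank : ℕ) : WithBot ℕ∞) :=
    (IsRegularLocalRing.spanFinrank_maximalIdeal (R := X.presheaf.stalk y)).symm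
  have h1 := localDim_eq k X y a _ ha hb
  rw [localDim_eq_of_smooth k n X y] at h1
  rw [dim_closure_eq_trdeg k X y a ha, hb, h1]
  push_cast
  rw [add_comm]

/-- if `y` has closure of dimension `≤ d` then `n - d ≤ depth E_y` for finite locally free `E` on a
`k`-scheme smooth of relative dimension `n` -/
theorem le_depth_stalk_of_smooth (k : Type u) [Field k] (n : ℕ) {X : Scheme.{u}}
    [X.Over (Spec (CommRingCat.of k))]
    [SmoothOfRelativeDimension n (X ↘ Spec (CommRingCat.of k))] (E : X.Modules) (hE : FlatMod.IsFinLocFree E) (y : X) (d : ℕ)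
    (hd : topologicalKrullDim ↥(closure ({y} : Set X)) ≤ (d : WithBot ℕ∞)) :
    ((n - d : ℕ) : ℕ∞) ≤ LocCoh.depth (X.presheaf.stalk y) (E.presheaf.stalk y) := by
  haveI := smooth_of_rel k n X
  haveI hreg : IsRegularLocalRing (X.presheaf.stalk y) := Groth.Agent.S1535.result k X y
  obtain ⟨hfree, hfin⟩ := Groth.Agent.Lib.helper16.FLF.free_stalk_of_isFinLocFree E hE y
  by_cases hsub : Subsingleton (E.presheaf.stalk y)
  · unfold LocCoh.depth
    have hsub' : Subsingleton (Submodule (X.presheaf.stalk y) (E.presheaf.stalk y)) :=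
      (Submodule.subsingleton_iff (X.presheaf.stalk y)).mpr hsub
    rw [Groth.Agent.Lib.helper26.Depth.idealDepth_eq_top_of_smul_top_eq_top _ _
      (Subsingleton.elim _ _)]
    exact le_top
  rw [not_subsingleton_iff_nontrivial] at hsub
  rw [Groth.Agent.Lib.helper26.Depth.depth_free (A := X.presheaf.stalk y) (E.presheaf.stalk y)]
  have h1 := (ringKrullDim_stalk_add_dim_closure_of_smooth k n X y).ge
  have h2 : (n : WithBot ℕ∞) ≤ ringKrullDim (X.presheaf.stalk y) + (d : WithBot ℕ∞) :=
    h1.trans (add_le_add_right hd _)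
  rw [← Groth.Agent.Lib.helper26.Depth.depth_eq_ringKrullDim_of_isRegularLocalRing
    (X.presheaf.stalk y)] at h2
  have h3 : (n : ℕ∞) ≤ LocCoh.depth (X.presheaf.stalk y) (X.presheaf.stalk y) + (d : ℕ∞) := by
    exact_mod_cast h2
  generalize LocCoh.depth (X.presheaf.stalk y) (X.presheaf.stalk y) = t at h3 ⊢
  induction t using ENat.recTopCoe with
  | top => exact le_top
  | coe t =>
    have h4 : n ≤ t + d := by exact_mod_cast h3
    have h5 : n - d ≤ t := by omega
    exact_mod_cast h5

end Groth.Agent.Lib.helper21.SmoothCodim
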