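import Mathlib
import Groth.Agent.Lib.Helper21.SmoothCodim
import Groth.Agent.Lib.Helper20.LargeTwist1
import Groth.Agent.Lib.Helper8.DevMaster
import Groth.Agent.Lib.Helper3.TopDim

/-!
# Vanishing of `ℰxt` sheaves and global `Ext` groups below the codimension of the support on a
smooth scheme over a field (helper21)

* `subsingleton_ext_of_isZero_extSh`: if `ℰxt^b(M, N) = 0` for all `b < p` then `Ext^i(M, N) = 0`
  for `i < p` (local-to-global spectral sequence).
* `isZero_extSh_of_dim_support`: `X` smooth of relative dimension `n` over a field, `F` coherent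
  with `dim Supp F + p ≤ n`, `L` finite locally free: `ℰxt^q(F, L) = 0` for `q < p`.
* `subsingleton_ext_of_dim_support`: the same for global `Ext` groups.
-/

set_option autoImplicit false
universe u

open CategoryTheory CategoryTheory.Limits AlgebraicGeometry Opposite TopologicalSpace

namespace Groth.Agent.Lib.helper21.ExtVanishSmooth

open Groth.Agent.Lib.helper3.FTField Groth.Agent.Lib.helper3.DimIneq

attribute [local instance] Groth.Agent.Lib.helper21.ShHomCoh.hasInjRes

/-- if `ℰxt^b(M, N) = 0` for all `b < p` then `Ext^i(M, N) = 0` for `i < p` -/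
theorem subsingleton_ext_of_isZero_extSh {X : Scheme.{u}} [HasExt.{u} X.Modules] (M N : X.Modules)
    (p : ℕ) (hz : ∀ b : ℕ, b < p → IsZero ((ModSite.extSh (O := X.sheaf) M b).obj N))
    (i : ℕ) (hi : i < p) : Subsingleton (Abelian.Ext.{u} M N i) := by
  obtain ⟨e⟩ := Groth.Agent.Lib.Helper20.LargeTwist.nonempty_ext_addEquiv_HH_zero M N i
    (fun a b _ hb => Groth.Agent.Lib.Helper20.LargeTwist.subsingleton_HH_of_isZero
      (hz b (lt_of_le_of_lt hb hi)) a)
  haveI := Groth.Agent.Lib.Helper20.LargeTwist.subsingleton_HH_of_isZero (hz i hi) 0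
  exact e.toEquiv.subsingleton

/-- `ℰxt^q(F, L) = 0` for `q < p` if `dim Supp F + p ≤ n` on a smooth `k`-scheme of relative
dimension `n`, `L` finite locally free -/
theorem isZero_extSh_of_dim_support (k : Type u) [Field k] (n : ℕ) (X : Scheme.{u})
    [X.Over (Spec (CommRingCat.of k))]
    [SmoothOfRelativeDimension n (X ↘ Spec (CommRingCat.of k))] (F : X.Modules)
    (hF : Coh.IsCoh F) (L : X.Modules) (hL : FlatMod.IsFinLocFree L) (p : ℕ)
    (hsupp : topologicalKrullDim ↥(CohB1.support F) + p ≤ n) (q : ℕ) (hq : q < p) :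
    IsZero ((ModSite.extSh (O := X.sheaf) F q).obj L) := by
  haveI := Groth.Agent.Lib.helper21.SmoothCodim.locallyOfFiniteType_of_rel k n X
  haveI : IsLocallyNoetherian X :=
    LocallyOfFiniteType.isLocallyNoetherian (X ↘ Spec (CommRingCat.of k))
  refine Groth.Agent.Lib.helper21.DepthExt.isZero_extSh_of_depth L F
    (Groth.Agent.Lib.Lead.RankAdd.isCoh_of_isFinLocFree hL) hF p (fun y hy => ?_) q hq
  obtain ⟨a, ha⟩ := exists_nat_trdeg_residueField k X y
  have h1 := dim_closure_eq_trdeg k X y a ha
  have hcl : closure ({y} : Set X) ⊆ CohB1.support F :=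
    (Groth.Agent.Lib.helper8.Dev.isClosed_support_of_isCoh F hF).closure_subset_iff.mpr
      (Set.singleton_subset_iff.mpr hy)
  have h2 := Groth.Agent.Lib.helper3.TopDim.dim_mono hcl
  rw [h1] at h2
  have h3 : ((a : ℕ) : WithBot ℕ∞) + (p : WithBot ℕ∞) ≤ (n : WithBot ℕ∞) :=
    (add_le_add_left h2 _).trans hsupp
  have h4 : a + p ≤ n := by exact_mod_cast h3
  have h5 := Groth.Agent.Lib.helper21.SmoothCodim.le_depth_stalk_of_smooth k n L hL y a h1.le
  refine le_trans ?_ h5
  have h6 : p ≤ n - a := by omega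
  exact_mod_cast h6

/-- `Ext^i(F, L) = 0` for `i < p` if `dim Supp F + p ≤ n` on a smooth `k`-scheme of relative
dimension `n`, `L` finite locally free -/
theorem subsingleton_ext_of_dim_support (k : Type u) [Field k] (n : ℕ) (X : Scheme.{u})
    [X.Over (Spec (CommRingCat.of k))]
    [SmoothOfRelativeDimension n (X ↘ Spec (CommRingCat.of k))] [HasExt.{u} X.Modules]
    (F : X.Modules) (hF : Coh.IsCoh F) (L : X.Modules) (hL : FlatMod.IsFinLocFree L) (p : ℕ)
    (hsupp : topologicalKrullDim ↥(CohB1.support F) + p ≤ n) (i : ℕ) (hi : i < p) :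
    Subsingleton (Abelian.Ext.{u} F L i) :=
  subsingleton_ext_of_isZero_extSh F L p
    (fun b hb => isZero_extSh_of_dim_support k n X F hF L hL p hsupp b hb) i hi

end Groth.Agent.Lib.helper21.ExtVanishSmooth
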