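import Mathlib
import Groth.Agent.Lib.Helper21.ExtVanishSmooth

/-!
# Vanishing of `ℰxt` sheaves and global `Ext` groups below the codimension of the support on a
regular equidimensional scheme locally of finite type over a field (helper21)
-/

set_option autoImplicit false
universe u

open CategoryTheory CategoryTheory.Limits AlgebraicGeometry Opposite TopologicalSpace

namespace Groth.Agent.Lib.helper21.ExtVanishReg

open Groth.Agent.Lib.helper3.FTField Groth.Agent.Lib.helper3.DimIneq

attribute [local instance] Groth.Agent.Lib.helper21.ShHomCoh.hasInjRes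

/-- `ℰxt^q(F, L) = 0` for `q < p` if `dim Supp F + p ≤ n`, on a regular scheme locally of finite
type over a field all of whose irreducible components have dimension `n`; `L` finite locally free -/
theorem isZero_extSh_of_dim_support (k : Type u) [Field k] (P : Scheme.{u})
    [P.Over (Spec (CommRingCat.of k))] [LocallyOfFiniteType (P ↘ Spec (CommRingCat.of k))]
    (hreg : ∀ p : P, IsRegularLocalRing (P.presheaf.stalk p)) (n : ℕ)
    (hP : ∀ Z : Set ↥P, Z ∈ irreducibleComponents ↥P → topologicalKrullDim ↥Z = (n : WithBot ℕ∞))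
    (F : P.Modules) (hF : Coh.IsCoh F) (L : P.Modules) (hL : FlatMod.IsFinLocFree L) (p : ℕ)
    (hsupp : topologicalKrullDim ↥(CohB1.support F) + p ≤ n) (q : ℕ) (hq : q < p) :
    IsZero ((ModSite.extSh (O := P.sheaf) F q).obj L) := by
  haveI : IsLocallyNoetherian P :=
    LocallyOfFiniteType.isLocallyNoetherian (P ↘ Spec (CommRingCat.of k))
  refine Groth.Agent.Lib.helper21.DepthExt.isZero_extSh_of_depth L F
    (Groth.Agent.Lib.Lead.RankAdd.isCoh_of_isFinLocFree hL) hF p (fun y hy => ?_) q hq
  obtain ⟨a, ha⟩ := exists_nat_trdeg_residueField k P y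
  have h1 := dim_closure_eq_trdeg k P y a ha
  have hcl : closure ({y} : Set P) ⊆ CohB1.support F :=
    (Groth.Agent.Lib.helper8.Dev.isClosed_support_of_isCoh F hF).closure_subset_iff.mpr
      (Set.singleton_subset_iff.mpr hy)
  have h2 := Groth.Agent.Lib.helper3.TopDim.dim_mono hcl
  rw [h1] at h2
  have h3 : ((a : ℕ) : WithBot ℕ∞) + (p : WithBot ℕ∞) ≤ (n : WithBot ℕ∞) :=
    (add_le_add_left h2 _).trans hsupp
  have h4 : a + p ≤ n := by exact_mod_cast h3
  have h5 := Groth.Agent.Lib.helper21.CodimDepth.le_depth_stalk_of_regular k P n hP L hL y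
    (hreg y) a h1.le
  refine le_trans ?_ h5
  have h6 : p ≤ n - a := by omega
  exact_mod_cast h6

/-- `Ext^i(F, L) = 0` for `i < p` if `dim Supp F + p ≤ n` (same setting) -/
theorem subsingleton_ext_of_dim_support (k : Type u) [Field k] (P : Scheme.{u})
    [P.Over (Spec (CommRingCat.of k))] [LocallyOfFiniteType (P ↘ Spec (CommRingCat.of k))]
    (hreg : ∀ p : P, IsRegularLocalRing (P.presheaf.stalk p)) (n : ℕ)
    (hP : ∀ Z : Set ↥P, Z ∈ irreducibleComponents ↥P → topologicalKrullDim ↥Z = (n : WithBot ℕ∞))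
    [HasExt.{u} P.Modules]
    (F : P.Modules) (hF : Coh.IsCoh F) (L : P.Modules) (hL : FlatMod.IsFinLocFree L) (p : ℕ)
    (hsupp : topologicalKrullDim ↥(CohB1.support F) + p ≤ n) (i : ℕ) (hi : i < p) :
    Subsingleton (Abelian.Ext.{u} F L i) :=
  Groth.Agent.Lib.helper21.ExtVanishSmooth.subsingleton_ext_of_isZero_extSh F L p
    (fun b hb => isZero_extSh_of_dim_support k P hreg n hP F hF L hL p hsupp b hb) i hi

end Groth.Agent.Lib.helper21.ExtVanishReg
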