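import Mathlib
import Groth.Agent.Lib.Helper3.ChainDim
import Groth.Agent.Lib.Helper3.FTFieldClosureDim

/-!
# A closed subset containing no generic point of an irreducible component has smaller dimension
(helper21)
-/

set_option autoImplicit false
universe u

open TopologicalSpace

namespace Groth.Agent.Lib.helper21.NoGenericDim

open Groth.Agent.Lib.helper3.FTField

/-- in a quasi-sober `T₀` space all of whose irreducible components have dimension `r`, a closed
subset containing no generic point of an irreducible component has dimension `< r` -/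
theorem dim_add_one_le {T : Type u} [TopologicalSpace T] [QuasiSober T] [T0Space T] (r : ℕ)
    (hT : ∀ W : Set T, W ∈ irreducibleComponents T → topologicalKrullDim ↥W = (r : WithBot ℕ∞))
    (Z : Set T) (hZ : IsClosed Z)
    (hgen : ∀ x ∈ Z, closure ({x} : Set T) ∉ irreducibleComponents T) :
    topologicalKrullDim ↥Z + 1 ≤ (r : WithBot ℕ∞) := by
  refine add_one_le_of_forall _ _ (fun m hm => ?_)
  obtain ⟨c, hc, hcZ⟩ := exists_chain_of_le_dim Z hZ m hm
  set x := c 0 with hx
  have hWirr : IsIrreducible (irreducibleComponent x) := isIrreducible_irreducibleComponent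
  obtain ⟨ξ, hξ⟩ := QuasiSober.sober hWirr isClosed_irreducibleComponent
  have hξcl : closure ({ξ} : Set T) = irreducibleComponent x := hξ
  have hξZ : ξ ∉ Z := fun h =>
    hgen ξ h (hξcl ▸ irreducibleComponent_mem_irreducibleComponents x)
  have hξx : ξ ⤳ x := by
    rw [specializes_iff_mem_closure, hξcl]
    exact mem_irreducibleComponent
  have hxξ : ¬ (x ⤳ ξ) := by
    intro h
    rw [specializes_iff_mem_closure] at h
    exact hξZ (hZ.closure_subset_iff.mpr (Set.singleton_subset_iff.mpr (hcZ 0)) h)
  have hmono : ∀ i : Fin (m + 1), x ⤳ c i := by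
    intro i
    induction i using Fin.induction with
    | zero => exact specializes_rfl
    | succ i ih => exact ih.trans (hc i).1
  let c' : Fin (m + 1 + 1) → T := Fin.cons ξ c
  have hc' : ∀ i : Fin (m + 1), c' i.castSucc ⤳ c' i.succ ∧ ¬ (c' i.succ ⤳ c' i.castSucc) := by
    intro i
    refine Fin.cases ?_ (fun j => ?_) i
    · exact ⟨hξx, hxξ⟩
    · have h1 : c' j.succ.castSucc = c j.castSucc := by
        rw [← Fin.succ_castSucc]; rfl
      have h2 : c' j.succ.succ = c j.succ := rfl
      rw [h1, h2]
      exact hc j
  have hmem : ∀ i, c' i ∈ irreducibleComponent x := by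
    intro i
    refine Fin.cases ?_ (fun j => ?_) i
    · change ξ ∈ _
      rw [← hξcl]
      exact subset_closure rfl
    · change c j ∈ _
      rw [← hξcl]
      exact (hξx.trans (hmono j)).mem_closure
  have h := Groth.Agent.Lib.helper3.ChainDim.length_le_dim_of_mem (irreducibleComponent x) (m + 1)
    c' hc' hmem
  rw [hT _ (irreducibleComponent_mem_irreducibleComponents x)] at h
  exact h

end Groth.Agent.Lib.helper21.NoGenericDim
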