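import Mathlib
import Groth.Agent.Lib.Helper21.ChangeRings3
import Groth.Agent.Lib.Helper21.ExtVanishReg
import Groth.Agent.Lib.Helper21.NoGenericDim
import Groth.Agent.Lib.Helper18.StalkPushClosed
import Groth.Agent.Lib.Helper20.PushStalkDepth
import Groth.Agent.Lib.Helper8.PushSupp
import Groth.Agent.Lib.Helper7.CohKer
import Groth.Agent.Lib.Helper16.QCohPullback2
import Groth.Agent.Lib.Helper16.FLF5
import Groth.Agent.Lib.Helper25.StalkExact
import Groth.Agent.Lib.Helper20.LargeTwist2
import Groth.Agent.Lib.Helper8.DevAR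

/-!
# The sheaf `ω = ℰxt^{n-r}_P(ι_* O_X, L)` has no sections supported in smaller dimension (helper21)

`P` regular, locally of finite type over a field, of pure dimension `n`; `ι : X ⟶ P` a closed
immersion with `X` of pure dimension `r`; `ι_* ω ≅ ℰxt^{n-r}_P(ι_* O_X, L)`, `L` finite locally
free. A morphism `F ⟶ ω` from a coherent `F` vanishing near every generic point of `X` is zero.
-/

set_option autoImplicit false
universe u

open CategoryTheory CategoryTheory.Limits AlgebraicGeometry Opposite TopologicalSpace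

namespace Groth.Agent.Lib.helper21.OmegaNoEmb

open Scheme.Modules

attribute [local instance] Groth.Agent.Lib.helper21.ShHomCoh.hasInjRes
  Groth.Agent.Lib.helper21.ChangeRings.hasInjRes'

section Push

variable {X P : Scheme.{u}} (ι : X ⟶ P) [IsClosedImmersion ι]

/-- the support of a direct image under a closed immersion is the image of the support -/
theorem support_push_subset (G : X.Modules) :
    CohB1.support ((pushforward ι).obj G) ⊆ ι '' CohB1.support G := by
  intro p hp
  by_cases hr : p ∈ Set.range ι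
  · obtain ⟨x, rfl⟩ := hr
    refine ⟨x, ?_, rfl⟩
    intro hsub
    apply hp
    have hb := Groth.Agent.Lib.Helper18.StalkPushClosed.stalkPush_bijective ι G x
      ι.isClosedEmbedding.isClosedMap (fun a ha => ι.isClosedEmbedding.injective ha)
    exact hb.1.subsingleton
  · exact absurd
      (Groth.Agent.Lib.Helper20.PushStalkDepth.subsingleton_stalk_push_of_notMem_range ι G p hr) hp

theorem dim_support_push_le (G : X.Modules) :
    topologicalKrullDim ↥(CohB1.support ((pushforward ι).obj G)) ≤
      topologicalKrullDim ↥(CohB1.support G) := by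
  refine Groth.Agent.Lib.helper3.TopDim.dim_le_of_range_subset
    (f := (Subtype.val : ↥(CohB1.support ((pushforward ι).obj G)) → P))
    (g := fun z : ↥(CohB1.support G) => ι z.1)
    Topology.IsInducing.subtypeVal
    (ι.isClosedEmbedding.isInducing.comp Topology.IsInducing.subtypeVal) ?_
  rintro _ ⟨⟨p, hp⟩, rfl⟩
  obtain ⟨x, hx, rfl⟩ := support_push_subset ι G hp
  exact ⟨⟨x, hx⟩, rfl⟩

/-- a module on a closed subscheme is coherent if its direct image is -/
theorem isCoh_of_isCoh_push (ω : X.Modules) (h : Coh.IsCoh ((pushforward ι).obj ω)) :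
    Coh.IsCoh ω := by
  haveI := Groth.Agent.Lib.helper21.ClosedFF.full_pushforward ι
  haveI := Groth.Agent.Lib.helper21.ClosedFF.faithful_pushforward ι
  have e : (Scheme.Modules.pullback ι).obj ((pushforward ι).obj ω) ≅ ω :=
    asIso ((Scheme.Modules.pullbackPushforwardAdjunction ι).counit.app ω)
  haveI : ((pushforward ι).obj ω).IsQuasicoherent := h.1
  have h1 : Coh.IsCoh ((Scheme.Modules.pullback ι).obj ((pushforward ι).obj ω)) :=
    ⟨Groth.Agent.Lib.helper16.QCohPullback.isQuasicoherent_pullback ι _,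
      Groth.Agent.Lib.helper16.QCohPullback2.isFiniteType_pullback ι _ h.2⟩
  exact Groth.Agent.Lib.helper21.ShHomCoh.isCoh_of_iso' e h1

end Push

section Stalk

variable {X : Scheme.{u}}

/-- a morphism whose restriction to an open neighbourhood of `x` vanishes is zero on the stalk
at `x` -/
theorem stalk_map_eq_zero_of_restrict {F G : X.Modules} (φ : F ⟶ G) (U : X.Opens) (x : X)
    (hx : x ∈ U) (h : (restrictFunctor U.ι).map φ = 0) :
    (DerSch.stalkFunctor X x).map φ = 0 := by
  have hnat := (restrictStalkNatIso U.ι (⟨x, hx⟩ : U)).hom.naturality φ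
  have h0 : (restrictFunctor U.ι ⋙ toPresheaf _ ⋙
      TopCat.Presheaf.stalkFunctor _ (⟨x, hx⟩ : U)).map φ = 0 := by
    change (TopCat.Presheaf.stalkFunctor _ (⟨x, hx⟩ : U)).map
      ((toPresheaf _).map ((restrictFunctor U.ι).map φ)) = 0
    rw [h]
    rw [Functor.map_zero, Functor.map_zero]
  rw [h0, zero_comp] at hnat
  have h1 : (toPresheaf X ⋙ TopCat.Presheaf.stalkFunctor _ (U.ι (⟨x, hx⟩ : U))).map φ = 0 := by
    have h2 := congrArg (fun ψ => (restrictStalkNatIso U.ι (⟨x, hx⟩ : U)).inv.app F ≫ ψ) hnat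
    dsimp only at h2
    rw [comp_zero, Iso.inv_hom_id_app_assoc] at h2
    exact h2.symm
  ext m
  have := congrArg (fun ψ => ψ.hom m) h1
  exact this

/-- the stalk of the image vanishes where the stalk map vanishes -/
theorem isZero_stalk_image {F G : X.Modules} (φ : F ⟶ G) (x : X)
    (h : (DerSch.stalkFunctor X x).map φ = 0) :
    IsZero ((DerSch.stalkFunctor X x).obj (Abelian.image φ)) := by
  have hfac : (DerSch.stalkFunctor X x).map (Abelian.factorThruImage φ) ≫
      (DerSch.stalkFunctor X x).map (Abelian.image.ι φ) = 0 := by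
    rw [← Functor.map_comp, Abelian.image.fac, h]
  haveI : Mono ((DerSch.stalkFunctor X x).map (Abelian.image.ι φ)) := inferInstance
  have h2 : (DerSch.stalkFunctor X x).map (Abelian.factorThruImage φ) = 0 := by
    rw [← cancel_mono ((DerSch.stalkFunctor X x).map (Abelian.image.ι φ)), hfac, zero_comp]
  haveI : Epi ((DerSch.stalkFunctor X x).map (Abelian.factorThruImage φ)) := inferInstance
  exact IsZero.of_epi_eq_zero _ h2

end Stalk

section Main

open Groth.Agent.Lib.Helper21.TensorMon

/-- **no embedded sections**: a morphism from a coherent module to `ω` which vanishes near every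
generic point is zero -/
theorem hom_eq_zero_of_generic (k : Type u) [Field k] (P : Scheme.{u})
    [P.Over (Spec (CommRingCat.of k))] [LocallyOfFiniteType (P ↘ Spec (CommRingCat.of k))]
    (hreg : ∀ p : P, IsRegularLocalRing (P.presheaf.stalk p)) (n r : ℕ) (hr : r ≤ n)
    (hP : ∀ Z : Set ↥P, Z ∈ irreducibleComponents ↥P → topologicalKrullDim ↥Z = (n : WithBot ℕ∞))
    {X : Scheme.{u}} (ι : X ⟶ P) [IsClosedImmersion ι]
    (heq : ∀ Z : Set ↥X, Z ∈ irreducibleComponents ↥X → topologicalKrullDim ↥Z = (r : WithBot ℕ∞))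
    (L : P.Modules) (hL : FlatMod.IsFinLocFree L) (ω : X.Modules)
    (hω : Nonempty ((pushforward ι).obj ω ≅ (ModSite.extSh (O := P.sheaf)
      ((pushforward ι).obj (Coh.structureModule X)) (n - r)).obj L))
    (F : X.Modules) (hF : Coh.IsCoh F) (φ : F ⟶ ω)
    (hφ : ∀ x : X, closure ({x} : Set ↥X) ∈ irreducibleComponents ↥X →
      ∃ U : X.Opens, x ∈ U ∧ (restrictFunctor U.ι).map φ = 0) :
    φ = 0 := by
  haveI : IsLocallyNoetherian P :=
    LocallyOfFiniteType.isLocallyNoetherian (P ↘ Spec (CommRingCat.of k))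
  haveI : IsLocallyNoetherian X := LocallyOfFiniteType.isLocallyNoetherian ι
  haveI hExtX : HasExt.{u} X.Modules := Groth.Agent.Lib.Helper20.LargeTwist.hasExt_modules X
  haveI hExtP : HasExt.{u} P.Modules := Groth.Agent.Lib.Helper20.LargeTwist.hasExt_modules P
  have hcohO : Coh.IsCoh ((pushforward ι).obj (Coh.structureModule X)) :=
    Groth.Agent.Lib.helper8.Dev.isCoh_push_structureModule ι
  have hLc : Coh.IsCoh L := Groth.Agent.Lib.Lead.RankAdd.isCoh_of_isFinLocFree hL
  obtain ⟨eω⟩ := hω
  have hωc : Coh.IsCoh ω := isCoh_of_isCoh_push ι ω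
    (Groth.Agent.Lib.helper21.ShHomCoh.isCoh_of_iso' eω.symm
      (Groth.Agent.Lib.helper21.ShHomCoh.isCoh_T (n - r) P _ L hcohO hLc))
  have hF'c : Coh.IsCoh (Abelian.image φ) :=
    Groth.Agent.Lib.helper7.CohKer.isCoh_kernel hωc
      (Groth.Agent.Lib.helper7.CohKer.isCoh_cokernel hF hωc φ) _
  suffices h : Subsingleton (Abelian.image φ ⟶ ω) by
    rw [← Abelian.image.fac φ, Subsingleton.elim (Abelian.image.ι φ) 0, comp_zero]
  have hz : ∀ q : ℕ, q < n - r → IsZero ((ModSite.extSh (O := P.sheaf)
      ((pushforward ι).obj (Coh.structureModule X)) q).obj L) := by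
    intro q hq
    refine Groth.Agent.Lib.helper21.CodimDepth.isZero_extSh_push_of_codim k P hreg n hP ι L hL r
      (fun x => ?_) q hq
    have h1 : closure ({x} : Set X) ⊆ irreducibleComponent x :=
      closure_minimal (Set.singleton_subset_iff.mpr mem_irreducibleComponent)
        isClosed_irreducibleComponent
    exact (Groth.Agent.Lib.helper3.TopDim.dim_mono h1).trans
      (heq _ (irreducibleComponent_mem_irreducibleComponents x)).le
  refine Groth.Agent.Lib.helper21.ChangeRings.subsingleton_hom_of_low_rows ι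
    (Coh.structureModule X) (Abelian.image φ)
    (Groth.Agent.Lib.helper16.FLF.isFinLocFree_structureModule X) L (n - r) hz ω ⟨eω⟩ ?_
  have eu : CohB1.tensorMod (Coh.structureModule X) (Abelian.image φ) ≅ Abelian.image φ :=
    (unitIso X.sheaf).app (Abelian.image φ)
  have hcoh' : Coh.IsCoh ((pushforward ι).obj
      (CohB1.tensorMod (Coh.structureModule X) (Abelian.image φ))) :=
    Groth.Agent.Lib.helper8.Dev.isCoh_push_of_isCoh ι _
      (Groth.Agent.Lib.helper21.ShHomCoh.isCoh_of_iso' eu.symm hF'c)
  refine Groth.Agent.Lib.helper21.ExtVanishReg.subsingleton_ext_of_dim_support k P hreg n hP _ hcoh'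
    L hL (n - r + 1) ?_ (n - r) (Nat.lt_succ_self _)
  have hgen : ∀ x ∈ CohB1.support (Abelian.image φ),
      closure ({x} : Set X) ∉ irreducibleComponents X := by
    intro x hx hcomp
    obtain ⟨U, hxU, h0⟩ := hφ x hcomp
    have h1 := isZero_stalk_image φ x (stalk_map_eq_zero_of_restrict φ U x hxU h0)
    exact hx (ModuleCat.subsingleton_of_isZero h1)
  have hdim := Groth.Agent.Lib.helper21.NoGenericDim.dim_add_one_le r heq
    (CohB1.support (Abelian.image φ))
    (Groth.Agent.Lib.helper8.Dev.isClosed_support_of_isCoh _ hF'c) hgen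
  have h2 := dim_support_push_le ι (CohB1.tensorMod (Coh.structureModule X) (Abelian.image φ))
  rw [Groth.Agent.Lib.helper8.StalkLen.support_eq_of_iso eu] at h2
  have h3 : ((n - r + 1 : ℕ) : WithBot ℕ∞) = 1 + ((n - r : ℕ) : WithBot ℕ∞) := by
    push_cast
    rw [add_comm]
  have h4 : ((r : ℕ) : WithBot ℕ∞) + ((n - r : ℕ) : WithBot ℕ∞) = (n : WithBot ℕ∞) := by
    exact_mod_cast Nat.add_sub_cancel' hr
  rw [h3, ← add_assoc, ← h4]
  exact add_le_add_left ((add_le_add_left h2 _).trans hdim) _

end Main

end Groth.Agent.Lib.helper21.OmegaNoEmb
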