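import Mathlib
import Groth.Agent.Lib.Helper26.Depth1

/-!
# Rees' isomorphism `Ext^n(K, M) ≃ Hom(K, M/(x₁,…,xₙ)M)` (helper21)

`R` Noetherian, `K`, `M` finite `R`-modules, `rs` an `M`-regular sequence of length `n` contained
in the annihilator of `K`.

* `step`: for `x` regular on `M` and killing `K`, if `Ext^e(K, M) = 0` then the connecting map
  `Ext^e(K, M/xM) → Ext^{e+1}(K, M)` is a linear equivalence.
* `nonempty_linearEquiv`: `Ext^n(K, M) ≃ₗ (K →ₗ M/(rs)M)`.
* `homQuotEquiv`: `Hom_R(R/I, N) ≃ₗ N` if `I N = 0`.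
* `nonempty_ext_quot_self`: `Ext^n(R/I, R) ≃ₗ R/I` for `I` generated by a regular sequence of
  length `n`.
* `eq_zero_of_smul_eq_zero`: if `r` is regular on `N` and `Ext^c(N/rN, L) = 0`, then `r` acts
  injectively on `Ext^c(N, L)`.
-/

set_option autoImplicit false
universe u

open CategoryTheory Abelian RingTheory.Sequence

namespace Groth.Agent.Lib.helper21.ReesIso

variable {R : Type u} [CommRing R]

/-- **Rees' dimension shift**: for `x` regular on `M` and killing `K`, if `Ext^e(K, M) = 0` the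
connecting map `Ext^e(K, M/xM) → Ext^{e+1}(K, M)` is a linear equivalence -/
noncomputable def step (K M : ModuleCat.{u} R) (x : R) (hx : IsSMulRegular M x)
    (hK : x ∈ Module.annihilator R K) (e : ℕ) (hvan : Subsingleton (Ext.{u} K M e)) :
    Ext.{u} K (ModuleCat.of R (QuotSMulTop x M)) e ≃ₗ[R] Ext.{u} K M (e + 1) :=
  LinearEquiv.ofBijective
    (hx.smulShortComplex_shortExact.extClass.postcompOfLinear R K (rfl : e + 1 = e + 1)) (by
      have key : ∀ y : Ext.{u} K M (e + 1),
          y.comp (Ext.mk₀ (x • 𝟙 M)) (add_zero (e + 1)) = 0 := fun y => by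
        rw [← Ext.smul_eq_comp_mk₀]
        exact Groth.Agent.Lib.helper26.Depth.smul_ext_eq_zero_of_mem_annihilator_left hK y
      constructor
      · rw [injective_iff_map_eq_zero]
        intro x₃ hx₃
        obtain ⟨x₂, hx₂⟩ := Ext.covariant_sequence_exact₃ K hx.smulShortComplex_shortExact x₃
          rfl hx₃
        have h0 : x₂ = 0 := Subsingleton.elim (α := Ext.{u} K M e) x₂ 0
        rw [← hx₂, h0, Ext.zero_comp]
      · intro x₁
        exact Ext.covariant_sequence_exact₁ K hx.smulShortComplex_shortExact x₁ (key x₁) rfl)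

/-- **Rees' isomorphism** -/
theorem nonempty_linearEquiv [IsNoetherianRing R] (K : ModuleCat.{u} R) [Module.Finite R K]
    (n : ℕ) : ∀ (M : Type u) [AddCommGroup M] [Module R M] [Module.Finite R M] (rs : List R),
      rs.length = n → IsRegular M rs → (∀ r ∈ rs, r ∈ Module.annihilator R K) →
      Nonempty (Ext.{u} K (ModuleCat.of R M) n ≃ₗ[R]
        (K →ₗ[R] (M ⧸ (Ideal.ofList rs • ⊤ : Submodule R M)))) := by
  induction n with
  | zero =>
    intro M _ _ _ rs hlen _ _
    obtain rfl : rs = [] := List.length_eq_zero_iff.mp hlen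
    have h0 : (Ideal.ofList ([] : List R) • ⊤ : Submodule R M) = ⊥ := by
      rw [Ideal.ofList_nil, Submodule.bot_smul]
    exact ⟨(Ext.linearEquiv₀ (R := R)).trans ((ModuleCat.homLinearEquiv (S := R)).trans
      (LinearEquiv.congrRight (Submodule.quotEquivOfEqBot _ h0).symm))⟩
  | succ n ih =>
    intro M _ _ _ rs hlen hreg hmem
    match rs, hlen, hreg, hmem with
    | [], hlen, _, _ => simp at hlen
    | a :: rs', hlen, hreg, hmem =>
      have hlen' : rs'.length = n := by simpa using hlen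
      have hreg' := (isRegular_cons_iff M a rs').mp hreg
      have hmem' : ∀ r ∈ rs', r ∈ Module.annihilator R K := fun r hr =>
        hmem r (List.mem_cons_of_mem a hr)
      obtain ⟨e1⟩ := ih (QuotSMulTop a M) rs' hlen' hreg'.2 hmem'
      have hsupp : Module.support R K ⊆ PrimeSpectrum.zeroLocus (Module.annihilator R K) := by
        rw [Module.support_eq_zeroLocus]
      have hle : ((a :: rs').length : ℕ∞) ≤
          LocCoh.idealDepth (Module.annihilator R K) M :=
        Groth.Agent.Lib.helper26.Depth.length_le_idealDepth hreg.toIsWeaklyRegular hmem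
      have hvan : Subsingleton (Ext.{u} K (ModuleCat.of R M) n) :=
        Groth.Agent.Lib.helper26.Depth.subsingleton_ext_of_lt_idealDepth
          (Module.annihilator R K) M K hsupp n (lt_of_lt_of_le (by
            rw [hlen]; exact_mod_cast Nat.lt_succ_self n) hle)
      have e2 := step K (ModuleCat.of R M) a hreg'.1 (hmem a List.mem_cons_self) n hvan
      exact ⟨e2.symm.trans (e1.trans (LinearEquiv.congrRight
        (Submodule.quotOfListConsSMulTopEquivQuotSMulTopInner M a rs').symm))⟩

/-- `Hom_R(R/I, N) ≃ₗ N` when `I` kills `N` -/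
noncomputable def homQuotEquiv (I : Ideal R) (N : Type u) [AddCommGroup N] [Module R N]
    (hN : ∀ i ∈ I, ∀ m : N, i • m = 0) : ((R ⧸ I) →ₗ[R] N) ≃ₗ[R] N where
  toFun f := f 1
  map_add' f g := rfl
  map_smul' r f := rfl
  invFun m := Submodule.liftQ I (LinearMap.toSpanSingleton R N m) (fun i hi => by
    rw [LinearMap.mem_ker, LinearMap.toSpanSingleton_apply]
    exact hN i hi m)
  left_inv f := by
    refine LinearMap.ext fun q => ?_
    obtain ⟨r, rfl⟩ := Ideal.Quotient.mk_surjective q
    change (Submodule.liftQ I (LinearMap.toSpanSingleton R N (f 1)) _) (Submodule.Quotient.mk r) = _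
    rw [Submodule.liftQ_apply, LinearMap.toSpanSingleton_apply, ← map_smul]
    congr 1
    change r • (Ideal.Quotient.mk I 1) = Ideal.Quotient.mk I r
    rw [← Ideal.Quotient.mk_eq_mk, ← Submodule.Quotient.mk_smul, smul_eq_mul, mul_one]
    rfl
  right_inv m := by
    change (Submodule.liftQ I (LinearMap.toSpanSingleton R N m) _) (Submodule.Quotient.mk 1) = m
    rw [Submodule.liftQ_apply, LinearMap.toSpanSingleton_apply, one_smul]

/-- `Ext^n(R/I, R) ≃ₗ R/I` for `I` generated by a regular sequence of length `n` -/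
theorem nonempty_ext_quot_self [IsNoetherianRing R] (rs : List R) (hreg : IsRegular R rs) :
    Nonempty (Ext.{u} (ModuleCat.of R (R ⧸ Ideal.ofList rs)) (ModuleCat.of R R) rs.length ≃ₗ[R]
      (R ⧸ Ideal.ofList rs)) := by
  have hmem : ∀ r ∈ rs, r ∈ Module.annihilator R (ModuleCat.of R (R ⧸ Ideal.ofList rs)) := by
    intro r hr
    change r ∈ Module.annihilator R (R ⧸ Ideal.ofList rs)
    rw [Ideal.annihilator_quotient]
    exact Ideal.subset_span hr
  obtain ⟨e1⟩ := nonempty_linearEquiv (ModuleCat.of R (R ⧸ Ideal.ofList rs)) rs.length R rs rfl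
    hreg hmem
  have h0 : (Ideal.ofList rs • ⊤ : Submodule R R) = Ideal.ofList rs := by
    rw [smul_eq_mul, Ideal.mul_top]
  have e2 : (R ⧸ (Ideal.ofList rs • ⊤ : Submodule R R)) ≃ₗ[R] (R ⧸ Ideal.ofList rs) :=
    Submodule.quotEquivOfEq _ _ h0
  have e3 : ((R ⧸ Ideal.ofList rs) →ₗ[R] (R ⧸ Ideal.ofList rs)) ≃ₗ[R] (R ⧸ Ideal.ofList rs) :=
    homQuotEquiv (Ideal.ofList rs) (R ⧸ Ideal.ofList rs) (fun i hi m => by
      obtain ⟨r, rfl⟩ := Ideal.Quotient.mk_surjective m
      change i • (Submodule.Quotient.mk r : R ⧸ Ideal.ofList rs) = 0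
      rw [← Submodule.Quotient.mk_smul, Submodule.Quotient.mk_eq_zero, smul_eq_mul]
      exact Ideal.mul_mem_right r _ hi)
  exact ⟨e1.trans ((LinearEquiv.congrRight e2).trans e3)⟩

/-- if `r` is regular on `N` and `Ext^c(N/rN, L) = 0` then `r` acts injectively on
`Ext^c(N, L)` -/
theorem eq_zero_of_smul_eq_zero (N L : ModuleCat.{u} R) (r : R) (hr : IsSMulRegular N r) (c : ℕ)
    (hvan : Subsingleton (Ext.{u} (ModuleCat.of R (QuotSMulTop r N)) L c)) (x : Ext.{u} N L c)
    (hx : r • x = 0) : x = 0 := by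
  have h1 : (Ext.mk₀ (r • 𝟙 N)).comp x (zero_add c) = 0 := by
    rw [Ext.mk₀_smul, Ext.smul_comp, Ext.mk₀_id_comp]
    exact hx
  obtain ⟨x₁, hx₁⟩ := Ext.contravariant_sequence_exact₂ hr.smulShortComplex_shortExact L x h1
  have : x₁ = 0 := Subsingleton.elim (α := Ext.{u} (ModuleCat.of R (QuotSMulTop r N)) L c) _ _
  rw [← hx₁, this, Ext.comp_zero]
  rfl

end Groth.Agent.Lib.helper21.ReesIso
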