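import Mathlib
import Groth.Agent.Lib.Helper21.ReesIso
import Groth.Agent.Lib.Helper21.OmegaNoEmb
import Groth.Agent.Lib.Helper21.CodimDepth
import Groth.Agent.Lib.Helper8.DimLt
import Groth.Agent.Lib.Helper16.QCohPullback2

/-!
# `ω = ℰxt^{n-r}_P(ι_* O_X, L)`: nonzerodivisors act injectively on sections (helper21)

`P` regular, locally of finite type over a field, of pure dimension `n`; `ι : X ⟶ P` a closed
immersion with `X` reduced of pure dimension `r`; `ι_* ω ≅ ℰxt^{n-r}_P(ι_* O_X, L)`, `L` finite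
locally free.  For every affine open `U` of `P`, every nonzerodivisor of `Γ(X, ι⁻¹U)` acts
injectively on `Γ(ω, ι⁻¹U)`.
-/

set_option autoImplicit false
universe u

open CategoryTheory CategoryTheory.Limits AlgebraicGeometry Opposite TopologicalSpace

namespace Groth.Agent.Lib.helper21.OmegaLocal

open Scheme.Modules Abelian
open Groth.Agent.Lib.helper21.ExtShAffine Groth.Agent.Lib.helper16.CohStalk
  Groth.Agent.Lib.helper16.CohFinite

attribute [local instance] Groth.Agent.Lib.helper21.ShHomCoh.hasInjRes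

section Depth

variable {P : Scheme.{u}} [IsLocallyNoetherian P] {U : P.Opens} (hU : IsAffineOpen U)
  (L : P.Modules) (hL : Coh.IsCoh L)

include hU hL in
/-- the depth of `Γ(L, U)` with respect to an ideal `J` is bounded below by the depths of the
stalks of `L` at the points of `V(J)` -/
theorem le_idealDepth_of_forall (J : Ideal Γ(P, U)) (m : ℕ)
    (h : ∀ (y : P) (hy : y ∈ U), J ≤ (hU.primeIdealOf ⟨y, hy⟩).asIdeal →
      (m : ℕ∞) ≤ LocCoh.depth (P.presheaf.stalk y) (L.presheaf.stalk y)) :
    (m : ℕ∞) ≤ LocCoh.idealDepth J Γ(L, U) := by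
  classical
  haveI : IsNoetherianRing Γ(P, U) := IsLocallyNoetherian.component_noetherian ⟨U, hU⟩
  haveI : L.IsQuasicoherent := hL.1
  haveI : Module.Finite Γ(P, U) Γ(L, U) := finite_sections_of_isCoh L hL hU
  rw [Groth.Agent.Lib.helper26.Depth.idealDepth_eq_iInf_depth_localization]
  refine le_iInf₂ fun p hp => ?_
  obtain ⟨y, hy, rfl⟩ := Groth.Agent.Lib.helper8.StalkLen.exists_primeIdealOf_eq hU p
  letI := TopCat.Presheaf.algebra_section_stalk P.presheaf (⟨y, hy⟩ : U)
  haveI : IsLocalization.AtPrime (P.presheaf.stalk y) (hU.primeIdealOf ⟨y, hy⟩).asIdeal :=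
    hU.isLocalization_stalk ⟨y, hy⟩
  letI := modStalk L y hy
  haveI := isScalarTower_stalk L y hy
  haveI := isLocalizedModule_stalk L hU y hy
  rw [← Groth.Agent.Lib.helper26.Depth.depth_eq_of_isLocalizedModule
    (hU.primeIdealOf ⟨y, hy⟩).asIdeal Γ(L, U) (P.presheaf.stalk y) (L.presheaf.stalk y)
    (germLin L y hy)]
  exact h y hy hp

end Depth

end Groth.Agent.Lib.helper21.OmegaLocal
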