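import Mathlib

/-!
# Torsion-freeness of localizations (helper21)

`B` a reduced Noetherian ring, `M` a `B`-module on which every nonzerodivisor of `B` acts
injectively. Then for every prime `p`, `M_p` is a torsion-free `B_p`-module
(`torsion_eq_bot`).

The key point (`exists_nonZeroDivisor`): for any `b : B` the ideal `(b) + Ann(b)` contains a
nonzerodivisor.
-/

set_option autoImplicit false
universe u v

namespace Groth.Agent.Lib.helper21.TorsionFreeLoc

variable {B : Type u} [CommRing B]

/-- in a reduced ring, an element of a minimal prime is killed by an element outside it -/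
theorem exists_notMem_mul_eq_zero [IsReduced B] {q : Ideal B} (hq : q ∈ minimalPrimes B) {b : B}
    (hb : b ∈ q) : ∃ v ∉ q, v * b = 0 := by
  haveI : q.IsPrime := hq.1.1
  have h1 := IsLocalization.AtPrime.radical_map_of_mem_minimalPrimes
    (A := Localization.AtPrime q) q ⊥ hq
  have h2 : algebraMap B (Localization.AtPrime q) b ∈
      ((⊥ : Ideal B).map (algebraMap B (Localization.AtPrime q))).radical := by
    rw [h1]
    exact Ideal.mem_map_of_mem _ hb
  rw [Ideal.map_bot] at h2
  obtain ⟨n, hn⟩ := h2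
  rw [Ideal.mem_bot, ← map_pow, IsLocalization.map_eq_zero_iff q.primeCompl] at hn
  obtain ⟨v, hv⟩ := hn
  refine ⟨v, v.2, ?_⟩
  have h3 : ((v : B) * b) ^ (n + 1) = 0 := by
    have : ((v : B) * b) ^ (n + 1) = (v : B) ^ n * b * ((v : B) * b ^ n) := by ring
    rw [this, hv, mul_zero]
  exact IsReduced.eq_zero _ ⟨n + 1, h3⟩

/-- in a reduced ring, a zero divisor lies in a minimal prime -/
theorem exists_minimalPrimes_mem [IsReduced B] {z : B} (hz : z ∉ nonZeroDivisors B) :
    ∃ q ∈ minimalPrimes B, z ∈ q := by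
  rw [mem_nonZeroDivisors_iff_right] at hz
  push_neg at hz
  obtain ⟨w, hw, hw0⟩ := hz
  have h1 : w ∉ sInf (minimalPrimes B) := by
    change w ∉ sInf (⊥ : Ideal B).minimalPrimes
    rw [Ideal.sInf_minimalPrimes]
    intro h
    exact hw0 (IsReduced.eq_zero _ (by simpa using h))
  rw [Submodule.mem_sInf] at h1
  push_neg at h1
  obtain ⟨q, hq, hwq⟩ := h1
  have hqp : Ideal.IsPrime q := hq.1.1
  refine ⟨q, hq, ?_⟩
  have : w * z ∈ q := by rw [hw]; exact Submodule.zero_mem q
  exact (Ideal.IsPrime.mem_or_mem hqp this).resolve_left hwq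

/-- in a reduced Noetherian ring, `(b) + Ann(b)` contains a nonzerodivisor -/
theorem exists_nonZeroDivisor [IsReduced B] [IsNoetherianRing B] (b : B) :
    ∃ β y : B, y * b = 0 ∧ β * b + y ∈ nonZeroDivisors B := by
  classical
  by_contra hcon
  push_neg at hcon
  let J : Ideal B := Ideal.span {b} ⊔ (Ideal.span {b}).annihilator
  have hfin : (minimalPrimes B).Finite := minimalPrimes.finite_of_isNoetherianRing B
  have hJ : (J : Set B) ⊆ ⋃ q ∈ (↑hfin.toFinset : Set (Ideal B)), ((id q : Ideal B) : Set B) := by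
    intro z hz
    obtain ⟨z₁, hz₁, y, hy, rfl⟩ := Submodule.mem_sup.mp hz
    obtain ⟨β, rfl⟩ := Ideal.mem_span_singleton'.mp hz₁
    have hyb : y * b = 0 := by
      have := Submodule.mem_annihilator.mp hy b (Ideal.mem_span_singleton_self b)
      simpa using this
    obtain ⟨q, hq, hzq⟩ := exists_minimalPrimes_mem (hcon β y hyb)
    simp only [Set.mem_iUnion, Finset.mem_coe, Set.Finite.mem_toFinset, id]
    exact ⟨q, hq, hzq⟩
  rw [Ideal.subset_union_prime (⊤ : Ideal B) ⊤ (fun q hq _ _ => by
    rw [Set.Finite.mem_toFinset] at hq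
    exact hq.1.1)] at hJ
  obtain ⟨q, hq, hJq⟩ := hJ
  rw [Set.Finite.mem_toFinset] at hq
  have hbq : b ∈ q := hJq (Submodule.mem_sup_left (Ideal.mem_span_singleton_self b))
  obtain ⟨v, hvq, hvb⟩ := exists_notMem_mul_eq_zero hq hbq
  refine hvq (hJq (Submodule.mem_sup_right ?_))
  rw [Submodule.mem_annihilator_span_singleton]
  exact hvb

variable [IsReduced B] [IsNoetherianRing B]

/-- **torsion-freeness of the localizations** -/
theorem torsion_eq_bot (p : Ideal B) [p.IsPrime] (Bp : Type*) [CommRing Bp] [Algebra B Bp]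
    [IsLocalization.AtPrime Bp p] (M : Type*) [AddCommGroup M] [Module B M]
    (Mp : Type*) [AddCommGroup Mp] [Module B Mp] [Module Bp Mp] [IsScalarTower B Bp Mp]
    (f : M →ₗ[B] Mp) [IsLocalizedModule p.primeCompl f]
    (hM : ∀ b ∈ nonZeroDivisors B, ∀ m : M, b • m = 0 → m = 0) :
    Submodule.torsion Bp Mp = ⊥ := by
  rw [eq_bot_iff]
  intro t ht
  rw [Submodule.mem_torsion_iff] at ht
  obtain ⟨a, hat⟩ := ht
  rw [Submodule.mem_bot]
  obtain ⟨⟨m, u⟩, hmu⟩ := IsLocalizedModule.surj p.primeCompl f t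
  obtain ⟨⟨b, u'⟩, hbu⟩ := IsLocalization.surj p.primeCompl (a : Bp)
  dsimp only at hmu hbu
  -- `alg b` is a nonzerodivisor
  have hunit : IsUnit (algebraMap B Bp (u' : B)) := IsLocalization.map_units Bp u'
  have hbnzd : algebraMap B Bp b ∈ nonZeroDivisors Bp := by
    rw [← hbu]
    exact mul_mem a.2 (IsUnit.mem_nonZeroDivisors hunit)
  -- `f (b • m) = 0`
  have hat' : (a : Bp) • t = 0 := hat
  have h1 : f (b • m) = 0 := by
    have e1 : b • t = 0 := by
      rw [← algebraMap_smul Bp b, ← hbu, mul_comm, mul_smul, hat', smul_zero]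
    have hmu' : (u : B) • t = f m := hmu
    rw [map_smul, ← hmu', smul_comm, e1, smul_zero]
  obtain ⟨w, hw⟩ := (IsLocalizedModule.eq_zero_iff p.primeCompl f).mp h1
  obtain ⟨β, y, hyb, hz⟩ := exists_nonZeroDivisor b
  have hy0 : algebraMap B Bp y = 0 := by
    have : algebraMap B Bp y * algebraMap B Bp b = 0 := by rw [← map_mul, hyb, map_zero]
    exact (mem_nonZeroDivisors_iff_right.mp hbnzd) _ this
  obtain ⟨h, hh⟩ := (IsLocalization.map_eq_zero_iff p.primeCompl Bp y).mp hy0
  have h2 : (β * b + y) • (((h : B) * (w : B)) • m) = 0 := by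
    have e1 : (β * b + y) • (((h : B) * (w : B)) • m) =
        (β * (h : B)) • ((w : B) • (b • m)) + (((h : B) * y) * (w : B)) • m := by
      simp only [smul_smul, ← add_smul]
      congr 1
      ring
    rw [e1]
    have hw' : (w : B) • (b • m) = 0 := hw
    rw [hw', smul_zero, hh, zero_mul, zero_smul, add_zero]
  have h3 := hM _ hz _ h2
  have h4 : f m = 0 := by
    rw [IsLocalizedModule.eq_zero_iff p.primeCompl f]
    exact ⟨h * w, by rw [Submonoid.smul_def]; exact h3⟩
  rw [h4] at hmu
  have h5 : IsUnit (algebraMap B Bp (u : B)) := IsLocalization.map_units Bp u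
  have h6 : algebraMap B Bp (u : B) • t = 0 := by
    rw [algebraMap_smul]; exact hmu
  obtain ⟨v, hv⟩ := h5.exists_left_inv
  calc t = (v * algebraMap B Bp (u : B)) • t := by rw [hv, one_smul]
    _ = v • (algebraMap B Bp (u : B) • t) := mul_smul _ _ _
    _ = 0 := by rw [h6, smul_zero]

end Groth.Agent.Lib.helper21.TorsionFreeLoc
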