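import Mathlib
import Groth.Agent.Lib.Helper21.OmegaLocal1
import Groth.Agent.Lib.Helper21.TorsionFreeLoc

/-!
# `ω = ℰxt^{n-r}_P(ι_* O_X, L)` is torsion free (helper21)

`P` regular, locally of finite type over a field, of pure dimension `n`; `ι : X ⟶ P` a closed
immersion with `X` reduced of pure dimension `r`; `ι_* ω ≅ ℰxt^{n-r}_P(ι_* O_X, L)`, `L` finite
locally free.  Then all stalks of `ω` are torsion free.
-/

set_option autoImplicit false
universe u

open CategoryTheory CategoryTheory.Limits AlgebraicGeometry Opposite TopologicalSpace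

namespace Groth.Agent.Lib.helper21.OmegaLocal

open Scheme.Modules Abelian
open Groth.Agent.Lib.helper21.ExtShAffine Groth.Agent.Lib.helper16.CohStalk
  Groth.Agent.Lib.helper16.CohFinite Groth.Agent.Lib.helper21.CodimDepth

attribute [local instance] Groth.Agent.Lib.helper21.ShHomCoh.hasInjRes

section Points

variable {X : Scheme.{u}}

/-- a point at which a nonzerodivisor (on an affine neighbourhood) vanishes is not the generic
point of an irreducible component (`X` reduced) -/
theorem closure_notMem_irreducibleComponents [IsReduced X] {V : X.Opens} (hV : IsAffineOpen V)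
    (x : X) (hx : x ∈ V) (b : Γ(X, V)) (hb : b ∈ nonZeroDivisors Γ(X, V))
    (hbx : b ∈ (hV.primeIdealOf ⟨x, hx⟩).asIdeal) :
    closure ({x} : Set X) ∉ irreducibleComponents X := by
  intro hcomp
  have hfield := isField_stalk_of_closure_mem_irreducibleComponents X x hcomp
  letI := TopCat.Presheaf.algebra_section_stalk X.presheaf (⟨x, hx⟩ : V)
  haveI : IsLocalization.AtPrime (X.presheaf.stalk x) (hV.primeIdealOf ⟨x, hx⟩).asIdeal :=
    hV.isLocalization_stalk ⟨x, hx⟩
  have h1 : algebraMap Γ(X, V) (X.presheaf.stalk x) b ∈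
      IsLocalRing.maximalIdeal (X.presheaf.stalk x) :=
    (IsLocalization.AtPrime.to_map_mem_maximal_iff (X.presheaf.stalk x)
      (hV.primeIdealOf ⟨x, hx⟩).asIdeal b).mpr hbx
  rw [IsLocalRing.isField_iff_maximalIdeal_eq.mp hfield, Ideal.mem_bot] at h1
  have h2 : algebraMap Γ(X, V) (X.presheaf.stalk x) b ∈ nonZeroDivisors (X.presheaf.stalk x) :=
    IsLocalization.map_nonZeroDivisors_le (hV.primeIdealOf ⟨x, hx⟩).asIdeal.primeCompl
      (X.presheaf.stalk x) ⟨b, hb, rfl⟩
  rw [h1] at h2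
  exact zero_notMem_nonZeroDivisors h2

/-- a point which is not the generic point of an irreducible component has closure of dimension
`< r` if all components have dimension `r` -/
theorem dim_closure_add_one_le (r : ℕ)
    (heq : ∀ Z : Set ↥X, Z ∈ irreducibleComponents ↥X → topologicalKrullDim ↥Z = (r : WithBot ℕ∞))
    (x : X) (hx : closure ({x} : Set X) ∉ irreducibleComponents X) :
    topologicalKrullDim ↥(closure ({x} : Set X)) + 1 ≤ (r : WithBot ℕ∞) := by
  have h1 : closure ({x} : Set X) ⊆ irreducibleComponent x :=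
    closure_minimal (Set.singleton_subset_iff.mpr mem_irreducibleComponent)
      isClosed_irreducibleComponent
  have hne : closure ({x} : Set X) ≠ irreducibleComponent x := fun h =>
    hx (h ▸ irreducibleComponent_mem_irreducibleComponents x)
  have h2 := Groth.Agent.Lib.helper8.DimLt.topologicalKrullDim_add_one_le h1 isClosed_closure
    isIrreducible_irreducibleComponent hne
  rwa [heq _ (irreducibleComponent_mem_irreducibleComponents x)] at h2

end Points

section Star

variable (k : Type u) [Field k] (P : Scheme.{u})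
  [P.Over (Spec (CommRingCat.of k))] [LocallyOfFiniteType (P ↘ Spec (CommRingCat.of k))]
  (hreg : ∀ p : P, IsRegularLocalRing (P.presheaf.stalk p)) (n r : ℕ) (hr : r ≤ n)
  (hP : ∀ Z : Set ↥P, Z ∈ irreducibleComponents ↥P → topologicalKrullDim ↥Z = (n : WithBot ℕ∞))
  {X : Scheme.{u}} (ι : X ⟶ P) [IsClosedImmersion ι] [IsReduced X]
  (heq : ∀ Z : Set ↥X, Z ∈ irreducibleComponents ↥X → topologicalKrullDim ↥Z = (r : WithBot ℕ∞))
  (L : P.Modules) (hL : FlatMod.IsFinLocFree L)

include k hreg hr hP heq hL in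
/-- at the points of `V(ker + (a))`, `a` lifting a nonzerodivisor of `Γ(X, ι⁻¹U)`, the depth of
`L` is at least `n - r + 1` -/
theorem le_depth_of_vanishing {U : P.Opens} (hU : IsAffineOpen U) (a : Γ(P, U))
    (ha : (ι.app U).hom a ∈ nonZeroDivisors Γ(X, ι ⁻¹ᵁ U)) (y : P) (hy : y ∈ U)
    (hJ : RingHom.ker (ι.app U).hom ⊔ Ideal.span {a} ≤ (hU.primeIdealOf ⟨y, hy⟩).asIdeal) :
    ((n - r + 1 : ℕ) : ℕ∞) ≤ LocCoh.depth (P.presheaf.stalk y) (L.presheaf.stalk y) := by
  have hV : IsAffineOpen (ι ⁻¹ᵁ U) := hU.preimage ι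
  -- `y` lies in the image of `ι`
  have hsupp : y ∈ ι.ker.support := by
    rw [Scheme.IdealSheafData.mem_support_iff_of_mem (U := ⟨U, hU⟩) hy, Scheme.mem_zeroLocus_iff]
    intro f hf hyf
    rw [Scheme.Hom.ker_apply] at hf
    exact (Groth.Agent.Lib.helper3.FTField.mem_basicOpen_iff hU y hy f).mp hyf
      (hJ (Submodule.mem_sup_left hf))
  have hsupp' : y ∈ (ι.ker.support : Set P) := hsupp
  rw [Scheme.Hom.support_ker, ι.isClosedEmbedding.isClosed_range.closure_eq] at hsupp'
  obtain ⟨x', rfl⟩ := hsupp'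
  have hx' : x' ∈ ι ⁻¹ᵁ U := hy
  have hcomap := IsAffineOpen.comap_primeIdealOf_appLE (f := ι) U hU (ι ⁻¹ᵁ U) hV le_rfl hx'
  rw [← Scheme.Hom.app_eq_appLE] at hcomap
  have hax : (ι.app U).hom a ∈ (hV.primeIdealOf ⟨x', hx'⟩).asIdeal := by
    have h1 : a ∈ (hU.primeIdealOf ⟨ι x', hy⟩).asIdeal :=
      hJ (Submodule.mem_sup_right (Ideal.mem_span_singleton_self a))
    rw [← hcomap] at h1
    exact h1
  have hnc := closure_notMem_irreducibleComponents hV x' hx' _ ha hax
  have h2 := dim_closure_add_one_le r heq x' hnc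
  have h3 := dim_closure_image_le ι x'
  have h4 : topologicalKrullDim ↥(closure ({ι x'} : Set P)) + 1 ≤ (r : WithBot ℕ∞) :=
    (add_le_add_left h3 1).trans h2
  haveI : Nonempty ↥(closure ({ι x'} : Set P)) := ⟨⟨ι x', subset_closure rfl⟩⟩
  have h0 : (0 : WithBot ℕ∞) ≤ topologicalKrullDim ↥(closure ({ι x'} : Set P)) :=
    Groth.Agent.Lib.helper3.TopDim.dim_nonneg
  obtain ⟨r', rfl⟩ : ∃ r', r = r' + 1 := by
    cases r with
    | zero =>
      exfalso
      have h5 : (0 : WithBot ℕ∞) + 1 ≤ ((0 : ℕ) : WithBot ℕ∞) := (add_le_add_left h0 1).trans h4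
      norm_num at h5
    | succ r' => exact ⟨r', rfl⟩
  have h5 : topologicalKrullDim ↥(closure ({ι x'} : Set P)) ≤ (r' : WithBot ℕ∞) := by
    generalize topologicalKrullDim ↥(closure ({ι x'} : Set P)) = D at h4 h0
    cases D with
    | bot => exact bot_le
    | coe d =>
      induction d using ENat.recTopCoe with
      | top =>
        exfalso
        have : ((⊤ : ℕ∞) : WithBot ℕ∞) + 1 ≤ ((r' + 1 : ℕ) : WithBot ℕ∞) := h4
        have h6 : ((⊤ : ℕ∞) + 1 : ℕ∞) ≤ ((r' + 1 : ℕ) : ℕ∞) := by exact_mod_cast this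
        simp at h6
      | coe e =>
        have : ((e + 1 : ℕ) : WithBot ℕ∞) ≤ ((r' + 1 : ℕ) : WithBot ℕ∞) := by
          push_cast
          exact h4
        have h6 : e + 1 ≤ r' + 1 := by exact_mod_cast this
        have h7 : e ≤ r' := by omega
        exact_mod_cast h7
  have h6 := le_depth_stalk_of_regular k P n hP L hL (ι x') (hreg _) r' h5
  have h7 : n - (r' + 1) + 1 = n - r' := by omega
  rw [h7]
  exact h6

variable (ω : X.Modules)
  (eω : (pushforward ι).obj ω ≅ (ModSite.extSh (O := P.sheaf)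
    ((pushforward ι).obj (Coh.structureModule X)) (n - r)).obj L)

include k hreg hr hP heq hL eω in
/-- **nonzerodivisors act injectively on the sections of `ω`** over `ι⁻¹U`, `U` affine -/
theorem eq_zero_of_smul_eq_zero_sections {U : P.Opens} (hU : IsAffineOpen U)
    (b : Γ(X, ι ⁻¹ᵁ U)) (hb : b ∈ nonZeroDivisors Γ(X, ι ⁻¹ᵁ U)) (m : Γ(ω, ι ⁻¹ᵁ U))
    (hbm : b • m = 0) : m = 0 := by
  classical
  haveI : IsLocallyNoetherian P :=
    LocallyOfFiniteType.isLocallyNoetherian (P ↘ Spec (CommRingCat.of k))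
  haveI : IsNoetherianRing Γ(P, U) := IsLocallyNoetherian.component_noetherian ⟨U, hU⟩
  obtain ⟨a, rfl⟩ := ι.app_surjective U hU b
  have hcohO : Coh.IsCoh ((pushforward ι).obj (Coh.structureModule X)) :=
    Groth.Agent.Lib.helper8.Dev.isCoh_push_structureModule ι
  have hLc : Coh.IsCoh L := Groth.Agent.Lib.Lead.RankAdd.isCoh_of_isFinLocFree hL
  haveI : L.IsQuasicoherent := hLc.1
  haveI : Module.Finite Γ(P, U) Γ(L, U) := finite_sections_of_isCoh L hLc hU
  haveI : Module.Finite Γ(P, U) Γ((pushforward ι).obj (Coh.structureModule X), U) :=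
    finite_sections_of_isCoh _ hcohO hU
  let e₁ := Groth.Agent.Lib.helper16.QCohPullback2.sectionsEquivOfIso eω U
  obtain ⟨e₂⟩ := nonempty_sections_linearEquiv hU _ L hcohO hLc.1 (n - r)
  let m' : Γ((pushforward ι).obj ω, U) := m
  have hm' : a • m' = 0 := hbm
  have hx : a • e₂ (e₁ m') = 0 := by
    rw [← LinearEquiv.map_smul, ← LinearEquiv.map_smul, hm', LinearEquiv.map_zero,
      LinearEquiv.map_zero]
  -- `a` is regular on `Γ(ι_* O_X, U)`
  have hareg : IsSMulRegular Γ((pushforward ι).obj (Coh.structureModule X), U) a := by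
    intro s t hst
    have hst' : (ι.app U).hom a * (show Γ(X, ι ⁻¹ᵁ U) from s) =
        (ι.app U).hom a * (show Γ(X, ι ⁻¹ᵁ U) from t) := hst
    exact mul_cancel_left_mem_nonZeroDivisors hb |>.mp hst'
  -- the vanishing
  let J : Ideal Γ(P, U) := RingHom.ker (ι.app U).hom ⊔ Ideal.span {a}
  have hdepth : ((n - r + 1 : ℕ) : ℕ∞) ≤ LocCoh.idealDepth J Γ(L, U) :=
    le_idealDepth_of_forall hU L hLc J (n - r + 1) (fun y hy hJ =>
      le_depth_of_vanishing k P hreg n r hr hP ι heq L hL hU a hb y hy hJ)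
  have hsuppN : Module.support Γ(P, U)
      (ModuleCat.of Γ(P, U) (QuotSMulTop a Γ((pushforward ι).obj (Coh.structureModule X), U))) ⊆
      PrimeSpectrum.zeroLocus J := by
    intro q hq
    have hq' := Module.annihilator_le_of_mem_support hq
    rw [PrimeSpectrum.mem_zeroLocus]
    refine le_trans (?_ : J ≤ Module.annihilator Γ(P, U) (ModuleCat.of Γ(P, U)
      (QuotSMulTop a Γ((pushforward ι).obj (Coh.structureModule X), U)))) hq'
    refine sup_le ?_ ?_
    · intro f hf
      rw [Module.mem_annihilator]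
      intro q
      obtain ⟨s, rfl⟩ := Submodule.Quotient.mk_surjective _ q
      rw [← Submodule.Quotient.mk_smul]
      have : f • s = 0 := by
        change (ι.app U).hom f * (show Γ(X, ι ⁻¹ᵁ U) from s) = 0
        rw [RingHom.mem_ker.mp hf, zero_mul]
      rw [this, Submodule.Quotient.mk_zero]
    · rw [Ideal.span_le, Set.singleton_subset_iff]
      change a ∈ Module.annihilator Γ(P, U) _
      rw [Module.mem_annihilator]
      intro q
      obtain ⟨s, rfl⟩ := Submodule.Quotient.mk_surjective _ q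
      rw [← Submodule.Quotient.mk_smul, Submodule.Quotient.mk_eq_zero]
      exact Submodule.smul_mem_pointwise_smul s a ⊤ Submodule.mem_top
  have hvan := Groth.Agent.Lib.helper26.Depth.subsingleton_ext_of_lt_idealDepth J Γ(L, U)
    (ModuleCat.of Γ(P, U) (QuotSMulTop a Γ((pushforward ι).obj (Coh.structureModule X), U)))
    hsuppN (n - r) (lt_of_lt_of_le (by exact_mod_cast Nat.lt_succ_self (n - r)) hdepth)
  have key := Groth.Agent.Lib.helper21.ReesIso.eq_zero_of_smul_eq_zero
    (ModuleCat.of Γ(P, U) Γ((pushforward ι).obj (Coh.structureModule X), U))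
    (ModuleCat.of Γ(P, U) Γ(L, U)) a hareg (n - r) hvan (e₂ (e₁ m')) hx
  have h1 : e₁ m' = 0 := e₂.map_eq_zero_iff.mp key
  exact e₁.map_eq_zero_iff.mp h1

include k hL eω in
omit [IsReduced X] in
/-- `ω` is coherent -/
theorem isCoh_omega : Coh.IsCoh ω := by
  haveI : IsLocallyNoetherian P :=
    LocallyOfFiniteType.isLocallyNoetherian (P ↘ Spec (CommRingCat.of k))
  have hcohO : Coh.IsCoh ((pushforward ι).obj (Coh.structureModule X)) :=
    Groth.Agent.Lib.helper8.Dev.isCoh_push_structureModule ι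
  have hLc : Coh.IsCoh L := Groth.Agent.Lib.Lead.RankAdd.isCoh_of_isFinLocFree hL
  exact Groth.Agent.Lib.helper21.OmegaNoEmb.isCoh_of_isCoh_push ι ω
    (Groth.Agent.Lib.helper21.ShHomCoh.isCoh_of_iso' eω.symm
      (Groth.Agent.Lib.helper21.ShHomCoh.isCoh_T (n - r) P _ L hcohO hLc))

include k hreg hr hP heq hL eω in
/-- **`ω` is torsion free**: all its stalks are torsion free modules over the local rings -/
theorem torsion_stalk_eq_bot (x : X) :
    Submodule.torsion (X.presheaf.stalk x) (ω.presheaf.stalk x) = ⊥ := by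
  haveI : IsLocallyNoetherian P :=
    LocallyOfFiniteType.isLocallyNoetherian (P ↘ Spec (CommRingCat.of k))
  haveI : IsLocallyNoetherian X := LocallyOfFiniteType.isLocallyNoetherian ι
  have hωc : Coh.IsCoh ω := isCoh_omega k P n r ι L hL ω eω
  haveI : ω.IsQuasicoherent := hωc.1
  obtain ⟨U, hU, hxU, -⟩ := exists_isAffineOpen_mem_and_subset (x := ι x) (U := ⊤) trivial
  have hV : IsAffineOpen (ι ⁻¹ᵁ U) := hU.preimage ι
  have hx : x ∈ ι ⁻¹ᵁ U := hxU
  haveI : IsNoetherianRing Γ(X, ι ⁻¹ᵁ U) :=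
    IsLocallyNoetherian.component_noetherian ⟨ι ⁻¹ᵁ U, hV⟩
  haveI : _root_.IsReduced Γ(X, ι ⁻¹ᵁ U) := inferInstance
  letI := TopCat.Presheaf.algebra_section_stalk X.presheaf (⟨x, hx⟩ : ι ⁻¹ᵁ U)
  haveI : IsLocalization.AtPrime (X.presheaf.stalk x) (hV.primeIdealOf ⟨x, hx⟩).asIdeal :=
    hV.isLocalization_stalk ⟨x, hx⟩
  letI := modStalk ω x hx
  haveI := isScalarTower_stalk ω x hx
  haveI := isLocalizedModule_stalk ω hV x hx
  exact Groth.Agent.Lib.helper21.TorsionFreeLoc.torsion_eq_bot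
    (hV.primeIdealOf ⟨x, hx⟩).asIdeal (X.presheaf.stalk x) Γ(ω, ι ⁻¹ᵁ U) (ω.presheaf.stalk x)
    (germLin ω x hx) (fun b hb m hbm =>
      eq_zero_of_smul_eq_zero_sections k P hreg n r hr hP ι heq L hL ω eω hU b hb m hbm)

end Star

end Groth.Agent.Lib.helper21.OmegaLocal
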