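import Mathlib
import Groth.Agent.Lib.Helper21.ReesIso
import Groth.Agent.Lib.Helper21.ExtShAffine
import Groth.Agent.Lib.Helper21.ExtCongr
import Groth.Agent.Lib.Helper8.DevCore
import Groth.Agent.Lib.Helper17.RegNear
import Groth.Agent.Lib.Helper17.Miracle
import Groth.Agent.Lib.Helper15.Regular
import Groth.Agent.Lib.Helper16.FLF6
import Groth.Agent.Lib.Helper16.QCohPullback2

/-!
# `ω = ℰxt^c_P(ι_* O_X, L)` is invertible near a point where `X` is regularly embedded with
residue field (helper21)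

`P` locally Noetherian, `ι : X ⟶ P` a closed immersion, `ξ : X` a point such that `O_{P,ι ξ}` is
regular of dimension `c` and `O_{X,ξ}` is a field; `L` invertible on `P`,
`ι_* ω ≅ ℰxt^c_P(ι_* O_X, L)`, `ω` quasi-coherent.  Then `ω` is free of rank one on an open
neighbourhood of `ξ`.
-/

set_option autoImplicit false
universe u

open CategoryTheory CategoryTheory.Limits AlgebraicGeometry Opposite TopologicalSpace

namespace Groth.Agent.Lib.helper21.OmegaLocal

open Scheme.Modules Abelian RingTheory.Sequence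
open Groth.Agent.Lib.helper21.ExtShAffine

attribute [local instance] Groth.Agent.Lib.helper21.ShHomCoh.hasInjRes

section Algebra

variable {R B : Type u} [CommRing R] [CommRing B] (φ : R →+* B) (hφ : Function.Surjective φ)

/-- `B ≃ R / ker φ`, linearly over `R` (acting on `B` through `φ`) -/
noncomputable def quotKerLinearEquiv (N : Type u) [AddCommGroup N] [Module R N]
    (e : N ≃+ B) (he : ∀ (r : R) (s : N), e (r • s) = φ r * e s) :
    (R ⧸ RingHom.ker φ) ≃ₗ[R] N := by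
  let f : R →ₗ[R] N := LinearMap.toSpanSingleton R N (e.symm 1)
  have hf : ∀ r, e (f r) = φ r := fun r => by
    change e (r • e.symm 1) = φ r
    rw [he, AddEquiv.apply_symm_apply, mul_one]
  have hker : RingHom.ker φ ≤ LinearMap.ker f := fun r hr => by
    rw [LinearMap.mem_ker]
    apply e.injective
    rw [hf, map_zero]
    exact hr
  refine LinearEquiv.ofBijective (Submodule.liftQ (RingHom.ker φ) f hker) ⟨?_, ?_⟩
  · rw [← LinearMap.ker_eq_bot, Submodule.ker_liftQ, eq_bot_iff]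
    rintro _ ⟨r, hr, rfl⟩
    rw [SetLike.mem_coe, LinearMap.mem_ker] at hr
    rw [Submodule.mem_bot, Submodule.mkQ_apply, Submodule.Quotient.mk_eq_zero]
    change φ r = 0
    rw [← hf, hr, map_zero]
  · intro s
    obtain ⟨r, hr⟩ := hφ (e s)
    refine ⟨Submodule.Quotient.mk r, ?_⟩
    rw [Submodule.liftQ_apply]
    apply e.injective
    rw [hf, hr]

end Algebra

section Sections

variable {P X : Scheme.{u}} [IsLocallyNoetherian P] (ι : X ⟶ P) [IsClosedImmersion ι]
  (L : P.Modules) (hL : Coh.IsCoh L) (ω : X.Modules) [ω.IsQuasicoherent]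

include hL in
/-- on an affine open `U` of `P` on which the ideal of `X` is generated by a regular sequence
`rs` and `L` is trivial, `ω` is free of rank one over `ι⁻¹U` -/
theorem nonempty_restrict_iso_freeMod {U : P.Opens} (hU : IsAffineOpen U) (rs : List Γ(P, U))
    (hreg : IsRegular Γ(P, U) rs) (hker : RingHom.ker (ι.app U).hom = Ideal.ofList rs)
    (eL : Γ(L, U) ≃ₗ[Γ(P, U)] (Fin 1 → Γ(P, U)))
    (eω : (pushforward ι).obj ω ≅ (ModSite.extSh (O := P.sheaf)
      ((pushforward ι).obj (Coh.structureModule X)) rs.length).obj L) :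
    Nonempty (ω.restrict (ι ⁻¹ᵁ U).ι ≅ FlatMod.freeMod (↑(ι ⁻¹ᵁ U)) 1) := by
  classical
  haveI : IsNoetherianRing Γ(P, U) := IsLocallyNoetherian.component_noetherian ⟨U, hU⟩
  have hV : IsAffineOpen (ι ⁻¹ᵁ U) := hU.preimage ι
  have hφ : Function.Surjective (ι.app U).hom := ι.app_surjective U hU
  have hcohO : Coh.IsCoh ((pushforward ι).obj (Coh.structureModule X)) :=
    Groth.Agent.Lib.helper8.Dev.isCoh_push_structureModule ι
  let e₁ := Groth.Agent.Lib.helper16.QCohPullback2.sectionsEquivOfIso eω U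
  obtain ⟨e₂⟩ := nonempty_sections_linearEquiv hU _ L hcohO hL.1 rs.length
  -- identify the two variables
  let eO : (Γ(P, U) ⧸ RingHom.ker (ι.app U).hom) ≃ₗ[Γ(P, U)]
      Γ((pushforward ι).obj (Coh.structureModule X), U) :=
    quotKerLinearEquiv (ι.app U).hom hφ Γ((pushforward ι).obj (Coh.structureModule X), U)
      (AddEquiv.refl Γ(X, ι ⁻¹ᵁ U)) (fun r s => rfl)
  let eO' : (Γ(P, U) ⧸ Ideal.ofList rs) ≃ₗ[Γ(P, U)]
      Γ((pushforward ι).obj (Coh.structureModule X), U) :=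
    (Submodule.quotEquivOfEq _ _ hker.symm).trans eO
  let eL' : Γ(L, U) ≃ₗ[Γ(P, U)] Γ(P, U) := eL.trans (LinearEquiv.funUnique (Fin 1) Γ(P, U) Γ(P, U))
  let e₃ := Groth.Agent.Lib.helper21.ExtCongr.left (R := Γ(P, U)) eO'.symm.toModuleIso
    (ModuleCat.of Γ(P, U) Γ(L, U)) rs.length
  let e₄ := Groth.Agent.Lib.helper21.ExtCongr.right (R := Γ(P, U))
    (ModuleCat.of Γ(P, U) (Γ(P, U) ⧸ Ideal.ofList rs)) eL'.toModuleIso rs.length
  obtain ⟨e₅⟩ := Groth.Agent.Lib.helper21.ReesIso.nonempty_ext_quot_self rs hreg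
  -- the total `Γ(P, U)`-linear equivalence `Γ(ω, ι⁻¹U) ≃ Γ(X, ι⁻¹U)`
  let E : Γ((pushforward ι).obj ω, U) ≃ₗ[Γ(P, U)]
      Γ((pushforward ι).obj (Coh.structureModule X), U) :=
    e₁.trans (e₂.trans (e₃.trans (e₄.trans (e₅.trans eO'))))
  -- upgrade to `Γ(X, ι⁻¹U)`-linearity
  let E' : Γ(ω, ι ⁻¹ᵁ U) ≃ₗ[Γ(X, ι ⁻¹ᵁ U)] Γ(X, ι ⁻¹ᵁ U) :=
    { toFun := fun m => E m
      invFun := fun s => E.symm s
      left_inv := fun m => E.symm_apply_apply m
      right_inv := fun s => E.apply_symm_apply s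
      map_add' := fun m m' => E.map_add m m'
      map_smul' := fun b m => by
        obtain ⟨r, rfl⟩ := hφ b
        exact E.map_smul r m }
  exact Groth.Agent.Lib.helper16.FLF.restrict_iso_freeMod_of_sections ω hV 1
    (E'.trans (LinearEquiv.funUnique (Fin 1) Γ(X, ι ⁻¹ᵁ U) Γ(X, ι ⁻¹ᵁ U)).symm)

end Sections

section Point

variable {P X : Scheme.{u}} [IsLocallyNoetherian P] (ι : X ⟶ P) [IsClosedImmersion ι]
  (L : P.Modules) (hL : FlatMod.IsFinLocFreeOfRank 1 L) (ω : X.Modules) [ω.IsQuasicoherent]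

include hL in
/-- **`ω` is free of rank one near `ξ`** if `O_{P, ι ξ}` is regular of dimension `c` and
`O_{X, ξ}` is a field -/
theorem exists_open_restrict_iso_freeMod (ξ : X) (c : ℕ)
    (hregξ : IsRegularLocalRing (P.presheaf.stalk (ι ξ)))
    (hdim : ringKrullDim (P.presheaf.stalk (ι ξ)) = (c : WithBot ℕ∞))
    (hfield : IsField (X.presheaf.stalk ξ))
    (eω : (pushforward ι).obj ω ≅ (ModSite.extSh (O := P.sheaf)
      ((pushforward ι).obj (Coh.structureModule X)) c).obj L) :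
    ∃ V : X.Opens, ξ ∈ V ∧ Nonempty (ω.restrict V.ι ≅ FlatMod.freeMod (↑V) 1) := by
  classical
  haveI := hregξ
  have hLc : Coh.IsCoh L := Groth.Agent.Lib.Lead.RankAdd.isCoh_of_isFinLocFree
    (Groth.Agent.Lib.helper16.FLF.isFinLocFree_of_isFinLocFreeOfRank hL)
  -- a regular system of parameters
  obtain ⟨d, x, hspan, hgen, hd⟩ :=
    Groth.Agent.Lib.helper17.Miracle.exists_generators (P.presheaf.stalk (ι ξ))
  have hdc : d = c := by
    rw [hdim] at hd
    exact_mod_cast hd.symm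
  subst hdc
  have hweak := Groth.Agent.Lib.helper15.isWeaklyRegular_ofFn
    (P.presheaf.stalk (ι ξ)) d hspan x hgen
  -- the kernel of the stalk map is the maximal ideal
  have hsurj : Function.Surjective (ι.stalkMap ξ).hom := ι.stalkMap_surjective ξ
  have hmax : (RingHom.ker (ι.stalkMap ξ).hom).IsMaximal :=
    Ideal.Quotient.maximal_of_isField _
      ((RingHom.quotientKerEquivOfSurjective hsurj).toMulEquiv.isField hfield)
  have hkerst : RingHom.ker (ι.stalkMap ξ).hom = Ideal.ofList (List.ofFn x) := by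
    rw [Groth.Agent.Lib.helper17.Miracle.ofList_ofFn, hgen]
    exact IsLocalRing.eq_maximalIdeal hmax
  -- an affine open on which `L` is trivial
  obtain ⟨W, hW, hξW, ⟨isoW⟩, -⟩ :=
    Groth.Agent.Lib.helper16.FLF.exists_affine_free_sections_of_isFinLocFreeOfRank L hL (ι ξ)
  haveI : IsNoetherianRing Γ(P, W) := IsLocallyNoetherian.component_noetherian ⟨W, hW⟩
  have hk := Groth.Agent.Lib.helper17.RegNear.ker_stalkMap_eq_map ι ξ W hW hξW
  have hle := Groth.Agent.Lib.helper17.RegNear.ker_le_primeIdealOf ι ξ W hW hξW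
  letI := P.presheaf.algebra_section_stalk (⟨ι ξ, hξW⟩ : W)
  haveI ip : IsLocalization.AtPrime (P.presheaf.stalk (ι ξ))
      (hW.primeIdealOf ⟨ι ξ, hξW⟩).asIdeal := hW.isLocalization_stalk ⟨ι ξ, hξW⟩
  have hK : (RingHom.ker (ι.app W).hom).map (algebraMap Γ(P, W) (P.presheaf.stalk (ι ξ))) =
      Ideal.ofList (List.ofFn x) := hk.trans hkerst
  obtain ⟨g, hg, ks, hlen, -, hB⟩ := Groth.Agent.Lib.helper17.RegNear.spread_regular'
    (hW.primeIdealOf ⟨ι ξ, hξW⟩).asIdeal (RingHom.ker (ι.app W).hom) hle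
    (P.presheaf.stalk (ι ξ)) (List.ofFn x) hweak hK
  haveI := hW.isLocalization_basicOpen g
  obtain ⟨hreg, hideal⟩ := hB Γ(P, P.basicOpen g)
  have hU : IsAffineOpen (P.basicOpen g) := hW.basicOpen g
  have hξU : ι ξ ∈ P.basicOpen g := by
    rw [Scheme.mem_basicOpen _ _ _ hξW]
    exact (IsLocalization.AtPrime.isUnit_to_map_iff (P.presheaf.stalk (ι ξ))
      (hW.primeIdealOf ⟨ι ξ, hξW⟩).asIdeal g).mpr hg
  have hkerU : RingHom.ker (ι.app (P.basicOpen g)).hom =
      Ideal.ofList (ks.map (algebraMap Γ(P, W) Γ(P, P.basicOpen g))) := by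
    have h1 := ι.ker.map_ideal_basicOpen ⟨W, hW⟩ g
    rw [Scheme.Hom.ker_apply] at h1
    rw [← hideal, ← Scheme.Hom.ker_apply ι ⟨P.basicOpen g, hU⟩]
    exact h1.symm
  obtain ⟨isoU⟩ := Groth.Agent.Lib.helper16.FLF.restrict_iso_freeMod_of_le L
    (P.basicOpen_le g) 1 isoW
  obtain ⟨eL⟩ := Groth.Agent.Lib.helper16.FLF.sections_of_restrict_iso_freeMod L hU 1 isoU
  have hlen' : (ks.map (algebraMap Γ(P, W) Γ(P, P.basicOpen g))).length = d := by
    rw [List.length_map, hlen, List.length_ofFn]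
  refine ⟨ι ⁻¹ᵁ P.basicOpen g, hξU,
    nonempty_restrict_iso_freeMod ι L hLc ω hU _ hreg hkerU eL ?_⟩
  rw [hlen']
  exact eω

end Point

end Groth.Agent.Lib.helper21.OmegaLocal
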