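import Mathlib
import Groth.Agent.Lib.Helper21.OmegaLocal2
import Groth.Agent.Lib.Helper21.OmegaLocal3
import Groth.Agent.Lib.Helper3.DimIneqSch2

/-!
# `ω = ℰxt^{n-r}_P(ι_* O_X, L)` has rank one at the generic points (helper21)

`P` regular, locally of finite type over a field, of pure dimension `n` (and `dim P ≤ n`);
`ι : X ⟶ P` a closed immersion with `X` reduced of pure dimension `r`;
`ι_* ω ≅ ℰxt^{n-r}_P(ι_* O_X, L)`, `L` invertible.  Then `ω_ξ` has rank one over the field
`O_{X,ξ}` at every generic point `ξ` of an irreducible component of `X`.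
-/

set_option autoImplicit false
universe u

open CategoryTheory CategoryTheory.Limits AlgebraicGeometry Opposite TopologicalSpace

namespace Groth.Agent.Lib.helper21.OmegaLocal

open Scheme.Modules
open Groth.Agent.Lib.helper21.CodimDepth Groth.Agent.Lib.helper3.FTField
  Groth.Agent.Lib.helper3.DimIneq

attribute [local instance] Groth.Agent.Lib.helper21.ShHomCoh.hasInjRes

section Dim

/-- closed immersions preserve the dimension of the closure of a point -/
theorem dim_closure_image_eq {P X : Scheme.{u}} (ι : X ⟶ P) [IsClosedImmersion ι] (x : X) :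
    topologicalKrullDim ↥(closure ({ι x} : Set P)) =
      topologicalKrullDim ↥(closure ({x} : Set X)) := by
  refine le_antisymm (dim_closure_image_le ι x) ?_
  refine Groth.Agent.Lib.helper3.TopDim.dim_le_of_range_subset
    (f := fun z : ↥(closure ({x} : Set X)) => ι z.1)
    (g := (Subtype.val : ↥(closure ({ι x} : Set P)) → P))
    (ι.isClosedEmbedding.isInducing.comp Topology.IsInducing.subtypeVal)
    Topology.IsInducing.subtypeVal ?_
  rintro _ ⟨⟨z, hz⟩, rfl⟩
  have h1 : ι z ∈ closure ({ι x} : Set P) := by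
    have := image_closure_subset_closure_image (f := ι) (s := ({x} : Set X)) ι.continuous
      ⟨z, hz, rfl⟩
    rwa [Set.image_singleton] at this
  exact ⟨⟨ι z, h1⟩, rfl⟩

variable (k : Type u) [Field k] (P : Scheme.{u})
  [P.Over (Spec (CommRingCat.of k))] [LocallyOfFiniteType (P ↘ Spec (CommRingCat.of k))]

include k in
/-- `dim O_{P,y} + dim cl{y} ≤ dim P` -/
theorem ringKrullDim_stalk_add_dim_closure_le (n : ℕ)
    (hPdim : topologicalKrullDim P ≤ (n : WithBot ℕ∞)) (y : P) :
    ringKrullDim (P.presheaf.stalk y) + topologicalKrullDim ↥(closure ({y} : Set P)) ≤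
      (n : WithBot ℕ∞) := by
  obtain ⟨a, ha⟩ := exists_nat_trdeg_residueField k P y
  rw [dim_closure_eq_trdeg k P y a ha]
  have h1 : ringKrullDim (P.presheaf.stalk y) ≤ (n : WithBot ℕ∞) :=
    (stalk_le_dim y).trans hPdim
  have h0 : (0 : WithBot ℕ∞) ≤ ringKrullDim (P.presheaf.stalk y) := ringKrullDim_nonneg_of_nontrivial
  obtain ⟨b, hb⟩ : ∃ b : ℕ, ringKrullDim (P.presheaf.stalk y) = (b : WithBot ℕ∞) := by
    generalize ringKrullDim (P.presheaf.stalk y) = D at h0 h1
    cases D with
    | bot => exact absurd h0 (by simp)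
    | coe d =>
      induction d using ENat.recTopCoe with
      | top =>
        exfalso
        have : ((⊤ : ℕ∞) : WithBot ℕ∞) ≤ ((n : ℕ∞) : WithBot ℕ∞) := h1
        have h2 : (⊤ : ℕ∞) ≤ (n : ℕ∞) := by exact_mod_cast this
        simp at h2
      | coe e => exact ⟨e, rfl⟩
  have h2 := localDim_eq k P y a b ha hb
  have h3 := (Groth.Agent.Lib.helper3.TopDim.localDim_le_dim y).trans hPdim
  rw [h2] at h3
  rw [hb]
  have h4 : a + b ≤ n := by exact_mod_cast h3
  have h5 : b + a ≤ n := by omega
  exact_mod_cast h5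

variable (n r : ℕ) (hr : r ≤ n)
  (hP : ∀ Z : Set ↥P, Z ∈ irreducibleComponents ↥P → topologicalKrullDim ↥Z = (n : WithBot ℕ∞))
  (hPdim : topologicalKrullDim P ≤ (n : WithBot ℕ∞))
  {X : Scheme.{u}} (ι : X ⟶ P) [IsClosedImmersion ι]
  (heq : ∀ Z : Set ↥X, Z ∈ irreducibleComponents ↥X → topologicalKrullDim ↥Z = (r : WithBot ℕ∞))

include k hr hP hPdim heq in
/-- the local ring of `P` at the image of a generic point of `X` has dimension `n - r` -/
theorem ringKrullDim_stalk_of_generic (ξ : X)
    (hξ : closure ({ξ} : Set X) ∈ irreducibleComponents X) :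
    ringKrullDim (P.presheaf.stalk (ι ξ)) = ((n - r : ℕ) : WithBot ℕ∞) := by
  have h1 := le_ringKrullDim_stalk_add_dim_closure k P n hP (ι ξ)
  have h2 := ringKrullDim_stalk_add_dim_closure_le k P n hPdim (ι ξ)
  rw [dim_closure_image_eq ι ξ, heq _ hξ] at h1 h2
  generalize ringKrullDim (P.presheaf.stalk (ι ξ)) = D at h1 h2
  cases D with
  | bot =>
    exfalso
    rw [WithBot.bot_add] at h1
    exact absurd h1 (by simp)
  | coe d =>
    induction d using ENat.recTopCoe with
    | top =>
      exfalso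
      have : ((⊤ : ℕ∞) + (r : ℕ∞) : ℕ∞) ≤ (n : ℕ∞) := by exact_mod_cast h2
      simp at this
    | coe e =>
      have h3 : n ≤ e + r := by exact_mod_cast h1
      have h4 : e + r ≤ n := by exact_mod_cast h2
      have h5 : e = n - r := by omega
      rw [h5]
      rfl

end Dim

section Rank

variable (k : Type u) [Field k] (P : Scheme.{u})
  [P.Over (Spec (CommRingCat.of k))] [LocallyOfFiniteType (P ↘ Spec (CommRingCat.of k))]
  (hreg : ∀ p : P, IsRegularLocalRing (P.presheaf.stalk p)) (n r : ℕ) (hr : r ≤ n)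
  (hP : ∀ Z : Set ↥P, Z ∈ irreducibleComponents ↥P → topologicalKrullDim ↥Z = (n : WithBot ℕ∞))
  (hPdim : topologicalKrullDim P ≤ (n : WithBot ℕ∞))
  {X : Scheme.{u}} (ι : X ⟶ P) [IsClosedImmersion ι] [IsReduced X]
  (heq : ∀ Z : Set ↥X, Z ∈ irreducibleComponents ↥X → topologicalKrullDim ↥Z = (r : WithBot ℕ∞))
  (L : P.Modules) (hL : FlatMod.IsFinLocFreeOfRank 1 L) (ω : X.Modules)
  (eω : (pushforward ι).obj ω ≅ (ModSite.extSh (O := P.sheaf)
    ((pushforward ι).obj (Coh.structureModule X)) (n - r)).obj L)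

include k hreg hr hP hPdim heq hL eω in
/-- **`ω` has rank one at the generic points** -/
theorem finrank_stalk_of_generic (ξ : X)
    (hξ : closure ({ξ} : Set X) ∈ irreducibleComponents X) :
    Module.finrank (X.presheaf.stalk ξ) (ω.presheaf.stalk ξ) = 1 := by
  haveI : IsLocallyNoetherian P :=
    LocallyOfFiniteType.isLocallyNoetherian (P ↘ Spec (CommRingCat.of k))
  have hωc : Coh.IsCoh ω := isCoh_omega k P n r ι L
    (Groth.Agent.Lib.helper16.FLF.isFinLocFree_of_isFinLocFreeOfRank hL) ω eω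
  haveI : ω.IsQuasicoherent := hωc.1
  obtain ⟨V, hξV, ⟨iso⟩⟩ := exists_open_restrict_iso_freeMod ι L hL ω ξ (n - r) (hreg _)
    (ringKrullDim_stalk_of_generic k P n r hr hP hPdim ι heq ξ hξ)
    (isField_stalk_of_closure_mem_irreducibleComponents X ξ hξ) eω
  exact (Groth.Agent.Lib.helper16.FLF.free_stalk_of_restrict_iso_freeMod ω 1 iso ξ hξV).2

end Rank

end Groth.Agent.Lib.helper21.OmegaLocal
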