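import Mathlib
import Groth.Prelude.Def_Coh
import Groth.Agent.Lib.Helper21.SchShriek

/-!
# Injective `O`-modules on a scheme are flasque (helper21)
-/

set_option autoImplicit false

universe u

namespace Groth.Agent.Lib.helper21.InjFlasque

open CategoryTheory CategoryTheory.Limits Opposite TopologicalSpace AlgebraicGeometry
open AlgebraicGeometry.Scheme.Modules

/-- generic: for `L ⊣ R ⊣ P` with `L R M ⟶ M` a monomorphism and `I` injective, the unit
`I ⟶ P R I` has a section -/
theorem exists_section_unit {A B : Type*} [Category A] [Category B] {L : B ⥤ A} {R : A ⥤ B}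
    {P : B ⥤ A} (adj₁ : L ⊣ R) (adj₂ : R ⊣ P) (h : ∀ M, Mono (adj₁.counit.app M)) (I : A)
    [Injective I] : ∃ φ : P.obj (R.obj I) ⟶ I, φ ≫ adj₂.unit.app I = 𝟙 _ := by
  let M : A := P.obj (R.obj I)
  let χ : L.obj (R.obj M) ⟶ I := (adj₁.homEquiv _ _).symm ((adj₂.homEquiv _ _).symm (𝟙 M))
  haveI := h M
  let φ : M ⟶ I := Injective.factorThru χ (adj₁.counit.app M)
  have hφ : adj₁.counit.app M ≫ φ = χ := Injective.comp_factorThru _ _
  have e1 : adj₂.homEquiv _ _ (R.map φ) = φ ≫ adj₂.unit.app I := by
    rw [Adjunction.homEquiv_unit]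
    exact (adj₂.unit.naturality φ).symm
  have e2 : adj₁.homEquiv _ _ (adj₁.counit.app M ≫ φ) = R.map φ := by
    rw [Adjunction.homEquiv_unit, Functor.map_comp, ← Category.assoc,
      adj₁.right_triangle_components, Category.id_comp]
  have h' : φ ≫ adj₂.unit.app I = 𝟙 M := by
    rw [← e1, ← e2, hφ]
    simp only [χ, Equiv.apply_symm_apply]
  exact ⟨φ, h'⟩

variable {Y : Scheme.{u}}

/-- for an injective `O_Y`-module `I` and an open `W`, the unit `I ⟶ j_* j^* I` has a section -/
theorem exists_section_restrictAdjunction_unit (W : Y.Opens) (I : Y.Modules) [Injective I] :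
    ∃ φ : (pushforward W.ι).obj ((restrictFunctor W.ι).obj I) ⟶ I,
      φ ≫ (restrictAdjunction W.ι).unit.app I = 𝟙 _ :=
  exists_section_unit (SchShriek.adj W) (restrictAdjunction W.ι)
    (fun M => SchShriek.mono_counit_app W M) I

/-- sections of an injective `O_Y`-module extend -/
theorem surjective_map (I : Y.Modules) [Injective I] {W V : Y.Opens} (h : W ≤ V) :
    Function.Surjective (I.presheaf.map (homOfLE h).op) := by
  intro s
  obtain ⟨φ, hφ⟩ := exists_section_restrictAdjunction_unit W I
  have e : W.ι ''ᵁ (W.ι ⁻¹ᵁ V) = W := by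
    rw [W.ι.image_preimage_eq_opensRange_inf, Scheme.Opens.opensRange_ι]
    exact inf_eq_left.2 h
  let s' : Γ((pushforward W.ι).obj ((restrictFunctor W.ι).obj I), V) :=
    I.presheaf.map (eqToHom e).op s
  refine ⟨φ.app V s', ?_⟩
  have h1 : I.presheaf.map (homOfLE (W.ι.image_preimage_le V)).op (φ.app V s') = s' := by
    have := congr(($hφ).app V s')
    exact this
  have h2 : I.presheaf.map (eqToHom e.symm).op s' = s := by
    change I.presheaf.map (eqToHom e.symm).op (I.presheaf.map (eqToHom e).op s) = s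
    rw [← ConcreteCategory.comp_apply, ← Functor.map_comp]
    simp
  have h3 : (homOfLE h).op = (homOfLE (W.ι.image_preimage_le V)).op ≫ (eqToHom e.symm).op :=
    Subsingleton.elim _ _
  rw [h3, Functor.map_comp, ConcreteCategory.comp_apply, h1, h2]

/-- injective `O_Y`-modules are flasque -/
theorem isFlasque_toAb (I : Y.Modules) [Injective I] :
    TopCat.Sheaf.IsFlasque (X := Y.carrier) (Coh.toAb I) where
  epi {U V} i := by
    rw [AddCommGrpCat.epi_iff_surjective]
    exact surjective_map I (leOfHom i.unop)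

end Groth.Agent.Lib.helper21.InjFlasque
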