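import Mathlib

/-!
# Saturated ideals in a UFD that are locally principal off a closed set are principal (helper21)

Ring-level input for extending effective Cartier divisors across points with factorial local rings.

* `isLocalization_atPrime_of_tower`: `A → R → T`, `R = A_p`, `T = A_q` with `q = q' ∩ A` gives `T = R_{q'}`.
* `saturated_localization`: saturation of an ideal with respect to finitely many elements localizes.
* `principal_of_saturated`: `R` a Noetherian UFD, `J` an ideal, `S ⊆ R`; if `J` is saturated with respect to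
  `S` (`(∀ k ∈ S, ∃ n, k ^ n * a ∈ J) → a ∈ J`) and `J R_q` is principal generated by a nonzero element for
  every prime `q` missing some element of `S`, then `J` is principal, generated by a nonzero element.
-/

set_option autoImplicit false
universe u

namespace Groth.Agent.Lib.helper21.UfdExt

/-- `A → R → T` with `R = A_p` and `T = A_q`, `q = q' ∩ A`: then `T = R_{q'}`. -/
theorem isLocalization_atPrime_of_tower {A R T : Type*} [CommRing A] [CommRing R] [CommRing T]
    [Algebra A R] [Algebra A T] [Algebra R T] [IsScalarTower A R T]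
    (p : Ideal A) [p.IsPrime] [IsLocalization.AtPrime R p] (q' : Ideal R) [q'.IsPrime]
    (q : Ideal A) [q.IsPrime] (hq : q = q'.comap (algebraMap A R))
    [IsLocalization.AtPrime T q] : IsLocalization.AtPrime T q' := by
  have hle : p.primeCompl ≤ q.primeCompl := by
    intro a ha haq'
    have haq : algebraMap A R a ∈ q' := by
      have h : a ∈ q := haq'
      rw [hq] at h
      exact h
    have hu : IsUnit (algebraMap A R a) := IsLocalization.map_units R ⟨a, ha⟩
    exact (inferInstance : q'.IsPrime).ne_top (Ideal.eq_top_of_isUnit_mem _ haq hu)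
  haveI h1 : IsLocalization (q.primeCompl.map (algebraMap A R)) T :=
    IsLocalization.isLocalization_of_submonoid_le R T p.primeCompl q.primeCompl hle
  refine IsLocalization.isLocalization_of_is_exists_mul_mem T (q.primeCompl.map (algebraMap A R))
    q'.primeCompl ?_ ?_
  · rintro _ ⟨a, ha, rfl⟩
    intro h
    apply ha
    change a ∈ q
    rw [hq]
    exact h
  · rintro ⟨x, hx⟩
    obtain ⟨⟨a, s⟩, e⟩ := IsLocalization.surj p.primeCompl x
    refine ⟨algebraMap A R s, ?_⟩
    change algebraMap A R s * x ∈ _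
    rw [mul_comm, e]
    refine ⟨a, ?_, rfl⟩
    intro haq'
    have haq : x * algebraMap A R s ∈ q' := by
      have h : a ∈ q := haq'
      rw [hq, Ideal.mem_comap] at h
      rw [e]
      exact h
    have hu : IsUnit (algebraMap A R s) := IsLocalization.map_units R s
    have : x ∈ q' := by
      rcases (inferInstance : q'.IsPrime).mem_or_mem haq with h | h
      · exact h
      · exact absurd (Ideal.eq_top_of_isUnit_mem _ h hu) (inferInstance : q'.IsPrime).ne_top
    exact hx this

/-- saturation with respect to finitely many elements passes to the localization at a prime -/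
theorem saturated_localization {A R : Type*} [CommRing A] [CommRing R] [Algebra A R]
    (p : Ideal A) [p.IsPrime] [IsLocalization.AtPrime R p] (JA : Ideal A) (S0 : Finset A)
    (hsat : ∀ a : A, (∀ k ∈ S0, ∃ n : ℕ, k ^ n * a ∈ JA) → a ∈ JA)
    (r : R) (hr : ∀ k ∈ S0, ∃ n : ℕ, (algebraMap A R k) ^ n * r ∈ JA.map (algebraMap A R)) :
    r ∈ JA.map (algebraMap A R) := by
  classical
  obtain ⟨⟨a, s⟩, e⟩ := IsLocalization.surj p.primeCompl r
  have hs : IsUnit (algebraMap A R s) := IsLocalization.map_units R s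
  -- for each k, some `t ∉ p` with `t * (k^n * a) ∈ JA`
  have h1 : ∀ k ∈ S0, ∃ n : ℕ, ∃ t : A, t ∈ p.primeCompl ∧ t * (k ^ n * a) ∈ JA := by
    intro k hk
    obtain ⟨n, hn⟩ := hr k hk
    have h2 : algebraMap A R (k ^ n * a) ∈ JA.map (algebraMap A R) := by
      rw [map_mul, map_pow, ← e, ← mul_assoc]
      exact Ideal.mul_mem_right _ _ hn
    rw [IsLocalization.mem_map_algebraMap_iff p.primeCompl] at h2
    obtain ⟨⟨j, t⟩, hjt⟩ := h2
    dsimp only at hjt
    rw [← map_mul] at hjt
    obtain ⟨c, hc⟩ := (IsLocalization.eq_iff_exists p.primeCompl R).mp hjt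
    refine ⟨n, (c : A) * t, (c * t).2, ?_⟩
    have : (c : A) * t * (k ^ n * a) = c * j := by
      rw [← hc]; ring
    rw [this]
    exact Ideal.mul_mem_left _ _ j.2
  choose! n t ht htJ using h1
  have hT : (∏ k ∈ S0, t k) ∈ p.primeCompl := Submonoid.prod_mem _ (fun k hk => ht k hk)
  have hta : (∏ k ∈ S0, t k) * a ∈ JA := by
    apply hsat
    intro k hk
    refine ⟨n k, ?_⟩
    rw [← Finset.mul_prod_erase S0 t hk]
    have : k ^ n k * ((t k * ∏ x ∈ S0.erase k, t x) * a) =
        (∏ x ∈ S0.erase k, t x) * (t k * (k ^ n k * a)) := by ring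
    rw [this]
    exact Ideal.mul_mem_left _ _ (htJ k hk)
  have h3 : algebraMap A R a ∈ JA.map (algebraMap A R) := by
    rw [IsLocalization.mem_map_algebraMap_iff p.primeCompl]
    exact ⟨⟨⟨_, hta⟩, ⟨_, hT⟩⟩, by simp [mul_comm]⟩
  rw [← e] at h3
  exact (Ideal.mul_unit_mem_iff_mem _ hs).mp h3

section UFD

variable {R : Type u} [CommRing R] [IsDomain R] [UniqueFactorizationMonoid R]

theorem core (J J' : Ideal R) (g : R) (hg0 : g ≠ 0)
    (hJ' : ∀ a, a ∈ J' ↔ g * a ∈ J) (hJg : J ≤ Ideal.span {g})
    (hprim : ∀ π : R, Prime π → ¬ (∀ a ∈ J', π ∣ a))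
    (q : Ideal R) [q.IsPrime] (T : Type*) [CommRing T] [Algebra R T] [IsLocalization.AtPrime T q]
    (d : T) (hd : d ≠ 0) (hJd : J.map (algebraMap R T) = Ideal.span {d}) (hq : J' ≤ q) : False := by
  haveI : IsDomain T := IsLocalization.isDomain_of_atPrime T q
  have hinj : Function.Injective (algebraMap R T) :=
    IsLocalization.injective T q.primeCompl_le_nonZeroDivisors
  -- `d * s = j` with `j ∈ J`
  have hdJ : d ∈ J.map (algebraMap R T) := by
    rw [hJd]; exact Ideal.subset_span rfl
  rw [IsLocalization.mem_map_algebraMap_iff q.primeCompl] at hdJ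
  obtain ⟨⟨j, s⟩, hjs⟩ := hdJ
  dsimp only at hjs
  obtain ⟨j', hj'⟩ := Ideal.mem_span_singleton.mp (hJg j.2)
  have hj'J : j' ∈ J' := by
    rw [hJ', ← hj']; exact j.2
  have hs0 : algebraMap R T s ≠ 0 := (IsLocalization.map_units T s).ne_zero
  have hj'0 : j' ≠ 0 := by
    rintro rfl
    rw [hj', mul_zero, map_zero] at hjs
    rcases mul_eq_zero.mp hjs with h | h
    · exact hd h
    · exact hs0 h
  -- a prime factor of `j'` in `q`
  obtain ⟨f, hfprime, hfassoc⟩ := UniqueFactorizationMonoid.exists_prime_factors j' hj'0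
  have hfq : f.prod ∈ q := by
    obtain ⟨u, hu⟩ := hfassoc.symm
    rw [← hu]
    exact Ideal.mul_mem_right _ _ (hq hj'J)
  obtain ⟨π, hπf, hπq⟩ := ((inferInstance : q.IsPrime).multiset_prod_mem_iff_exists_mem f).mp hfq
  have hπ : Prime π := hfprime π hπf
  have hπj' : π ∣ j' := (Multiset.dvd_prod hπf).trans hfassoc.dvd
  apply hprim π hπ
  intro a ha
  -- `(g a)/1 = d t`
  have h1 : algebraMap R T (g * a) ∈ J.map (algebraMap R T) :=
    Ideal.mem_map_of_mem _ ((hJ' a).mp ha)
  rw [hJd, Ideal.mem_span_singleton] at h1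
  obtain ⟨t, ht⟩ := h1
  obtain ⟨⟨c, s'⟩, hcs'⟩ := IsLocalization.surj q.primeCompl t
  dsimp only at hcs'
  -- `a * s * s' = j' * c`
  have h2 : algebraMap R T (g * (a * s * s')) = algebraMap R T (g * (j' * c)) := by
    have e1 : algebraMap R T (g * (a * s * s')) =
        algebraMap R T (g * a) * algebraMap R T s * algebraMap R T s' := by
      rw [← map_mul, ← map_mul]; congr 1; ring
    have e2 : algebraMap R T (g * (j' * c)) = algebraMap R T (j : R) * algebraMap R T c := by
      rw [← map_mul, hj']; congr 1; ring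
    rw [e1, e2, ht, ← hjs, ← hcs']
    ring
  have h3 : a * s * s' = j' * c := by
    have := hinj h2
    exact mul_left_cancel₀ hg0 this
  have h4 : π ∣ a * (s * s') := by
    rw [← mul_assoc, h3]
    exact hπj'.mul_right c
  rcases hπ.dvd_or_dvd h4 with h | h
  · exact h
  · exfalso
    have : (s : R) * s' ∈ q := by
      obtain ⟨w, hw⟩ := h
      rw [hw]
      exact Ideal.mul_mem_right _ _ hπq
    exact (s * s').2 this

/-- `R` a Noetherian UFD, `J` an ideal saturated with respect to `S` and principal (generated by a nonzero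
element) at every prime missing some element of `S`: then `J` is principal, generated by a nonzero element. -/
theorem principal_of_saturated [IsNoetherianRing R] (J : Ideal R) (S : Set R)
    (H1 : ∀ (q : Ideal R) [q.IsPrime], (∃ k ∈ S, k ∉ q) →
      ∃ (T : Type u) (_ : CommRing T) (_ : Algebra R T) (_ : IsLocalization.AtPrime T q) (d : T),
        d ≠ 0 ∧ J.map (algebraMap R T) = Ideal.span {d})
    (H2 : ∀ a : R, (∀ k ∈ S, ∃ n : ℕ, k ^ n * a ∈ J) → a ∈ J) :
    ∃ g : R, g ≠ 0 ∧ J = Ideal.span {g} := by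
  classical
  letI : StrongNormalizationMonoid R := UniqueFactorizationMonoid.strongNormalizationMonoid
  letI : NormalizedGCDMonoid R := UniqueFactorizationMonoid.toNormalizedGCDMonoid R
  have hJ0 : J ≠ ⊥ := by
    by_cases hS : ∃ k ∈ S, k ≠ 0
    · obtain ⟨k, hkS, hk0⟩ := hS
      haveI : (⊥ : Ideal R).IsPrime := Ideal.isPrime_bot
      obtain ⟨T, _, _, _, d, hd, hJd⟩ := H1 ⊥ ⟨k, hkS, by simpa using hk0⟩
      intro h
      rw [h, Ideal.map_bot] at hJd
      apply hd
      have : d ∈ Ideal.span {d} := Ideal.subset_span rfl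
      rw [← hJd] at this
      simpa using this
    · push_neg at hS
      have h1 : (1 : R) ∈ J := H2 1 (fun k hk => ⟨1, by rw [hS k hk]; simp⟩)
      intro h
      rw [h] at h1
      simp at h1
  obtain ⟨s, hs⟩ := (IsNoetherian.noetherian J : J.FG)
  set g := s.gcd id with hg
  have hg0 : g ≠ 0 := by
    intro h
    rw [hg, Finset.gcd_eq_zero_iff] at h
    apply hJ0
    rw [← hs, Ideal.span_eq_bot]
    intro x hx
    exact h x hx
  have hJg : J ≤ Ideal.span {g} := by
    rw [← hs, Ideal.span_le]
    intro x hx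
    exact Ideal.mem_span_singleton.mpr (Finset.gcd_dvd hx)
  refine ⟨g, hg0, le_antisymm hJg ?_⟩
  rw [Ideal.span_singleton_le_iff_mem]
  set J' : Ideal R := Submodule.colon J {g} with hJ'def
  have hJ' : ∀ a, a ∈ J' ↔ g * a ∈ J := by
    intro a
    rw [hJ'def, Submodule.mem_colon_singleton, smul_eq_mul, mul_comm]
  have hprim : ∀ π : R, Prime π → ¬ (∀ a ∈ J', π ∣ a) := by
    intro π hπ hall
    have h1 : g * π ∣ g := by
      rw [hg]
      apply Finset.dvd_gcd
      intro x hx
      have hxJ : x ∈ J := by rw [← hs]; exact Ideal.subset_span hx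
      obtain ⟨x', hx'⟩ := Ideal.mem_span_singleton.mp (hJg hxJ)
      have hx'J : x' ∈ J' := by rw [hJ', ← hx']; exact hxJ
      obtain ⟨w, hw⟩ := hall x' hx'J
      change s.gcd id * π ∣ x
      rw [← hg, hx', hw]
      exact ⟨w, by ring⟩
    have h2 : g * π ∣ g * 1 := by rwa [mul_one]
    have h3 : π ∣ 1 := (mul_dvd_mul_iff_left hg0).mp h2
    exact hπ.not_unit (isUnit_of_dvd_one h3)
  apply H2
  intro k hk
  have hkrad : k ∈ J'.radical := by
    rw [Ideal.radical_eq_sInf, Ideal.mem_sInf]
    rintro q ⟨hqJ, hqprime⟩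
    by_contra hkq
    haveI := hqprime
    obtain ⟨T, _, _, _, d, hd, hJd⟩ := H1 q ⟨k, hk, hkq⟩
    exact core J J' g hg0 hJ' hJg hprim q T d hd hJd hqJ
  obtain ⟨n, hn⟩ := hkrad
  refine ⟨n, ?_⟩
  rw [mul_comm]
  exact (hJ' _).mp hn

end UFD

end Groth.Agent.Lib.helper21.UfdExt
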