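import Mathlib
import Groth.Prelude.Def_BlowUp2
import Groth.Agent.Lib.Helper21.UfdExt1
import Groth.Agent.Lib.Helper16.QCohAss
import Groth.Agent.S17386

/-!
# The scheme-theoretic closure of an effective Cartier divisor (helper21)

`X` locally Noetherian, `U ⊆ X` open, `D` an ideal sheaf on `U`, `D' = D.map U.ι` (the ideal of the scheme-theoretic
closure).

* `comap_map_ι`: `D'.comap U.ι = D`.
* `map_germ_eq`: the stalk ideal of an ideal sheaf does not depend on the affine chart.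
* `mem_map_ideal_of_cover`: `D'.ideal W` is saturated with respect to any family of sections whose basic opens
  cover `W ∩ U`.
* `exists_generator_at`: if `D` is effective Cartier then the stalk of `D'` at `y ∈ U` is generated by a nonzerodivisor.
-/

set_option autoImplicit false
universe u
open CategoryTheory CategoryTheory.Limits AlgebraicGeometry TopologicalSpace Opposite

namespace Groth.Agent.Lib.helper21.UfdExt

variable {X : Scheme.{u}}

theorem ideal_comap_eqToHom (𝓘 : X.IdealSheafData) {T₂ T : X.Opens} (e : T₂ = T)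
    (H₂ : IsAffineOpen T₂) (H : IsAffineOpen T) :
    (𝓘.ideal ⟨T₂, H₂⟩).comap (X.presheaf.map (eqToHom e).op).hom = 𝓘.ideal ⟨T, H⟩ := by
  subst e
  rw [eqToHom_refl, op_id, CategoryTheory.Functor.map_id]
  exact Ideal.comap_id _

/-- pushing forward along a quasi-compact open immersion and restricting back gives the ideal
(same statement as helper16 `FTIdeal.comap_map_of_isOpenImmersion`, reproved here to keep imports light) -/
theorem comap_map_of_isOpenImmersion {V : Scheme.{u}} (j : V ⟶ X) [IsOpenImmersion j]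
    [QuasiCompact j] (𝓘 : V.IdealSheafData) : (𝓘.map j).comap j = 𝓘 := by
  refine Scheme.IdealSheafData.ext (funext fun T => ?_)
  have H : IsAffineOpen (j ⁻¹ᵁ (j ''ᵁ T.1)) := by
    rw [Scheme.Hom.preimage_image_eq]
    exact T.2
  rw [Scheme.IdealSheafData.ideal_comap_of_isOpenImmersion,
    Scheme.IdealSheafData.ideal_map 𝓘 j ⟨j ''ᵁ T.1, T.2.image_of_isOpenImmersion j⟩ H,
    Ideal.comap_comap, ← CommRingCat.hom_comp, Scheme.Hom.appIso_inv_app]
  exact ideal_comap_eqToHom 𝓘 _ H T.2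

/-- the ideal of `𝓘.map j` on the image of an affine open -/
theorem ideal_map_image {V : Scheme.{u}} (j : V ⟶ X) [IsOpenImmersion j]
    [QuasiCompact j] (𝓘 : V.IdealSheafData) (T : V.affineOpens) :
    (𝓘.map j).ideal ⟨j ''ᵁ T.1, T.2.image_of_isOpenImmersion j⟩ =
      (𝓘.ideal T).map (j.appIso T.1).inv.hom := by
  have h1 := Scheme.IdealSheafData.ideal_comap_of_isOpenImmersion (𝓘.map j) j T
  rw [comap_map_of_isOpenImmersion j 𝓘] at h1
  apply le_antisymm
  · intro b hb
    have hb' : (j.appIso T.1).inv.hom ((j.appIso T.1).hom.hom b) = b := by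
      rw [← CommRingCat.comp_apply, Iso.hom_inv_id]
      rfl
    rw [← hb']
    apply Ideal.mem_map_of_mem
    rw [h1, Ideal.mem_comap, hb']
    exact hb
  · rw [Ideal.map_le_iff_le_comap, ← h1]

/-- the stalk ideal does not depend on the affine chart -/
theorem map_germ_eq (I : X.IdealSheafData) (W V : X.affineOpens) (y : X) (hyW : y ∈ W.1)
    (hyV : y ∈ V.1) :
    (I.ideal W).map (X.presheaf.germ W.1 y hyW).hom =
      (I.ideal V).map (X.presheaf.germ V.1 y hyV).hom := by
  obtain ⟨_, ⟨T, hT, rfl⟩, hyT, hTWV⟩ := X.isBasis_affineOpens.exists_subset_of_mem_open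
    (show y ∈ ((W.1 ⊓ V.1 : X.Opens) : Set X) from ⟨hyW, hyV⟩) (W.1 ⊓ V.1).2
  have key : ∀ (W' : X.affineOpens) (h : T ≤ W'.1) (hy' : y ∈ W'.1),
      (I.ideal W').map (X.presheaf.germ W'.1 y hy').hom =
        (I.ideal ⟨T, hT⟩).map (X.presheaf.germ T y hyT).hom := by
    intro W' h hy'
    rw [← I.map_ideal (U := ⟨T, hT⟩) (V := W') h, Ideal.map_map, ← CommRingCat.hom_comp]
    congr 2
    exact (X.presheaf.germ_res _ y hyT).symm
  rw [key W (fun z hz => (hTWV hz).1) hyW, key V (fun z hz => (hTWV hz).2) hyV]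

variable [IsLocallyNoetherian X] (U : X.Opens) (D : (U : Scheme.{u}).IdealSheafData)

theorem comap_map_ι : (D.map U.ι).comap U.ι = D := comap_map_of_isOpenImmersion U.ι D

/-- `(D.map U.ι).ideal W` is saturated with respect to sections whose basic opens cover `W ∩ U`. -/
theorem mem_map_ideal_of_cover (W : X.affineOpens) (S : Set Γ(X, W.1))
    (hS : ∀ x ∈ W.1, x ∈ U → ∃ k ∈ S, x ∈ X.basicOpen k)
    (a : Γ(X, W.1)) (ha : ∀ k ∈ S, ∃ n : ℕ, k ^ n * a ∈ (D.map U.ι).ideal W) :
    a ∈ (D.map U.ι).ideal W := by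
  set f := D.subschemeι ≫ U.ι with hf
  have hker : ∀ b, b ∈ (D.map U.ι).ideal W ↔ (f.app W.1).hom b = 0 := by
    intro b
    change b ∈ f.ker.ideal W ↔ _
    rw [Scheme.Hom.ker_apply, RingHom.mem_ker]
  rw [hker]
  refine TopCat.Sheaf.eq_of_locally_eq' D.subscheme.sheaf
    (fun k : S => D.subscheme.basicOpen ((f.app W.1).hom k.1)) (f ⁻¹ᵁ W.1)
    (fun k => homOfLE (D.subscheme.basicOpen_le _)) ?_ _ _ ?_
  · intro z hz
    have hzW : f z ∈ W.1 := hz
    have hzU : f z ∈ U := by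
      rw [hf, Scheme.Hom.comp_apply]
      exact (D.subschemeι z).2
    obtain ⟨k, hk, hzk⟩ := hS _ hzW hzU
    rw [Opens.mem_iSup]
    refine ⟨⟨k, hk⟩, ?_⟩
    change z ∈ D.subscheme.basicOpen ((f.app W.1).hom k)
    rw [← Scheme.preimage_basicOpen]
    exact hzk
  · intro k
    obtain ⟨n, hn⟩ := ha k.1 k.2
    rw [hker, map_mul, map_pow] at hn
    have hu : IsUnit ((D.subscheme.presheaf.map
        (homOfLE (D.subscheme.basicOpen_le ((f.app W.1).hom k.1))).op).hom
          ((f.app W.1).hom k.1)) := RingedSpace.isUnit_res_basicOpen _ _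
    have h2 := congrArg (D.subscheme.presheaf.map
      (homOfLE (D.subscheme.basicOpen_le ((f.app W.1).hom k.1))).op).hom hn
    rw [map_mul, map_pow, map_zero] at h2
    change (D.subscheme.presheaf.map _).hom _ = (D.subscheme.presheaf.map _).hom 0
    rw [map_zero]
    exact (hu.pow n).mul_right_eq_zero.mp h2

/-- at points of `U`, the stalk of `D.map U.ι` is generated by a nonzerodivisor -/
theorem exists_generator_at (hD : BlowUp.IsEffCartierIdeal D) (W : X.affineOpens) (y : X)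
    (hyW : y ∈ W.1) (hyU : y ∈ U) :
    ∃ d : X.presheaf.stalk y, d ∈ nonZeroDivisors (X.presheaf.stalk y) ∧
      ((D.map U.ι).ideal W).map (X.presheaf.germ W.1 y hyW).hom = Ideal.span {d} := by
  obtain ⟨V, hyV, f, hf, hDf⟩ := hD ⟨y, hyU⟩
  obtain ⟨V', hV'⟩ : ∃ V' : X.affineOpens,
      V' = ⟨U.ι ''ᵁ V.1, V.2.image_of_isOpenImmersion U.ι⟩ := ⟨_, rfl⟩
  have hyV' : y ∈ V'.1 := by
    rw [hV']; exact ⟨⟨y, hyU⟩, hyV, rfl⟩
  obtain ⟨f', hf'nzd, h1⟩ : ∃ f' : Γ(X, V'.1), f' ∈ nonZeroDivisors Γ(X, V'.1) ∧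
      (D.map U.ι).ideal V' = Ideal.span {f'} := by
    subst hV'
    refine ⟨(U.ι.appIso V.1).inv.hom f, ?_, ?_⟩
    · let e : Γ(X, U.ι ''ᵁ V.1) ≃+* Γ(U, V.1) := (U.ι.appIso V.1).commRingCatIsoToRingEquiv
      have : (U.ι.appIso V.1).inv.hom f = e.symm f := rfl
      rw [this]
      rw [← MulEquivClass.map_nonZeroDivisors e.symm]
      exact ⟨f, hf, rfl⟩
    · rw [ideal_map_image U.ι D V, hDf, Ideal.map_span, Set.image_singleton]
  refine ⟨(X.presheaf.germ V'.1 y hyV').hom f', ?_, ?_⟩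
  · letI := TopCat.Presheaf.algebra_section_stalk X.presheaf (⟨y, hyV'⟩ : V'.1)
    haveI hloc : IsLocalization.AtPrime (X.presheaf.stalk y) (V'.2.primeIdealOf ⟨y, hyV'⟩).asIdeal :=
      V'.2.isLocalization_stalk ⟨y, hyV'⟩
    exact IsLocalization.map_nonZeroDivisors_le (V'.2.primeIdealOf ⟨y, hyV'⟩).asIdeal.primeCompl
      (X.presheaf.stalk y) ⟨f', hf'nzd, rfl⟩
  · rw [map_germ_eq (D.map U.ι) W V' y hyW hyV', h1, Ideal.map_span, Set.image_singleton]

end Groth.Agent.Lib.helper21.UfdExt
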