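import Mathlib
import Groth.Prelude.Def_SuppFam
import Groth.Agent.Lib.Helper27.SectSupp4
import Groth.Agent.Lib.Helper27.ExtDelta
import Groth.Agent.Lib.Helper21.TopRestr

/-!
# Excision for cohomology with supports, natural in the sheaf

`Ext^i_X(ℤ_V/ℤ_W, F) ≃+ Ext^i_V(ℤ_V/ℤ_{W ∩ V}, F|_V)`, naturally in `F`, via universal
delta-functors.
-/

set_option autoImplicit false

open CategoryTheory Limits Opposite TopologicalSpace Abelian DeltaF
open Groth.Agent.Lib.helper27

universe u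

namespace Groth.Agent.Lib.helper21.Excision

variable {X : TopCat.{u}}

lemma map_self_apply (A : CohTop.Ab X) {U₁ : Opens X} (h₁ : U₁ ≤ U₁) (s : A.obj.obj (op U₁)) :
    (A.obj.map (homOfLE h₁).op).hom s = s := by
  have : A.obj.map (homOfLE h₁).op = 𝟙 _ := by
    rw [show homOfLE h₁ = 𝟙 U₁ from Subsingleton.elim _ _, op_id, A.obj.map_id]
  rw [this]
  rfl

/-- naturality of `sect0Equiv` in the sheaf -/
lemma sect0Equiv_comp {F F' : CohTop.Ab X} (φ : F ⟶ F') {W V : Opens X} (h : W ≤ V)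
    (x : Ext.{u} (LocCohZ.zq h) F 0) :
    ((LocCohZ.sect0Equiv F' h (x.comp (Ext.mk₀ φ) (add_zero 0)) : LocCohZ.sectZ F' h) :
        F'.obj.obj (op V)) =
      (φ.hom.app (op V)).hom ((LocCohZ.sect0Equiv F h x : LocCohZ.sectZ F h) : F.obj.obj (op V)) := by
  obtain ⟨b, rfl⟩ := (Ext.mk₀_bijective _ _).2 x
  rw [Ext.mk₀_comp_mk₀]
  show CohFree.evalGen (Opens.grothendieckTopology X) V F'
      (cokernel.π _ ≫ Ext.addEquiv₀ (Ext.mk₀ (b ≫ φ))) =
    (φ.hom.app (op V)).hom (CohFree.evalGen (Opens.grothendieckTopology X) V F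
      (cokernel.π _ ≫ Ext.addEquiv₀ (Ext.mk₀ b)))
  rw [show Ext.addEquiv₀ (Ext.mk₀ (b ≫ φ)) = b ≫ φ from Ext.addEquiv₀.apply_symm_apply _,
    show Ext.addEquiv₀ (Ext.mk₀ b) = b from Ext.addEquiv₀.apply_symm_apply _, ← Category.assoc,
    SectSupp.evalGen_comp]

variable {W V : Opens X} (h : W ≤ V)

/-- the image of `⊤ : Opens V` in `X` -/
noncomputable abbrev jTop : Opens X := (SectSupp.hj V).isOpenMap.functor.obj ⊤

/-- the image of `W ∩ V : Opens V` in `X` -/
noncomputable abbrev jW : Opens X := (SectSupp.hj V).isOpenMap.functor.obj (SuppFam.inOpen V W)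

lemma jTop_le : jTop (V := V) ≤ V := by
  rintro _ ⟨x, -, rfl⟩
  exact x.2

lemma le_jTop : V ≤ jTop (V := V) := fun x hx => ⟨⟨x, hx⟩, trivial, rfl⟩

lemma jW_le : jW (W := W) (V := V) ≤ W := by
  rintro _ ⟨x, hx, rfl⟩
  exact hx

include h in
lemma le_jW : W ≤ jW (W := W) (V := V) := fun x hx => ⟨⟨x, h hx⟩, hx, rfl⟩

lemma jW_le_jTop : jW (W := W) (V := V) ≤ jTop (V := V) :=
  leOfHom ((SectSupp.hj V).isOpenMap.functor.map (homOfLE le_top))

/-- sections over `V` vanishing on `W`, computed on `X` or on the subspace `V` -/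
noncomputable def mid (F : CohTop.Ab X) :
    LocCohZ.sectZ F h ≃+
      LocCohZ.sectZ ((CohTop.restrFunctor V).obj F) (le_top : SuppFam.inOpen V W ≤ ⊤) where
  toFun s := ⟨(F.obj.map (homOfLE (jTop_le (V := V))).op).hom s.1, by
    rw [AddMonoidHom.mem_ker]
    show (F.obj.map (homOfLE (jW_le_jTop (W := W) (V := V))).op).hom _ = 0
    rw [SectSupp.map_map_apply]
    have h0 : (F.obj.map (homOfLE h).op).hom s.1 = 0 := s.2
    have := congrArg (F.obj.map (homOfLE (jW_le (W := W) (V := V))).op).hom h0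
    rw [SectSupp.map_map_apply] at this
    exact this.trans (map_zero _)⟩
  invFun t := ⟨(F.obj.map (homOfLE (le_jTop (V := V))).op).hom t.1, by
    rw [AddMonoidHom.mem_ker, SectSupp.map_map_apply]
    have h0 : (F.obj.map (homOfLE (jW_le_jTop (W := W) (V := V))).op).hom t.1 = 0 := t.2
    have := congrArg (F.obj.map (homOfLE (le_jW h)).op).hom h0
    rw [SectSupp.map_map_apply] at this
    exact this.trans (map_zero _)⟩
  left_inv s := by
    apply Subtype.ext
    show (F.obj.map _).hom ((F.obj.map _).hom s.1) = s.1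
    rw [SectSupp.map_map_apply, map_self_apply]
  right_inv t := by
    apply Subtype.ext
    show (F.obj.map _).hom ((F.obj.map _).hom t.1) = t.1
    rw [SectSupp.map_map_apply, map_self_apply]
  map_add' s t := by
    apply Subtype.ext
    show (F.obj.map _).hom (s.1 + t.1) = (F.obj.map _).hom s.1 + (F.obj.map _).hom t.1
    exact map_add _ _ _

/-- `ℤ_V/ℤ_{W ∩ V}` on the subspace `V` -/
noncomputable abbrev P : CohTop.Ab (TopCat.of V) :=
  LocCohZ.zq (le_top : SuppFam.inOpen V W ≤ ⊤)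

/-- the degree zero comparison -/
noncomputable def e₀Equiv (F : CohTop.Ab X) :
    Ext.{u} (LocCohZ.zq h) F 0 ≃+ Ext.{u} (P (W := W) (V := V)) ((CohTop.restrFunctor V).obj F) 0 :=
  (LocCohZ.sect0Equiv F h).trans ((mid h F).trans
    (LocCohZ.sect0Equiv ((CohTop.restrFunctor V).obj F) (le_top : SuppFam.inOpen V W ≤ ⊤)).symm)

lemma sect0Equiv_e₀Equiv (F : CohTop.Ab X) (x : Ext.{u} (LocCohZ.zq h) F 0) :
    ((LocCohZ.sect0Equiv ((CohTop.restrFunctor V).obj F) (le_top : SuppFam.inOpen V W ≤ ⊤)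
      (e₀Equiv h F x)).1 : F.obj.obj (op (jTop (V := V)))) =
      (F.obj.map (homOfLE (jTop_le (V := V))).op).hom (LocCohZ.sect0Equiv F h x).1 := by
  have : LocCohZ.sect0Equiv ((CohTop.restrFunctor V).obj F) (le_top : SuppFam.inOpen V W ≤ ⊤)
      (e₀Equiv h F x) = mid h F (LocCohZ.sect0Equiv F h x) :=
    (LocCohZ.sect0Equiv ((CohTop.restrFunctor V).obj F)
      (le_top : SuppFam.inOpen V W ≤ ⊤)).apply_symm_apply _
  rw [this]
  rfl

lemma e₀Equiv_natural {F F' : CohTop.Ab X} (φ : F ⟶ F') (x : Ext.{u} (LocCohZ.zq h) F 0) :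
    e₀Equiv h F' (x.comp (Ext.mk₀ φ) (add_zero 0)) =
      (e₀Equiv h F x).comp (Ext.mk₀ ((CohTop.restrFunctor V).map φ)) (add_zero 0) := by
  apply (LocCohZ.sect0Equiv ((CohTop.restrFunctor V).obj F')
    (le_top : SuppFam.inOpen V W ≤ ⊤)).injective
  apply Subtype.ext
  rw [sect0Equiv_e₀Equiv, sect0Equiv_comp, sect0Equiv_comp]
  have e1 : ((LocCohZ.sect0Equiv ((CohTop.restrFunctor V).obj F) (le_top : SuppFam.inOpen V W ≤ ⊤)
      (e₀Equiv h F x)).1 : F.obj.obj (op (jTop (V := V)))) = _ := sect0Equiv_e₀Equiv h F x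
  refine Eq.trans ?_ (congrArg (φ.hom.app (op (jTop (V := V)))).hom e1).symm
  exact (ConcreteCategory.congr_hom (φ.hom.naturality (homOfLE (jTop_le (V := V))).op) _).symm

/-- the degree zero comparison as a natural isomorphism -/
noncomputable def e₀ :
    (extFunctor.{u} 0).obj (op (LocCohZ.zq h)) ≅
      CohTop.restrFunctor V ⋙ (extFunctor.{u} 0).obj (op (P (W := W) (V := V))) :=
  NatIso.ofComponents (fun F => (e₀Equiv h F).toAddCommGrpIso) (by
    intro F F' φ
    apply AddCommGrpCat.hom_ext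
    apply AddMonoidHom.ext
    intro x
    exact e₀Equiv_natural h φ x)

/-- `F ↦ Ext^•_V(ℤ_V/ℤ_{W ∩ V}, F|_V)` as a delta-functor on `X` -/
noncomputable def T' : CohDeltaFunctor (CohTop.Ab X) AddCommGrpCat.{u} ℕ :=
  DeltaFPre.precomp (ExtDelta.extDelta.{u} (P (W := W) (V := V))) (CohTop.restrFunctor V)

lemma T'_isEffaceable : (T' (W := W) (V := V)).IsEffaceable := by
  intro n F
  refine ⟨Injective.under F, Injective.ι F, inferInstance, ?_⟩
  have hI : Injective ((CohTop.restrFunctor V).obj (Injective.under F)) :=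
    haveI := Groth.Agent.Lib.Helper21.TopRestr.restr_preservesInjectiveObjects V
    (CohTop.restrFunctor V).injective_obj_of_injective inferInstance
  have : Subsingleton (Ext.{u} (P (W := W) (V := V))
      ((CohTop.restrFunctor V).obj (Injective.under F)) (n + 1)) :=
    subsingleton_of_forall_eq 0 fun x => Ext.eq_zero_of_injective x
  have hz : IsZero (((T' (W := W) (V := V)).F (n + 1)).obj (Injective.under F)) :=
    AddCommGrpCat.isZero_of_subsingleton (AddCommGrpCat.of (Ext.{u} (P (W := W) (V := V))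
      ((CohTop.restrFunctor V).obj (Injective.under F)) (n + 1)))
  exact hz.eq_of_tgt _ _

theorem main (i : ℕ) :
    ∃ e : ∀ F : CohTop.Ab X,
        LocCohZ.HZ F i h ≃+ LocCohZ.HZc (CohTop.restr F V) i ((Opens.map (CohCx.incl V)).obj W),
      ∀ (F G : CohTop.Ab X) (φ : F ⟶ G) (x : LocCohZ.HZ F i h),
        e G (LocCohZ.map φ i h x) =
          LocCohZ.map ((CohTop.restrFunctor V).map φ) i
            (le_top : (Opens.map (CohCx.incl V)).obj W ≤ ⊤) (e F x) := by
  have h1 := isUniversal_of_isEffaceable (ExtDelta.extDelta_isEffaceable.{u} (LocCohZ.zq h))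
  have h2 := isUniversal_of_isEffaceable (T'_isEffaceable (W := W) (V := V))
  obtain ⟨ε⟩ := DeltaFPre.natIso_of_isUniversal (ExtDelta.extDelta.{u} (LocCohZ.zq h))
    (T' (W := W) (V := V)) h1 h2 (e₀ h) i
  let ε' : ∀ F : CohTop.Ab X, AddCommGrpCat.of (LocCohZ.HZ F i h) ≅
      AddCommGrpCat.of (LocCohZ.HZc (CohTop.restr F V) i ((Opens.map (CohCx.incl V)).obj W)) :=
    fun F => ε.app F
  refine ⟨fun F => (ε' F).addCommGroupIsoToAddEquiv, ?_⟩
  intro F G φ x
  have nat := ConcreteCategory.congr_hom (ε.hom.naturality φ) x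
  exact nat

end Groth.Agent.Lib.helper21.Excision
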