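import Mathlib
import Groth.Prelude.Def_FlatCA
import Groth.Agent.Lib.Helper21.RelFPAlg

/-!
# Relative finite presentation in short exact sequences (helper21)
-/

set_option autoImplicit false
universe u
open Groth.Agent.Lib.helper23

namespace Groth.Agent.Lib.helper21.RelFPAlg

section Exact

variable {R A : Type u} [CommRing R] [CommRing A] [Algebra R A] [Algebra.FiniteType R A]
  {N₁ N₂ N₃ : Type u} [AddCommGroup N₁] [Module A N₁] [AddCommGroup N₂] [Module A N₂]
  [AddCommGroup N₃] [Module A N₃]
  (a : N₁ →ₗ[A] N₂) (b : N₂ →ₗ[A] N₃)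

/-- extensions: outer terms relatively f.p. ⇒ middle term relatively f.p. -/
theorem relFP_of_exact_of_extremes (ha : Function.Injective a) (hb : Function.Surjective b)
    (hex : Function.Exact a b)
    (h₁ : FlatCA.RelFinitePresentation R A N₁) (h₃ : FlatCA.RelFinitePresentation R A N₃) :
    FlatCA.RelFinitePresentation R A N₂ := by
  obtain ⟨n, φ, hφ⟩ := Algebra.FiniteType.iff_quotient_mvPolynomial''.mp
    (inferInstance : Algebra.FiniteType R A)
  rw [relFP_iff_fp_compHom (MvPolynomial (Fin n) R) φ hφ] at h₁ h₃ ⊢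
  letI : Algebra (MvPolynomial (Fin n) R) A := φ.toRingHom.toAlgebra
  letI : Module (MvPolynomial (Fin n) R) N₁ := Module.compHom N₁ φ.toRingHom
  letI : Module (MvPolynomial (Fin n) R) N₂ := Module.compHom N₂ φ.toRingHom
  letI : Module (MvPolynomial (Fin n) R) N₃ := Module.compHom N₃ φ.toRingHom
  haveI : IsScalarTower (MvPolynomial (Fin n) R) A N₁ := ⟨fun p a y => by
    change (φ p * a) • y = φ p • (a • y)
    rw [mul_smul]⟩
  haveI : IsScalarTower (MvPolynomial (Fin n) R) A N₂ := ⟨fun p a y => by
    change (φ p * a) • y = φ p • (a • y)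
    rw [mul_smul]⟩
  haveI : IsScalarTower (MvPolynomial (Fin n) R) A N₃ := ⟨fun p a y => by
    change (φ p * a) • y = φ p • (a • y)
    rw [mul_smul]⟩
  haveI : Module.FinitePresentation (MvPolynomial (Fin n) R) N₁ := h₁
  haveI : Module.FinitePresentation (MvPolynomial (Fin n) R) N₃ := h₃
  let a' : N₁ →ₗ[MvPolynomial (Fin n) R] N₂ := a.restrictScalars _
  let b' : N₂ →ₗ[MvPolynomial (Fin n) R] N₃ := b.restrictScalars _
  have hker : LinearMap.ker b' = LinearMap.range a' := by
    ext y
    exact hex y
  let e : N₁ ≃ₗ[MvPolynomial (Fin n) R] LinearMap.ker b' :=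
    (LinearEquiv.ofInjective a' ha).trans (LinearEquiv.ofEq _ _ hker.symm)
  haveI : Module.FinitePresentation (MvPolynomial (Fin n) R) (LinearMap.ker b') :=
    Module.FinitePresentation.of_equiv e
  exact Module.finitePresentation_of_ker b' hb

/-- quotients: middle term relatively f.p., sub finitely generated ⇒ quotient relatively f.p. -/
theorem relFP_of_exact_of_finite_sub (hb : Function.Surjective b)
    (hex : Function.Exact a b) (hfin : Module.Finite A N₁)
    (h₂ : FlatCA.RelFinitePresentation R A N₂) :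
    FlatCA.RelFinitePresentation R A N₃ := by
  haveI := hfin
  obtain ⟨n, φ, hφ⟩ := Algebra.FiniteType.iff_quotient_mvPolynomial''.mp
    (inferInstance : Algebra.FiniteType R A)
  rw [relFP_iff_fp_compHom (MvPolynomial (Fin n) R) φ hφ] at h₂ ⊢
  letI : Algebra (MvPolynomial (Fin n) R) A := φ.toRingHom.toAlgebra
  letI : Module (MvPolynomial (Fin n) R) N₁ := Module.compHom N₁ φ.toRingHom
  letI : Module (MvPolynomial (Fin n) R) N₂ := Module.compHom N₂ φ.toRingHom
  letI : Module (MvPolynomial (Fin n) R) N₃ := Module.compHom N₃ φ.toRingHom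
  haveI : IsScalarTower (MvPolynomial (Fin n) R) A N₁ := ⟨fun p a y => by
    change (φ p * a) • y = φ p • (a • y)
    rw [mul_smul]⟩
  haveI : IsScalarTower (MvPolynomial (Fin n) R) A N₂ := ⟨fun p a y => by
    change (φ p * a) • y = φ p • (a • y)
    rw [mul_smul]⟩
  haveI : IsScalarTower (MvPolynomial (Fin n) R) A N₃ := ⟨fun p a y => by
    change (φ p * a) • y = φ p • (a • y)
    rw [mul_smul]⟩
  haveI : Module.FinitePresentation (MvPolynomial (Fin n) R) N₂ := h₂
  haveI : Module.Finite (MvPolynomial (Fin n) R) A :=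
    Module.Finite.of_surjective (Algebra.linearMap (MvPolynomial (Fin n) R) A) hφ
  haveI : Module.Finite (MvPolynomial (Fin n) R) N₁ := Module.Finite.trans A N₁
  let a' : N₁ →ₗ[MvPolynomial (Fin n) R] N₂ := a.restrictScalars _
  let b' : N₂ →ₗ[MvPolynomial (Fin n) R] N₃ := b.restrictScalars _
  have hker : LinearMap.ker b' = LinearMap.range a' := by
    ext y
    exact hex y
  refine Module.finitePresentation_of_surjective b' hb ?_
  rw [hker, LinearMap.range_eq_map]
  exact (Module.Finite.fg_top).map _

end Exact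

end Groth.Agent.Lib.helper21.RelFPAlg
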