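import Mathlib
import Groth.Prelude.Def_Flatn
import Groth.Agent.Lib.Helper21.RelFPSch
import Groth.Agent.Lib.Helper21.RelFPAlg2
import Groth.Agent.Lib.Helper7.QCohExt
import Groth.Agent.Lib.Helper7.KerSections

/-!
# Relative finite presentation in short exact sequences of quasi-coherent modules (helper21)
-/

set_option autoImplicit false
universe u
open CategoryTheory CategoryTheory.Limits AlgebraicGeometry TopologicalSpace Opposite
open Groth.Agent.Lib.helper16.CohFinite Groth.Agent.Lib.helper21.RelFPAlg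

namespace Groth.Agent.Lib.helper21.RelFPSch

variable {X S : Scheme.{u}} (f : X ⟶ S)

/-- sections of a short exact sequence with quasi-coherent kernel over an affine open -/
theorem sections_exact (E : ShortComplex X.Modules) (hE : E.ShortExact) [E.X₁.IsQuasicoherent]
    {U : X.Opens} (hU : IsAffineOpen U) :
    Function.Injective (E.f.val.app (op U)).hom ∧ Function.Surjective (E.g.val.app (op U)).hom ∧
      Function.Exact (E.f.val.app (op U)).hom (E.g.val.app (op U)).hom := by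
  haveI := hE.mono_f
  obtain ⟨h1, h2⟩ := Groth.Agent.Lib.helper7.KerSections.sections_leftExact E hE.exact U
  refine ⟨h1, Groth.Agent.Lib.helper7.QCohExt.surjective_app_of_shortExact E hE U hU, ?_⟩
  intro y
  constructor
  · intro hy
    obtain ⟨a, ha⟩ := h2 y hy
    exact ⟨a, ha⟩
  · rintro ⟨a, rfl⟩
    have h3 : E.f ≫ E.g = 0 := E.zero
    have h4 : E.f.app U ≫ E.g.app U = 0 := by
      rw [← Scheme.Modules.Hom.comp_app, h3]
      rfl
    exact congrArg (fun φ => φ.hom a) h4

theorem isRelFP_of_shortExact_of_extremes [LocallyOfFiniteType f] (E : ShortComplex X.Modules)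
    (hE : E.ShortExact) [E.X₁.IsQuasicoherent] [E.X₂.IsQuasicoherent] [E.X₃.IsQuasicoherent]
    (h₁ : Flatn.IsRelFP f E.X₁) (h₃ : Flatn.IsRelFP f E.X₃) : Flatn.IsRelFP f E.X₂ := by
  refine isRelFP_of_forall f E.X₂ (fun U V h => ?_)
  have H₁ := relFPOn_of_isRelFP f E.X₁ h₁ U V h
  have H₃ := relFPOn_of_isRelFP f E.X₃ h₃ U V h
  obtain ⟨hi, hs, hex⟩ := sections_exact E hE U.2
  unfold Flatn.RelFPOn at H₁ H₃ ⊢
  letI := (f.appLE (V : S.Opens) (U : X.Opens) h).hom.toAlgebra
  haveI : Algebra.FiniteType Γ(S, (V : S.Opens)) Γ(X, (U : X.Opens)) :=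
    f.finiteType_appLE V.2 U.2 h
  exact relFP_of_exact_of_extremes (R := Γ(S, (V : S.Opens))) (A := Γ(X, (U : X.Opens)))
    (E.f.val.app (op U.1)).hom (E.g.val.app (op U.1)).hom hi hs hex H₁ H₃

theorem isRelFP_of_shortExact_of_finiteType_sub [LocallyOfFiniteType f]
    (E : ShortComplex X.Modules)
    (hE : E.ShortExact) [E.X₁.IsQuasicoherent] [E.X₂.IsQuasicoherent] [E.X₃.IsQuasicoherent]
    (h₁ : CohB1.IsFT E.X₁) (h₂ : Flatn.IsRelFP f E.X₂) : Flatn.IsRelFP f E.X₃ := by
  refine isRelFP_of_forall f E.X₃ (fun U V h => ?_)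
  have H₂ := relFPOn_of_isRelFP f E.X₂ h₂ U V h
  obtain ⟨hi, hs, hex⟩ := sections_exact E hE U.2
  have hfin : Module.Finite Γ(X, (U : X.Opens)) Γ(E.X₁, (U : X.Opens)) :=
    finite_sections_of_isFiniteType E.X₁ h₁ U.2
  unfold Flatn.RelFPOn at H₂ ⊢
  letI := (f.appLE (V : S.Opens) (U : X.Opens) h).hom.toAlgebra
  haveI : Algebra.FiniteType Γ(S, (V : S.Opens)) Γ(X, (U : X.Opens)) :=
    f.finiteType_appLE V.2 U.2 h
  exact relFP_of_exact_of_finite_sub (R := Γ(S, (V : S.Opens))) (A := Γ(X, (U : X.Opens)))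
    (E.f.val.app (op U.1)).hom (E.g.val.app (op U.1)).hom hs hex hfin H₂

end Groth.Agent.Lib.helper21.RelFPSch
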