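import Mathlib

/-!
# Syzygies: the kernel at the left end of a long exact sequence of projectives (helper21)

`T : C ⥤ D` an exact functor of abelian categories, `S` an exact sequence
`S₀ ↪ S₁ → ⋯ → S_m ↠ S_{m+1}` in `C` such that `T S_j` is projective for `1 ≤ j ≤ m` and `T S_{m+1}`
has projective dimension `< m + 1`.  Then `T S₀` is projective.
-/

set_option autoImplicit false
universe v v' u u'

open CategoryTheory CategoryTheory.Limits

namespace Groth.Agent.Lib.helper21.Syzygy

section Abelian

variable {D : Type u'} [Category.{v'} D] [Abelian D]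

/-- for an exact pair `f, g`, the sequence `0 → ker f → A → ker g → 0` is short exact -/
theorem shortExact_kernel {A B E : D} (f : A ⟶ B) (g : B ⟶ E) (w : f ≫ g = 0)
    (hex : (ShortComplex.mk f g w).Exact) :
    (ShortComplex.mk (kernel.ι f) (kernel.lift g f w)
      (by rw [← cancel_mono (kernel.ι g)]; simp)).ShortExact := by
  haveI : Epi (kernel.lift g f w) :=
    (ShortComplex.exact_iff_epi_kernel_lift (ShortComplex.mk f g w)).1 hex
  refine ShortComplex.ShortExact.mk' ?_ (by dsimp; infer_instance) (by dsimp; infer_instance)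
  refine ShortComplex.exact_of_f_is_kernel _ ?_
  refine KernelFork.IsLimit.ofι _ _
    (fun {W} (a : W ⟶ A) (ha : a ≫ kernel.lift g f w = 0) => kernel.lift f a ?_)
    (fun a ha => by simp) (fun a ha b hb => by rw [← cancel_mono (kernel.ι f)]; simpa using hb)
  have := congrArg (fun t => t ≫ kernel.ι g) ha
  simpa using this

end Abelian

variable {C : Type u} [Category.{v} C] [Abelian C] {D : Type u'} [Category.{v'} D] [Abelian D]
  (T : C ⥤ D) [T.Additive] [T.PreservesHomology]

/-- **syzygy lemma** -/
theorem projective_map_obj_zero (m : ℕ) (S : ComposableArrows C (m + 1)) (hS : S.Exact)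
    (hmono : Mono (S.map' 0 1)) (hepi : Epi (S.map' m (m + 1)))
    (hP : ∀ (j : ℕ) (_ : 1 ≤ j) (hj : j ≤ m), Projective (T.obj (S.obj ⟨j, by omega⟩)))
    (hpd : HasProjectiveDimensionLT (T.obj (S.obj ⟨m + 1, by omega⟩)) (m + 1)) :
    Projective (T.obj (S.obj ⟨0, by omega⟩)) := by
  haveI : PreservesFiniteLimits T := Functor.preservesFiniteLimits_of_preservesHomology T
  haveI : PreservesFiniteColimits T := Functor.preservesFiniteColimits_of_preservesHomology T
  haveI : Mono (T.map (S.map' 0 1)) := inferInstance
  haveI : Epi (T.map (S.map' m (m + 1))) := inferInstance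
  -- the kernels
  have key : ∀ (k j : ℕ) (hjk : j + k = m) (_ : 1 ≤ j),
      HasProjectiveDimensionLT (kernel (T.map (S.map' j (j + 1)))) j := by
    intro k
    induction k with
    | zero =>
      intro j hjk hj1
      obtain rfl : j = m := by omega
      -- `0 → Z_m → T S_m → T S_{m+1} → 0`
      have hse : (ShortComplex.mk (kernel.ι (T.map (S.map' j (j + 1))))
          (T.map (S.map' j (j + 1))) (kernel.condition _)).ShortExact :=
        ShortComplex.ShortExact.mk'
          (ShortComplex.exact_of_f_is_kernel _ (kernelIsKernel _))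
          (by dsimp; infer_instance) (by dsimp; infer_instance)
      haveI := hP j hj1 le_rfl
      have h2 : HasProjectiveDimensionLT (T.obj (S.obj ⟨j, by omega⟩)) j :=
        hasProjectiveDimensionLT_of_ge _ 1 j hj1
      exact hse.hasProjectiveDimensionLT_X₁ j h2 hpd
    | succ k ih =>
      intro j hjk hj1
      have ih' := ih (j + 1) (by omega) (by omega)
      have hex : (ShortComplex.mk (T.map (S.map' j (j + 1))) (T.map (S.map' (j + 1) (j + 2)))
          (by rw [← T.map_comp, hS.toIsComplex.zero j, T.map_zero])).Exact :=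
        (hS.exact j).map T
      have hse := shortExact_kernel _ _ _ hex
      haveI := hP j hj1 (by omega)
      have h2 : HasProjectiveDimensionLT (T.obj (S.obj ⟨j, by omega⟩)) j :=
        hasProjectiveDimensionLT_of_ge _ 1 j hj1
      exact hse.hasProjectiveDimensionLT_X₁ j h2 ih'
  rcases Nat.eq_zero_or_pos m with rfl | hm
  · -- `T S₀ ≅ T S₁`
    let f01 := T.map (S.map' 0 1)
    haveI : IsIso f01 := isIso_of_mono_of_epi _
    haveI : Projective (T.obj (S.obj ⟨0 + 1, by omega⟩)) :=
      projective_iff_hasProjectiveDimensionLT_one.2 hpd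
    exact Projective.of_iso (asIso f01).symm inferInstance
  · -- `T S₀ ≅ Z₁`
    have h1 := key (m - 1) 1 (by omega) le_rfl
    haveI : Projective (kernel (T.map (S.map' 1 2))) :=
      projective_iff_hasProjectiveDimensionLT_one.2 h1
    have hex : (ShortComplex.mk (T.map (S.map' 0 1)) (T.map (S.map' 1 2))
        (by rw [← T.map_comp, hS.toIsComplex.zero 0, T.map_zero])).Exact :=
      (hS.exact 0).map T
    have hw : T.map (S.map' 0 1) ≫ T.map (S.map' 1 2) = 0 := by
      rw [← T.map_comp, hS.toIsComplex.zero 0, T.map_zero]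
    let l := kernel.lift (T.map (S.map' 1 2)) (T.map (S.map' 0 1)) hw
    haveI : Epi l :=
      (ShortComplex.exact_iff_epi_kernel_lift (ShortComplex.mk _ _ hw)).1 hex
    haveI : Mono l := mono_of_mono_fac (kernel.lift_ι _ _ hw)
    haveI : IsIso l := isIso_of_mono_of_epi _
    exact Projective.of_iso (asIso l).symm inferInstance

end Groth.Agent.Lib.helper21.Syzygy
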