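import Mathlib
import Groth.Agent.Lib.Helper21.Syzygy
import Groth.Agent.Lib.Helper25.StalkExact
import Groth.Agent.Lib.Helper26.ProjDimRegular
import Groth.Agent.Lib.Helper16.FLF3
import Groth.Agent.Lib.Helper16.CohStalk
import Groth.Agent.Lib.Helper7.CohKer
import Groth.Agent.Lib.Helper3.DimIneqSch2
import Groth.Agent.Lib.Lead.RankAdd

/-!
# Syzygies of coherent modules on regular schemes are locally free (helper21)

* `isFinLocFree_of_free_stalks`: a coherent module on a locally Noetherian scheme with free stalks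
  is finite locally free.
* `isFinLocFree_syzygy`: on a locally Noetherian regular scheme of dimension `≤ m`, in an exact
  sequence `0 → G → E_m → ⋯ → E_1 → F → 0` with `E_i` finite locally free and `F` coherent, `G` is
  finite locally free.
-/

set_option autoImplicit false
universe u

open CategoryTheory CategoryTheory.Limits AlgebraicGeometry Opposite TopologicalSpace

namespace Groth.Agent.Lib.helper21.SyzygyFLF

open Scheme.Modules Groth.Agent.Lib.helper16.CohFinite

variable {X : Scheme.{u}} [IsLocallyNoetherian X]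

/-- a coherent module with free stalks is finite locally free -/
theorem isFinLocFree_of_free_stalks (G : X.Modules) (hG : Coh.IsCoh G)
    (h : ∀ x : X, Module.Free (X.presheaf.stalk x) (G.presheaf.stalk x)) :
    FlatMod.IsFinLocFree G := by
  intro x
  haveI : G.IsQuasicoherent := hG.1
  obtain ⟨_, ⟨U, hU : IsAffineOpen U, rfl⟩, hx, -⟩ :=
    X.isBasis_affineOpens.exists_subset_of_mem_open (Set.mem_univ x) isOpen_univ
  haveI : IsNoetherianRing Γ(X, U) := IsLocallyNoetherian.component_noetherian ⟨U, hU⟩
  haveI : Module.Finite Γ(X, U) Γ(G, U) := finite_sections_of_isCoh G hG hU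
  haveI : Module.FinitePresentation Γ(X, U) Γ(G, U) := Module.finitePresentation_of_finite _ _
  obtain ⟨f, n, hxf, ⟨e⟩⟩ :=
    Groth.Agent.Lib.helper16.FLF.exists_basicOpen_free_sections G hU x hx (h x)
  exact ⟨X.basicOpen f, n, hxf,
    Groth.Agent.Lib.helper16.FLF.restrict_iso_freeMod_of_sections G (hU.basicOpen f) n e⟩

/-- **syzygies on regular schemes** -/
theorem isFinLocFree_syzygy (hreg : ∀ x : X, IsRegularLocalRing (X.presheaf.stalk x)) (m : ℕ)
    (hdim : topologicalKrullDim ↥X ≤ (m : WithBot ℕ∞))
    (S : ComposableArrows X.Modules (m + 1)) (hS : S.Exact)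
    (hmono : Mono (S.map' 0 1)) (hepi : Epi (S.map' m (m + 1)))
    (hE : ∀ (j : ℕ) (_ : 1 ≤ j) (hj : j ≤ m), FlatMod.IsFinLocFree (S.obj ⟨j, by omega⟩))
    (hF : Coh.IsCoh (S.obj ⟨m + 1, by omega⟩)) :
    FlatMod.IsFinLocFree (S.obj ⟨0, by omega⟩) := by
  classical
  -- all the terms in positive positions are coherent
  have hcoh : ∀ (j : ℕ) (_ : 1 ≤ j) (hj : j ≤ m + 1), Coh.IsCoh (S.obj ⟨j, by omega⟩) := by
    intro j hj1 hj
    by_cases hjm : j ≤ m
    · exact Groth.Agent.Lib.Lead.RankAdd.isCoh_of_isFinLocFree (hE j hj1 hjm)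
    · obtain rfl : j = m + 1 := by omega
      exact hF
  -- `G` is coherent
  have hG : Coh.IsCoh (S.obj ⟨0, by omega⟩) := by
    rcases Nat.eq_zero_or_pos m with rfl | hm
    · let f01 := S.map' 0 1
      haveI : IsIso f01 := isIso_of_mono_of_epi _
      exact Groth.Agent.Lib.helper7.CohKer.isCoh_of_iso (asIso f01).symm hF
    · have hw : S.map' 0 1 ≫ S.map' 1 2 = 0 := hS.toIsComplex.zero 0
      let l := kernel.lift (S.map' 1 2) (S.map' 0 1) hw
      haveI : Epi l :=
        (ShortComplex.exact_iff_epi_kernel_lift (ShortComplex.mk _ _ hw)).1 (hS.exact 0)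
      haveI : Mono l := mono_of_mono_fac (kernel.lift_ι _ _ hw)
      haveI : IsIso l := isIso_of_mono_of_epi _
      have hK : Coh.IsCoh (kernel (S.map' 1 2)) :=
        Groth.Agent.Lib.helper7.CohKer.isCoh_kernel (hcoh 1 le_rfl (by omega))
          (hcoh 2 (by omega) (by omega)) _
      exact Groth.Agent.Lib.helper7.CohKer.isCoh_of_iso (asIso l).symm hK
  refine isFinLocFree_of_free_stalks _ hG fun x => ?_
  haveI := hreg x
  haveI : Module.Finite (X.presheaf.stalk x) ((S.obj ⟨0, by omega⟩).presheaf.stalk x) :=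
    Groth.Agent.Lib.helper16.CohStalk.finite_stalk_of_isCoh _ hG x
  -- projectivity of the stalk by the syzygy lemma
  have hproj : Projective ((DerSch.stalkFunctor X x).obj (S.obj ⟨0, by omega⟩)) := by
    refine Groth.Agent.Lib.helper21.Syzygy.projective_map_obj_zero (DerSch.stalkFunctor X x) m S hS
      hmono hepi (fun j hj1 hj => ?_) ?_
    · obtain ⟨hfree, -⟩ := Groth.Agent.Lib.helper16.FLF.free_stalk_of_isFinLocFree _
        (hE j hj1 hj) x
      haveI : Module.Projective (X.presheaf.stalk x) ((S.obj ⟨j, by omega⟩).presheaf.stalk x) :=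
        Module.Projective.of_free
      exact (IsProjective.iff_projective _).1 inferInstance
    · let F : X.Modules := S.obj ⟨m + 1, by omega⟩
      haveI : Module.Finite (X.presheaf.stalk x) (F.presheaf.stalk x) :=
        Groth.Agent.Lib.helper16.CohStalk.finite_stalk_of_isCoh _ hF x
      have hpd := Groth.Agent.Lib.helper26.PDReg.hasProjectiveDimensionLE_of_isRegularLocalRing
        (IsLocalRing.maximalIdeal (X.presheaf.stalk x)).spanFinrank (X.presheaf.stalk x) rfl
        (F.presheaf.stalk x)
      have hd : (IsLocalRing.maximalIdeal (X.presheaf.stalk x)).spanFinrank ≤ m := by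
        have h1 := IsRegularLocalRing.spanFinrank_maximalIdeal (R := X.presheaf.stalk x)
        have h2 := (Groth.Agent.Lib.helper3.DimIneq.stalk_le_dim (X := X) x).trans hdim
        rw [← h1] at h2
        exact_mod_cast h2
      haveI : HasProjectiveDimensionLT (ModuleCat.of (X.presheaf.stalk x) (F.presheaf.stalk x))
          ((IsLocalRing.maximalIdeal (X.presheaf.stalk x)).spanFinrank + 1) := hpd
      exact hasProjectiveDimensionLT_of_ge (ModuleCat.of (X.presheaf.stalk x) (F.presheaf.stalk x))
        ((IsLocalRing.maximalIdeal (X.presheaf.stalk x)).spanFinrank + 1) (m + 1) (by omega)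
  haveI : Module.Projective (X.presheaf.stalk x) ((S.obj ⟨0, by omega⟩).presheaf.stalk x) :=
    (IsProjective.iff_projective _).2 hproj
  haveI : Module.Flat (X.presheaf.stalk x) ((S.obj ⟨0, by omega⟩).presheaf.stalk x) :=
    Module.Flat.of_projective
  exact Module.free_of_flat_of_isLocalRing

end Groth.Agent.Lib.helper21.SyzygyFLF
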