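import Mathlib
import Groth.Agent.Lib.Helper18.ZeroSchemeIdeal
import Groth.Agent.Lib.Helper11.GenLocus

/-!
# The support of the zero scheme `Z(s)` is the complement of `X_s` (helper21)
-/

set_option autoImplicit false
universe u
open CategoryTheory CategoryTheory.Limits AlgebraicGeometry TopologicalSpace Opposite
open Scheme.Modules
open Groth.Agent.Lib.Helper18.InvGen Groth.Agent.Lib.Helper18.ZeroSchemeIdeal
open Groth.Agent.Lib.helper11.IsoLocus Groth.Agent.Lib.helper11.GenLocus

namespace Groth.Agent.Lib.helper21.ZeroConn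

variable {X : Scheme.{u}}

/-- the section `s` on an open `V ≤ W`, in terms of a generator `ℓ` on `W` with `s = h • ℓ` -/
theorem sec_eq_of_isGen {L : X.Modules} (s : Coh.structureModule X ⟶ L) {W : X.Opens}
    {ℓ : Γ(L, W)} (h : Γ(X, W)) (hh : h • ℓ = sv L s W) {V : X.Opens} (hV : V ≤ W) :
    sec s V = X.presheaf.map (homOfLE hV).op h • L.presheaf.map (homOfLE hV).op ℓ := by
  have h1 : L.presheaf.map (homOfLE hV).op (sv L s W) = sv L s V := map_sv L s hV
  rw [← hh, Scheme.Modules.map_smul] at h1
  exact h1.symm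

/-- with a generator `ℓ` of `L` on `W` and `s|_W = h • ℓ`: `X_s ∩ W = D(h)` -/
theorem mem_genLocus_iff_of_isGen {L : X.Modules} (s : Coh.structureModule X ⟶ L) {W : X.Opens}
    {ℓ : Γ(L, W)} (hℓ : IsGen L W ℓ) (h : Γ(X, W)) (hh : h • ℓ = sv L s W) (x : X) (hxW : x ∈ W) :
    x ∈ CohB1.genLocus L s ↔ x ∈ X.basicOpen h := by
  constructor
  · intro hx
    let V : X.Opens := CohB1.genLocus L s ⊓ W
    have hV : V ≤ W := inf_le_right
    have hiso : IsIso (s.app V) :=
      isIso_app_of_le_isoLocus s (inf_le_left : V ≤ CohB1.genLocus L s)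
    rw [ConcreteCategory.isIso_iff_bijective] at hiso
    obtain ⟨a, ha⟩ := hiso.2 (L.presheaf.map (homOfLE hV).op ℓ)
    have ha' : (show Γ(X, V) from a) • sec s V = L.presheaf.map (homOfLE hV).op ℓ :=
      (app_apply s V a).symm.trans ha
    rw [sec_eq_of_isGen s h hh hV, ← mul_smul] at ha'
    have h1 : (show Γ(X, V) from a) * X.presheaf.map (homOfLE hV).op h = 1 := by
      apply hℓ.smul_injective hV
      rw [ha', one_smul]
    have hu : IsUnit (X.presheaf.map (homOfLE hV).op h) := IsUnit.of_mul_eq_one_right _ h1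
    have h2 := X.basicOpen_of_isUnit hu
    rw [Scheme.basicOpen_res] at h2
    have hxV : x ∈ V := ⟨hx, hxW⟩
    rw [← h2] at hxV
    exact hxV.2
  · intro hx
    suffices hD : X.basicOpen h ≤ CohB1.genLocus L s from hD hx
    rw [le_genLocus_iff, isIso_restrict_iff_app]
    intro D hD
    have hDW : D ≤ W := hD.trans (X.basicOpen_le h)
    have hu0 : IsUnit (X.presheaf.map (homOfLE hD).op
        (X.presheaf.map (homOfLE (X.basicOpen_le h)).op h)) :=
      (RingedSpace.isUnit_res_basicOpen X.toRingedSpace h).map _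
    rw [map_map' (X.basicOpen_le h) hD h] at hu0
    obtain ⟨u, hu⟩ := hu0
    have key : ∀ a : Γ(X, D), (s.app D).hom (a : Γ(Coh.structureModule X, D)) =
        (a * (↑u : Γ(X, D))) • L.presheaf.map (homOfLE hDW).op ℓ := by
      intro a
      rw [app_apply, sec_eq_of_isGen s h hh hDW, ← mul_smul, hu]
    rw [ConcreteCategory.isIso_iff_bijective]
    constructor
    · intro a b hab
      have h3 : ((show Γ(X, D) from a) * (↑u : Γ(X, D))) • L.presheaf.map (homOfLE hDW).op ℓ =
          ((show Γ(X, D) from b) * (↑u : Γ(X, D))) • L.presheaf.map (homOfLE hDW).op ℓ :=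
        (key a).symm.trans (hab.trans (key b))
      have h4 := hℓ.smul_injective hDW _ _ h3
      exact (Units.mul_left_inj u).mp h4
    · intro m
      obtain ⟨g, hg⟩ := hℓ.exists_smul_eq hDW m
      refine ⟨((g * (↑u⁻¹ : Γ(X, D)) : Γ(X, D)) : Γ(Coh.structureModule X, D)), ?_⟩
      refine (key _).trans ?_
      rw [mul_assoc, Units.inv_mul, mul_one]
      exact hg

/-- **the support of the zero scheme of a section of an invertible module is the complement of
`X_s`** -/
theorem mem_support_zeroScheme_iff {L : X.Modules} (hL : PicF.IsInvertible L)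
    (s : Coh.structureModule X ⟶ L) (x : X) :
    x ∈ (PicF2.zeroScheme L s).support ↔ x ∉ CohB1.genLocus L s := by
  obtain ⟨W, ℓ, hW, hxW, -, hℓ⟩ := exists_isGen hL x ⊤ trivial
  have hFLF : FlatMod.IsFinLocFree L :=
    Groth.Agent.Lib.helper16.FLF.isFinLocFree_of_isFinLocFreeOfRank
      ((Groth.Agent.Lib.helper16.FLF.isInvertible_iff_isFinLocFreeOfRank_one L).1 hL)
  have hres : L.presheaf.map (homOfLE (le_refl W)).op ℓ = ℓ := by
    have : (homOfLE (le_refl W)).op = 𝟙 (op W) := rfl
    rw [this, L.presheaf.map_id]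
    rfl
  obtain ⟨h, hh⟩ := hℓ.exists_smul_eq le_rfl (sv L s W)
  rw [hres] at hh
  have hI : (PicF2.zeroScheme L s).ideal ⟨W, hW⟩ = Ideal.span {h} :=
    (zeroScheme_ideal L hFLF s ⟨W, hW⟩).trans (zeroIdealOn_eq_span s hℓ h hh)
  rw [Scheme.IdealSheafData.mem_support_iff_of_mem (U := ⟨W, hW⟩) hxW, hI,
    Scheme.zeroLocus_span, Scheme.zeroLocus_singleton,
    mem_genLocus_iff_of_isGen s hℓ h hh x hxW]
  rfl

/-- the underlying space of a closed subscheme is connected when its support is -/
theorem connectedSpace_subscheme (I : X.IdealSheafData)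
    (h : _root_.IsConnected (I.support : Set X)) : ConnectedSpace ↥I.subscheme := by
  have hind : Topology.IsInducing I.subschemeι :=
    I.subschemeι.isClosedEmbedding.isEmbedding.isInducing
  have hrange : Set.range I.subschemeι = (I.support : Set X) :=
    Scheme.IdealSheafData.range_subschemeι I
  have hpre : _root_.IsPreconnected (Set.univ : Set ↥I.subscheme) := by
    rw [← hind.isPreconnected_image, Set.image_univ, hrange]
    exact h.isPreconnected
  obtain ⟨y, hy⟩ := h.nonempty
  rw [← hrange] at hy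
  obtain ⟨z, -⟩ := hy
  exact { isPreconnected_univ := hpre, toNonempty := ⟨z⟩ }

end Groth.Agent.Lib.helper21.ZeroConn
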