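import Mathlib
import Groth.Agent.Lib.Helper26.Depth7
import Groth.Agent.Lib.Helper26.Reflexive

/-!
# Reflexive modules over regular local rings of dimension `≤ 2` are free (helper21)
-/

set_option autoImplicit false
universe u

open CategoryTheory LocCoh IsLocalRing

namespace Groth.Agent.Lib.helper21.ReflexiveFree

open Groth.Agent.Lib.helper26.Depth

/-- A finite reflexive module over a regular local ring of dimension `≤ 2` is free. -/
theorem free_of_isReflexive_of_dim_le_two (A : Type u) [CommRing A] [IsRegularLocalRing A]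
    (hdim : ringKrullDim A ≤ 2) (M : Type u) [AddCommGroup M] [Module A M] [Module.Finite A M]
    [Module.IsReflexive A M] : Module.Free A M := by
  by_cases hsub : Subsingleton M
  · exact Module.Free.of_subsingleton A M
  rw [not_subsingleton_iff_nontrivial] at hsub
  apply free_of_depth_eq_ringKrullDim A M
  have h1 : ((depth A M : ℕ∞) : WithBot ℕ∞) ≤ ringKrullDim A :=
    (depth_le_supportDim (A := A) M).trans (Module.supportDim_le_ringKrullDim A M)
  apply le_antisymm h1
  have hA := depth_eq_ringKrullDim_of_isRegularLocalRing A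
  rw [← hA]
  rw [← hA] at hdim
  have hd2 : depth A A ≤ 2 := by
    have h2 : ((depth A A : ℕ∞) : WithBot ℕ∞) ≤ ((2 : ℕ∞) : WithBot ℕ∞) := hdim
    exact WithBot.coe_le_coe.mp h2
  rw [WithBot.coe_le_coe]
  obtain ⟨h1', h2', -, -⟩ := reflexive_depth_Sk (A := A) (maximalIdeal A) M
  change idealDepth (maximalIdeal A) A ≤ idealDepth (maximalIdeal A) M
  change idealDepth (maximalIdeal A) A ≤ 2 at hd2
  generalize hd : idealDepth (maximalIdeal A) A = d at *
  have hdtop : d ≠ ⊤ := by
    rintro rfl
    simp at hd2
  obtain ⟨n, rfl⟩ := ENat.ne_top_iff_exists.mp hdtop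
  have hn : n ≤ 2 := by exact_mod_cast hd2
  interval_cases n
  · simp
  · exact h1' le_rfl
  · exact h2' le_rfl

end Groth.Agent.Lib.helper21.ReflexiveFree
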