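import Mathlib
import Groth.Agent.Lib.Helper21.FLFDual3
import Groth.Agent.Lib.Helper11.Bidual1
import Groth.Agent.Lib.Helper17.FlatOver7
import Groth.Agent.Lib.Helper8.StalkIso

/-!
# Tools for `Hom(G, f^*M~ ⊗ F)` (helper21)

* `assocMod_naturality`.
* `tensDualAdj_homEquiv_dinat`: dinaturality in `E` of the adjunctions `- ⊗ E ⊣ - ⊗ E^∨`.
* `isFlatOver_tensorMod_of_isFinLocFree`: `F ⊗ E` is flat over the base if `F` is and `E` is finite locally free.
-/

set_option autoImplicit false
universe u

open CategoryTheory CategoryTheory.Limits Opposite AlgebraicGeometry TopologicalSpace MonoidalCategory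

namespace Groth.Agent.Lib.helper21.CorepHom

open Groth.Agent.Lib.Helper21.TensorW Groth.Agent.Lib.Helper21.TensorAdj
  Groth.Agent.Lib.Helper21.TensorMon
open Groth.Agent.Lib.helper12.InvDual Groth.Agent.Lib.helper12.TensorPowAdd
  Groth.Agent.Lib.helper12.PullTensor Groth.Agent.Lib.helper12.TensorAssoc
  Groth.Agent.Lib.helper12.TensorRestrict Groth.Agent.Lib.helper12.TensorSec
open Groth.Agent.Lib.Lead.ModTensor (tensorMap tensorMap_id tensorMap_comp)
open Groth.Agent.Lib.helper21.FLFDual
open Groth.Agent.Lib.helper11.IsoLocus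
open Scheme.Modules

section abstract

variable {𝒜 : Type*} [Category 𝒜]

lemma comp_inv_eq_of_sq {A A' B B' : 𝒜} (c : A ⟶ B) (c' : A' ⟶ B') (d : A ⟶ A') (h : B ⟶ B')
    (hc : IsIso c) (hc' : IsIso c') (w : c ≫ h = d ≫ c') : h ≫ inv c' = inv c ≫ d := by
  rw [IsIso.comp_inv_eq, Category.assoc, ← w, IsIso.inv_hom_id_assoc]

end abstract

variable {X : Scheme.{u}}

theorem assocMod_naturality {A A' B B' C C' : X.Modules} (a : A ⟶ A') (b : B ⟶ B') (c : C ⟶ C') :
    tensorMap (tensorMap a b) c ≫ (assocMod A' B' C').hom =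
      (assocMod A B C).hom ≫ tensorMap a (tensorMap b c) := by
  apply tensorMod₃_hom_ext
  intro U x y z
  change ((assocMod A' B' C').hom.val.app (op U)).hom
      (((tensorMap (tensorMap a b) c).val.app (op U)).hom _) =
    ((tensorMap a (tensorMap b c)).val.app (op U)).hom
      (((assocMod A B C).hom.val.app (op U)).hom _)
  rw [tensorMap_tmul, tensorMap_tmul, assocMod_hom_tmul, assocMod_hom_tmul, tensorMap_tmul,
    tensorMap_tmul]

section general

variable {C : Type u} [SmallCategory C] {J : GrothendieckTopology C} {O : Sheaf J CommRingCat.{u}}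

/-- dinaturality of `homEquiv` for adjunctions `- ⊗ E ⊣ D_E` obtained from `- ⊗ E ⊣ ℋom(E, -)` through isomorphisms
`c_E : D_E ≅ ℋom(E, -)` compatible with `a : E' ⟶ E` -/
lemma homEquiv_dinat_of_sq {E E' : ModSite.Mod O} [ModSite.HasSheafHom E] [ModSite.HasSheafHom E']
    (a : E' ⟶ E) {DE DE' : ModSite.Mod O ⥤ ModSite.Mod O} (c : DE ≅ ModSite.sheafHom E)
    (c' : DE' ≅ ModSite.sheafHom E') {T H : ModSite.Mod O} (d : DE.obj H ⟶ DE'.obj H)
    (w : c.hom.app H ≫ (ExtSupp.sheafHomMap a).app H = d ≫ c'.hom.app H)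
    (σ : (tens O E).obj T ⟶ H) :
    ((ModSite.sheafHomAdj E').ofNatIsoRight c'.symm).homEquiv T H
        (((ModSite.tensorBi O).flip.map a).app T ≫ σ) =
      ((ModSite.sheafHomAdj E).ofNatIsoRight c.symm).homEquiv T H σ ≫ d := by
  rw [Adjunction.homEquiv_ofNatIsoRight_apply, Adjunction.homEquiv_ofNatIsoRight_apply,
    ← Groth.Agent.Lib.helper21.SheafHomExact.homEquiv_comp_sheafHomMap, Category.assoc,
    Category.assoc]
  congr 1
  have h1 : (c'.symm.hom.app H) = inv (c'.hom.app H) := by
    rw [Iso.symm_hom]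
    exact (IsIso.inv_eq_of_hom_inv_id (c'.hom_inv_id_app H)).symm
  have h2 : (c.symm.hom.app H) = inv (c.hom.app H) := by
    rw [Iso.symm_hom]
    exact (IsIso.inv_eq_of_hom_inv_id (c.hom_inv_id_app H)).symm
  rw [h1, h2]
  exact comp_inv_eq_of_sq _ _ _ _ inferInstance inferInstance w

end general

/-- dinaturality in `E` of the adjunctions `- ⊗ E ⊣ - ⊗ E^∨` -/
theorem tensDualAdj_homEquiv_dinat {E E' : X.Modules} (hE : FlatMod.IsFinLocFree E)
    (hE' : FlatMod.IsFinLocFree E') (a : E' ⟶ E) (T H : X.Modules)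
    (σ : CohB1.tensorMod T E ⟶ H) :
    (tensDualAdj hE').homEquiv T H (tensorMap (𝟙 T) a ≫ σ) =
      (tensDualAdj hE).homEquiv T H σ ≫ dMap H a :=
  homEquiv_dinat_of_sq (O := X.sheaf) a (tensDualIso hE) (tensDualIso hE') (T := T) (H := H)
    (dMap H a) (cMap_hMap a H) σ

section flat

open Groth.Agent.Lib.helper17.FlatOver7 Groth.Agent.Lib.helper8.Dev

variable {S : Scheme.{u}} (f : X ⟶ S)

attribute [local instance] Abelian.hasFiniteBiproducts

/-- flatness over the base at a point is invariant under morphisms bijective on the stalk -/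
theorem isFlatOverAt_iff_of_bijective {M N : X.Modules} (φ : M ⟶ N) (x : X)
    (hb : Function.Bijective (stalkAdd φ x)) :
    FlatMod.IsFlatOverAt f M x ↔ FlatMod.IsFlatOverAt f N x := by
  letI := FlatMod.moduleStalkOver f M x
  letI := FlatMod.moduleStalkOver f N x
  let l : M.presheaf.stalk x →ₗ[S.presheaf.stalk (f.base x)] N.presheaf.stalk x :=
    { toFun := stalkAdd φ x
      map_add' := fun m m' => map_add _ m m'
      map_smul' := fun r m => stalkAdd_smul φ x ((f.stalkMap x).hom r) m }
  exact Module.Flat.equiv_iff (LinearEquiv.ofBijective l hb)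

theorem bijective_stalkAdd_of_le_isoLocus {M N : X.Modules} (φ : M ⟶ N) {V : X.Opens}
    (hV : V ≤ isoLocus φ) {x : X} (hx : x ∈ V) : Function.Bijective (stalkAdd φ x) := by
  have h : IsIso (stalkMap φ x) := isIso_stalkMap_of_le φ hV hx
  exact ConcreteCategory.bijective_of_isIso (stalkMap φ x)

/-- flatness over the base of a finite biproduct of copies of a module -/
theorem isFlatOverAt_biproduct (F : X.Modules) (n : ℕ) (x : X) (h : FlatMod.IsFlatOverAt f F x) :
    FlatMod.IsFlatOverAt f (⨁ fun _ : Fin n => F) x := by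
  unfold FlatMod.IsFlatOverAt at h ⊢
  letI := FlatMod.moduleStalkOver f F x
  letI := FlatMod.moduleStalkOver f (⨁ fun _ : Fin n => F) x
  let g : Fin n → X.Modules := fun _ => F
  let e : (⨁ g).presheaf.stalk x ≃ₗ[S.presheaf.stalk (f.base x)] (Fin n → F.presheaf.stalk x) :=
    { toFun := fun m i => stalkAdd (biproduct.π g i) x m
      map_add' := fun m m' => by
        funext i
        exact map_add _ _ _
      map_smul' := fun r m => by
        funext i
        exact stalkAdd_smul (biproduct.π g i) x ((f.stalkMap x).hom r) m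
      invFun := fun t => ∑ i, stalkAdd (biproduct.ι g i) x (t i)
      left_inv := fun m => by
        have h1 : ∀ i, stalkAdd (biproduct.ι g i) x (stalkAdd (biproduct.π g i) x m) =
            stalkAdd (biproduct.π g i ≫ biproduct.ι g i) x m := fun i =>
          (stalkAdd_comp _ _ x m).symm
        change ∑ i, stalkAdd (biproduct.ι g i) x (stalkAdd (biproduct.π g i) x m) = m
        rw [Finset.sum_congr rfl (fun i _ => h1 i), ← stalkAdd_sum, biproduct.total, stalkAdd_id]
      right_inv := fun t => by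
        funext j
        change stalkAdd (biproduct.π g j) x (∑ i, stalkAdd (biproduct.ι g i) x (t i)) = t j
        rw [map_sum]
        have h1 : ∀ i, stalkAdd (biproduct.π g j) x (stalkAdd (biproduct.ι g i) x (t i)) =
            stalkAdd (biproduct.ι g i ≫ biproduct.π g j) x (t i) := fun i =>
          (stalkAdd_comp _ _ x (t i)).symm
        rw [Finset.sum_congr rfl (fun i _ => h1 i), Finset.sum_eq_single j]
        · rw [biproduct.ι_π_self]
          exact stalkAdd_id F x (t j)
        · intro i _ hij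
          rw [biproduct.ι_π_ne _ hij]
          exact stalkAdd_zero _ _ x (t i)
        · intro hj
          exact absurd (Finset.mem_univ j) hj }
  haveI : Module.Flat (S.presheaf.stalk (f.base x)) (Fin n → F.presheaf.stalk x) :=
    Module.Flat.of_linearEquiv
      (DirectSum.linearEquivFunOnFintype (S.presheaf.stalk (f.base x)) (Fin n)
        (fun _ => F.presheaf.stalk x)).symm
  exact Module.Flat.of_linearEquiv e

/-- `F ⊗ O^n ≅ F^n` -/
noncomputable def tensorFreeModIso (F : X.Modules) (n : ℕ) :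
    CohB1.tensorMod F (FlatMod.freeMod X n) ≅ ⨁ fun _ : Fin n => F :=
  PreservesCoproduct.iso (tensL X.sheaf F) (fun _ : Fin n => Coh.structureModule X) ≪≫
    Sigma.mapIso (fun _ : Fin n => SecTwist.unitorR F) ≪≫
    (biproduct.isoCoproduct (fun _ : Fin n => F)).symm

/-- **`F ⊗ E` is flat over the base if `F` is and `E` is finite locally free** -/
theorem isFlatOver_tensorMod_of_isFinLocFree (F E : X.Modules) (hfl : FlatMod.IsFlatOver f F)
    (hE : FlatMod.IsFinLocFree E) : FlatMod.IsFlatOver f (CohB1.tensorMod F E) := by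
  intro x
  obtain ⟨V, n, Et, a, b, hxV, ha, hb⟩ := Groth.Agent.Lib.helper11.Bidual.exists_zigzag hE x
  have ha' : V ≤ isoLocus (tensorMap (𝟙 F) a) := by
    refine le_trans ?_ (isoLocus_inf_le_tensorMap (𝟙 F) a)
    rw [isoLocus_id, top_inf_eq]
    exact ha
  have hb' : V ≤ isoLocus (tensorMap (𝟙 F) b) := by
    refine le_trans ?_ (isoLocus_inf_le_tensorMap (𝟙 F) b)
    rw [isoLocus_id, top_inf_eq]
    exact hb
  rw [isFlatOverAt_iff_of_bijective f (tensorMap (𝟙 F) a) x
      (bijective_stalkAdd_of_le_isoLocus _ ha' hxV),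
    ← isFlatOverAt_iff_of_bijective f (tensorMap (𝟙 F) b) x
      (bijective_stalkAdd_of_le_isoLocus _ hb' hxV),
    isFlatOverAt_iff_of_iso f (tensorFreeModIso F n) x]
  exact isFlatOverAt_biproduct f F n x (hfl x)

end flat

end Groth.Agent.Lib.helper21.CorepHom
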