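import Groth.Agent.Lib.Helper12.FiniteAvoid
import Groth.Prelude.Def_SymProd

/-!
# (AF) ⇒ orbits in fibre powers lie in affine opens (helper21)

* `boxOpen f d S₀ U`: the open `base⁻¹ S₀ ⊓ ⋂ᵢ πᵢ⁻¹ U` of the `d`-fold fibre power.
* `isAffineOpen_boxOpen`: it is affine when `S₀`, `U` are affine and `U ≤ f⁻¹ S₀`.
* `exists_affine_orbit`: under (AF), every orbit of the symmetric group lies in an affine open.
-/

set_option autoImplicit false
universe u
open CategoryTheory CategoryTheory.Limits AlgebraicGeometry TopologicalSpace Opposite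

namespace Groth.Agent.Lib.helper21.AFOrbit

variable {X S : Scheme.{u}} (f : X ⟶ S) (d : ℕ)

/-- the open `base⁻¹ S₀ ⊓ ⋂ᵢ πᵢ⁻¹ U` of the fibre power -/
noncomputable def boxOpen (S₀ : S.Opens) (U : X.Opens) : (SymProd.fibPow f d).Opens :=
  (WidePullback.base (fun _ : Fin d => f)) ⁻¹ᵁ S₀ ⊓
    ⨅ i : Fin d, (WidePullback.π (fun _ : Fin d => f) i) ⁻¹ᵁ U

theorem mem_boxOpen {S₀ : S.Opens} {U : X.Opens} {p : ↥(SymProd.fibPow f d)} :
    p ∈ boxOpen f d S₀ U ↔ (WidePullback.base (fun _ : Fin d => f)) p ∈ S₀ ∧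
      ∀ i : Fin d, (WidePullback.π (fun _ : Fin d => f) i) p ∈ U := by
  change p ∈ ((boxOpen f d S₀ U : (SymProd.fibPow f d).Opens) : Set _) ↔ _
  rw [boxOpen, Opens.coe_inf, Opens.coe_iInf]
  simp only [Set.mem_inter_iff, Set.mem_iInter]
  rfl

theorem boxOpen_le_base (S₀ : S.Opens) (U : X.Opens) :
    boxOpen f d S₀ U ≤ (WidePullback.base (fun _ : Fin d => f)) ⁻¹ᵁ S₀ :=
  fun _ hp => ((mem_boxOpen f d).mp hp).1

theorem boxOpen_le_π (S₀ : S.Opens) (U : X.Opens) (i : Fin d) :
    boxOpen f d S₀ U ≤ (WidePullback.π (fun _ : Fin d => f) i) ⁻¹ᵁ U :=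
  fun _ hp => ((mem_boxOpen f d).mp hp).2 i

section Cone

variable (S₀ : S.Opens) (U : X.Opens) (hUS : U ≤ f ⁻¹ᵁ S₀)

/-- the wide cospan of `d` copies of `U → S₀` -/
noncomputable abbrev boxDiagram : WidePullbackShape (Fin d) ⥤ Scheme.{u} :=
  WidePullbackShape.wideCospan (S₀ : Scheme.{u}) (fun _ : Fin d => (U : Scheme.{u}))
    (fun _ => f.resLE S₀ U hUS)

/-- the cone over `boxDiagram` with point `boxOpen` -/
noncomputable def boxCone : Cone (boxDiagram f d S₀ U hUS) :=
  WidePullbackShape.mkCone (F := boxDiagram f d S₀ U hUS)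
    ((WidePullback.base (fun _ : Fin d => f)).resLE S₀ (boxOpen f d S₀ U) (boxOpen_le_base f d S₀ U))
    (fun i => (WidePullback.π (fun _ : Fin d => f) i).resLE U (boxOpen f d S₀ U)
      (boxOpen_le_π f d S₀ U i))
    (fun i => by
      change (WidePullback.π (fun _ : Fin d => f) i).resLE U (boxOpen f d S₀ U) _ ≫
        f.resLE S₀ U hUS = _
      rw [Scheme.Hom.resLE_comp_resLE]
      congr 1
      exact WidePullback.π_arrow _ i)

/-- the leg of a test cone to `S₀` -/
noncomputable def legS (s : Cone (boxDiagram f d S₀ U hUS)) : s.pt ⟶ (S₀ : Scheme.{u}) :=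
  s.π.app none

/-- the legs of a test cone to `U` -/
noncomputable def legU (s : Cone (boxDiagram f d S₀ U hUS)) (i : Fin d) :
    s.pt ⟶ (U : Scheme.{u}) :=
  s.π.app (some i)

theorem legU_comp (s : Cone (boxDiagram f d S₀ U hUS)) (i : Fin d) :
    legU f d S₀ U hUS s i ≫ f.resLE S₀ U hUS = legS f d S₀ U hUS s :=
  s.w (WidePullbackShape.Hom.term i)

/-- the map from a test cone to the fibre power -/
noncomputable def coneToPow (s : Cone (boxDiagram f d S₀ U hUS)) : s.pt ⟶ SymProd.fibPow f d :=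
  WidePullback.lift (f := legS f d S₀ U hUS s ≫ S₀.ι) (fun i => legU f d S₀ U hUS s i ≫ U.ι)
    (fun i => by
      rw [Category.assoc, ← Scheme.Hom.resLE_comp_ι f hUS, ← Category.assoc, legU_comp])

theorem coneToPow_π (s : Cone (boxDiagram f d S₀ U hUS)) (i : Fin d) :
    coneToPow f d S₀ U hUS s ≫ WidePullback.π (fun _ : Fin d => f) i =
      legU f d S₀ U hUS s i ≫ U.ι :=
  WidePullback.lift_π _ _ _ _ i

theorem coneToPow_base (s : Cone (boxDiagram f d S₀ U hUS)) :
    coneToPow f d S₀ U hUS s ≫ WidePullback.base (fun _ : Fin d => f) =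
      legS f d S₀ U hUS s ≫ S₀.ι :=
  WidePullback.lift_base _ _ _ _

theorem range_coneToPow (s : Cone (boxDiagram f d S₀ U hUS)) :
    Set.range (coneToPow f d S₀ U hUS s) ⊆ Set.range (boxOpen f d S₀ U).ι := by
  rw [Scheme.Opens.range_ι]
  rintro _ ⟨t, rfl⟩
  refine (mem_boxOpen f d).mpr ⟨?_, fun i => ?_⟩
  · have := congr($(coneToPow_base f d S₀ U hUS s) t)
    rw [Scheme.Hom.comp_apply] at this
    rw [this, Scheme.Hom.comp_apply]
    exact (legS f d S₀ U hUS s t).2
  · have := congr($(coneToPow_π f d S₀ U hUS s i) t)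
    rw [Scheme.Hom.comp_apply] at this
    rw [this, Scheme.Hom.comp_apply]
    exact (legU f d S₀ U hUS s i t).2

/-- the lift of a test cone into `boxOpen` -/
noncomputable def coneLift (s : Cone (boxDiagram f d S₀ U hUS)) :
    s.pt ⟶ (boxOpen f d S₀ U : Scheme.{u}) :=
  IsOpenImmersion.lift (boxOpen f d S₀ U).ι (coneToPow f d S₀ U hUS s)
    (range_coneToPow f d S₀ U hUS s)

theorem coneLift_ι (s : Cone (boxDiagram f d S₀ U hUS)) :
    coneLift f d S₀ U hUS s ≫ (boxOpen f d S₀ U).ι = coneToPow f d S₀ U hUS s :=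
  IsOpenImmersion.lift_fac _ _ _

theorem coneLift_legS (s : Cone (boxDiagram f d S₀ U hUS)) :
    coneLift f d S₀ U hUS s ≫ (WidePullback.base (fun _ : Fin d => f)).resLE S₀
      (boxOpen f d S₀ U) (boxOpen_le_base f d S₀ U) = legS f d S₀ U hUS s := by
  rw [← cancel_mono S₀.ι, Category.assoc, Scheme.Hom.resLE_comp_ι, ← Category.assoc, coneLift_ι,
    coneToPow_base]

theorem coneLift_legU (s : Cone (boxDiagram f d S₀ U hUS)) (i : Fin d) :
    coneLift f d S₀ U hUS s ≫ (WidePullback.π (fun _ : Fin d => f) i).resLE U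
      (boxOpen f d S₀ U) (boxOpen_le_π f d S₀ U i) = legU f d S₀ U hUS s i := by
  rw [← cancel_mono U.ι, Category.assoc, Scheme.Hom.resLE_comp_ι, ← Category.assoc, coneLift_ι,
    coneToPow_π]

theorem coneLift_uniq (s : Cone (boxDiagram f d S₀ U hUS))
    (m : s.pt ⟶ (boxOpen f d S₀ U : Scheme.{u}))
    (h0 : m ≫ (WidePullback.base (fun _ : Fin d => f)).resLE S₀
        (boxOpen f d S₀ U) (boxOpen_le_base f d S₀ U) = legS f d S₀ U hUS s)
    (h1 : ∀ i, m ≫ (WidePullback.π (fun _ : Fin d => f) i).resLE U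
        (boxOpen f d S₀ U) (boxOpen_le_π f d S₀ U i) = legU f d S₀ U hUS s i) :
    m = coneLift f d S₀ U hUS s := by
  rw [← cancel_mono (boxOpen f d S₀ U).ι, coneLift_ι]
  apply WidePullback.hom_ext
  · intro i
    rw [coneToPow_π, ← h1 i, Category.assoc, Category.assoc, Scheme.Hom.resLE_comp_ι]
  · rw [coneToPow_base, ← h0, Category.assoc, Category.assoc, Scheme.Hom.resLE_comp_ι]

/-- `boxOpen` is the wide pullback of `d` copies of `U → S₀` -/
noncomputable def boxConeIsLimit : IsLimit (boxCone f d S₀ U hUS) where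
  lift s := coneLift f d S₀ U hUS s
  fac s j := by
    cases j with
    | none => exact coneLift_legS f d S₀ U hUS s
    | some i => exact coneLift_legU f d S₀ U hUS s i
  uniq s m hm := coneLift_uniq f d S₀ U hUS s m (hm none) (fun i => hm (some i))

include hUS in
theorem isAffineOpen_boxOpen (hS₀ : IsAffineOpen S₀) (hU : IsAffineOpen U) :
    IsAffineOpen (boxOpen f d S₀ U) := by
  haveI : ∀ j, IsAffine ((boxDiagram f d S₀ U hUS).obj j) := by
    intro j
    cases j with
    | none => exact hS₀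
    | some i => exact hU
  exact Scheme.isAffine_of_isLimit (boxCone f d S₀ U hUS) (boxConeIsLimit f d S₀ U hUS)

end Cone

open Groth.Agent.Lib.Helper12 in
/-- **Under (AF), every orbit of the symmetric group in a fibre power lies in an affine open.** -/
theorem exists_affine_orbit (hAF : SymProd.IsAF f) (x : ↥(SymProd.fibPow f d)) :
    ∃ W : (SymProd.fibPow f d).Opens, IsAffineOpen W ∧
      ∀ σ : Equiv.Perm (Fin d), (SymProd.permHom f d σ).base x ∈ W := by
  classical
  let s : S := (WidePullback.base (fun _ : Fin d => f)) x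
  let pt : Fin d → X := fun i => (WidePullback.π (fun _ : Fin d => f) i) x
  have hpt : ∀ i, f (pt i) = s := by
    intro i
    have := congr($(WidePullback.π_arrow (fun _ : Fin d => f) i) x)
    rwa [Scheme.Hom.comp_apply] at this
  let T : Finset X := Finset.univ.image pt
  obtain ⟨U₁, hU₁, hTU₁⟩ := hAF s T (fun y hy => by
    obtain ⟨i, -, rfl⟩ := Finset.mem_image.mp hy
    exact hpt i)
  obtain ⟨S₀, hS₀, hsS₀, -⟩ :=
    exists_isAffineOpen_mem_and_subset (x := s) (U := ⊤) trivial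
  obtain ⟨g, hg1, hg2⟩ := FiniteAvoid.exists_basicOpen_of_finite hU₁ (↑T : Set X)
    T.finite_toSet (((f ⁻¹ᵁ S₀ : X.Opens) : Set X)ᶜ) (f ⁻¹ᵁ S₀).isOpen.isClosed_compl
    (fun e he hec => by
      obtain ⟨i, -, rfl⟩ := Finset.mem_image.mp (Finset.mem_coe.mp he)
      apply hec
      change f (pt i) ∈ S₀
      rw [hpt i]
      exact hsS₀)
  have hUS : X.basicOpen g ≤ f ⁻¹ᵁ S₀ := by
    intro y hy
    by_contra hcon
    exact hg2 y hy hcon
  refine ⟨boxOpen f d S₀ (X.basicOpen g),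
    isAffineOpen_boxOpen f d S₀ (X.basicOpen g) hUS hS₀ (hU₁.basicOpen g), fun σ => ?_⟩
  refine (mem_boxOpen f d).mpr ⟨?_, fun i => ?_⟩
  · have := congr($(SymProd.permHom_base f d σ) x)
    rw [Scheme.Hom.comp_apply] at this
    rw [this]
    exact hsS₀
  · have := congr($(SymProd.permHom_π f d σ i) x)
    rw [Scheme.Hom.comp_apply] at this
    rw [this]
    have hmem : pt (σ.symm i) ∈ T := Finset.mem_image.mpr ⟨σ.symm i, Finset.mem_univ _, rfl⟩
    exact hg1 _ (Finset.mem_coe.mpr hmem) (hTU₁ _ hmem)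

end Groth.Agent.Lib.helper21.AFOrbit
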