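import Groth.Agent.Lib.Helper21.AFOrbit
import Groth.Agent.Lib.Helper2.QuotEx3

/-!
# Affine charts `Sym^d(U/V)` of a symmetric product (helper21)
-/

set_option autoImplicit false
universe u
open CategoryTheory CategoryTheory.Limits AlgebraicGeometry TopologicalSpace Opposite

namespace Groth.Agent.Lib.helper21.AFOrbit

variable {X S : Scheme.{u}} (f : X ⟶ S) (d : ℕ)

open Groth.Agent.Lib.Helper12 in
/-- under (AF), the coordinates of a point of the fibre power lie in an affine open of `X`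
mapping into a given affine open neighbourhood of its image in `S` -/
theorem exists_affine_coords (hAF : SymProd.IsAF f) (x : ↥(SymProd.fibPow f d))
    (S₀ : S.Opens) (hxS₀ : (WidePullback.base (fun _ : Fin d => f)) x ∈ S₀) :
    ∃ U : X.Opens, IsAffineOpen U ∧ U ≤ f ⁻¹ᵁ S₀ ∧
      ∀ i : Fin d, (WidePullback.π (fun _ : Fin d => f) i) x ∈ U := by
  classical
  let s : S := (WidePullback.base (fun _ : Fin d => f)) x
  let pt : Fin d → X := fun i => (WidePullback.π (fun _ : Fin d => f) i) x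
  have hpt : ∀ i, f (pt i) = s := by
    intro i
    have := congr($(WidePullback.π_arrow (fun _ : Fin d => f) i) x)
    rwa [Scheme.Hom.comp_apply] at this
  let T : Finset X := Finset.univ.image pt
  obtain ⟨U₁, hU₁, hTU₁⟩ := hAF s T (fun y hy => by
    obtain ⟨i, -, rfl⟩ := Finset.mem_image.mp hy
    exact hpt i)
  obtain ⟨g, hg1, hg2⟩ := FiniteAvoid.exists_basicOpen_of_finite hU₁ (↑T : Set X)
    T.finite_toSet (((f ⁻¹ᵁ S₀ : X.Opens) : Set X)ᶜ) (f ⁻¹ᵁ S₀).isOpen.isClosed_compl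
    (fun e he hec => by
      obtain ⟨i, -, rfl⟩ := Finset.mem_image.mp (Finset.mem_coe.mp he)
      apply hec
      change f (pt i) ∈ S₀
      rw [hpt i]
      exact hxS₀)
  refine ⟨X.basicOpen g, hU₁.basicOpen g, ?_, fun i => ?_⟩
  · intro y hy
    by_contra hcon
    exact hg2 y hy hcon
  · have hmem : pt i ∈ T := Finset.mem_image.mpr ⟨i, Finset.mem_univ _, rfl⟩
    exact hg1 _ (Finset.mem_coe.mpr hmem) (hTU₁ _ hmem)

theorem permHom_preimage_boxOpen (S₀ : S.Opens) (U : X.Opens) (σ : Equiv.Perm (Fin d)) :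
    (SymProd.permHom f d σ) ⁻¹ᵁ (boxOpen f d S₀ U) = boxOpen f d S₀ U := by
  ext p
  change (SymProd.permHom f d σ) p ∈ boxOpen f d S₀ U ↔ p ∈ boxOpen f d S₀ U
  rw [mem_boxOpen, mem_boxOpen]
  have hb : (WidePullback.base (fun _ : Fin d => f)) ((SymProd.permHom f d σ) p) =
      (WidePullback.base (fun _ : Fin d => f)) p := by
    have := congr($(SymProd.permHom_base f d σ) p)
    rwa [Scheme.Hom.comp_apply] at this
  have hπ : ∀ i, (WidePullback.π (fun _ : Fin d => f) i) ((SymProd.permHom f d σ) p) =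
      (WidePullback.π (fun _ : Fin d => f) (σ.symm i)) p := by
    intro i
    have := congr($(SymProd.permHom_π f d σ i) p)
    rwa [Scheme.Hom.comp_apply] at this
  rw [hb]
  simp only [hπ]
  refine and_congr Iff.rfl ⟨fun h i => ?_, fun h i => h _⟩
  have := h (σ i)
  rwa [Equiv.symm_apply_apply] at this

theorem coe_boxOpen_of_pos (hd : 0 < d) (S₀ : S.Opens) (U : X.Opens) (hUS : U ≤ f ⁻¹ᵁ S₀) :
    (boxOpen f d S₀ U : Set ↥(SymProd.fibPow f d)) =
      ⋂ i : Fin d, (WidePullback.π (fun _ : Fin d => f) i).base ⁻¹' (U : Set X) := by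
  ext p
  rw [SetLike.mem_coe, mem_boxOpen, Set.mem_iInter]
  refine ⟨fun h i => h.2 i, fun h => ⟨?_, fun i => h i⟩⟩
  have h0 := h ⟨0, hd⟩
  have := congr($(WidePullback.π_arrow (fun _ : Fin d => f) ⟨0, hd⟩) p)
  rw [Scheme.Hom.comp_apply] at this
  rw [← this]
  exact hUS h0

open Groth.Agent.Lib.helper2.QuotLib in
/-- **Affine charts `Sym^d(U/V)` of a symmetric product.** -/
theorem exists_chart {Y : Scheme.{u}} (hAF : SymProd.IsAF f)
    (𝒮 : Set S.Opens) (h𝒮 : ∀ V ∈ 𝒮, IsAffineOpen V) (hcov : ∀ s : S, ∃ V ∈ 𝒮, s ∈ V)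
    (hd : 0 < d) (q : SymProd.fibPow f d ⟶ Y) (g : Y ⟶ S) (hq : SymProd.IsSymProd f d q g)
    (y : Y) :
    ∃ V ∈ 𝒮, ∃ U : X.Opens, IsAffineOpen U ∧ U ≤ f ⁻¹ᵁ V ∧
      ∃ W : (SymProd.fibPow f d).Opens,
        (W : Set ↥(SymProd.fibPow f d)) =
          ⋂ i : Fin d, (WidePullback.π (fun _ : Fin d => f) i).base ⁻¹' (U : Set X) ∧
        IsAffineOpen W ∧ (∀ σ : Equiv.Perm (Fin d), (SymProd.permHom f d σ) ⁻¹ᵁ W = W) ∧
        ∃ W' : Y.Opens, y ∈ W' ∧ IsAffineOpen W' ∧ q ⁻¹ᵁ W' = W := by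
  obtain ⟨x, rfl⟩ := surjective_of_isQuot hq.isQuot y
  obtain ⟨V, hV𝒮, hxV⟩ := hcov ((WidePullback.base (fun _ : Fin d => f)) x)
  obtain ⟨U, hU, hUV, hxU⟩ := exists_affine_coords f d hAF x V hxV
  have hW : IsAffineOpen (boxOpen f d V U) := isAffineOpen_boxOpen f d V U hUV (h𝒮 V hV𝒮) hU
  have hst : IsStable (SymProd.permActU f d) (boxOpen f d V U) := by
    intro σ
    rw [SymProd.permActU_hom, permHom_preimage_boxOpen]
  obtain ⟨W', hW'1, hW'2⟩ := exists_open_preimage_eq hq.isQuot (boxOpen f d V U) hst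
  refine ⟨V, hV𝒮, U, hU, hUV, boxOpen f d V U, coe_boxOpen_of_pos f d hd V U hUV, hW,
    fun σ => permHom_preimage_boxOpen f d V U σ, W', ?_, ?_, hW'1⟩
  · change q.base x ∈ (W' : Set Y)
    rw [hW'2]
    exact ⟨x, (mem_boxOpen f d).mpr ⟨hxV, hxU⟩, rfl⟩
  · exact isAffineOpen_of_preimage hq.isQuot W' (hW'1 ▸ hW)

end Groth.Agent.Lib.helper21.AFOrbit
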