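import Groth.Agent.Lib.Helper21.AFOrbit2

/-!
# Sections of the affine box of a fibre power: universal property (helper21)

`Γ(X ×_S ⋯ ×_S X, boxOpen)` is the coproduct of `d` copies of `Γ(X, U)` over `Γ(S, S₀)`.
-/

set_option autoImplicit false
universe u
open CategoryTheory CategoryTheory.Limits AlgebraicGeometry TopologicalSpace Opposite

namespace Groth.Agent.Lib.helper21.AFOrbit

theorem appLE_congr' {Z T : Scheme.{u}} {k k' : Z ⟶ T} (hk : k = k') (W : T.Opens) (O : Z.Opens)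
    (e : O ≤ k ⁻¹ᵁ W) (e' : O ≤ k' ⁻¹ᵁ W) : k.appLE W O e = k'.appLE W O e' := by
  subst hk; rfl

variable {X S : Scheme.{u}} (f : X ⟶ S) (d : ℕ) (S₀ : S.Opens) (U : X.Opens) (hUS : U ≤ f ⁻¹ᵁ S₀)

/-- the `i`-th coprojection `Γ(X, U) ⟶ Γ(P, boxOpen)` -/
noncomputable def coproj (i : Fin d) :
    Γ(X, U) ⟶ Γ(SymProd.fibPow f d, boxOpen f d S₀ U) :=
  (WidePullback.π (fun _ : Fin d => f) i).appLE U (boxOpen f d S₀ U) (boxOpen_le_π f d S₀ U i)

/-- the structure map `Γ(S, S₀) ⟶ Γ(P, boxOpen)` -/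
noncomputable def cobase :
    Γ(S, S₀) ⟶ Γ(SymProd.fibPow f d, boxOpen f d S₀ U) :=
  (WidePullback.base (fun _ : Fin d => f)).appLE S₀ (boxOpen f d S₀ U) (boxOpen_le_base f d S₀ U)

theorem appLE_comp_coproj (i : Fin d) :
    f.appLE S₀ U hUS ≫ coproj f d S₀ U i = cobase f d S₀ U := by
  unfold coproj cobase
  rw [Scheme.Hom.appLE_comp_appLE]
  exact appLE_congr' (WidePullback.π_arrow (fun _ : Fin d => f) i) _ _ _ _

section UP

variable (hS₀ : IsAffineOpen S₀) (hU : IsAffineOpen U)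

include hS₀ hU in
theorem isAffine_boxDiagram_obj (j : WidePullbackShape (Fin d)) :
    IsAffine ((boxDiagram f d S₀ U hUS).obj j) := by
  cases j with
  | none => exact hS₀
  | some i => exact hU

/-- the colimit property of the sections of the box, in `CommRingCatᵒᵖ` -/
noncomputable def boxΓIsLimit :
    IsLimit (Scheme.Γ.rightOp.mapCone (boxCone f d S₀ U hUS)) := by
  haveI : ∀ j, IsAffine ((boxDiagram f d S₀ U hUS).obj j) :=
    isAffine_boxDiagram_obj f d S₀ U hUS hS₀ hU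
  exact isLimitOfPreserves Scheme.Γ.rightOp (boxConeIsLimit f d S₀ U hUS)

theorem resLE_π_appTop (i : Fin d) :
    ((WidePullback.π (fun _ : Fin d => f) i).resLE U (boxOpen f d S₀ U)
      (boxOpen_le_π f d S₀ U i)).appTop =
      U.topIso.hom ≫ coproj f d S₀ U i ≫ (boxOpen f d S₀ U).topIso.inv :=
  Scheme.Hom.resLE_app_top _ _

theorem resLE_base_appTop :
    ((WidePullback.base (fun _ : Fin d => f)).resLE S₀ (boxOpen f d S₀ U)
      (boxOpen_le_base f d S₀ U)).appTop =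
      S₀.topIso.hom ≫ cobase f d S₀ U ≫ (boxOpen f d S₀ U).topIso.inv :=
  Scheme.Hom.resLE_app_top _ _

theorem resLE_f_appTop :
    (f.resLE S₀ U hUS).appTop = S₀.topIso.hom ≫ f.appLE S₀ U hUS ≫ U.topIso.inv :=
  Scheme.Hom.resLE_app_top _ _

variable (T : CommRingCat.{u}) (ψ : Fin d → (Γ(X, U) ⟶ T)) (ψ₀ : Γ(S, S₀) ⟶ T)
  (hψ : ∀ i, f.appLE S₀ U hUS ≫ ψ i = ψ₀)

/-- the test cone in `CommRingCatᵒᵖ` -/
noncomputable def testCone : Cone (boxDiagram f d S₀ U hUS ⋙ Scheme.Γ.rightOp) :=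
  WidePullbackShape.mkCone (F := boxDiagram f d S₀ U hUS ⋙ Scheme.Γ.rightOp) (X := op T)
    (S₀.topIso.hom ≫ ψ₀).op (fun i => (U.topIso.hom ≫ ψ i).op)
    (fun i => by
      change (U.topIso.hom ≫ ψ i).op ≫ ((f.resLE S₀ U hUS).appTop).op = _
      rw [← op_comp, resLE_f_appTop]
      congr 1
      simp only [Category.assoc, Iso.inv_hom_id_assoc]
      rw [hψ i])

/-- the lift in `CommRingCatᵒᵖ`, with syntactic source and target -/
noncomputable def liftOp :
    (op T : CommRingCatᵒᵖ) ⟶ op Γ((boxOpen f d S₀ U : Scheme.{u}), ⊤) :=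
  (boxΓIsLimit f d S₀ U hUS hS₀ hU).lift (testCone f d S₀ U hUS T ψ ψ₀ hψ)

theorem liftOp_π (i : Fin d) :
    liftOp f d S₀ U hUS hS₀ hU T ψ ψ₀ hψ ≫
      (((WidePullback.π (fun _ : Fin d => f) i).resLE U (boxOpen f d S₀ U)
        (boxOpen_le_π f d S₀ U i)).appTop).op = (U.topIso.hom ≫ ψ i).op :=
  (boxΓIsLimit f d S₀ U hUS hS₀ hU).fac (testCone f d S₀ U hUS T ψ ψ₀ hψ) (some i)

theorem liftOp_base :
    liftOp f d S₀ U hUS hS₀ hU T ψ ψ₀ hψ ≫
      (((WidePullback.base (fun _ : Fin d => f)).resLE S₀ (boxOpen f d S₀ U)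
        (boxOpen_le_base f d S₀ U)).appTop).op = (S₀.topIso.hom ≫ ψ₀).op :=
  (boxΓIsLimit f d S₀ U hUS hS₀ hU).fac (testCone f d S₀ U hUS T ψ ψ₀ hψ) none

/-- the map out of the sections of the box induced by compatible maps -/
noncomputable def boxDesc : Γ(SymProd.fibPow f d, boxOpen f d S₀ U) ⟶ T :=
  (boxOpen f d S₀ U).topIso.inv ≫ (liftOp f d S₀ U hUS hS₀ hU T ψ ψ₀ hψ).unop

theorem coproj_boxDesc (i : Fin d) :
    coproj f d S₀ U i ≫ boxDesc f d S₀ U hUS hS₀ hU T ψ ψ₀ hψ = ψ i := by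
  have h2 := congrArg Quiver.Hom.unop (liftOp_π f d S₀ U hUS hS₀ hU T ψ ψ₀ hψ i)
  rw [unop_comp, Quiver.Hom.unop_op, Quiver.Hom.unop_op, resLE_π_appTop] at h2
  simp only [Category.assoc] at h2
  rw [← cancel_epi U.topIso.hom]
  exact h2

theorem cobase_boxDesc :
    cobase f d S₀ U ≫ boxDesc f d S₀ U hUS hS₀ hU T ψ ψ₀ hψ = ψ₀ := by
  have h2 := congrArg Quiver.Hom.unop (liftOp_base f d S₀ U hUS hS₀ hU T ψ ψ₀ hψ)
  rw [unop_comp, Quiver.Hom.unop_op, Quiver.Hom.unop_op, resLE_base_appTop] at h2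
  simp only [Category.assoc] at h2
  rw [← cancel_epi S₀.topIso.hom]
  exact h2

include hUS hS₀ hU in
theorem boxDesc_ext (m m' : Γ(SymProd.fibPow f d, boxOpen f d S₀ U) ⟶ T)
    (h : ∀ i, coproj f d S₀ U i ≫ m = coproj f d S₀ U i ≫ m')
    (h0 : cobase f d S₀ U ≫ m = cobase f d S₀ U ≫ m') : m = m' := by
  have key : ((boxOpen f d S₀ U).topIso.hom ≫ m).op = ((boxOpen f d S₀ U).topIso.hom ≫ m').op := by
    apply (boxΓIsLimit f d S₀ U hUS hS₀ hU).hom_ext
    intro j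
    cases j with
    | none =>
      change ((boxOpen f d S₀ U).topIso.hom ≫ m).op ≫
        (((WidePullback.base (fun _ : Fin d => f)).resLE S₀ (boxOpen f d S₀ U)
          (boxOpen_le_base f d S₀ U)).appTop).op = ((boxOpen f d S₀ U).topIso.hom ≫ m').op ≫
        (((WidePullback.base (fun _ : Fin d => f)).resLE S₀ (boxOpen f d S₀ U)
          (boxOpen_le_base f d S₀ U)).appTop).op
      rw [← op_comp, ← op_comp, resLE_base_appTop]
      congr 1
      simp only [Category.assoc, Iso.inv_hom_id_assoc]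
      rw [h0]
    | some i =>
      change ((boxOpen f d S₀ U).topIso.hom ≫ m).op ≫
        (((WidePullback.π (fun _ : Fin d => f) i).resLE U (boxOpen f d S₀ U)
          (boxOpen_le_π f d S₀ U i)).appTop).op = ((boxOpen f d S₀ U).topIso.hom ≫ m').op ≫
        (((WidePullback.π (fun _ : Fin d => f) i).resLE U (boxOpen f d S₀ U)
          (boxOpen_le_π f d S₀ U i)).appTop).op
      rw [← op_comp, ← op_comp, resLE_π_appTop]
      congr 1
      simp only [Category.assoc, Iso.inv_hom_id_assoc]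
      rw [h i]
  have := congrArg Quiver.Hom.unop key
  simp only [Quiver.Hom.unop_op] at this
  exact (cancel_epi _).mp this

end UP

end Groth.Agent.Lib.helper21.AFOrbit
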