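import Groth.Agent.Lib.Helper6.TSFlatMod

/-!
# Invariants of a coproduct of copies of a flat algebra are flat (helper21)

Pure algebra: if `B` is the coproduct of `d` copies of the `R`-algebra `A` (via `φ i : A →ₐ[R] B`),
and `τ σ` are endomorphisms permuting the coprojections, then the `R`-module of `τ`-invariants of `B`
is isomorphic to the symmetric tensors `TS^d_R(A)`, hence flat when `A` is.
-/

set_option autoImplicit false
universe u
open scoped TensorProduct
open PiTensorProduct

namespace Groth.Agent.Lib.helper21.TSInv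

variable {R : Type u} [CommRing R] {A : Type u} [CommRing A] [Algebra R A]
  {B : Type u} [CommRing B] [Algebra R B] {d : ℕ} (φ : Fin d → (A →ₐ[R] B))

/-- the multilinear multiplicative map `x ↦ ∏ φ i (x i)` -/
noncomputable def prodMap : MultilinearMap R (fun _ : Fin d => A) B :=
  (MultilinearMap.mkPiAlgebra R (Fin d) B).compLinearMap (fun i => (φ i).toLinearMap)

theorem prodMap_apply (x : Fin d → A) : prodMap φ x = ∏ i, φ i (x i) := by
  simp [prodMap, MultilinearMap.mkPiAlgebra_apply]

/-- the canonical map `⨂^d A → B` -/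
noncomputable def Φ : (⨂[R] _ : Fin d, A) →ₐ[R] B :=
  PiTensorProduct.liftAlgHom (prodMap φ)
    (by rw [prodMap_apply]; simp)
    (fun x y => by
      rw [prodMap_apply, prodMap_apply, prodMap_apply, ← Finset.prod_mul_distrib]
      simp)

theorem Φ_tprod (x : Fin d → A) : Φ φ (tprod R x) = ∏ i, φ i (x i) := by
  rw [Φ, PiTensorProduct.liftAlgHom_apply, PiTensorProduct.lift.tprod, prodMap_apply]

theorem Φ_single (i : Fin d) (a : A) : Φ φ (PiTensorProduct.singleAlgHom i a) = φ i a := by
  rw [PiTensorProduct.singleAlgHom_apply, Φ_tprod]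
  rw [Finset.prod_eq_single i]
  · simp
  · intro j _ hj
    rw [MonoidHom.mulSingle_apply, Pi.mulSingle_eq_of_ne hj, map_one]
  · intro h; exact absurd (Finset.mem_univ i) h

/-- `B` with the `φ i` is the coproduct of `d` copies of `A` in commutative `R`-algebras -/
structure IsCoprod : Prop where
  desc : ∀ (T : Type u) [CommRing T] [Algebra R T] (ψ : Fin d → (A →ₐ[R] T)),
    ∃ m : B →ₐ[R] T, ∀ i, m.comp (φ i) = ψ i
  ext : ∀ (T : Type u) [CommRing T] [Algebra R T] (m m' : B →ₐ[R] T),
    (∀ i, m.comp (φ i) = m'.comp (φ i)) → m = m'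

variable {φ}

theorem Φ_bijective (h : IsCoprod φ) : Function.Bijective (Φ φ) := by
  obtain ⟨Ψ, hΨ⟩ := h.desc (⨂[R] _ : Fin d, A)
    (fun i => PiTensorProduct.singleAlgHom (R := R) (A := fun _ : Fin d => A) i)
  have h1 : (Φ φ).comp Ψ = AlgHom.id R B := by
    apply h.ext
    intro i
    rw [AlgHom.comp_assoc, hΨ i]
    ext a
    exact Φ_single φ i a
  have h2 : Ψ.comp (Φ φ) = AlgHom.id R _ := by
    apply PiTensorProduct.algHom_ext
    intro i
    rw [AlgHom.comp_assoc]
    have : (Φ φ).comp (PiTensorProduct.singleAlgHom (R := R) (A := fun _ : Fin d => A) i) = φ i := by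
      ext a; exact Φ_single φ i a
    rw [this, hΨ i]
    rfl
  refine ⟨fun x y hxy => ?_, fun b => ⟨Ψ b, congr($h1 b)⟩⟩
  have hx := congr($h2 x)
  have hy := congr($h2 y)
  simp only [AlgHom.comp_apply, AlgHom.id_apply] at hx hy
  rw [← hx, ← hy, hxy]

open Groth.Agent.Lib.helper6.TSFlatMod

section Equivariance

variable (τ : Equiv.Perm (Fin d) → (B →ₐ[R] B))
  (hτ : ∀ (σ : Equiv.Perm (Fin d)) (i : Fin d), (τ σ).comp (φ i) = φ (σ.symm i))

include hτ in
theorem τ_Φ (σ : Equiv.Perm (Fin d)) (t : ⨂[R] _ : Fin d, A) :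
    τ σ (Φ φ t) = Φ φ (PiTensorProduct.reindex R (fun _ : Fin d => A) σ.symm t) := by
  have key : (τ σ).toLinearMap ∘ₗ (Φ φ).toLinearMap =
      (Φ φ).toLinearMap ∘ₗ
        (PiTensorProduct.reindex R (fun _ : Fin d => A) σ.symm).toLinearMap := by
    apply PiTensorProduct.ext
    apply MultilinearMap.ext
    intro x
    simp only [LinearMap.compMultilinearMap_apply, LinearMap.coe_comp, Function.comp_apply,
      AlgHom.toLinearMap_apply, LinearEquiv.coe_coe]
    rw [PiTensorProduct.reindex_tprod, Φ_tprod, Φ_tprod, map_prod]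
    have h1 : ∀ i, τ σ (φ i (x i)) = φ (σ.symm i) (x i) := fun i => congr($(hτ σ i) (x i))
    simp only [h1, Equiv.symm_symm]
    exact (Equiv.prod_comp σ (fun i => φ (σ.symm i) (x i))).symm.trans
      (Finset.prod_congr rfl (fun j _ => by rw [Equiv.symm_apply_apply]))
  exact congr($key t)

include hτ in
theorem invariant_iff (h : IsCoprod φ) (t : ⨂[R] _ : Fin d, A) :
    (∀ σ, τ σ (Φ φ t) = Φ φ t) ↔ t ∈ tsM R A d := by
  rw [mem_tsM]
  constructor
  · intro ht σ
    have := ht σ.symm
    rw [τ_Φ τ hτ, Equiv.symm_symm] at this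
    exact (Φ_bijective h).1 this
  · intro ht σ
    rw [τ_Φ τ hτ, ht σ.symm]

include hτ in
/-- **The invariants of the coproduct of `d` copies of a flat algebra form a flat module.** -/
theorem flat_of_invariants (h : IsCoprod φ) [Module.Flat R A]
    (C : Type u) [AddCommGroup C] [Module R C] (θ : C →ₗ[R] B) (hθ : Function.Injective θ)
    (hrange : ∀ b, b ∈ Set.range θ ↔ ∀ σ, τ σ b = b) : Module.Flat R C := by
  let Φe : (⨂[R] _ : Fin d, A) ≃ₗ[R] B :=
    LinearEquiv.ofBijective (Φ φ).toLinearMap (Φ_bijective h)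
  have hΦe : ∀ t, Φe t = Φ φ t := fun _ => rfl
  let L : C →ₗ[R] (⨂[R] _ : Fin d, A) := Φe.symm.toLinearMap ∘ₗ θ
  have hL : ∀ c, Φ φ (L c) = θ c := fun c => by
    rw [← hΦe]
    exact Φe.apply_symm_apply (θ c)
  have hmem : ∀ c, L c ∈ tsM R A d := fun c => by
    rw [← invariant_iff τ hτ h, hL]
    exact (hrange _).mp ⟨c, rfl⟩
  let L' : C →ₗ[R] ↥(tsM R A d) := L.codRestrict (tsM R A d) hmem
  have hinj : Function.Injective L' := by
    intro c c' hcc
    have := congrArg Subtype.val hcc
    exact hθ (Φe.symm.injective this)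
  have hsurj : Function.Surjective L' := by
    rintro ⟨t, ht⟩
    obtain ⟨c, hc⟩ := (hrange (Φ φ t)).mpr ((invariant_iff τ hτ h t).mpr ht)
    refine ⟨c, Subtype.ext ?_⟩
    change Φe.symm (θ c) = t
    rw [hc, ← hΦe, Φe.symm_apply_apply]
  haveI := flat_tsM R A d
  exact Module.Flat.of_linearEquiv (LinearEquiv.ofBijective L' ⟨hinj, hsurj⟩)

end Equivariance

/-- ring-hom form of `flat_of_invariants`, with no algebra instances in the statement -/
theorem ringHom_flat_of_invariants {R A B C : Type u} [CommRing R] [CommRing A] [CommRing B]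
    [CommRing C] {d : ℕ} (a : R →+* A) (b : R →+* B) (c : R →+* C) (ha : a.Flat)
    (φ : Fin d → (A →+* B)) (hφ : ∀ i, (φ i).comp a = b)
    (hdesc : ∀ (T : Type u) [CommRing T] (ψ : Fin d → (A →+* T)) (ψ₀ : R →+* T),
      (∀ i, (ψ i).comp a = ψ₀) → ∃ m : B →+* T, (∀ i, m.comp (φ i) = ψ i) ∧ m.comp b = ψ₀)
    (hext : ∀ (T : Type u) [CommRing T] (m m' : B →+* T),
      (∀ i, m.comp (φ i) = m'.comp (φ i)) → m.comp b = m'.comp b → m = m')
    (τ : Equiv.Perm (Fin d) → (B →+* B)) (hτb : ∀ σ, (τ σ).comp b = b)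
    (hτ : ∀ σ i, (τ σ).comp (φ i) = φ (σ.symm i))
    (θ : C →+* B) (hθc : θ.comp c = b) (hθ : Function.Injective θ)
    (hrange : ∀ x, x ∈ Set.range θ ↔ ∀ σ, τ σ x = x) : c.Flat := by
  letI algA : Algebra R A := a.toAlgebra
  letI algB : Algebra R B := b.toAlgebra
  letI algC : Algebra R C := c.toAlgebra
  haveI : Module.Flat R A := ha
  let φ' : Fin d → (A →ₐ[R] B) := fun i =>
    { φ i with commutes' := fun r => congr($(hφ i) r) }
  have hcop : IsCoprod φ' := by
    constructor
    · intro T _ _ ψ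
      obtain ⟨m, hm, hm0⟩ := hdesc T (fun i => (ψ i).toRingHom) (algebraMap R T)
        (fun i => by ext r; exact (ψ i).commutes r)
      refine ⟨{ m with commutes' := fun r => congr($hm0 r) }, fun i => ?_⟩
      ext x
      exact congr($(hm i) x)
    · intro T _ _ m m' hmm
      have := hext T m.toRingHom m'.toRingHom
        (fun i => by ext x; exact congr($(hmm i) x))
        (by ext r; exact (m.commutes r).trans (m'.commutes r).symm)
      ext x
      exact congr($this x)
  let τ' : Equiv.Perm (Fin d) → (B →ₐ[R] B) := fun σ =>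
    { τ σ with commutes' := fun r => congr($(hτb σ) r) }
  have hτ' : ∀ (σ : Equiv.Perm (Fin d)) (i : Fin d), (τ' σ).comp (φ' i) = φ' (σ.symm i) := by
    intro σ i
    ext x
    exact congr($(hτ σ i) x)
  let θ' : C →ₗ[R] B :=
    { toFun := θ
      map_add' := map_add θ
      map_smul' := fun r x => by
        change θ (c r * x) = b r * θ x
        rw [map_mul]
        congr 1
        exact congr($hθc r) }
  exact flat_of_invariants τ' hτ' hcop C θ' hθ hrange

end Groth.Agent.Lib.helper21.TSInv
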