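import Groth.Agent.Lib.Helper21.AFOrbit3
import Groth.Agent.Lib.Helper21.TSInv

/-!
# Flatness of the symmetric product of a flat (AF) morphism (helper21)
-/

set_option autoImplicit false
universe u
open CategoryTheory CategoryTheory.Limits AlgebraicGeometry TopologicalSpace Opposite

namespace Groth.Agent.Lib.helper21.AFOrbit

section Quot

variable {X Y : Scheme.{u}} {G : Type u} [Group G] {ρ : G →* Aut X} {p : X ⟶ Y}

theorem stable_of_preimage_eq (hp : SGA1.IsQuot ρ p) (W' : Y.Opens) (V : X.Opens)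
    (hV : p ⁻¹ᵁ W' = V) (g : G) : V ≤ (ρ g).hom ⁻¹ᵁ V := by
  subst hV
  exact SGA1.preimage_le_of_inv ρ p hp.inv g W'

/-- the defining properties of a quotient, read on an open `V = p⁻¹ W'` -/
theorem isQuot_appLE (hp : SGA1.IsQuot ρ p) (W' : Y.Opens) (V : X.Opens) (hV : p ⁻¹ᵁ W' = V) :
    Function.Injective (p.appLE W' V hV.ge).hom ∧
      ∀ s : Γ(X, V), s ∈ Set.range (p.appLE W' V hV.ge).hom ↔
        ∀ g : G, ((ρ g).hom.appLE V V (stable_of_preimage_eq hp W' V hV g)).hom s = s := by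
  subst hV
  have e : p.appLE W' (p ⁻¹ᵁ W') le_rfl = p.app W' := Scheme.Hom.appLE_eq_app p
  rw [e]
  exact ⟨hp.injective W', fun s => hp.range_iff W' s⟩

end Quot

section Flat

variable {X S : Scheme.{u}} (f : X ⟶ S) (d : ℕ)

theorem stable_boxOpen (S₀ : S.Opens) (U : X.Opens) (σ : Equiv.Perm (Fin d)) :
    boxOpen f d S₀ U ≤ (SymProd.permHom f d σ) ⁻¹ᵁ (boxOpen f d S₀ U) :=
  (permHom_preimage_boxOpen f d S₀ U σ).ge

/-- the action of a permutation on the sections of the box -/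
noncomputable def permΓ (S₀ : S.Opens) (U : X.Opens) (σ : Equiv.Perm (Fin d)) :
    Γ(SymProd.fibPow f d, boxOpen f d S₀ U) ⟶ Γ(SymProd.fibPow f d, boxOpen f d S₀ U) :=
  (SymProd.permHom f d σ).appLE (boxOpen f d S₀ U) (boxOpen f d S₀ U) (stable_boxOpen f d S₀ U σ)

theorem cobase_permΓ (S₀ : S.Opens) (U : X.Opens) (σ : Equiv.Perm (Fin d)) :
    cobase f d S₀ U ≫ permΓ f d S₀ U σ = cobase f d S₀ U := by
  unfold cobase permΓ
  rw [Scheme.Hom.appLE_comp_appLE]
  exact appLE_congr' (SymProd.permHom_base f d σ) _ _ _ _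

theorem coproj_permΓ (S₀ : S.Opens) (U : X.Opens) (σ : Equiv.Perm (Fin d)) (i : Fin d) :
    coproj f d S₀ U i ≫ permΓ f d S₀ U σ = coproj f d S₀ U (σ.symm i) := by
  unfold coproj permΓ
  rw [Scheme.Hom.appLE_comp_appLE]
  exact appLE_congr' (SymProd.permHom_π f d σ i) _ _ _ _

theorem flat_appLE_chart [Flat f] {Y : Scheme.{u}} (q : SymProd.fibPow f d ⟶ Y) (g : Y ⟶ S)
    (hq : SymProd.IsSymProd f d q g)
    (V : S.Opens) (hV : IsAffineOpen V) (U : X.Opens) (hU : IsAffineOpen U) (hUV : U ≤ f ⁻¹ᵁ V)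
    (W' : Y.Opens) (hW' : q ⁻¹ᵁ W' = boxOpen f d V U) (hgW' : W' ≤ g ⁻¹ᵁ V) :
    (g.appLE V W' hgW').hom.Flat := by
  obtain ⟨hinj, hrange⟩ := isQuot_appLE hq.isQuot W' (boxOpen f d V U) hW'
  refine TSInv.ringHom_flat_of_invariants (f.appLE V U hUV).hom (cobase f d V U).hom
    (g.appLE V W' hgW').hom (Flat.flat_appLE f hV hU hUV)
    (fun i => (coproj f d V U i).hom)
    (fun i => congrArg CommRingCat.Hom.hom (appLE_comp_coproj f d V U hUV i))
    ?_ ?_
    (fun σ => (permΓ f d V U σ).hom)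
    (fun σ => congrArg CommRingCat.Hom.hom (cobase_permΓ f d V U σ))
    (fun σ i => congrArg CommRingCat.Hom.hom (coproj_permΓ f d V U σ i))
    (q.appLE W' (boxOpen f d V U) hW'.ge).hom ?_ hinj ?_
  · intro T _ ψ ψ₀ hψ
    refine ⟨(boxDesc f d V U hUV hV hU (CommRingCat.of T) (fun i => CommRingCat.ofHom (ψ i))
      (CommRingCat.ofHom ψ₀) (fun i => by ext r; exact congr($(hψ i) r))).hom, fun i => ?_, ?_⟩
    · exact congrArg CommRingCat.Hom.hom (coproj_boxDesc f d V U hUV hV hU (CommRingCat.of T)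
        (fun i => CommRingCat.ofHom (ψ i)) (CommRingCat.ofHom ψ₀) _ i)
    · exact congrArg CommRingCat.Hom.hom (cobase_boxDesc f d V U hUV hV hU (CommRingCat.of T)
        (fun i => CommRingCat.ofHom (ψ i)) (CommRingCat.ofHom ψ₀) _)
  · intro T _ m m' hmm hmb
    have := boxDesc_ext f d V U hUV hV hU (CommRingCat.of T) (CommRingCat.ofHom m)
      (CommRingCat.ofHom m')
      (fun i => by ext x; exact congr($(hmm i) x))
      (by ext x; exact congr($hmb x))
    exact congrArg CommRingCat.Hom.hom this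
  · have : g.appLE V W' hgW' ≫ q.appLE W' (boxOpen f d V U) hW'.ge = cobase f d V U := by
      unfold cobase
      rw [Scheme.Hom.appLE_comp_appLE]
      exact appLE_congr' hq.over _ _ _ _
    exact congrArg CommRingCat.Hom.hom this
  · intro x
    rw [hrange x]
    constructor
    · intro h σ
      exact h ⟨σ⟩
    · intro h σ
      exact h σ.down

open Groth.Agent.Lib.helper2.QuotLib in
/-- **The symmetric product of a flat (AF) morphism is flat over the base.** -/
theorem flat_symProd [Flat f] (hAF : SymProd.IsAF f) {Y : Scheme.{u}}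
    (q : SymProd.fibPow f d ⟶ Y) (g : Y ⟶ S) (hq : SymProd.IsSymProd f d q g) : Flat g := by
  rw [HasRingHomProperty.iff_exists_appLE (P := @Flat)
    (RingHom.Flat.stableUnderComposition.stableUnderCompositionWithLocalizationAway
      RingHom.Flat.holdsForLocalizationAway).left]
  intro y
  obtain ⟨x, rfl⟩ := surjective_of_isQuot hq.isQuot y
  obtain ⟨V, hV, hxV, -⟩ := exists_isAffineOpen_mem_and_subset
    (x := (WidePullback.base (fun _ : Fin d => f)) x) (U := ⊤) trivial
  obtain ⟨U, hU, hUV, hxU⟩ := exists_affine_coords f d hAF x V hxV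
  have hW : IsAffineOpen (boxOpen f d V U) := isAffineOpen_boxOpen f d V U hUV hV hU
  have hst : IsStable (SymProd.permActU f d) (boxOpen f d V U) := by
    intro σ
    rw [SymProd.permActU_hom, permHom_preimage_boxOpen]
  obtain ⟨W', hW'1, hW'2⟩ := exists_open_preimage_eq hq.isQuot (boxOpen f d V U) hst
  have hW'aff : IsAffineOpen W' := isAffineOpen_of_preimage hq.isQuot W' (hW'1 ▸ hW)
  have hgW' : W' ≤ g ⁻¹ᵁ V := by
    intro y' hy'
    have hy'' : y' ∈ (W' : Set Y) := hy'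
    rw [hW'2] at hy''
    obtain ⟨p, hp, rfl⟩ := hy''
    change g (q p) ∈ V
    have := congr($(hq.over) p)
    rw [Scheme.Hom.comp_apply] at this
    rw [this]
    exact ((mem_boxOpen f d).mp hp).1
  refine ⟨⟨V, hV⟩, ⟨W', hW'aff⟩, ?_, hgW', flat_appLE_chart f d q g hq V hV U hU hUV W' hW'1 hgW'⟩
  change q.base x ∈ (W' : Set Y)
  rw [hW'2]
  exact ⟨x, (mem_boxOpen f d).mpr ⟨hxV, hxU⟩, rfl⟩

end Flat

end Groth.Agent.Lib.helper21.AFOrbit
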