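import Mathlib
import Groth.Agent.Lib.Helper6.TSFlatMod

/-!
# Base change of symmetric tensors of a flat module, part 1 (helper21)

`lTensor_zero_exact`: for a concrete filtered colimit `N = colim P i` (`MSys`) and a module `L`, an
element of `L ⊗ P i` dying in `L ⊗ N` dies in some `L ⊗ P j`.
-/

set_option autoImplicit false

universe u

open scoped TensorProduct

namespace Groth.Agent.Lib.helper21.TSBC

open Groth.Agent.Lib.helper6.Lazard Groth.Agent.Lib.helper6.TMColim

section colim

variable {R : Type u} [CommRing R] {N : Type u} [AddCommGroup N] [Module R N]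
  {ι : Type u} [Preorder ι] [IsDirected ι (fun i j => i ≤ j)] [Nonempty ι]
  {P : ι → Type u} [∀ i, AddCommGroup (P i)] [∀ i, Module R (P i)] (𝒮 : MSys R N ι P)
  (L : Type u) [AddCommGroup L] [Module R L]

theorem dirSysM : DirectedSystem P (fun i j (h : i ≤ j) => ⇑(𝒮.t i j h)) where
  map_self i x := by
    show 𝒮.t i i le_rfl x = x
    rw [𝒮.hid]; rfl
  map_map k j i hij hjk x := by
    show 𝒮.t j k hjk (𝒮.t i j hij x) = 𝒮.t i k (hij.trans hjk) x
    rw [t_t]

include 𝒮 in
theorem lTensor_zero_exact (i : ι) (v : L ⊗[R] P i) (hv : (𝒮.φ i).lTensor L v = 0) :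
    ∃ (j : ι) (h : i ≤ j), (𝒮.t i j h).lTensor L v = 0 := by
  classical
  haveI := dirSysM 𝒮
  let ψ : Module.DirectLimit P 𝒮.t →ₗ[R] N :=
    Module.DirectLimit.lift R ι P 𝒮.t 𝒮.φ (fun i j hij x => φ_t 𝒮 i j hij x)
  have hψinj : Function.Injective ψ := by
    rw [injective_iff_map_eq_zero]
    intro z hz
    obtain ⟨i, x, rfl⟩ := Module.DirectLimit.exists_of z
    rw [Module.DirectLimit.lift_of] at hz
    obtain ⟨j, hij, hj⟩ := 𝒮.hzero i x hz
    rw [← Module.DirectLimit.of_f (hij := hij), hj, map_zero]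
  have hψsurj : Function.Surjective ψ := by
    intro b
    obtain ⟨i, x, rfl⟩ := 𝒮.hsurj b
    exact ⟨Module.DirectLimit.of R ι P 𝒮.t i x, Module.DirectLimit.lift_of _ _ _⟩
  let e : Module.DirectLimit P 𝒮.t ≃ₗ[R] N := LinearEquiv.ofBijective ψ ⟨hψinj, hψsurj⟩
  have h1 : (𝒮.φ i) = e.toLinearMap ∘ₗ (Module.DirectLimit.of R ι P 𝒮.t i) := by
    ext x
    show 𝒮.φ i x = ψ (Module.DirectLimit.of R ι P 𝒮.t i x)
    rw [Module.DirectLimit.lift_of]
  have h2 : (Module.DirectLimit.of R ι P 𝒮.t i).lTensor L v = 0 := by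
    have h3 : (e.toLinearMap.lTensor L) ((Module.DirectLimit.of R ι P 𝒮.t i).lTensor L v) = 0 := by
      rw [← LinearMap.comp_apply, ← LinearMap.lTensor_comp, ← h1]
      exact hv
    have hinj : Function.Injective (e.toLinearMap.lTensor L) :=
      (e.lTensor L).injective
    exact hinj (h3.trans (map_zero _).symm)
  have h4 : ∀ w : L ⊗[R] P i,
      TensorProduct.directLimitRight 𝒮.t L ((Module.DirectLimit.of R ι P 𝒮.t i).lTensor L w) =
        Module.DirectLimit.of R ι (fun k => L ⊗[R] P k)
          (fun i j h => (𝒮.t i j h).lTensor L) i w := by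
    intro w
    induction w using TensorProduct.induction_on with
    | zero => simp
    | tmul l p =>
      rw [LinearMap.lTensor_tmul, TensorProduct.directLimitRight_tmul_of]
    | add w w' h h' => simp only [map_add, h, h']
  have h5 := h4 v
  rw [h2, map_zero] at h5
  exact Module.DirectLimit.of.zero_exact h5.symm

end colim

end Groth.Agent.Lib.helper21.TSBC
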