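import Mathlib
import Groth.Agent.Lib.Helper21.TSBC1

/-!
# Base change of symmetric tensors of a flat module, part 2 (helper21)

For a flat `R`-module `M` and any `R`-module `L`, the map `L ⊗ TS^n(M) → L ⊗ T^n(M)` is injective
(`lTensor_tsM_injective`) and its image is the set of tensors invariant under `1 ⊗ σ`
(`mem_range_lTensor_tsM_iff`): formation of symmetric tensors commutes with arbitrary base change.
-/

set_option autoImplicit false

universe u

open scoped TensorProduct

namespace Groth.Agent.Lib.helper21.TSBC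

open Groth.Agent.Lib.helper6.Lazard Groth.Agent.Lib.helper6.TMColim
open Groth.Agent.Lib.helper6.TSBasis Groth.Agent.Lib.helper6.TSFlatMod

theorem exists_repr_fin {R : Type u} [CommRing R] {L N : Type u} [AddCommGroup L] [Module R L]
    [AddCommGroup N] [Module R N] (x : L ⊗[R] N) :
    ∃ (n : ℕ) (s : Fin n → L) (b : Fin n → N), x = ∑ j, s j ⊗ₜ[R] b j := by
  induction x using TensorProduct.induction_on with
  | zero => exact ⟨0, Fin.elim0, Fin.elim0, by simp⟩
  | tmul s b => exact ⟨1, fun _ => s, fun _ => b, by simp⟩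
  | add x y hx hy =>
    obtain ⟨n, s, b, rfl⟩ := hx
    obtain ⟨n', s', b', rfl⟩ := hy
    refine ⟨n + n', Fin.append s s', Fin.append b b', ?_⟩
    rw [Fin.sum_univ_add]
    simp [Fin.append_left, Fin.append_right]

/-- the action of a permutation on `L ⊗ T^d(X)` -/
noncomputable def permL {R : Type u} [CommRing R] (L : Type u) [AddCommGroup L] [Module R L]
    (d : ℕ) (X : Type u) [AddCommGroup X] [Module R X] (σ : Equiv.Perm (Fin d)) :
    L ⊗[R] (⨂[R] _ : Fin d, X) →ₗ[R] L ⊗[R] (⨂[R] _ : Fin d, X) :=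
  (PiTensorProduct.reindex R (fun _ : Fin d => X) σ).toLinearMap.lTensor L

theorem permL_tm {R : Type u} [CommRing R] (L : Type u) [AddCommGroup L] [Module R L]
    (d : ℕ) {X Y : Type u} [AddCommGroup X] [Module R X] [AddCommGroup Y] [Module R Y]
    (f : X →ₗ[R] Y) (σ : Equiv.Perm (Fin d)) (v : L ⊗[R] (⨂[R] _ : Fin d, X)) :
    (tm d f).lTensor L (permL L d X σ v) = permL L d Y σ ((tm d f).lTensor L v) := by
  unfold permL
  rw [← LinearMap.comp_apply, ← LinearMap.comp_apply, ← LinearMap.lTensor_comp,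
    ← LinearMap.lTensor_comp]
  congr 2
  exact LinearMap.ext fun t => tm_reindex d f σ t

section sysL

variable {R : Type u} [CommRing R] {N : Type u} [AddCommGroup N] [Module R N]
  {ι : Type u} [Preorder ι] [IsDirected ι (fun i j => i ≤ j)] [Nonempty ι]
  {P : ι → Type u} [∀ i, AddCommGroup (P i)] [∀ i, Module R (P i)] (𝒮 : MSys R N ι P)
  (L : Type u) [AddCommGroup L] [Module R L]

theorem lT_φ_t (i j : ι) (h : i ≤ j) (v : L ⊗[R] P i) :
    (𝒮.φ j).lTensor L ((𝒮.t i j h).lTensor L v) = (𝒮.φ i).lTensor L v := by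
  rw [← LinearMap.comp_apply, ← LinearMap.lTensor_comp, 𝒮.hcomp]

theorem lT_t_t (i j k : ι) (hij : i ≤ j) (hjk : j ≤ k) (v : L ⊗[R] P i) :
    (𝒮.t j k hjk).lTensor L ((𝒮.t i j hij).lTensor L v) =
      (𝒮.t i k (hij.trans hjk)).lTensor L v := by
  rw [← LinearMap.comp_apply, ← LinearMap.lTensor_comp, 𝒮.htrans]

theorem exists_lTensor_eq (w : L ⊗[R] N) :
    ∃ (i : ι) (v : L ⊗[R] P i), (𝒮.φ i).lTensor L v = w := by
  induction w using TensorProduct.induction_on with
  | zero => exact ⟨Classical.arbitrary ι, 0, map_zero _⟩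
  | tmul l b =>
    obtain ⟨i, x, rfl⟩ := 𝒮.hsurj b
    exact ⟨i, l ⊗ₜ x, LinearMap.lTensor_tmul _ _ _ _⟩
  | add w w' h h' =>
    obtain ⟨i1, v1, rfl⟩ := h
    obtain ⟨i2, v2, rfl⟩ := h'
    obtain ⟨i, h1, h2⟩ := exists_ge_ge i1 i2
    refine ⟨i, (𝒮.t i1 i h1).lTensor L v1 + (𝒮.t i2 i h2).lTensor L v2, ?_⟩
    rw [map_add, lT_φ_t, lT_φ_t]

/-- the system of tensor powers -/
noncomputable def tmSys (d : ℕ) :
    MSys R (⨂[R] _ : Fin d, N) ι (fun i => ⨂[R] _ : Fin d, P i) where
  t i j h := tm d (𝒮.t i j h)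
  φ i := tm d (𝒮.φ i)
  hcomp i j h := LinearMap.ext fun x => by
    rw [LinearMap.comp_apply, tm_tm_apply, 𝒮.hcomp]
  hsurj := exists_tm_eq 𝒮 d
  hzero := tm_zero_exact 𝒮 d
  hid i h := LinearMap.ext fun x => by
    rw [𝒮.hid]
    exact tm_id_apply d x
  htrans i j k hij hjk := LinearMap.ext fun x => by
    rw [LinearMap.comp_apply, tm_tm_apply, 𝒮.htrans]

theorem exists_invariantL (d : ℕ) (i : ι) (v : L ⊗[R] (⨂[R] _ : Fin d, P i))
    (h : ∀ σ : Equiv.Perm (Fin d), permL L d N σ ((tm d (𝒮.φ i)).lTensor L v) =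
      (tm d (𝒮.φ i)).lTensor L v) :
    ∃ (j : ι) (hij : i ≤ j), ∀ σ : Equiv.Perm (Fin d),
      permL L d (P j) σ ((tm d (𝒮.t i j hij)).lTensor L v) =
        (tm d (𝒮.t i j hij)).lTensor L v := by
  classical
  have h0 : ∀ σ : Equiv.Perm (Fin d), ∃ (j : ι) (hij : i ≤ j),
      (tm d (𝒮.t i j hij)).lTensor L (permL L d (P i) σ v - v) = 0 := by
    intro σ
    apply lTensor_zero_exact (tmSys 𝒮 d) L i
    show (tm d (𝒮.φ i)).lTensor L (permL L d (P i) σ v - v) = 0
    rw [map_sub, permL_tm, h σ, sub_self]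
  choose j0 hj0 hz using h0
  obtain ⟨j, hj⟩ := Finset.exists_le (insert i (Finset.univ.image j0))
  have hij : i ≤ j := hj _ (Finset.mem_insert_self _ _)
  have hle : ∀ σ, j0 σ ≤ j := fun σ =>
    hj _ (Finset.mem_insert_of_mem (Finset.mem_image_of_mem _ (Finset.mem_univ σ)))
  refine ⟨j, hij, fun σ => ?_⟩
  have e : (tm d (𝒮.t i j hij)).lTensor L (permL L d (P i) σ v - v) = 0 := by
    have := lT_t_t (tmSys 𝒮 d) L i (j0 σ) j (hj0 σ) (hle σ) (permL L d (P i) σ v - v)
    change (tm d (𝒮.t (j0 σ) j (hle σ))).lTensor L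
      ((tm d (𝒮.t i (j0 σ) (hj0 σ))).lTensor L (permL L d (P i) σ v - v)) =
        (tm d (𝒮.t i j _)).lTensor L (permL L d (P i) σ v - v) at this
    rw [← this, hz, map_zero]
  rw [map_sub, sub_eq_zero, permL_tm] at e
  exact e

end sysL

section free

variable {A : Type u} [CommRing A] {P : Type u} [CommRing P] [Algebra A P] {I : Type u}
  (e : Module.Basis I A P) (d : ℕ) (L : Type u) [AddCommGroup L] [Module A L]

theorem lTensor_rho_of_invariant (w : L ⊗[A] (⨂[A] _ : Fin d, P))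
    (hw : ∀ σ : Equiv.Perm (Fin d), permL L d P σ w = w) :
    (rho e d).lTensor L w = w := by
  classical
  let Ψ := TensorProduct.equivFinsuppOfBasisRight (M := L) (E e d)
  have h1 : ∀ (σ : Equiv.Perm (Fin d)) (w : L ⊗[A] (⨂[A] _ : Fin d, P)) (c' : Fin d → I),
      Ψ (permL L d P σ w) c' = Ψ w (c' ∘ σ) := by
    intro σ w c'
    induction w using TensorProduct.induction_on with
    | zero => simp
    | tmul l t =>
      unfold permL
      rw [LinearMap.lTensor_tmul, TensorProduct.equivFinsuppOfBasisRight_apply_tmul_apply,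
        TensorProduct.equivFinsuppOfBasisRight_apply_tmul_apply, LinearEquiv.coe_coe,
        ← SymTen.perm_apply, repr_perm]
    | add w w' h h' => simp only [map_add, Finsupp.add_apply, h, h']
  have h2 : ∀ (w : L ⊗[A] (⨂[A] _ : Fin d, P)) (c' : Fin d → I),
      Ψ ((rho e d).lTensor L w) c' = Ψ w (repf c') := by
    intro w c'
    induction w using TensorProduct.induction_on with
    | zero => simp
    | tmul l t =>
      rw [LinearMap.lTensor_tmul, TensorProduct.equivFinsuppOfBasisRight_apply_tmul_apply,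
        TensorProduct.equivFinsuppOfBasisRight_apply_tmul_apply, repr_rho]
    | add w w' h h' => simp only [map_add, Finsupp.add_apply, h, h']
  apply Ψ.injective
  ext c'
  rw [h2]
  obtain ⟨σ, hσ⟩ := exists_perm_of_typI_eq (repf c') c' (typI_repf c')
  rw [← hσ, ← h1 σ w c', hw σ]

end free

end Groth.Agent.Lib.helper21.TSBC
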