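import Mathlib
import Groth.Agent.Lib.Helper21.TSBC2

/-!
# Base change of symmetric tensors of a flat module, part 3 (helper21)

For a flat `R`-module `M` and any `R`-module `L`, the map `L ⊗ TS^n(M) → L ⊗ T^n(M)` is injective
(`lTensor_tsM_injective`) and its image is the set of tensors invariant under `1 ⊗ σ`
(`mem_range_lTensor_tsM_iff`): formation of symmetric tensors commutes with arbitrary base change.
-/

set_option autoImplicit false

universe u

open scoped TensorProduct

namespace Groth.Agent.Lib.helper21.TSBC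

open Groth.Agent.Lib.helper6.Lazard Groth.Agent.Lib.helper6.TMColim
open Groth.Agent.Lib.helper6.TSBasis Groth.Agent.Lib.helper6.TSFlatMod

section main

variable (R : Type u) [CommRing R] (M : Type u) [AddCommGroup M] [Module R M] (n : ℕ)
  (L : Type u) [AddCommGroup L] [Module R L]

theorem permL_lTensor_subtype (σ : Equiv.Perm (Fin n)) (z : L ⊗[R] ↥(tsM R M n)) :
    permL L n M σ ((tsM R M n).subtype.lTensor L z) = (tsM R M n).subtype.lTensor L z := by
  unfold permL
  rw [← LinearMap.comp_apply, ← LinearMap.lTensor_comp]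
  congr 2
  exact LinearMap.ext fun u => (mem_tsM _).1 u.2 σ

variable {R M n}

/-- the map on symmetric tensors induced by a linear map from an algebra -/
noncomputable def thetaTS {F : Type u} [CommRing F] [Algebra R F] (φ : F →ₗ[R] M) :
    ↥(SymTen.TS R F n) →ₗ[R] ↥(tsM R M n) :=
  ((tm n φ) ∘ₗ (SymTen.TS R F n).val.toLinearMap).codRestrict (tsM R M n) (fun u => by
    rw [mem_tsM]
    intro σ
    rw [LinearMap.comp_apply, ← tm_reindex]
    congr 1
    exact (SymTen.mem_TS_iff R F n _).1 u.2 σ)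

theorem subtype_thetaTS {F : Type u} [CommRing F] [Algebra R F] (φ : F →ₗ[R] M) :
    (tsM R M n).subtype ∘ₗ thetaTS (n := n) φ = (tm n φ) ∘ₗ (SymTen.TS R F n).val.toLinearMap :=
  LinearMap.ext fun _ => rfl

theorem lTensor_val_injective' {A : Type u} [CommRing A] {P : Type u} [CommRing P] [Algebra A P]
    {I : Type u} (e : Module.Basis I A P) (d : ℕ) (L : Type u) [AddCommGroup L] [Module A L] :
    Function.Injective ((SymTen.TS A P d).val.toLinearMap.lTensor L) := by
  have h : (rhoR e d) ∘ₗ (SymTen.TS A P d).val.toLinearMap = LinearMap.id := by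
    refine LinearMap.ext fun u => ?_
    exact rhoR_val e d u
  intro y y' hy
  have h2 := congrArg ((rhoR e d).lTensor L) hy
  rw [← LinearMap.comp_apply, ← LinearMap.comp_apply, ← LinearMap.lTensor_comp, h,
    LinearMap.lTensor_id] at h2
  exact h2

variable (R M n)

theorem mem_range_of_invariant [Module.Flat R M] (w : L ⊗[R] (⨂[R] _ : Fin n, M))
    (hw : ∀ σ : Equiv.Perm (Fin n), permL L n M σ w = w) :
    w ∈ LinearMap.range ((tsM R M n).subtype.lTensor L) := by
  classical
  obtain ⟨ι, _, _, _, nn, ⟨𝒮⟩⟩ := exists_msys R M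
  obtain ⟨i, v, rfl⟩ := exists_lTensor_eq (tmSys 𝒮 n) L w
  obtain ⟨j, hij, hj⟩ := exists_invariantL 𝒮 L n i v hw
  let ej : Module.Basis (ULift.{u} (Fin (nn j))) R (Fin (nn j) → R) :=
    (Pi.basisFun R (Fin (nn j))).reindex Equiv.ulift.symm
  have h3 := lTensor_rho_of_invariant ej n L _ hj
  refine ⟨(thetaTS (n := n) (𝒮.φ j)).lTensor L
    ((rhoR ej n).lTensor L ((tm n (𝒮.t i j hij)).lTensor L v)), ?_⟩
  rw [← LinearMap.comp_apply, ← LinearMap.comp_apply, ← LinearMap.lTensor_comp,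
    ← LinearMap.lTensor_comp]
  have e1 : ((tsM R M n).subtype ∘ₗ thetaTS (n := n) (𝒮.φ j)) ∘ₗ rhoR ej n =
      (tm n (𝒮.φ j)) ∘ₗ rho ej n := LinearMap.ext fun t => rfl
  rw [e1, LinearMap.lTensor_comp, LinearMap.comp_apply, h3]
  exact lT_φ_t (tmSys 𝒮 n) L i j hij v

theorem lTensor_tsM_injective [Module.Flat R M] :
    Function.Injective ((tsM R M n).subtype.lTensor L) := by
  classical
  rw [injective_iff_map_eq_zero]
  intro z hz
  obtain ⟨ι, _, _, _, nn, ⟨𝒮⟩⟩ := exists_msys R M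
  obtain ⟨m, l, x, rfl⟩ := exists_repr_fin z
  obtain ⟨i, y, hy, hyinv⟩ := exists_lift_invariant_family 𝒮 n (fun k => (x k).1)
    (fun k σ => (mem_tsM _).1 (x k).2 σ)
  have hv : (tm n (𝒮.φ i)).lTensor L (∑ k, l k ⊗ₜ[R] y k) = 0 := by
    rw [map_sum]
    simp only [LinearMap.lTensor_tmul, hy]
    rw [← hz, map_sum]
    simp only [LinearMap.lTensor_tmul, Submodule.subtype_apply]
  obtain ⟨j, hij, hj⟩ := lTensor_zero_exact (tmSys 𝒮 n) L i _ hv
  let ej : Module.Basis (ULift.{u} (Fin (nn j))) R (Fin (nn j) → R) :=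
    (Pi.basisFun R (Fin (nn j))).reindex Equiv.ulift.symm
  let yj : Fin m → ↥(SymTen.TS R (Fin (nn j) → R) n) := fun k =>
    ⟨tm n (𝒮.t i j hij) (y k), by
      rw [SymTen.mem_TS_iff]
      intro σ
      rw [← tm_reindex, hyinv k σ]⟩
  have hu : (SymTen.TS R (Fin (nn j) → R) n).val.toLinearMap.lTensor L
      (∑ k, l k ⊗ₜ[R] yj k) = 0 := by
    rw [← hj, map_sum, map_sum]
    simp only [LinearMap.lTensor_tmul]
    rfl
  have hu0 : (∑ k, l k ⊗ₜ[R] yj k) = 0 :=
    lTensor_val_injective' ej n L (hu.trans (map_zero _).symm)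
  have hθ : ∀ k, thetaTS (n := n) (𝒮.φ j) (yj k) = x k := by
    intro k
    apply Subtype.ext
    show tm n (𝒮.φ j) (tm n (𝒮.t i j hij) (y k)) = (x k).1
    rw [tm_tm_apply, 𝒮.hcomp, hy]
  have : (∑ k, l k ⊗ₜ[R] x k) = (thetaTS (n := n) (𝒮.φ j)).lTensor L (∑ k, l k ⊗ₜ[R] yj k) := by
    rw [map_sum]
    simp only [LinearMap.lTensor_tmul, hθ]
  rw [this, hu0, map_zero]

theorem mem_range_lTensor_tsM_iff [Module.Flat R M] (w : L ⊗[R] (⨂[R] _ : Fin n, M)) :
    w ∈ LinearMap.range ((tsM R M n).subtype.lTensor L) ↔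
      ∀ σ : Equiv.Perm (Fin n), permL L n M σ w = w := by
  constructor
  · rintro ⟨z, rfl⟩ σ
    exact permL_lTensor_subtype R M n L σ z
  · exact mem_range_of_invariant R M n L w

end main

end Groth.Agent.Lib.helper21.TSBC
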