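import Mathlib
import Groth.Agent.Lib.Helper21.TSBC3
import Groth.Agent.Lib.Helper21.TSInv

/-!
# Base change of invariants of a coproduct of copies of a flat algebra (helper21)

`lTensor_invariants`: for the coproduct `B` of `d` copies of a flat `R`-algebra `A` and `C → B`
identifying `C` with the invariants of `B` under the permutation action, for every `R`-module `L`
the map `L ⊗ C → L ⊗ B` is injective with image the invariants of `L ⊗ B`.

`ringHom_bc_invariants`: the same for pushouts `B' = R' ⊗ B`, `C' = R' ⊗ C` in ring-hom form.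
-/

set_option autoImplicit false

universe u

open scoped TensorProduct
open CategoryTheory

namespace Groth.Agent.Lib.helper21.TSBC

open Groth.Agent.Lib.helper6.TSFlatMod Groth.Agent.Lib.helper21.TSInv

section X

variable {R : Type u} [CommRing R] {A : Type u} [CommRing A] [Algebra R A]
  {B : Type u} [CommRing B] [Algebra R B] {d : ℕ} {φ : Fin d → (A →ₐ[R] B)}
  (τ : Equiv.Perm (Fin d) → (B →ₐ[R] B))
  (hτ : ∀ (σ : Equiv.Perm (Fin d)) (i : Fin d), (τ σ).comp (φ i) = φ (σ.symm i))

include hτ in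
theorem lTensor_invariants (h : IsCoprod φ) [Module.Flat R A]
    (C : Type u) [AddCommGroup C] [Module R C] (θ : C →ₗ[R] B) (hθ : Function.Injective θ)
    (hrange : ∀ b, b ∈ Set.range θ ↔ ∀ σ, τ σ b = b)
    (L : Type u) [AddCommGroup L] [Module R L] :
    Function.Injective (θ.lTensor L) ∧
      ∀ w : L ⊗[R] B, w ∈ Set.range (θ.lTensor L) ↔
        ∀ σ, (τ σ).toLinearMap.lTensor L w = w := by
  let Φe : (⨂[R] _ : Fin d, A) ≃ₗ[R] B :=
    LinearEquiv.ofBijective (Φ φ).toLinearMap (Φ_bijective h)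
  have hΦe : ∀ t, Φe t = Φ φ t := fun _ => rfl
  let K : C →ₗ[R] (⨂[R] _ : Fin d, A) := Φe.symm.toLinearMap ∘ₗ θ
  have hK : ∀ c, Φ φ (K c) = θ c := fun c => by
    rw [← hΦe]
    exact Φe.apply_symm_apply (θ c)
  have hmem : ∀ c, K c ∈ tsM R A d := fun c => by
    rw [← invariant_iff τ hτ h, hK]
    exact (hrange _).mp ⟨c, rfl⟩
  let K' : C →ₗ[R] ↥(tsM R A d) := K.codRestrict (tsM R A d) hmem
  have hinj : Function.Injective K' := by
    intro c c' hcc
    have := congrArg Subtype.val hcc
    exact hθ (Φe.symm.injective this)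
  have hsurj : Function.Surjective K' := by
    rintro ⟨t, ht⟩
    obtain ⟨c, hc⟩ := (hrange (Φ φ t)).mpr ((invariant_iff τ hτ h t).mpr ht)
    refine ⟨c, Subtype.ext ?_⟩
    change Φe.symm (θ c) = t
    rw [hc, ← hΦe, Φe.symm_apply_apply]
  let κ : C ≃ₗ[R] ↥(tsM R A d) := LinearEquiv.ofBijective K' ⟨hinj, hsurj⟩
  have hθeq : θ = Φe.toLinearMap ∘ₗ (tsM R A d).subtype ∘ₗ κ.toLinearMap := by
    ext c
    exact (hK c).symm
  have hlT : θ.lTensor L = (Φe.toLinearMap.lTensor L) ∘ₗ ((tsM R A d).subtype.lTensor L) ∘ₗ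
      (κ.toLinearMap.lTensor L) := by
    rw [hθeq, LinearMap.lTensor_comp, LinearMap.lTensor_comp]
  have key : ∀ (σ : Equiv.Perm (Fin d)) (w0 : L ⊗[R] (⨂[R] _ : Fin d, A)),
      (τ σ).toLinearMap.lTensor L (Φe.toLinearMap.lTensor L w0) =
        Φe.toLinearMap.lTensor L (permL L d A σ.symm w0) := by
    intro σ w0
    unfold permL
    rw [← LinearMap.comp_apply, ← LinearMap.comp_apply, ← LinearMap.lTensor_comp,
      ← LinearMap.lTensor_comp]
    congr 2
    exact LinearMap.ext fun t => τ_Φ τ hτ σ t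
  have hΦinj : Function.Injective (Φe.toLinearMap.lTensor L) := (Φe.lTensor L).injective
  have hΦsurj : Function.Surjective (Φe.toLinearMap.lTensor L) := (Φe.lTensor L).surjective
  have hκinj : Function.Injective (κ.toLinearMap.lTensor L) := (κ.lTensor L).injective
  have hκsurj : Function.Surjective (κ.toLinearMap.lTensor L) := (κ.lTensor L).surjective
  refine ⟨?_, fun w => ⟨?_, ?_⟩⟩
  · rw [hlT]
    exact hΦinj.comp ((lTensor_tsM_injective R A d L).comp hκinj)
  · rintro ⟨z, rfl⟩ σ
    rw [← LinearMap.comp_apply, ← LinearMap.lTensor_comp]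
    congr 2
    exact LinearMap.ext fun c => (hrange _).mp ⟨c, rfl⟩ σ
  · intro hw
    obtain ⟨w0, rfl⟩ := hΦsurj w
    have hinv : ∀ σ : Equiv.Perm (Fin d), permL L d A σ w0 = w0 := by
      intro σ
      apply hΦinj
      have := hw σ.symm
      rw [key, Equiv.symm_symm] at this
      exact this
    obtain ⟨z, hz⟩ := mem_range_of_invariant R A d L w0 hinv
    obtain ⟨z', rfl⟩ := hκsurj z
    refine ⟨z', ?_⟩
    rw [hlT, LinearMap.comp_apply, LinearMap.comp_apply, hz]

end X

/-- ring-hom form of the base change of invariants, with pushouts in `CommRingCat` -/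
theorem ringHom_bc_invariants {R A B C R' B' C' : Type u} [CommRing R] [CommRing A] [CommRing B]
    [CommRing C] [CommRing R'] [CommRing B'] [CommRing C'] {d : ℕ}
    (a : R →+* A) (b : R →+* B) (c : R →+* C) (ha : a.Flat)
    (φ : Fin d → (A →+* B)) (hφ : ∀ i, (φ i).comp a = b)
    (hdesc : ∀ (T : Type u) [CommRing T] (ψ : Fin d → (A →+* T)) (ψ₀ : R →+* T),
      (∀ i, (ψ i).comp a = ψ₀) → ∃ m : B →+* T, (∀ i, m.comp (φ i) = ψ i) ∧ m.comp b = ψ₀)
    (hext : ∀ (T : Type u) [CommRing T] (m m' : B →+* T),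
      (∀ i, m.comp (φ i) = m'.comp (φ i)) → m.comp b = m'.comp b → m = m')
    (τ : Equiv.Perm (Fin d) → (B →+* B)) (hτb : ∀ σ, (τ σ).comp b = b)
    (hτ : ∀ σ i, (τ σ).comp (φ i) = φ (σ.symm i))
    (θ : C →+* B) (hθc : θ.comp c = b) (hθ : Function.Injective θ)
    (hrange : ∀ x, x ∈ Set.range θ ↔ ∀ σ, τ σ x = x)
    (r : R →+* R') (b' : R' →+* B') (β : B →+* B') (c' : R' →+* C') (γ : C →+* C')
    (hB : IsPushout (CommRingCat.ofHom r) (CommRingCat.ofHom b) (CommRingCat.ofHom b')
      (CommRingCat.ofHom β))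
    (hC : IsPushout (CommRingCat.ofHom r) (CommRingCat.ofHom c) (CommRingCat.ofHom c')
      (CommRingCat.ofHom γ))
    (θ' : C' →+* B') (hθ'γ : θ'.comp γ = β.comp θ) (hθ'c : θ'.comp c' = b')
    (τ' : Equiv.Perm (Fin d) → (B' →+* B')) (hτ'β : ∀ σ, (τ' σ).comp β = β.comp (τ σ))
    (hτ'b : ∀ σ, (τ' σ).comp b' = b') :
    Function.Injective θ' ∧ ∀ x, x ∈ Set.range θ' ↔ ∀ σ, τ' σ x = x := by
  letI algA : Algebra R A := a.toAlgebra
  letI algB : Algebra R B := b.toAlgebra
  letI algC : Algebra R C := c.toAlgebra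
  letI algR' : Algebra R R' := r.toAlgebra
  letI algB' : Algebra R' B' := b'.toAlgebra
  letI algC' : Algebra R' C' := c'.toAlgebra
  letI algBB' : Algebra B B' := β.toAlgebra
  letI algCC' : Algebra C C' := γ.toAlgebra
  letI algRB' : Algebra R B' := (b'.comp r).toAlgebra
  letI algRC' : Algebra R C' := (c'.comp r).toAlgebra
  haveI : IsScalarTower R R' B' := IsScalarTower.of_algebraMap_eq (fun _ => rfl)
  haveI : IsScalarTower R R' C' := IsScalarTower.of_algebraMap_eq (fun _ => rfl)
  have hwB : b'.comp r = β.comp b := by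
    have := hB.w
    exact congrArg CommRingCat.Hom.hom this
  have hwC : c'.comp r = γ.comp c := by
    have := hC.w
    exact congrArg CommRingCat.Hom.hom this
  haveI : IsScalarTower R B B' := IsScalarTower.of_algebraMap_eq (fun x => congr($hwB x))
  haveI : IsScalarTower R C C' := IsScalarTower.of_algebraMap_eq (fun x => congr($hwC x))
  haveI pB : Algebra.IsPushout R R' B B' := CommRingCat.isPushout_iff_isPushout.mp hB
  haveI pC : Algebra.IsPushout R R' C C' := CommRingCat.isPushout_iff_isPushout.mp hC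
  haveI : Module.Flat R A := ha
  let φ' : Fin d → (A →ₐ[R] B) := fun i =>
    { φ i with commutes' := fun r => congr($(hφ i) r) }
  have hcop : IsCoprod φ' := by
    constructor
    · intro T _ _ ψ
      obtain ⟨m, hm, hm0⟩ := hdesc T (fun i => (ψ i).toRingHom) (algebraMap R T)
        (fun i => by ext r; exact (ψ i).commutes r)
      refine ⟨{ m with commutes' := fun r => congr($hm0 r) }, fun i => ?_⟩
      ext x
      exact congr($(hm i) x)
    · intro T _ _ m m' hmm
      have := hext T m.toRingHom m'.toRingHom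
        (fun i => by ext x; exact congr($(hmm i) x))
        (by ext r; exact (m.commutes r).trans (m'.commutes r).symm)
      ext x
      exact congr($this x)
  let τA : Equiv.Perm (Fin d) → (B →ₐ[R] B) := fun σ =>
    { τ σ with commutes' := fun r => congr($(hτb σ) r) }
  have hτA : ∀ (σ : Equiv.Perm (Fin d)) (i : Fin d), (τA σ).comp (φ' i) = φ' (σ.symm i) := by
    intro σ i
    ext x
    exact congr($(hτ σ i) x)
  let θL : C →ₗ[R] B :=
    { toFun := θ
      map_add' := map_add θ
      map_smul' := fun r x => by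
        change θ (c r * x) = b r * θ x
        rw [map_mul]
        congr 1
        exact congr($hθc r) }
  obtain ⟨hXinj, hXrange⟩ := lTensor_invariants τA hτA hcop C θL hθ hrange R'
  let eB : R' ⊗[R] B ≃ₐ[R'] B' := Algebra.IsPushout.equiv R R' B B'
  let eC : R' ⊗[R] C ≃ₐ[R'] C' := Algebra.IsPushout.equiv R R' C C'
  have heB : ∀ (x : R') (y : B), eB (x ⊗ₜ y) = b' x * β y :=
    fun x y => Algebra.IsPushout.equiv_tmul R R' B B' x y
  have heC : ∀ (x : R') (y : C), eC (x ⊗ₜ y) = c' x * γ y :=
    fun x y => Algebra.IsPushout.equiv_tmul R R' C C' x y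
  have claim1 : ∀ z : R' ⊗[R] C, θ' (eC z) = eB (θL.lTensor R' z) := by
    intro z
    induction z using TensorProduct.induction_on with
    | zero => simp
    | tmul x y =>
      rw [LinearMap.lTensor_tmul, heC, heB, map_mul]
      congr 1
      · exact congr($hθ'c x)
      · exact congr($hθ'γ y)
    | add z z' h h' => simp only [map_add, h, h']
  have claim2 : ∀ (σ : Equiv.Perm (Fin d)) (w : R' ⊗[R] B),
      τ' σ (eB w) = eB ((τA σ).toLinearMap.lTensor R' w) := by
    intro σ w
    induction w using TensorProduct.induction_on with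
    | zero => simp
    | tmul x y =>
      rw [LinearMap.lTensor_tmul, heB, heB, map_mul]
      congr 1
      · exact congr($(hτ'b σ) x)
      · exact congr($(hτ'β σ) y)
    | add z z' h h' => simp only [map_add, h, h']
  refine ⟨?_, fun x => ?_⟩
  · intro x y hxy
    obtain ⟨zx, rfl⟩ := eC.surjective x
    obtain ⟨zy, rfl⟩ := eC.surjective y
    rw [claim1, claim1] at hxy
    rw [hXinj (eB.injective hxy)]
  · obtain ⟨w, rfl⟩ := eB.surjective x
    have h1 : eB w ∈ Set.range θ' ↔ w ∈ Set.range (θL.lTensor R') := by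
      constructor
      · rintro ⟨y, hy⟩
        obtain ⟨z, rfl⟩ := eC.surjective y
        rw [claim1] at hy
        exact ⟨z, eB.injective hy⟩
      · rintro ⟨z, rfl⟩
        exact ⟨eC z, claim1 z⟩
    rw [h1, hXrange]
    refine forall_congr' fun σ => ?_
    rw [claim2]
    exact ⟨fun h => congrArg eB h, fun h => eB.injective h⟩

end Groth.Agent.Lib.helper21.TSBC
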