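import Groth.Agent.Lib.Helper21.AFOrbit4
import Groth.Agent.Lib.Helper21.TSBC4

/-!
# Base change of the symmetric product of a flat (AF) morphism (helper21)
-/

set_option autoImplicit false
universe u
open CategoryTheory CategoryTheory.Limits AlgebraicGeometry TopologicalSpace Opposite

namespace Groth.Agent.Lib.helper21.AFOrbit

section BC

variable {X S S' : Scheme.{u}} (f : X ⟶ S) (b : S' ⟶ S) (n : ℕ)
  (c : SymProd.fibPow (pullback.snd f b) n ⟶ SymProd.fibPow f n)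
  (hcπ : ∀ i : Fin n, c ≫ WidePullback.π (fun _ => f) i =
    WidePullback.π (fun _ => pullback.snd f b) i ≫ pullback.fst f b)
  (hcb : c ≫ WidePullback.base (fun _ => f) = WidePullback.base (fun _ => pullback.snd f b) ≫ b)

include hcπ hcb in
/-- the fibre power commutes with base change -/
theorem isPullback_fibPow :
    IsPullback c (WidePullback.base (fun _ : Fin n => pullback.snd f b))
      (WidePullback.base (fun _ : Fin n => f)) b := by
  refine ⟨⟨hcb⟩, ⟨PullbackCone.IsLimit.mk _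
    (fun s => WidePullback.lift (arrows := fun _ : Fin n => pullback.snd f b) s.snd
      (fun i => pullback.lift (s.fst ≫ WidePullback.π (fun _ => f) i) s.snd (by
        rw [Category.assoc, WidePullback.π_arrow]
        exact s.condition))
      (fun i => pullback.lift_snd _ _ _)) ?_ ?_ ?_⟩⟩
  · intro s
    apply WidePullback.hom_ext
    · intro i
      rw [Category.assoc, hcπ, ← Category.assoc, WidePullback.lift_π, pullback.lift_fst]
    · rw [Category.assoc, hcb, ← Category.assoc, WidePullback.lift_base]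
      exact s.condition.symm
  · intro s
    exact WidePullback.lift_base _ _ _ _
  · intro s m hm1 hm2
    apply WidePullback.hom_ext
    · intro i
      rw [WidePullback.lift_π]
      apply pullback.hom_ext
      · rw [pullback.lift_fst, Category.assoc, ← hcπ, ← Category.assoc, hm1]
      · rw [pullback.lift_snd, Category.assoc, WidePullback.π_arrow, hm2]
    · rw [WidePullback.lift_base, hm2]

include hcπ hcb in
theorem permHom_comp_c (σ : Equiv.Perm (Fin n)) :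
    SymProd.permHom (pullback.snd f b) n σ ≫ c = c ≫ SymProd.permHom f n σ := by
  apply WidePullback.hom_ext
  · intro i
    rw [Category.assoc, hcπ, ← Category.assoc, SymProd.permHom_π, Category.assoc,
      SymProd.permHom_π, hcπ]
  · rw [Category.assoc, hcb, ← Category.assoc, SymProd.permHom_base, Category.assoc,
      SymProd.permHom_base, hcb]

end BC

section Chart

open Groth.Agent.Lib.helper2.QuotLib

theorem isAffineOpen_of_isPullback {X Y S T : Scheme.{u}} {f : T ⟶ S} {g : Y ⟶ X} {iX : X ⟶ S}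
    {iY : Y ⟶ T} (H : IsPullback g iY iX f) {US : S.Opens} {UT : T.Opens} {UX : X.Opens}
    (hUST : UT ≤ f ⁻¹ᵁ US) (hUSX : UX ≤ iX ⁻¹ᵁ US) {UY : Y.Opens}
    (hUY : UY = g ⁻¹ᵁ UX ⊓ iY ⁻¹ᵁ UT) (hUS : IsAffineOpen US) (hUT : IsAffineOpen UT)
    (hUX : IsAffineOpen UX) : IsAffineOpen UY := by
  have : IsAffine _ := hUS
  have : IsAffine _ := hUT
  have : IsAffine _ := hUX
  exact .of_isIso (Scheme.Hom.isPullback_resLE H hUST hUSX hUY).isoPullback.hom

theorem isPushout_of_isPullback {X Y S T : Scheme.{u}} {f : T ⟶ S} {g : Y ⟶ X} {iX : X ⟶ S}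
    {iY : Y ⟶ T} (H : IsPullback g iY iX f) {US : S.Opens} {UT : T.Opens} {UX : X.Opens}
    (hUST : UT ≤ f ⁻¹ᵁ US) (hUSX : UX ≤ iX ⁻¹ᵁ US) {UY : Y.Opens}
    (hUY : UY = g ⁻¹ᵁ UX ⊓ iY ⁻¹ᵁ UT) (hUS : IsAffineOpen US) (hUT : IsAffineOpen UT)
    (hUX : IsAffineOpen UX) :
    IsPushout (iX.appLE US UX hUSX) (f.appLE US UT hUST)
      (g.appLE UX UY (by rw [hUY]; exact inf_le_left))
      (iY.appLE UT UY (by rw [hUY]; exact inf_le_right)) :=
  (isIso_pushoutSection_iff H hUST hUSX hUY).mp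
    (isIso_pushoutSection_of_isAffineOpen H hUST hUSX hUY hUS hUT hUX)

variable {X S S' Y : Scheme.{u}} (f : X ⟶ S) (n : ℕ) (q : SymProd.fibPow f n ⟶ Y) (g : Y ⟶ S)
  (hq : SymProd.IsSymProd f n q g) (b : S' ⟶ S)
  (c : SymProd.fibPow (pullback.snd f b) n ⟶ SymProd.fibPow f n)
  (hcπ : ∀ i : Fin n, c ≫ WidePullback.π (fun _ => f) i =
    WidePullback.π (fun _ => pullback.snd f b) i ≫ pullback.fst f b)
  (hcb : c ≫ WidePullback.base (fun _ => f) = WidePullback.base (fun _ => pullback.snd f b) ≫ b)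
  (q' : SymProd.fibPow (pullback.snd f b) n ⟶ pullback g b)
  (hq'₁ : q' ≫ pullback.fst g b = c ≫ q)
  (hq'₂ : q' ≫ pullback.snd g b = WidePullback.base (fun _ => pullback.snd f b))

include hq hcπ hcb hq'₁ hq'₂ in
theorem inv_q' (σ : ULift.{u} (Equiv.Perm (Fin n))) :
    (SymProd.permActU (pullback.snd f b) n σ).hom ≫ q' = q' := by
  rw [SymProd.permActU_hom]
  apply pullback.hom_ext
  · rw [Category.assoc, hq'₁, ← Category.assoc, permHom_comp_c f b n c hcπ hcb, Category.assoc]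
    have := hq.isQuot.inv ⟨σ.down⟩
    rw [SymProd.permActU_hom] at this
    rw [this]
  · rw [Category.assoc, hq'₂, SymProd.permHom_base]

include hq hcπ hcb hq'₁ hq'₂ in
theorem secCond_chart [Flat f] (S₀ : S.Opens) (hS₀ : IsAffineOpen S₀) (U : X.Opens)
    (hU : IsAffineOpen U) (hUS : U ≤ f ⁻¹ᵁ S₀)
    (VY : Y.Opens) (hVY : q ⁻¹ᵁ VY = boxOpen f n S₀ U) (hgVY : VY ≤ g ⁻¹ᵁ S₀)
    (S'₀ : S'.Opens) (hS'₀ : IsAffineOpen S'₀) (hbS : S'₀ ≤ b ⁻¹ᵁ S₀) :
    IsAffineOpen ((pullback.fst g b) ⁻¹ᵁ VY ⊓ (pullback.snd g b) ⁻¹ᵁ S'₀) ∧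
    IsAffineOpen (q' ⁻¹ᵁ ((pullback.fst g b) ⁻¹ᵁ VY ⊓ (pullback.snd g b) ⁻¹ᵁ S'₀)) ∧
    SecCond (ρ := SymProd.permActU (pullback.snd f b) n) q'
      (inv_q' f n q g hq b c hcπ hcb q' hq'₁ hq'₂)
      ((pullback.fst g b) ⁻¹ᵁ VY ⊓ (pullback.snd g b) ⁻¹ᵁ S'₀) := by
  set V'' : (pullback g b).Opens := (pullback.fst g b) ⁻¹ᵁ VY ⊓ (pullback.snd g b) ⁻¹ᵁ S'₀
    with hV''
  have hbox : IsAffineOpen (boxOpen f n S₀ U) := isAffineOpen_boxOpen f n S₀ U hUS hS₀ hU
  have hVYaff : IsAffineOpen VY := isAffineOpen_of_preimage hq.isQuot VY (hVY ▸ hbox)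
  have HY : IsPullback (pullback.fst g b) (pullback.snd g b) g b := IsPullback.of_hasPullback g b
  have HW := isPullback_fibPow f b n c hcπ hcb
  have hUY : q' ⁻¹ᵁ V'' = c ⁻¹ᵁ (boxOpen f n S₀ U) ⊓
      (WidePullback.base (fun _ : Fin n => pullback.snd f b)) ⁻¹ᵁ S'₀ := by
    rw [hV'', Scheme.Hom.preimage_inf, ← Scheme.Hom.comp_preimage, ← Scheme.Hom.comp_preimage,
      hq'₁, hq'₂, Scheme.Hom.comp_preimage, hVY]
  have hV''aff : IsAffineOpen V'' :=
    isAffineOpen_of_isPullback HY hbS hgVY rfl hS₀ hS'₀ hVYaff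
  have hUYaff : IsAffineOpen (q' ⁻¹ᵁ V'') :=
    isAffineOpen_of_isPullback HW hbS (boxOpen_le_base f n S₀ U) hUY hS₀ hS'₀ hbox
  refine ⟨hV''aff, hUYaff, ?_⟩
  have pC := isPushout_of_isPullback HY hbS hgVY (UY := V'') rfl hS₀ hS'₀ hVYaff
  have pB := isPushout_of_isPullback HW hbS (boxOpen_le_base f n S₀ U) hUY hS₀ hS'₀ hbox
  obtain ⟨hinj, hrange⟩ := isQuot_appLE hq.isQuot VY (boxOpen f n S₀ U) hVY
  have inv := inv_q' f n q g hq b c hcπ hcb q' hq'₁ hq'₂
  have hst := isStable_preimage q' inv V''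
  have key := TSBC.ringHom_bc_invariants (f.appLE S₀ U hUS).hom (cobase f n S₀ U).hom
    (g.appLE S₀ VY hgVY).hom (Flat.flat_appLE f hS₀ hU hUS)
    (fun i => (coproj f n S₀ U i).hom)
    (fun i => congrArg CommRingCat.Hom.hom (appLE_comp_coproj f n S₀ U hUS i))
    ?_ ?_
    (fun σ => (permΓ f n S₀ U σ).hom)
    (fun σ => congrArg CommRingCat.Hom.hom (cobase_permΓ f n S₀ U σ))
    (fun σ i => congrArg CommRingCat.Hom.hom (coproj_permΓ f n S₀ U σ i))
    (q.appLE VY (boxOpen f n S₀ U) hVY.ge).hom ?_ hinj ?_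
    (b.appLE S₀ S'₀ hbS).hom
    ((WidePullback.base (fun _ : Fin n => pullback.snd f b)).appLE S'₀ (q' ⁻¹ᵁ V'')
      (by rw [hUY]; exact inf_le_right)).hom
    (c.appLE (boxOpen f n S₀ U) (q' ⁻¹ᵁ V'') (by rw [hUY]; exact inf_le_left)).hom
    ((pullback.snd g b).appLE S'₀ V'' inf_le_right).hom
    ((pullback.fst g b).appLE VY V'' inf_le_left).hom
    pB.flip pC.flip
    (q'.app V'').hom ?_ ?_
    (fun σ => sig hst ⟨σ⟩) ?_ ?_
  · exact ⟨key.1, fun s hs => (key.2 s).mpr (fun σ => hs ⟨σ⟩)⟩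
  · intro T _ ψ ψ₀ hψ
    refine ⟨(boxDesc f n S₀ U hUS hS₀ hU (CommRingCat.of T) (fun i => CommRingCat.ofHom (ψ i))
      (CommRingCat.ofHom ψ₀) (fun i => by ext r; exact congr($(hψ i) r))).hom, fun i => ?_, ?_⟩
    · exact congrArg CommRingCat.Hom.hom (coproj_boxDesc f n S₀ U hUS hS₀ hU (CommRingCat.of T)
        (fun i => CommRingCat.ofHom (ψ i)) (CommRingCat.ofHom ψ₀) _ i)
    · exact congrArg CommRingCat.Hom.hom (cobase_boxDesc f n S₀ U hUS hS₀ hU (CommRingCat.of T)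
        (fun i => CommRingCat.ofHom (ψ i)) (CommRingCat.ofHom ψ₀) _)
  · intro T _ m m' hmm hmb
    have := boxDesc_ext f n S₀ U hUS hS₀ hU (CommRingCat.of T) (CommRingCat.ofHom m)
      (CommRingCat.ofHom m')
      (fun i => by ext x; exact congr($(hmm i) x))
      (by ext x; exact congr($hmb x))
    exact congrArg CommRingCat.Hom.hom this
  · have : g.appLE S₀ VY hgVY ≫ q.appLE VY (boxOpen f n S₀ U) hVY.ge = cobase f n S₀ U := by
      unfold cobase
      rw [Scheme.Hom.appLE_comp_appLE]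
      exact appLE_congr' hq.over _ _ _ _
    exact congrArg CommRingCat.Hom.hom this
  · intro x
    rw [hrange x]
    constructor
    · intro h σ
      exact h ⟨σ⟩
    · intro h σ
      exact h σ.down
  · -- θ' ∘ γ = β ∘ θ
    have : (pullback.fst g b).appLE VY V'' inf_le_left ≫ q'.app V'' =
        q.appLE VY (boxOpen f n S₀ U) hVY.ge ≫
          c.appLE (boxOpen f n S₀ U) (q' ⁻¹ᵁ V'') (by rw [hUY]; exact inf_le_left) := by
      rw [Scheme.Hom.app_eq_appLE, Scheme.Hom.appLE_comp_appLE, Scheme.Hom.appLE_comp_appLE]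
      exact appLE_congr' hq'₁ _ _ _ _
    exact congrArg CommRingCat.Hom.hom this
  · -- θ' ∘ c' = b'
    have : (pullback.snd g b).appLE S'₀ V'' inf_le_right ≫ q'.app V'' =
        (WidePullback.base (fun _ : Fin n => pullback.snd f b)).appLE S'₀ (q' ⁻¹ᵁ V'')
          (by rw [hUY]; exact inf_le_right) := by
      rw [Scheme.Hom.app_eq_appLE, Scheme.Hom.appLE_comp_appLE]
      exact appLE_congr' hq'₂ _ _ _ _
    exact congrArg CommRingCat.Hom.hom this
  · -- τ' ∘ β = β ∘ τ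
    intro σ
    have : c.appLE (boxOpen f n S₀ U) (q' ⁻¹ᵁ V'') (by rw [hUY]; exact inf_le_left) ≫
        (SymProd.permActU (pullback.snd f b) n ⟨σ⟩).hom.appLE (q' ⁻¹ᵁ V'') (q' ⁻¹ᵁ V'')
          (hst ⟨σ⟩) =
        permΓ f n S₀ U σ ≫
          c.appLE (boxOpen f n S₀ U) (q' ⁻¹ᵁ V'') (by rw [hUY]; exact inf_le_left) := by
      unfold permΓ
      rw [Scheme.Hom.appLE_comp_appLE, Scheme.Hom.appLE_comp_appLE]
      refine appLE_congr' ?_ _ _ _ _
      rw [SymProd.permActU_hom]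
      exact permHom_comp_c f b n c hcπ hcb σ
    exact congrArg CommRingCat.Hom.hom this
  · -- τ' ∘ b' = b'
    intro σ
    have : (WidePullback.base (fun _ : Fin n => pullback.snd f b)).appLE S'₀ (q' ⁻¹ᵁ V'')
          (by rw [hUY]; exact inf_le_right) ≫
        (SymProd.permActU (pullback.snd f b) n ⟨σ⟩).hom.appLE (q' ⁻¹ᵁ V'') (q' ⁻¹ᵁ V'')
          (hst ⟨σ⟩) =
        (WidePullback.base (fun _ : Fin n => pullback.snd f b)).appLE S'₀ (q' ⁻¹ᵁ V'')
          (by rw [hUY]; exact inf_le_right) := by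
      rw [Scheme.Hom.appLE_comp_appLE]
      refine appLE_congr' ?_ _ _ _ _
      rw [SymProd.permActU_hom]
      exact SymProd.permHom_base _ _ σ
    exact congrArg CommRingCat.Hom.hom this

include hq hcπ hcb hq'₁ hq'₂ in
theorem exists_chart_bc [Flat f] (hAF : SymProd.IsAF f) (y' : ↥(pullback g b)) :
    ∃ V'' : (pullback g b).Opens, y' ∈ V'' ∧ IsAffineOpen V'' ∧ IsAffineOpen (q' ⁻¹ᵁ V'') ∧
      SecCond (ρ := SymProd.permActU (pullback.snd f b) n) q'
        (inv_q' f n q g hq b c hcπ hcb q' hq'₁ hq'₂) V'' := by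
  obtain ⟨x, hx⟩ := surjective_of_isQuot hq.isQuot ((pullback.fst g b) y')
  obtain ⟨S₀, hS₀, hxS₀, -⟩ := exists_isAffineOpen_mem_and_subset
    (x := (WidePullback.base (fun _ : Fin n => f)) x) (U := ⊤) trivial
  obtain ⟨U, hU, hUS, hxU⟩ := exists_affine_coords f n hAF x S₀ hxS₀
  have hst : IsStable (SymProd.permActU f n) (boxOpen f n S₀ U) := by
    intro σ
    rw [SymProd.permActU_hom, permHom_preimage_boxOpen]
  obtain ⟨VY, hVY1, hVY2⟩ := exists_open_preimage_eq hq.isQuot (boxOpen f n S₀ U) hst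
  have hgVY : VY ≤ g ⁻¹ᵁ S₀ := by
    intro y₁ hy₁
    have hy₁' : y₁ ∈ (VY : Set Y) := hy₁
    rw [hVY2] at hy₁'
    obtain ⟨p, hp, rfl⟩ := hy₁'
    change g (q p) ∈ S₀
    have := congr($(hq.over) p)
    rw [Scheme.Hom.comp_apply] at this
    rw [this]
    exact ((mem_boxOpen f n).mp hp).1
  have hyVY : (pullback.fst g b) y' ∈ VY := by
    change (pullback.fst g b) y' ∈ (VY : Set Y)
    rw [hVY2]
    exact ⟨x, (mem_boxOpen f n).mpr ⟨hxS₀, hxU⟩, hx⟩
  have hs' : (pullback.snd g b) y' ∈ b ⁻¹ᵁ S₀ := by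
    change b ((pullback.snd g b) y') ∈ S₀
    have := congr($(pullback.condition (f := g) (g := b)) y')
    rw [Scheme.Hom.comp_apply, Scheme.Hom.comp_apply] at this
    rw [← this]
    exact hgVY hyVY
  obtain ⟨S'₀, hS'₀, hs'S'₀, hbS⟩ := exists_isAffineOpen_mem_and_subset
    (x := (pullback.snd g b) y') (U := b ⁻¹ᵁ S₀) hs'
  obtain ⟨h1, h2, h3⟩ := secCond_chart f n q g hq b c hcπ hcb q' hq'₁ hq'₂ S₀ hS₀ U hU hUS VY hVY1
    hgVY S'₀ hS'₀ hbS
  exact ⟨(pullback.fst g b) ⁻¹ᵁ VY ⊓ (pullback.snd g b) ⁻¹ᵁ S'₀, ⟨hyVY, hs'S'₀⟩, h1, h2, h3⟩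

include hq hcπ hcb hq'₁ hq'₂ in
/-- **Formation of the symmetric product of a flat (AF) morphism commutes with base change.** -/
theorem isSymProd_baseChange [Flat f] (hAF : SymProd.IsAF f) :
    SymProd.IsSymProd (pullback.snd f b) n q' (pullback.snd g b) := by
  refine ⟨?_, hq'₂⟩
  choose V'' hmem haff haff' hsec using
    exists_chart_bc f n q g hq b c hcπ hcb q' hq'₁ hq'₂ hAF
  exact isQuot_of_affine_cover q' (inv_q' f n q g hq b c hcπ hcb q' hq'₁ hq'₂) V''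
    (fun y => ⟨y, hmem y⟩) haff haff' hsec

end Chart

end Groth.Agent.Lib.helper21.AFOrbit
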