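import Mathlib
import Groth.Agent.Lib.Helper21.AbShriek
import Groth.Agent.Lib.Helper7.FreeYoneda

/-!
# `j_!` of the constant sheaf `ℤ` on `C/U` is the free abelian sheaf on `U`
-/

open CategoryTheory Limits Opposite

universe u

namespace Groth.Agent.Lib.Helper21.AbShriek

variable {C : Type u} [SmallCategory C] (U : C) (J : GrothendieckTopology C)

/-- sections over `U`, as a set-valued functor -/
noncomputable abbrev secU : Sheaf J AddCommGrpCat.{u} ⥤ Type u :=
  (jStar U J ⋙ (sheafSections (J.over U) AddCommGrpCat.{u}).obj (op (Over.mk (𝟙 U)))) ⋙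
    forget AddCommGrpCat.{u}

/-- the constant sheaf `ℤ` on `C/U`. -/
noncomputable abbrev Zc : Sheaf (J.over U) AddCommGrpCat.{u} :=
  (constantSheaf (J.over U) AddCommGrpCat.{u}).obj (AddCommGrpCat.of (ULift.{u} ℤ))

/-- `j_! ℤ` corepresents sections over `U`. -/
noncomputable def corepShriek : (secU U J).CorepresentableBy ((jShriek U J).obj (Zc U J)) :=
  (((constantSheafAdj (J.over U) AddCommGrpCat.{u} Over.mkIdTerminal).comp
    (jAdj U J)).corepresentableBy (AddCommGrpCat.of (ULift.{u} ℤ))).ofIso
      (Functor.isoWhiskerLeft _ AddCommGrpCat.coyonedaObjIsoForget)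

/-- the free abelian sheaf on `U` corepresents sections over `U`. -/
noncomputable def corepFree :
    (secU U J).CorepresentableBy ((helper7.FreeYoneda.freeSheaf J).obj U) where
  homEquiv {G} := helper7.FreeYoneda.homEquiv J U G
  homEquiv_comp g f := helper7.FreeYoneda.homEquiv_naturality_right J U g f

/-- `j_! ℤ ≅ ℤ[U]`. -/
noncomputable def shriekZIso :
    (jShriek U J).obj (Zc U J) ≅ (helper7.FreeYoneda.freeSheaf J).obj U :=
  (corepShriek U J).uniqueUpToIso (corepFree U J)

end Groth.Agent.Lib.Helper21.AbShriek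

namespace Groth.Agent.Lib.Helper21.AbShriek

variable {C : Type u} [SmallCategory C] (X : C) (J : GrothendieckTopology C)

/-- `j_!` for sheaves of sets. -/
noncomputable abbrev jShriekSet : Sheaf (J.over X) (Type u) ⥤ Sheaf J (Type u) :=
  (Over.forget X).sheafPullback (Type u) (J.over X) J

/-- restriction of sheaves of sets. -/
abbrev jStarSet : Sheaf J (Type u) ⥤ Sheaf (J.over X) (Type u) :=
  (Over.forget X).sheafPushforwardContinuous (Type u) (J.over X) J

/-- the adjunction for sheaves of sets. -/
noncomputable abbrev jAdjSet : jShriekSet X J ⊣ jStarSet X J :=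
  (Over.forget X).sheafAdjunctionContinuous (Type u) (J.over X) J

/-- the free abelian sheaf functor. -/
noncomputable abbrev freeSh {D : Type u} [SmallCategory D] (K : GrothendieckTopology D) :
    Sheaf K (Type u) ⥤ Sheaf K AddCommGrpCat.{u} :=
  Sheaf.composeAndSheafify K AddCommGrpCat.free.{u}

/-- free ⊣ forget on sheaves. -/
noncomputable abbrev freeAdj {D : Type u} [SmallCategory D] (K : GrothendieckTopology D) :
    freeSh K ⊣ sheafCompose K (forget AddCommGrpCat.{u}) :=
  Sheaf.adjunction K AddCommGrpCat.adj.{u}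

/-- restriction commutes with the forgetful functors. -/
def rightIso : jStar X J ⋙ sheafCompose (J.over X) (forget AddCommGrpCat.{u}) ≅
    sheafCompose J (forget AddCommGrpCat.{u}) ⋙ jStarSet X J :=
  NatIso.ofComponents (fun G => Iso.refl _)

/-- `j_!` commutes with the free abelian sheaf functors. -/
noncomputable def shriekFreeIso :
    freeSh (J.over X) ⋙ jShriek X J ≅ jShriekSet X J ⋙ freeSh J :=
  ((freeAdj (J.over X)).comp (jAdj X J)).leftAdjointUniq
    (((jAdjSet X J).comp (freeAdj J)).ofNatIsoRight (rightIso X J).symm)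

end Groth.Agent.Lib.Helper21.AbShriek
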