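import Mathlib

/-!
# Checking the sheaf condition for a sieve after pulling back to "affine" objects

Abstract lemma: `J` a Grothendieck topology on `C`, `P` a `J`-sheaf of types, `𝒜` a class of
objects such that every object is `J`-covered by the arrows factoring through `𝒜`-objects.
If `S` is a sieve on `Y` such that `P` satisfies the sheaf condition for `S.pullback h` for every
`h : A ⟶ Y` with `𝒜 A`, then `P` satisfies the sheaf condition for `S`.

Application: effective epimorphic sieves of schemes can be checked after pulling back to affines.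
-/

set_option autoImplicit false

open CategoryTheory Opposite

namespace Groth.Agent.Lib.Helper21.AffEE

universe w v u

variable {C : Type u} [Category.{v} C]

/-- sieve of arrows factoring through an `𝒜`-object -/
def affSieve (𝒜 : C → Prop) (Y : C) : Sieve Y where
  arrows V v := ∃ (A : C) (a : V ⟶ A) (h : A ⟶ Y), 𝒜 A ∧ a ≫ h = v
  downward_closed := by
    rintro V W v ⟨A, a, h, hA, rfl⟩ k
    exact ⟨A, k ≫ a, h, hA, by simp⟩

theorem fam_congr {P : Cᵒᵖ ⥤ Type w} {Y : C} {R : Presieve Y} (x : Presieve.FamilyOfElements P R)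
    {V : C} {f f' : V ⟶ Y} (e : f = f') (hf : R f) (hf' : R f') : x f hf = x f' hf' := by
  subst e; rfl

theorem isSheafFor_of_aff (J : GrothendieckTopology C) (𝒜 : C → Prop)
    {P : Cᵒᵖ ⥤ Type w} (hP : Presieve.IsSheaf J P)
    (hcov : ∀ Y, affSieve 𝒜 Y ∈ J Y) {Y : C} (S : Sieve Y)
    (hS : ∀ (A : C) (h : A ⟶ Y), 𝒜 A → Presieve.IsSheafFor P (S.pullback h : Presieve A)) :
    Presieve.IsSheafFor P (S : Presieve Y) := by
  intro x hx
  have hxs := hx.to_sieveCompatible
  have key : ∀ (A : C) (h : A ⟶ Y) (_ : 𝒜 A), ∃! t, (x.pullback h).IsAmalgamation t :=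
    fun A h hA => hS A h hA _ (hx.pullback h)
  choose y hy hy' using key
  have y_congr : ∀ (A : C) (h h' : A ⟶ Y) (hA : 𝒜 A), h = h' → y A h hA = y A h' hA := by
    intro A h h' hA e; subst e; rfl
  -- Claim A
  have claimA : ∀ (A A' : C) (h : A ⟶ Y) (hA : 𝒜 A) (hA' : 𝒜 A') (k : A' ⟶ A),
      P.map k.op (y A h hA) = y A' (k ≫ h) hA' := by
    intro A A' h hA hA' k
    apply hy' A' (k ≫ h) hA'
    intro V w hw
    have hw' : (S.pullback h) (w ≫ k) := by
      change S ((w ≫ k) ≫ h)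
      simpa using hw
    have := hy A h hA (w ≫ k) hw'
    rw [op_comp, Functor.map_comp_apply] at this
    rw [this]
    exact fam_congr x (by simp) _ _
  -- Claim B
  have claimB : ∀ (V A A' : C) (a : V ⟶ A) (h : A ⟶ Y) (hA : 𝒜 A) (a' : V ⟶ A') (h' : A' ⟶ Y)
      (hA' : 𝒜 A'), a ≫ h = a' ≫ h' →
      P.map a.op (y A h hA) = P.map a'.op (y A' h' hA') := by
    intro V A A' a h hA a' h' hA' e
    apply (hP _ (hcov V)).isSeparatedFor.ext
    rintro B w ⟨A'', b, c, hA'', rfl⟩
    rw [← Functor.map_comp_apply, ← Functor.map_comp_apply, ← op_comp, ← op_comp,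
      Category.assoc, Category.assoc, op_comp, op_comp (f := b), Functor.map_comp_apply,
      Functor.map_comp_apply, claimA A A'' h hA hA'' (c ≫ a),
      claimA A' A'' h' hA' hA'' (c ≫ a')]
    congr 1
    apply y_congr
    simp [e]
  -- the family on affSieve
  let z : Presieve.FamilyOfElements P (affSieve 𝒜 Y : Presieve Y) := fun V v hv =>
    P.map hv.choose_spec.choose.op
      (y hv.choose hv.choose_spec.choose_spec.choose hv.choose_spec.choose_spec.choose_spec.1)
  have z_eq : ∀ (V A : C) (a : V ⟶ A) (h : A ⟶ Y) (hA : 𝒜 A) (v : V ⟶ Y) (e : a ≫ h = v)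
      (hv : affSieve 𝒜 Y v), z v hv = P.map a.op (y A h hA) := by
    intro V A a h hA v e hv
    apply claimB
    rw [hv.choose_spec.choose_spec.choose_spec.2, e]
  have hz : z.Compatible := by
    intro V₁ V₂ W g₁ g₂ v₁ v₂ hv₁ hv₂ e
    obtain ⟨A₁, a₁, h₁, hA₁, e₁⟩ := hv₁
    obtain ⟨A₂, a₂, h₂, hA₂, e₂⟩ := hv₂
    rw [z_eq V₁ A₁ a₁ h₁ hA₁ v₁ e₁, z_eq V₂ A₂ a₂ h₂ hA₂ v₂ e₂,
      ← Functor.map_comp_apply, ← Functor.map_comp_apply, ← op_comp, ← op_comp]
    apply claimB
    rw [Category.assoc, Category.assoc, e₁, e₂, e]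
  obtain ⟨t, ht, -⟩ := hP _ (hcov Y) z hz
  refine ⟨t, ?_, ?_⟩
  · -- amalgamation
    intro T f hf
    apply (hP _ (hcov T)).isSeparatedFor.ext
    rintro B w ⟨A, b, c, hA, rfl⟩
    have h1 : affSieve 𝒜 Y ((b ≫ c) ≫ f) := ⟨A, b, c ≫ f, hA, by simp⟩
    rw [← Functor.map_comp_apply, ← op_comp, ht _ h1,
      z_eq B A b (c ≫ f) hA _ (by simp) h1]
    have h2 : (S.pullback (c ≫ f)) (𝟙 A) := by
      change S (𝟙 A ≫ c ≫ f)
      simpa using S.downward_closed hf c
    have h3 := hy A (c ≫ f) hA (𝟙 A) h2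
    rw [op_id, Functor.map_id_apply] at h3
    rw [h3, ← hxs f (b ≫ c) hf]
    change P.map b.op (x (𝟙 A ≫ c ≫ f) _) = _
    rw [fam_congr x (Category.id_comp (c ≫ f)) _ (S.downward_closed hf c),
      ← hxs (c ≫ f) b (S.downward_closed hf c)]
    exact fam_congr x (by simp) _ _
  · -- uniqueness
    intro t' ht'
    have aux : ∀ (s : P.obj (op Y)), x.IsAmalgamation s → ∀ (A : C) (h : A ⟶ Y) (hA : 𝒜 A),
        P.map h.op s = y A h hA := by
      intro s hs A h hA
      apply hy' A h hA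
      intro V w hw
      rw [← Functor.map_comp_apply, ← op_comp]
      exact hs (w ≫ h) hw
    apply (hP _ (hcov Y)).isSeparatedFor.ext
    rintro V v ⟨A, a, h, hA, rfl⟩
    have e1 : P.map (a ≫ h).op t' = P.map a.op (y A h hA) := by
      rw [op_comp, Functor.map_comp_apply, aux t' ht' A h hA]
    rw [e1, ht _ ⟨A, a, h, hA, rfl⟩, z_eq V A a h hA _ rfl]

end Groth.Agent.Lib.Helper21.AffEE
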