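import Mathlib

set_option autoImplicit false
universe u
open CategoryTheory CategoryTheory.Limits AlgebraicGeometry

namespace Groth.Agent.Lib.helper21.ArtinOpen

section alg
variable (R : Type u) [CommRing R] [IsNoetherianRing R] [IsLocalRing R] (n : ℕ)

theorem pow_succ_ne_top : IsLocalRing.maximalIdeal R ^ (n + 1) ≠ ⊤ := by
  intro h
  have h1 : IsLocalRing.maximalIdeal R ^ (n + 1) ≤ IsLocalRing.maximalIdeal R :=
    Ideal.pow_le_self (Nat.succ_ne_zero n)
  rw [h] at h1
  exact (IsLocalRing.maximalIdeal.isMaximal R).ne_top (top_le_iff.mp h1)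

instance : Nontrivial (R ⧸ IsLocalRing.maximalIdeal R ^ (n + 1)) :=
  Ideal.Quotient.nontrivial_iff.mpr (pow_succ_ne_top R n)

instance : IsLocalRing (R ⧸ IsLocalRing.maximalIdeal R ^ (n + 1)) :=
  IsLocalRing.of_surjective' (Ideal.Quotient.mk _) Ideal.Quotient.mk_surjective

instance : IsLocalHom (Ideal.Quotient.mk (IsLocalRing.maximalIdeal R ^ (n + 1))) :=
  IsLocalHom.of_surjective _ Ideal.Quotient.mk_surjective

instance : IsArtinianRing (R ⧸ IsLocalRing.maximalIdeal R ^ (n + 1)) := by
  rw [isArtinianRing_iff_isNilpotent_maximalIdeal]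
  refine ⟨n + 1, ?_⟩
  rw [Ideal.zero_eq_bot, eq_bot_iff]
  have h1 : IsLocalRing.maximalIdeal (R ⧸ IsLocalRing.maximalIdeal R ^ (n + 1)) ≤
      (IsLocalRing.maximalIdeal R).map (Ideal.Quotient.mk (IsLocalRing.maximalIdeal R ^ (n + 1))) := by
    intro x hx
    obtain ⟨y, rfl⟩ := Ideal.Quotient.mk_surjective x
    apply Ideal.mem_map_of_mem
    rw [IsLocalRing.mem_maximalIdeal, mem_nonunits_iff] at hx ⊢
    exact fun hy => hx (hy.map _)
  refine (Ideal.pow_right_mono h1 (n + 1)).trans ?_
  rw [← Ideal.map_pow, Ideal.map_quotient_self]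

end alg

/-- transport of vanishing germs along an equality of points -/
theorem germ_eq_zero_of_eq {X : Scheme.{u}} (U : X.Opens) (b : Γ(X, U)) {z z' : X} (h : z' = z)
    (hz : z ∈ U) (hb : X.presheaf.germ U z hz b = 0) :
    X.presheaf.germ U z' (h ▸ hz) b = 0 := by
  subst h
  exact hb

theorem germ_comp_stalkClosedPointTo_congr {X : Scheme.{u}} {A : CommRingCat.{u}} [IsLocalRing A]
    {g₁ g₂ : Spec A ⟶ X} (h : g₁ = g₂) (U : X.Opens) (h₁ : g₁ (IsLocalRing.closedPoint A) ∈ U)
    (a : Γ(X, U)) :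
    (Scheme.stalkClosedPointTo g₁).hom (X.presheaf.germ U _ h₁ a) =
      (Scheme.stalkClosedPointTo g₂).hom (X.presheaf.germ U _ (h ▸ h₁) a) := by
  subst h
  rfl

variable {S Z : Scheme.{u}} [IsLocallyNoetherian S] (i : Z ⟶ S) [IsClosedImmersion i]

theorem stalkMap_injective
    (h : ∀ (A : Type u) [CommRing A] [IsArtinianRing A] [IsLocalRing A] (g : Spec (CommRingCat.of A) ⟶ S),
      (∃ t : Spec (CommRingCat.of (IsLocalRing.ResidueField A)) ⟶ Z,
          t ≫ i = Spec.map (CommRingCat.ofHom (IsLocalRing.residue A)) ≫ g) →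
        ∃ g' : Spec (CommRingCat.of A) ⟶ Z, g' ≫ i = g) (z : Z) :
    Function.Injective (i.stalkMap z).hom := by
  rw [injective_iff_map_eq_zero]
  intro s hs
  have hsurj : Function.Surjective (i.stalkMap z).hom := i.stalkMap_surjective z
  have key : ∀ n : ℕ, s ∈ IsLocalRing.maximalIdeal (S.presheaf.stalk (i z)) ^ (n + 1) := by
    intro n
    let R := S.presheaf.stalk (i z)
    let A := R ⧸ IsLocalRing.maximalIdeal R ^ (n + 1)
    let π : R →+* A := Ideal.Quotient.mk _
    let g : Spec (CommRingCat.of A) ⟶ S := Spec.map (CommRingCat.ofHom π) ≫ S.fromSpecStalk (i z)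
    -- the residue field point factors through Z
    have hker : RingHom.ker (i.stalkMap z).hom ≤ RingHom.ker ((IsLocalRing.residue A).comp π) := by
      intro x hx
      rw [RingHom.mem_ker] at hx ⊢
      rw [RingHom.comp_apply, IsLocalRing.residue_eq_zero_iff]
      have hx' : x ∈ IsLocalRing.maximalIdeal R := by
        rw [IsLocalRing.mem_maximalIdeal, mem_nonunits_iff]
        intro hu
        have := hu.map (i.stalkMap z).hom
        rw [hx] at this
        exact not_isUnit_zero this
      rw [IsLocalRing.mem_maximalIdeal, mem_nonunits_iff] at hx' ⊢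
      exact fun hu => hx' (isUnit_of_map_unit π x hu)
    let τ : Z.presheaf.stalk z →+* IsLocalRing.ResidueField A :=
      (i.stalkMap z).hom.liftOfRightInverse (Function.surjInv hsurj)
        (Function.rightInverse_surjInv hsurj) ⟨(IsLocalRing.residue A).comp π, hker⟩
    have hτ : τ.comp (i.stalkMap z).hom = (IsLocalRing.residue A).comp π :=
      RingHom.liftOfRightInverse_comp _ _ _ _
    obtain ⟨g', hg'⟩ := h A g ⟨Spec.map (CommRingCat.ofHom τ) ≫ Z.fromSpecStalk z, by
      rw [Category.assoc, ← Scheme.SpecMap_stalkMap_fromSpecStalk, ← Spec.map_comp_assoc,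
        ← Spec.map_comp_assoc]
      congr 2
      ext x
      exact congrArg (fun φ => φ x) hτ⟩
    -- the closed point
    haveI : IsLocalHom (CommRingCat.ofHom π).hom :=
      inferInstanceAs (IsLocalHom (Ideal.Quotient.mk (IsLocalRing.maximalIdeal R ^ (n + 1))))
    have hgx : g (IsLocalRing.closedPoint A) = i z := by
      simp only [g, Scheme.Hom.comp_apply]
      rw [Spec_closedPoint, Scheme.fromSpecStalk_closedPoint]
    have hg'x : g' (IsLocalRing.closedPoint A) = z := by
      apply i.isClosedEmbedding.injective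
      exact (congrArg (fun φ : Spec (CommRingCat.of A) ⟶ S => φ (IsLocalRing.closedPoint A)) hg').trans
        hgx
    obtain ⟨U, hzU, a, rfl⟩ := S.presheaf.exists_germ_eq (x := i z) s
    have hU1 : g (IsLocalRing.closedPoint A) ∈ U := by rw [hgx]; exact hzU
    have hU2 : (g' ≫ i) (IsLocalRing.closedPoint A) ∈ U := by rw [hg']; exact hU1
    have hU3 : g' (IsLocalRing.closedPoint A) ∈ i ⁻¹ᵁ U := hU2
    have hs' : Z.presheaf.germ (i ⁻¹ᵁ U) z hzU ((i.app U).hom a) = 0 := by
      rw [← hs]
      exact (congrArg (fun φ => φ.hom a) (Scheme.Hom.germ_stalkMap i U z hzU)).symm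
    have hs'' : Z.presheaf.germ (i ⁻¹ᵁ U) (g' (IsLocalRing.closedPoint A)) hU3
        ((i.app U).hom a) = 0 :=
      germ_eq_zero_of_eq (i ⁻¹ᵁ U) ((i.app U).hom a) hg'x hzU hs'
    have e1 : (Scheme.stalkClosedPointTo g).hom (S.presheaf.germ U _ hU1 a) =
        π (S.presheaf.germ U (i z) hzU a) :=
      congrArg (fun φ => φ.hom a)
        (Scheme.germ_stalkClosedPointTo_Spec_fromSpecStalk (X := S) (x := i z)
          (CommRingCat.ofHom π) U hU1)
    have e2 : (Scheme.stalkClosedPointTo g).hom (S.presheaf.germ U _ hU1 a) =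
        (Scheme.stalkClosedPointTo (g' ≫ i)).hom (S.presheaf.germ U _ hU2 a) :=
      germ_comp_stalkClosedPointTo_congr hg'.symm U hU1 a
    have e3 : (Scheme.stalkClosedPointTo (g' ≫ i)).hom (S.presheaf.germ U _ hU2 a) =
        (Scheme.stalkClosedPointTo g').hom ((i.stalkMap (g' (IsLocalRing.closedPoint A))).hom
          (S.presheaf.germ U (i (g' (IsLocalRing.closedPoint A))) hU2 a)) := by
      rw [Scheme.stalkClosedPointTo_comp]
      rfl
    have e4 : (i.stalkMap (g' (IsLocalRing.closedPoint A))).hom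
          (S.presheaf.germ U (i (g' (IsLocalRing.closedPoint A))) hU2 a) =
        Z.presheaf.germ (i ⁻¹ᵁ U) (g' (IsLocalRing.closedPoint A)) hU3 ((i.app U).hom a) :=
      congrArg (fun φ => φ.hom a) (Scheme.Hom.germ_stalkMap i U _ hU3)
    have hπ : π (S.presheaf.germ U (i z) hzU a) = 0 := by
      rw [← e1, e2, e3, e4, hs'', map_zero]
    exact (Ideal.Quotient.eq_zero_iff_mem).mp hπ
  have hmem : s ∈ ⨅ n : ℕ, IsLocalRing.maximalIdeal (S.presheaf.stalk (i z)) ^ n := by
    rw [Ideal.mem_iInf]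
    intro n
    cases n with
    | zero => simp
    | succ n => exact key n
  rw [Ideal.iInf_pow_eq_bot_of_isLocalRing _ (IsLocalRing.maximalIdeal.isMaximal _).ne_top] at hmem
  exact hmem

theorem isOpenImmersion
    (h : ∀ (A : Type u) [CommRing A] [IsArtinianRing A] [IsLocalRing A] (g : Spec (CommRingCat.of A) ⟶ S),
      (∃ t : Spec (CommRingCat.of (IsLocalRing.ResidueField A)) ⟶ Z,
          t ≫ i = Spec.map (CommRingCat.ofHom (IsLocalRing.residue A)) ≫ g) →
        ∃ g' : Spec (CommRingCat.of A) ⟶ Z, g' ≫ i = g) : IsOpenImmersion i := by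
  haveI : Flat i := by
    rw [Flat.iff_flat_stalkMap]
    intro z
    exact RingHom.Flat.of_bijective ⟨stalkMap_injective i h z, i.stalkMap_surjective z⟩
  exact IsOpenImmersion.of_flat_of_mono i

end Groth.Agent.Lib.helper21.ArtinOpen
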