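import Mathlib
import Groth.Prelude.Def_ega3

/-!
# `H(P ⊗_A B)` via `extendScalars` and via `tensorRight` agree (helper21)

`bcTensorEquiv P p : (CohIII.bcCx (algebraMap A B) P).homology p ≃+ CohIII.T P p (ModuleCat.of A B)`.
-/

set_option autoImplicit false
universe u

open CategoryTheory CategoryTheory.Limits TensorProduct

namespace Groth.Agent.Lib.helper21.BcTensor

variable {A B : Type u} [CommRing A] [CommRing B] [Algebra A B]

/-- the `A`-module `B` (through `algebraMap`) on which `extendScalars` is built -/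
noncomputable abbrev Bmod : ModuleCat.{u} A :=
  (ModuleCat.restrictScalars (algebraMap A B)).obj (ModuleCat.of B B)

/-- `Bmod` is `B` -/
noncomputable def bEquiv : (Bmod (A := A) (B := B)) ≃ₗ[A] B where
  toFun b := b
  invFun b := b
  left_inv _ := rfl
  right_inv _ := rfl
  map_add' _ _ := rfl
  map_smul' a b := by
    let b' : B := b
    show algebraMap A B a * b' = a • b'
    rw [Algebra.smul_def]

/-- `B ⊗ M ≃ M ⊗ B` -/
noncomputable def cEquiv (M : ModuleCat.{u} A) :
    ((Bmod (A := A) (B := B)) ⊗[A] M) ≃ₗ[A] (M ⊗[A] B) :=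
  (TensorProduct.comm A _ _).trans (TensorProduct.congr (LinearEquiv.refl A M) bEquiv)

lemma cEquiv_tmul (M : ModuleCat.{u} A) (b : Bmod (A := A) (B := B)) (m : M) :
    cEquiv M (b ⊗ₜ[A] m) = m ⊗ₜ[A] (bEquiv b) := rfl

lemma cEquiv_natural {M N : ModuleCat.{u} A} (g : M ⟶ N) (z : (Bmod (A := A) (B := B)) ⊗[A] M) :
    cEquiv N (LinearMap.lTensor (Bmod (A := A) (B := B)) g.hom z) =
      LinearMap.rTensor B g.hom (cEquiv M z) := by
  induction z using TensorProduct.induction_on with
  | zero => simp
  | tmul b m => rfl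
  | add x y hx hy => rw [map_add, map_add, hx, hy, map_add, map_add]

variable {ι : Type} {c : ComplexShape ι} (P : HomologicalComplex (ModuleCat.{u} A) c)

/-- forget to abelian groups -/
abbrev FA : ModuleCat.{u} A ⥤ AddCommGrpCat.{u} := forget₂ (ModuleCat.{u} A) AddCommGrpCat.{u}

/-- forget to abelian groups -/
abbrev FB : ModuleCat.{u} B ⥤ AddCommGrpCat.{u} := forget₂ (ModuleCat.{u} B) AddCommGrpCat.{u}

/-- the comparison of underlying complexes of abelian groups -/
noncomputable def cxIso :
    ((FB (B := B)).mapHomologicalComplex c).obj (CohIII.bcCx (algebraMap A B) P) ≅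
      ((FA (A := A)).mapHomologicalComplex c).obj (CohIII.tensorObj P (ModuleCat.of A B)) :=
  HomologicalComplex.Hom.isoOfComponents
    (fun i => (cEquiv (B := B) (P.X i)).toAddEquiv.toAddCommGrpIso) (by
      intro i j _
      apply AddCommGrpCat.hom_ext
      apply AddMonoidHom.ext
      intro z
      exact (cEquiv_natural (B := B) (P.d i j) z).symm)

/-- **`H_p(P ⊗_A B)` computed with `extendScalars` or with `tensorRight`** -/
noncomputable def bcTensorIso (p : ι) :
    (FB (B := B)).obj ((CohIII.bcCx (algebraMap A B) P).homology p) ≅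
      (FA (A := A)).obj (CohIII.T P p (ModuleCat.of A B)) :=
  (((CohIII.bcCx (algebraMap A B) P).sc p).mapHomologyIso (FB (B := B))).symm ≪≫
    (HomologicalComplex.homologyFunctor _ c p).mapIso (cxIso (B := B) P) ≪≫
    (((CohIII.tensorObj P (ModuleCat.of A B)).sc p).mapHomologyIso (FA (A := A)))

/-- **`H_p(P ⊗_A B)` computed with `extendScalars` or with `tensorRight`** -/
noncomputable def bcTensorEquiv (p : ι) :
    (CohIII.bcCx (algebraMap A B) P).homology p ≃+ CohIII.T P p (ModuleCat.of A B) :=
  (bcTensorIso (B := B) P p).addCommGroupIsoToAddEquiv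

end Groth.Agent.Lib.helper21.BcTensor
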