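import Mathlib

/-!
# Cokernels and bifunctors right exact in each variable (helper21)

`T : A ⥤ A ⥤ A` a bifunctor on an abelian category preserving finite colimits in each variable,
`p : A0 ⟶ A'` a cokernel of `a : A1 ⟶ A0`, `q : B0 ⟶ B'` a cokernel of `b : B1 ⟶ B0`. Then
`T(p, q)` is an epimorphism, and every `h : T(A0, B0) ⟶ Z` killing `T(a, B0)` and `T(A0, b)` factors
through it (`exists_desc`).  `isColimitOfEpis` packages this as a cokernel cofork for a morphism
from a coproduct mapping onto the two images.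
-/

set_option autoImplicit false
set_option linter.unusedSectionVars false
universe v u
open CategoryTheory Limits

namespace Groth.Agent.Lib.helper21.BiCoker

variable {A : Type u} [Category.{v} A] [Abelian A] (T : A ⥤ A ⥤ A)
  [∀ X, PreservesFiniteColimits (T.obj X)] [∀ Y, PreservesFiniteColimits (T.flip.obj Y)]
  [∀ X, (T.obj X).PreservesZeroMorphisms] [∀ Y, (T.flip.obj Y).PreservesZeroMorphisms]

variable {A1 A0 A' B1 B0 B' : A}

/-- `T(p, q)` -/
def pq (p : A0 ⟶ A') (q : B0 ⟶ B') : (T.obj A0).obj B0 ⟶ (T.obj A').obj B' :=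
  (T.map p).app B0 ≫ (T.obj A').map q

lemma epi_left (p : A0 ⟶ A') [Epi p] (B : A) : Epi ((T.map p).app B) :=
  inferInstanceAs (Epi ((T.flip.obj B).map p))

lemma epi_pq (p : A0 ⟶ A') (q : B0 ⟶ B') [Epi p] [Epi q] : Epi (pq T p q) := by
  haveI := epi_left T p B0
  unfold pq
  infer_instance

theorem exists_desc {a : A1 ⟶ A0} {p : A0 ⟶ A'} {wa : a ≫ p = 0}
    (hp : IsColimit (CokernelCofork.ofπ p wa)) {b : B1 ⟶ B0} {q : B0 ⟶ B'} {wb : b ≫ q = 0}
    (hq : IsColimit (CokernelCofork.ofπ q wb))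
    {Z : A} (h : (T.obj A0).obj B0 ⟶ Z) (h1 : (T.map a).app B0 ≫ h = 0)
    (h2 : (T.obj A0).map b ≫ h = 0) : ∃ h'' : (T.obj A').obj B' ⟶ Z, pq T p q ≫ h'' = h := by
  haveI : Epi p := epi_of_isColimit_cofork hp
  -- first factor through `T(p, B0)`
  have c1 : IsColimit ((CokernelCofork.ofπ p wa).map (T.flip.obj B0)) :=
    CokernelCofork.mapIsColimit _ hp (T.flip.obj B0)
  have h1' : (T.flip.obj B0).map a ≫ h = 0 := h1
  obtain ⟨h', hh'⟩ : ∃ h' : (T.obj A').obj B0 ⟶ Z, (T.map p).app B0 ≫ h' = h :=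
    ⟨c1.desc (CokernelCofork.ofπ h h1'), c1.fac (CokernelCofork.ofπ h h1') WalkingParallelPair.one⟩
  -- `h'` kills `T(A', b)`
  have h3 : (T.obj A').map b ≫ h' = 0 := by
    haveI := epi_left T p B1
    rw [← cancel_epi ((T.map p).app B1), comp_zero, ← Category.assoc,
      ← (T.map p).naturality b, Category.assoc, hh', h2]
  have c2 : IsColimit ((CokernelCofork.ofπ q wb).map (T.obj A')) :=
    CokernelCofork.mapIsColimit _ hq (T.obj A')
  refine ⟨c2.desc (CokernelCofork.ofπ h' h3), ?_⟩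
  have := c2.fac (CokernelCofork.ofπ h' h3) WalkingParallelPair.one
  unfold pq
  rw [Category.assoc]
  exact (congrArg (fun z => (T.map p).app B0 ≫ z) this).trans hh'

variable {X X' Y : A}

lemma desc_comp {a : A1 ⟶ A0} {p : A0 ⟶ A'} (wa : a ≫ p = 0) {b : B1 ⟶ B0} {q : B0 ⟶ B'}
    (wb : b ≫ q = 0) (u : X ⟶ (T.obj A1).obj B0) (v : X' ⟶ (T.obj A0).obj B1)
    (e : Y ≅ (T.obj A0).obj B0) :
    coprod.desc (u ≫ (T.map a).app B0 ≫ e.inv) (v ≫ (T.obj A0).map b ≫ e.inv) ≫
      e.hom ≫ pq T p q = 0 := by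
  apply coprod.hom_ext
  · rw [coprod.inl_desc_assoc, comp_zero]
    simp only [Category.assoc, Iso.inv_hom_id_assoc]
    unfold pq
    rw [← Category.assoc ((T.map a).app B0), ← NatTrans.comp_app, ← T.map_comp, wa]
    have : (T.map (0 : A1 ⟶ A')).app B0 = 0 := (T.flip.obj B0).map_zero _ _
    rw [this, zero_comp, comp_zero]
  · rw [coprod.inr_desc_assoc, comp_zero]
    simp only [Category.assoc, Iso.inv_hom_id_assoc]
    unfold pq
    rw [← Category.assoc ((T.obj A0).map b), (T.map p).naturality b, Category.assoc,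
      ← (T.obj A').map_comp, wb, (T.obj A').map_zero, comp_zero, comp_zero]

/-- `T(p, q)` (up to `e`) is a cokernel of the morphism from `X ⨿ X'` hitting both images -/
noncomputable def isColimitOfEpis {a : A1 ⟶ A0} {p : A0 ⟶ A'} {wa : a ≫ p = 0}
    (hp : IsColimit (CokernelCofork.ofπ p wa)) {b : B1 ⟶ B0} {q : B0 ⟶ B'} {wb : b ≫ q = 0}
    (hq : IsColimit (CokernelCofork.ofπ q wb))
    (u : X ⟶ (T.obj A1).obj B0) (v : X' ⟶ (T.obj A0).obj B1)
    (e : Y ≅ (T.obj A0).obj B0) [Epi u] [Epi v] :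
    IsColimit (CokernelCofork.ofπ (e.hom ≫ pq T p q) (desc_comp T wa wb u v e)) := by
  haveI : Epi p := epi_of_isColimit_cofork hp
  haveI : Epi q := epi_of_isColimit_cofork hq
  haveI := epi_pq T p q
  have key : ∀ {Z : A} (h : Y ⟶ Z)
      (_ : coprod.desc (u ≫ (T.map a).app B0 ≫ e.inv) (v ≫ (T.obj A0).map b ≫ e.inv) ≫ h = 0),
      ∃ h'' : (T.obj A').obj B' ⟶ Z, pq T p q ≫ h'' = e.inv ≫ h := by
    intro Z h hh
    refine exists_desc T hp hq (e.inv ≫ h) ?_ ?_
    · have := coprod.inl ≫= hh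
      rw [coprod.inl_desc_assoc, comp_zero, Category.assoc, Category.assoc] at this
      exact (cancel_epi u).1 (this.trans comp_zero.symm)
    · have := coprod.inr ≫= hh
      rw [coprod.inr_desc_assoc, comp_zero, Category.assoc, Category.assoc] at this
      exact (cancel_epi v).1 (this.trans comp_zero.symm)
  refine CokernelCofork.IsColimit.ofπ _ _
    (fun {Z} h hh => (key h hh).choose)
    (fun {Z} h hh => ?_) (fun {Z} h hh m hm => ?_)
  · rw [Category.assoc, (key h hh).choose_spec, Iso.hom_inv_id_assoc]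
  · rw [← cancel_epi (pq T p q), (key h hh).choose_spec, ← hm, Category.assoc,
      Iso.inv_hom_id_assoc]

end Groth.Agent.Lib.helper21.BiCoker
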