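import Mathlib
import Groth.Prelude.Def_EtBase
import Groth.Prelude.Def_PBC
import Groth.Agent.Lib.Helper21.FlcExt

/-!
# A criterion for `cst E ⟶ G|_W` to be an isomorphism (`E` a subgroup of `G(W)`)
-/

set_option autoImplicit false

open CategoryTheory CategoryTheory.Limits Opposite AlgebraicGeometry

namespace Groth.Agent.Lib.helper21.CardCrit1

open Groth.Agent.Lib.Helper21.ConstGerm Groth.Agent.Lib.Helper21.FlcConn
  Groth.Agent.Lib.Helper21.FlcRestr Groth.Agent.Lib.Helper21.FlcExt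

universe u

variable {T : Scheme.{u}} (G : EtCoh.Ab T) {W : T.Etale} (E : AddSubgroup (G.obj.obj (op W)))

lemma mem_over_of_pointwise (T' : Over W) (R : Sieve T')
    (h : ∀ t : T'.left.left, ∃ (V : T.Etale) (g : V ⟶ T'.left) (v : V.left), g.left.base v = t ∧
      R.arrows (Over.homMk g : Over.mk (g ≫ T'.hom) ⟶ T')) :
    R ∈ (T.smallEtaleTopology.over W) T' := by
  rw [GrothendieckTopology.mem_over_iff]
  have eX : T.smallEtaleTopology =
      (T.smallPretopology (P := EtCoh.etaleMP) (Q := EtCoh.etaleMP)).toGrothendieck :=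
    Scheme.smallGrothendieckTopology_eq_toGrothendieck_smallPretopology T le_rfl
  have key : ∀ R' : Sieve T'.left,
      R' ∈ (T.smallPretopology (P := EtCoh.etaleMP) (Q := EtCoh.etaleMP)).toGrothendieck T'.left →
        R' ∈ T.smallEtaleTopology T'.left := by
    intro R' hR
    rw [eX]
    exact hR
  apply key
  refine (Scheme.mem_toGrothendieck_smallPretopology T'.left _).2 (fun x => ?_)
  obtain ⟨V, g, v, hv, hR⟩ := h x
  haveI := Groth.Agent.Lib.Helper21.EtGalois.etale_left g
  refine ⟨V, g, v, ?_, inferInstance, hv⟩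
  rw [Sieve.overEquiv_iff]
  exact hR

/-- if nonzero elements of `E` stay nonzero on every nonempty étale `V ⟶ W`, the map
`cst E ⟶ G|_W` is a monomorphism -/
theorem mono_psi
    (hinj : ∀ {V : T.Etale} (q : V ⟶ W), Nonempty V.left → ∀ t : E, G.obj.map q.op t.1 = 0 → t = 0) :
    Mono (psi G E) := by
  haveI : Sheaf.IsLocallyInjective (psi G E) := by
    constructor
    intro T' x y hxy
    apply mem_over_of_pointwise
    intro t
    obtain ⟨V, g, v, hv, b, hb⟩ := local_const_at W (AddCommGrpCat.of E) T'.unop (x - y) t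
    refine ⟨V, g, v, hv, ?_⟩
    have hzero : ((psi G E).hom.app T' : _ ⟶ _) (x - y) = 0 := by
      rw [map_sub, sub_eq_zero]
      exact hxy
    have hnat := congrArg (fun k : (cst.{u + 1, u, u + 1} (T.smallEtaleTopology.over W)
        (AddCommGrpCat.of E)).obj.obj T' ⟶ (EtCoh.restr G W).obj.obj (op (Over.mk (g ≫ T'.unop.hom))) =>
        (k : _ ⟶ _) (x - y))
      ((psi G E).hom.naturality (Over.homMk g : Over.mk (g ≫ T'.unop.hom) ⟶ T'.unop).op)
    have h1 : ((psi G E).hom.app (op (Over.mk (g ≫ T'.unop.hom))) : _ ⟶ _)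
        (eta.{u + 1, u, u + 1} (T.smallEtaleTopology.over W) (AddCommGrpCat.of E)
          (op (Over.mk (g ≫ T'.unop.hom))) b) = 0 := by
      rw [← hb]
      refine hnat.trans ?_
      show ((EtCoh.restr G W).obj.map _ : _ ⟶ _) (((psi G E).hom.app T' : _ ⟶ _) (x - y)) = 0
      rw [hzero, map_zero]
    rw [psi_eta] at h1
    have hb0 : b = 0 := hinj (g ≫ T'.unop.hom) ⟨v⟩ b h1
    rw [hb0, map_zero, map_sub, sub_eq_zero] at hb
    exact hb
  exact Sheaf.mono_of_isLocallyInjective _

/-- if every section of `G` over an étale `V ⟶ W` locally comes from `E`, the map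
`cst E ⟶ G|_W` is an epimorphism -/
theorem epi_psi
    (hsurj : ∀ {V : T.Etale} (q : V ⟶ W) (s : G.obj.obj (op V)) (v : V.left),
      ∃ (V' : T.Etale) (g : V' ⟶ V) (v' : V'.left), g.left.base v' = v ∧
        ∃ t : E, G.obj.map g.op s = G.obj.map (g ≫ q).op t.1) :
    Epi (psi G E) := by
  rw [← Sheaf.isLocallySurjective_iff_epi' (φ := psi G E)]
  constructor
  intro T' s
  apply mem_over_of_pointwise
  intro x
  obtain ⟨V', g, v', hv', t, ht⟩ := hsurj T'.hom s x
  refine ⟨V', g, v', hv', ?_⟩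
  refine ⟨eta.{u + 1, u, u + 1} (T.smallEtaleTopology.over W)
    (AddCommGrpCat.of E) (op (Over.mk (g ≫ T'.hom))) t, ?_⟩
  refine (psi_eta G E (Over.mk (g ≫ T'.hom)) t).trans ?_
  exact ht.symm

theorem isIso_psi
    (hinj : ∀ {V : T.Etale} (q : V ⟶ W), Nonempty V.left → ∀ t : E, G.obj.map q.op t.1 = 0 → t = 0)
    (hsurj : ∀ {V : T.Etale} (q : V ⟶ W) (s : G.obj.obj (op V)) (v : V.left),
      ∃ (V' : T.Etale) (g : V' ⟶ V) (v' : V'.left), g.left.base v' = v ∧
        ∃ t : E, G.obj.map g.op s = G.obj.map (g ≫ q).op t.1) :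
    IsIso (psi G E) := by
  haveI := mono_psi G E hinj
  haveI := epi_psi G E hsurj
  exact isIso_of_mono_of_epi _

end Groth.Agent.Lib.helper21.CardCrit1
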