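import Mathlib

/-!
# Topological lemmas around generic points

* a locally constructible set containing `x` contains `O ∩ closure {x}` for an open `O ∋ x`;
* in a locally Noetherian scheme a point without proper generizations has a neighbourhood contained
  in its closure;
* points of an étale scheme over a generic point have no proper generizations.
-/

set_option autoImplicit false

open CategoryTheory AlgebraicGeometry Topology

namespace Groth.Agent.Lib.helper21.IrredNbhd

universe u

section Constructible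

variable {X : Type*} [TopologicalSpace X]

lemma constructible_aux {s : Set X} (hs : IsConstructible s) :
    ∀ x, (x ∈ s → ∃ O, IsOpen O ∧ x ∈ O ∧ O ∩ closure {x} ⊆ s) ∧
      (x ∉ s → ∃ O, IsOpen O ∧ x ∈ O ∧ O ∩ closure {x} ⊆ sᶜ) := by
  induction hs using IsConstructible.empty_union_induction with
  | open_retrocompact U hU _ =>
    intro x
    refine ⟨fun hx => ⟨U, hU, hx, Set.inter_subset_left⟩, fun hx => ⟨Set.univ, isOpen_univ, trivial, ?_⟩⟩
    rintro y ⟨-, hy⟩
    exact closure_minimal (Set.singleton_subset_iff.2 hx) hU.isClosed_compl hy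
  | union s hs t ht ihs iht =>
    intro x
    refine ⟨fun hx => ?_, fun hx => ?_⟩
    · rcases hx with hx | hx
      · obtain ⟨O, hO, hxO, h⟩ := (ihs x).1 hx
        exact ⟨O, hO, hxO, h.trans Set.subset_union_left⟩
      · obtain ⟨O, hO, hxO, h⟩ := (iht x).1 hx
        exact ⟨O, hO, hxO, h.trans Set.subset_union_right⟩
    · have hxs : x ∉ s := fun h => hx (Or.inl h)
      have hxt : x ∉ t := fun h => hx (Or.inr h)
      obtain ⟨O, hO, hxO, h⟩ := (ihs x).2 hxs
      obtain ⟨O', hO', hxO', h'⟩ := (iht x).2 hxt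
      refine ⟨O ∩ O', hO.inter hO', ⟨hxO, hxO'⟩, ?_⟩
      rintro y ⟨⟨hy, hy'⟩, hyc⟩
      rw [Set.compl_union]
      exact ⟨h ⟨hy, hyc⟩, h' ⟨hy', hyc⟩⟩
  | compl s hs ih =>
    intro x
    refine ⟨fun hx => (ih x).2 hx, fun hx => ?_⟩
    have hx' : x ∈ s := by
      by_contra h
      exact hx h
    obtain ⟨O, hO, hxO, h⟩ := (ih x).1 hx'
    exact ⟨O, hO, hxO, by rw [compl_compl]; exact h⟩

/-- a locally constructible set containing `x` contains a neighbourhood of `x` in `closure {x}` -/
theorem exists_open_inter_closure_subset {s : Set X} (hs : IsLocallyConstructible s) {x : X}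
    (hx : x ∈ s) : ∃ O, IsOpen O ∧ x ∈ O ∧ O ∩ closure {x} ⊆ s := by
  obtain ⟨U, hUx, hU, hc⟩ := hs x
  have hxU : x ∈ U := mem_of_mem_nhds hUx
  obtain ⟨O', hO', hxO', h⟩ := (constructible_aux hc ⟨x, hxU⟩).1 hx
  refine ⟨Subtype.val '' O', hU.isOpenMap_subtype_val _ hO', ⟨⟨x, hxU⟩, hxO', rfl⟩, ?_⟩
  rintro _ ⟨⟨y, hyO', rfl⟩, hyc⟩
  have hy : y ∈ closure ({⟨x, hxU⟩} : Set U) := by
    rw [closure_subtype, Set.image_singleton]
    exact hyc
  exact h ⟨hyO', hy⟩

end Constructible

section Noeth

/-- in a Noetherian sober space, a point without proper generizations has a neighbourhood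
contained in its closure -/
theorem exists_open_subset_closure_of_noetherianSpace {U : Type*} [TopologicalSpace U]
    [TopologicalSpace.NoetherianSpace U] [QuasiSober U] [T0Space U] (w : U)
    (hw : ∀ w' : U, w' ⤳ w → w' = w) :
    ∃ O : Set U, IsOpen O ∧ w ∈ O ∧ O ⊆ closure {w} := by
  classical
  let S : Set (Set U) := {Z ∈ irreducibleComponents U | w ∉ Z}
  have hSfin : S.Finite :=
    (TopologicalSpace.NoetherianSpace.finite_irreducibleComponents (α := U)).subset
      (fun Z hZ => hZ.1)
  have hclosed : IsClosed (⋃₀ S) := by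
    rw [Set.sUnion_eq_biUnion]
    exact hSfin.isClosed_biUnion (fun Z hZ => isClosed_of_mem_irreducibleComponents Z hZ.1)
  refine ⟨(⋃₀ S)ᶜ, hclosed.isOpen_compl, ?_, ?_⟩
  · rintro ⟨Z, hZ, hwZ⟩
    exact hZ.2 hwZ
  · intro o ho
    have ho' : o ∈ ⋃₀ irreducibleComponents U := by
      rw [sUnion_irreducibleComponents]; trivial
    obtain ⟨Z, hZ, hoZ⟩ := ho'
    have hwZ : w ∈ Z := by
      by_contra h
      exact ho ⟨Z, ⟨hZ, h⟩, hoZ⟩
    have hZirr : IsIrreducible Z := hZ.1
    have hZcl : IsClosed Z := isClosed_of_mem_irreducibleComponents Z hZ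
    have hgen := hZirr.isGenericPoint_genericPoint_closure
    rw [hZcl.closure_eq] at hgen
    have hsp : hZirr.genericPoint ⤳ w := by
      rw [specializes_iff_mem_closure, hgen.def]
      exact hwZ
    have heq := hw _ hsp
    rw [heq] at hgen
    rw [hgen.def]
    exact hoZ

/-- in a locally Noetherian scheme, a point without proper generizations has an open neighbourhood
contained in its closure -/
theorem exists_open_subset_closure (W : Scheme.{u}) [IsLocallyNoetherian W] (w : W)
    (hw : ∀ w' : W, w' ⤳ w → w' = w) :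
    ∃ O : W.Opens, w ∈ O ∧ (O : Set W) ⊆ closure {w} := by
  obtain ⟨_, ⟨V, hV : IsAffineOpen V, rfl⟩, hwV, -⟩ :=
    W.isBasis_affineOpens.exists_subset_of_mem_open (Set.mem_univ w) isOpen_univ
  have hN : TopologicalSpace.NoetherianSpace (V : Set W) := by
    have := IsLocallyNoetherian.component_noetherian (X := W) ⟨V, hV⟩
    have : IsNoetherianRing Γ(W, V) := this
    have e := hV.isoSpec
    have h1 : TopologicalSpace.NoetherianSpace (Spec Γ(W, V)) :=
      inferInstanceAs (TopologicalSpace.NoetherianSpace (PrimeSpectrum Γ(W, V)))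
    exact (TopologicalSpace.noetherianSpace_iff_of_homeomorph e.hom.homeomorph).2 h1
  have hQ : QuasiSober (V : Set W) := V.isOpenEmbedding'.quasiSober
  obtain ⟨O, hO, hwO, hOc⟩ := exists_open_subset_closure_of_noetherianSpace
    (U := (V : Set W)) (⟨w, hwV⟩ : (V : Set W)) (by
      intro w' hw'
      apply Subtype.ext
      exact hw w'.1 ((subtype_specializes_iff w' ⟨w, hwV⟩).1 hw'))
  refine ⟨⟨Subtype.val '' O, V.2.isOpenMap_subtype_val _ hO⟩, ⟨⟨w, hwV⟩, hwO, rfl⟩, ?_⟩
  rintro _ ⟨o, hoO, rfl⟩
  have h1 := hOc hoO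
  rw [closure_subtype, Set.image_singleton] at h1
  exact h1

end Noeth

section Etale

/-- Étale morphisms are locally quasi-finite. -/
theorem locallyQuasiFinite_of_etale {X Y : Scheme.{u}} (f : X ⟶ Y) [Etale f] :
    LocallyQuasiFinite f where
  quasiFinite_appLE {U} hU {V} hV e := by
    have h := f.etale_appLE hU hV e
    algebraize [(f.appLE U V e).hom]
    exact (inferInstance : Algebra.QuasiFinite Γ(Y, U) Γ(X, V))

/-- a point of an étale scheme lying over a generic point has no proper generizations -/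
theorem eq_of_specializes_of_etale {W T : Scheme.{u}} (f : W ⟶ T) [Etale f] (t₀ : T)
    (ht₀ : closure ({t₀} : Set T) = Set.univ) (w : W) (hw : f w = t₀) (w' : W) (h : w' ⤳ w) :
    w' = w := by
  have := locallyQuasiFinite_of_etale f
  have h1 : f w' ⤳ t₀ := hw ▸ h.map f.continuous
  have h2 : t₀ ⤳ f w' := by
    rw [specializes_iff_mem_closure, ht₀]; trivial
  have h3 : f w' = t₀ := (h1.antisymm h2).eq
  have hd : _root_.IsDiscrete (f ⁻¹' {t₀}) := f.isDiscrete_preimage_singleton t₀
  have : DiscreteTopology (f ⁻¹' {t₀}) := hd.to_subtype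
  have h4 : (⟨w', h3⟩ : f ⁻¹' {t₀}) ⤳ ⟨w, hw⟩ := (subtype_specializes_iff _ _).2 h
  exact congrArg Subtype.val h4.eq

end Etale

end Groth.Agent.Lib.helper21.IrredNbhd
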