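import Mathlib
import Groth.Prelude.Def_EtBase
import Groth.Prelude.Def_PBC
import Groth.Agent.Lib.Helper21.SuppConstr

/-!
# Stalks of locally constant sheaves and the stalk-cardinality loci

* `stalkOfConst` : for a sheaf `G` trivialised over an étale `U` with value group `M`, and a lift of
  a geometric point `ζ` to `U`, the map `M → G_ζ` is bijective.
* `cardLoc F n` : the set of points over which some geometric stalk has exactly `n` elements; for a
  constructible sheaf it is locally constructible.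
-/

set_option autoImplicit false

open CategoryTheory CategoryTheory.Limits Opposite AlgebraicGeometry

namespace Groth.Agent.Lib.helper21.StalkConst

open Groth.Agent.Lib.helper21.Constr Groth.Agent.Lib.helper21.Strata
  Groth.Agent.Lib.helper21.SubConstr Groth.Agent.Lib.helper21.FlcPull
  Groth.Agent.Lib.Helper21.ConstGerm Groth.Agent.Lib.Helper21.FlcConn
  Groth.Agent.H1.EtStalk Groth.Agent.H1.EtGerm Groth.Agent.H1.EtStalkPull
  Groth.Agent.Lib.helper21.SuppConstr

open scoped Set.Notation

universe u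

variable {X : Scheme.{u}}

section Flc

variable {T : Scheme.{u}} (G : EtCoh.Ab T) {U : T.Etale} {M : AddCommGrpCat.{u + 1}}
  (e : EtCoh.restr G U ≅ cst.{u + 1, u, u + 1} (T.smallEtaleTopology.over U) M)
  {Ω : Type u} [Field Ω] [IsSepClosed Ω] (ζ : Spec (CommRingCat.of Ω) ⟶ T) (y : Lift ζ U)

/-- the map from the value group to the stalk -/
noncomputable def stalkOfConst : M →+ (EtCoh.stalk ζ).obj G :=
  (germ ζ G U y).comp (Groth.Agent.Lib.helper21.SubConst.sig G e (𝟙 U))

lemma stalkOfConst_apply (a : M) :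
    stalkOfConst G e ζ y a = germ ζ G U y (sec0 G e (𝟙 U) a) := rfl

lemma stalkOfConst_injective : Function.Injective (stalkOfConst G e ζ y) := by
  rw [injective_iff_map_eq_zero]
  intro a ha
  rw [stalkOfConst_apply] at ha
  obtain ⟨V, g, y', -, hs⟩ := (germ_eq_zero_iff G U y _).1 ha
  rw [sec0_nat] at hs
  have h2 : sec0 G e (g ≫ 𝟙 U) (0 : M) = 0 := by
    rw [← Groth.Agent.Lib.helper21.SubConst.sig_apply, map_zero]
  exact sec0_inj G e (g ≫ 𝟙 U) (y'.hom default) a 0 (hs.trans h2.symm)

lemma stalkOfConst_surjective : Function.Surjective (stalkOfConst G e ζ y) := by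
  intro p
  obtain ⟨V, x, s, rfl⟩ := germ_surjective G p
  obtain ⟨⟨W, w⟩, ⟨a, ha⟩, ⟨b, hb⟩, -⟩ := IsCofilteredOrEmpty.cone_objs
    (C := (Scheme.pointSmallEtale ζ).fiber.Elements) ⟨V, x⟩ ⟨U, y⟩
  have ha' : Lift.map a w = x := ha
  have hb' : Lift.map b w = y := hb
  obtain ⟨V', g, v, hv, m, hm⟩ := exists_sec0 G e b (G.obj.map a.op s) (Lift.hom w default)
  obtain ⟨y', hy', -⟩ := exists_lift_of_point g w v hv
  refine ⟨m, ?_⟩
  rw [stalkOfConst_apply]
  have h1 : germ ζ G V x s = germ ζ G V' y' (G.obj.map g.op (G.obj.map a.op s)) := by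
    rw [germ_res, germ_res, hy', ha']
  have h2 : sec0 G e (g ≫ b) m = G.obj.map (g ≫ b).op (sec0 G e (𝟙 U) m) := by
    rw [sec0_nat, Category.comp_id]
  have h3 : Lift.map (g ≫ b) y' = y := by
    have : Lift.map (g ≫ b) y' = Lift.map b (Lift.map g y') :=
      FunctorToTypes.map_comp_apply (Scheme.pointSmallEtale ζ).fiber g b y'
    rw [this, hy', hb']
  rw [h1, hm, h2, germ_res, h3]

include e y in
lemma card_stalk_eq : Nat.card ((EtCoh.stalk ζ).obj G) = Nat.card M :=
  (Nat.card_congr (Equiv.ofBijective _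
    ⟨stalkOfConst_injective G e ζ y, stalkOfConst_surjective G e ζ y⟩)).symm

end Flc

/-- the locus of points over which some geometric stalk of `F` has exactly `n` elements -/
def cardLoc (F : EtCoh.Ab X) (n : ℕ) : Set X :=
  {x | ∃ (Ω : Type u) (_ : Field Ω) (_ : IsSepClosed Ω) (ξ : Spec (CommRingCat.of Ω) ⟶ X),
    Set.range ξ = {x} ∧ Nat.card ((EtCoh.stalk ξ).obj F) = n}

theorem cardLoc_inter_range {T : Scheme.{u}} (g : T ⟶ X) [IsImmersion g] (F : EtCoh.Ab X) (n : ℕ) :
    cardLoc F n ∩ Set.range g = g '' cardLoc ((EtCoh.pull g).obj F) n := by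
  ext x
  constructor
  · rintro ⟨⟨Ω, _, _, ξ, hξ, hn⟩, hx⟩
    have hξx : ξ default = x := by
      have : ξ default ∈ Set.range ξ := ⟨default, rfl⟩
      rw [hξ] at this
      exact this
    obtain ⟨ζ, hζ⟩ := exists_lift_of_immersion g ξ (by rw [hξx]; exact hx)
    refine ⟨ζ default, ⟨Ω, inferInstance, inferInstance, ζ, range_geom ζ, ?_⟩, ?_⟩
    · have e := (stalkPullIso g ζ).app F
      rw [hζ] at e
      rw [← hn]
      exact Nat.card_congr (e.addCommGroupIsoToAddEquiv.toEquiv)
    · rw [← hξx, ← hζ]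
      rfl
  · rintro ⟨t, ⟨Ω, _, _, ζ, hζ, hn⟩, rfl⟩
    refine ⟨⟨Ω, inferInstance, inferInstance, ζ ≫ g, ?_, ?_⟩, ⟨t, rfl⟩⟩
    · rw [range_geom]
      have : ζ default = t := by
        have : ζ default ∈ Set.range ζ := ⟨default, rfl⟩
        rw [hζ] at this
        exact this
      rw [← this]
      rfl
    · rw [← hn]
      exact Nat.card_congr (((stalkPullIso g ζ).app F).addCommGroupIsoToAddEquiv.toEquiv).symm

/-- the stalk-cardinality loci of a finite locally constant sheaf are open and closed -/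
theorem isClopen_cardLoc_of_flc {T : Scheme.{u}} (G : EtCoh.Ab T)
    (hG : EtCoh.IsFiniteLocallyConstant G) (n : ℕ) : IsClopen (cardLoc G n) := by
  obtain ⟨I, U, hcov, h⟩ := hG
  choose M iM fM e using h
  have key : ∀ i (u : (U i).left), (U i).hom u ∈ cardLoc G n ↔ Nat.card (M i) = n := by
    intro i u
    obtain ⟨ei⟩ := e i
    haveI : AlgebraicGeometry.Etale (U i).hom := (U i).prop
    have hcardM : Nat.card (AddCommGrpCat.of (ULift.{u + 1} (M i))) = Nat.card (M i) :=
      Nat.card_congr Equiv.ulift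
    constructor
    · rintro ⟨Ω, _, _, ζ, hζ, hn⟩
      have hζu : (U i).hom u = ζ default := by
        have : ζ default ∈ Set.range ζ := ⟨default, rfl⟩
        rw [hζ] at this
        exact this.symm
      obtain ⟨l, hl1, -⟩ := Scheme.exists_fac_of_etale_of_isSepClosed (U i).hom ζ u hζu
      rw [← hn, card_stalk_eq G ei ζ (Lift.mk ζ l hl1), hcardM]
    · intro hn
      refine ⟨_, inferInstance, inferInstance, geomPt (U i).left u ≫ (U i).hom, ?_, ?_⟩
      · rw [range_geom]
        congr 1
        exact congrArg (fun t => (U i).hom t) (geomPt_default (U i).left u)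
      · rw [card_stalk_eq G ei _
          (Lift.mk (geomPt (U i).left u ≫ (U i).hom) (geomPt (U i).left u) rfl), hcardM, hn]
  have hopen : ∀ i, IsOpen (Set.range (U i).hom) := fun i => by
    haveI : AlgebraicGeometry.Etale (U i).hom := (U i).prop
    exact (U i).hom.isOpenMap.isOpen_range
  have h1 : cardLoc G n = ⋃ (i : {i // Nat.card (M i) = n}), Set.range (U i.1).hom := by
    ext t
    simp only [Set.mem_iUnion]
    constructor
    · intro ht
      obtain ⟨i, u, hu⟩ := hcov t
      have hu' : (U i).hom u = t := hu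
      rw [← hu'] at ht
      exact ⟨⟨i, (key i u).1 ht⟩, u, hu'⟩
    · rintro ⟨⟨i, hi⟩, u, rfl⟩
      exact (key i u).2 hi
  have h2 : (cardLoc G n)ᶜ = ⋃ (i : {i // ¬ Nat.card (M i) = n}), Set.range (U i.1).hom := by
    ext t
    simp only [Set.mem_iUnion, Set.mem_compl_iff]
    constructor
    · intro ht
      obtain ⟨i, u, hu⟩ := hcov t
      have hu' : (U i).hom u = t := hu
      rw [← hu'] at ht
      exact ⟨⟨i, fun hi => ht ((key i u).2 hi)⟩, u, hu'⟩
    · rintro ⟨⟨i, hi⟩, u, rfl⟩ ht
      exact hi ((key i u).1 ht)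
  refine ⟨?_, ?_⟩
  · rw [← isOpen_compl_iff, h2]
    exact isOpen_iUnion (fun i => hopen i.1)
  · rw [h1]
    exact isOpen_iUnion (fun i => hopen i.1)

/-- on a quasi-compact quasi-separated scheme the stalk-cardinality loci of a constructible sheaf
are constructible -/
theorem isConstructible_cardLoc [CompactSpace X] [QuasiSeparatedSpace X] (F : EtCoh.Ab X)
    (hF : EtPBC.IsConstructible F) (n : ℕ) : Topology.IsConstructible (cardLoc F n) := by
  rw [constructible_iff_univ] at hF
  obtain ⟨m, T, g, hi, hc, hd, hu, hf⟩ := hF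
  have h1 : cardLoc F n = ⋃ i, g i '' cardLoc ((EtCoh.pull (g i)).obj F) n := by
    have h2 : cardLoc F n = cardLoc F n ∩ ⋃ i, Set.range (g i) := by
      rw [hu, Set.inter_univ]
    rw [h2, Set.inter_iUnion]
    exact Set.iUnion_congr (fun i => by haveI := hi i; exact cardLoc_inter_range (g i) F n)
  rw [h1]
  apply Topology.IsConstructible.iUnion
  intro i
  haveI := hi i
  have hci := (constructible_univ_iff _).1 (hc i)
  haveI : CompactSpace (T i) := compactSpace_of_immersion (g i) hci
  haveI : QuasiSeparatedSpace (T i) := quasiSeparatedSpace_of_immersion (g i)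
  have hA : IsClopen (cardLoc ((EtCoh.pull (g i)).obj F) n) := isClopen_cardLoc_of_flc _ (hf i) n
  have hAc : Topology.IsConstructible (cardLoc ((EtCoh.pull (g i)).obj F) n) :=
    hA.1.isCompact.isConstructible hA.2
  exact Groth.Agent.Lib.helper21.ConstrTop.isConstructible_image_of_isEmbedding (g i)
    (g i).isEmbedding (g i).isLocallyClosed_range hci hAc

/-- the stalk-cardinality loci of a constructible sheaf are locally constructible -/
theorem isLocallyConstructible_cardLoc (F : EtCoh.Ab X) (hF : EtPBC.IsConstructible F) (n : ℕ) :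
    Topology.IsLocallyConstructible (cardLoc F n) := by
  apply Topology.IsLocallyConstructible.of_isOpenCover
    (U := fun U : X.affineOpens => U.1) (iSup_affineOpens_eq_top X)
  intro U
  haveI : IsAffine U.1.toScheme := U.2
  have h1 := isConstructible_cardLoc _ (constructible_pull U.1.ι F hF) n
  have h2 : ((U.1 : Set X) ↓∩ cardLoc F n) = cardLoc ((EtCoh.pull U.1.ι).obj F) n := by
    have h3 := cardLoc_inter_range U.1.ι F n
    ext u
    constructor
    · intro hu
      have h4 : U.1.ι u ∈ cardLoc F n ∩ Set.range U.1.ι := ⟨hu, u, rfl⟩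
      rw [h3] at h4
      obtain ⟨u', hu', he⟩ := h4
      rw [← U.1.ι.isOpenEmbedding.injective he]
      exact hu'
    · intro hu
      have h4 : U.1.ι u ∈ U.1.ι '' cardLoc ((EtCoh.pull U.1.ι).obj F) n := ⟨u, hu, rfl⟩
      rw [← h3] at h4
      exact h4.1
  rw [h2]
  exact h1.isLocallyConstructible

end Groth.Agent.Lib.helper21.StalkConst
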