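import Mathlib
import Groth.Prelude.Def_EtBase
import Groth.Prelude.Def_PBC
import Groth.Agent.Lib.Helper21.CardCrit1
import Groth.Agent.Lib.Helper21.StalkSplit
import Groth.Agent.Lib.Helper21.IrredNbhd
import Groth.Agent.Lib.Helper21.StalkConst

/-!
# A sheaf with finite stalks of constant cardinality is constant near a generic point
-/

set_option autoImplicit false

open CategoryTheory CategoryTheory.Limits Opposite AlgebraicGeometry

namespace Groth.Agent.Lib.helper21.CardCrit2

open Groth.Agent.Lib.Helper21.ConstGerm Groth.Agent.Lib.Helper21.FlcExt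
  Groth.Agent.H1.EtStalk Groth.Agent.H1.EtGerm
  Groth.Agent.Lib.helper21.StalkConst Groth.Agent.Lib.helper21.StalkSplit
  Groth.Agent.Lib.helper21.IrredNbhd Groth.Agent.Lib.helper21.CardCrit1

universe u

variable {T : Scheme.{u}} (G : EtCoh.Ab T)

lemma map_comp_apply' {V V' V'' : T.Etale} (k : V' ⟶ V) (l : V'' ⟶ V') (s : G.obj.obj (op V)) :
    G.obj.map (l ≫ k).op s = G.obj.map l.op (G.obj.map k.op s) := by
  rw [op_comp, Functor.map_comp, ConcreteCategory.comp_apply]

lemma default_eq_of_range {Ω : Type u} [Field Ω] (ζ : Spec (CommRingCat.of Ω) ⟶ T) {t : T}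
    (h : Set.range ζ = {t}) : ζ default = t := by
  have : ζ default ∈ Set.range ζ := ⟨default, rfl⟩
  rw [h] at this
  exact this

theorem exists_triv_near_generic [IsLocallyNoetherian T] (t₀ : T)
    (ht₀ : closure ({t₀} : Set T) = Set.univ) (n : ℕ)
    (hfin : ∀ (Ω : Type u) [Field Ω] [IsSepClosed Ω] (ζ : Spec (CommRingCat.of Ω) ⟶ T),
      Finite ((EtCoh.stalk ζ).obj G))
    (hcard : ∀ t : T, t ∈ cardLoc G n) :
    ∃ (W₂ : T.Etale) (w₂ : W₂.left) (M : AddCommGrpCat.{u + 1}) (_ : Finite M),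
      W₂.hom w₂ = t₀ ∧
      Nonempty (EtCoh.restr G W₂ ≅ cst.{u + 1, u, u + 1} (T.smallEtaleTopology.over W₂) M) := by
  classical
  obtain ⟨Ω₀, _, _, ζ₀, hζ₀, hn₀⟩ := hcard t₀
  haveI := hfin Ω₀ ζ₀
  obtain ⟨W, w, σ, hσ⟩ := exists_splitting G ζ₀
  have hζ₀d : ζ₀ default = t₀ := default_eq_of_range ζ₀ hζ₀
  have hw₀ : W.hom (Lift.hom w default) = t₀ := by
    rw [← hζ₀d]
    exact congrArg (fun k : Spec (CommRingCat.of Ω₀) ⟶ T => k default) (Lift.hom_comp w)
  haveI : AlgebraicGeometry.Etale W.hom := W.prop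
  haveI : IsLocallyNoetherian W.left := LocallyOfFiniteType.isLocallyNoetherian (Y := T) W.hom
  have hgen : ∀ w' : W.left, w' ⤳ Lift.hom w default → w' = Lift.hom w default :=
    eq_of_specializes_of_etale W.hom t₀ ht₀ _ hw₀
  obtain ⟨O', hwO', hO'⟩ := exists_open_subset_closure W.left _ hgen
  obtain ⟨y₂, hy₂⟩ := exists_lift_restrictOpen O' w hwO'
  let σ₂ : (EtCoh.stalk ζ₀).obj G →+ G.obj.obj (op (restrictOpen W O')) :=
    (G.obj.map (restrictOpenι W O').op).hom.comp σ
  have hσ₂ : ∀ p, germ ζ₀ G (restrictOpen W O') y₂ (σ₂ p) = p := by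
    intro p
    show germ ζ₀ G (restrictOpen W O') y₂ (G.obj.map (restrictOpenι W O').op (σ p)) = p
    rw [germ_res, hy₂, hσ]
  have hy₂pt : O'.ι (Lift.hom y₂ default) = Lift.hom w default := by
    have h1 : Lift.hom y₂ ≫ O'.ι = Lift.hom w := by
      have := congrArg Lift.hom hy₂
      rw [Lift.map_hom] at this
      exact this
    exact congrArg (fun k : Spec (CommRingCat.of Ω₀) ⟶ W.left => k default) h1
  -- every nonempty étale `V ⟶ W₂` receives a lift of `ζ₀` compatible with `y₂`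
  have hlift : ∀ {V : T.Etale} (q : V ⟶ restrictOpen W O'), Nonempty V.left →
      ∃ y' : Lift ζ₀ V, Lift.map q y' = y₂ := by
    intro V q hV
    obtain ⟨v⟩ := hV
    haveI := etale_left q
    have hopen : IsOpen (Set.range q.left) := q.left.isOpenMap.isOpen_range
    have hopen' : IsOpen (O'.ι '' Set.range q.left) := O'.ι.isOpenEmbedding.isOpenMap _ hopen
    have hmemO : O'.ι (q.left v) ∈ (O' : Set W.left) := by
      rw [← Scheme.Opens.range_ι]
      exact ⟨_, rfl⟩
    have hmem : O'.ι (q.left v) ∈ closure ({Lift.hom w default} : Set W.left) := hO' hmemO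
    have hsp : Lift.hom w default ⤳ O'.ι (q.left v) := specializes_iff_mem_closure.2 hmem
    have hin : Lift.hom w default ∈ O'.ι '' Set.range q.left :=
      hsp.mem_open hopen' ⟨_, ⟨v, rfl⟩, rfl⟩
    obtain ⟨_, ⟨v', rfl⟩, hv'⟩ := hin
    have hv'' : q.left v' = Lift.hom y₂ default := by
      apply O'.ι.isOpenEmbedding.injective
      rw [hv', hy₂pt]
    obtain ⟨y', hy', -⟩ := exists_lift_of_point q y₂ v' hv''
    exact ⟨y', hy'⟩
  have hinj : ∀ {V : T.Etale} (q : V ⟶ restrictOpen W O'), Nonempty V.left →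
      ∀ t : σ₂.range, G.obj.map q.op t.1 = 0 → t = 0 := by
    intro V q hV t ht
    obtain ⟨y', hy'⟩ := hlift q hV
    obtain ⟨_, p, rfl⟩ := t
    have h1 : germ ζ₀ G V y' (G.obj.map q.op (σ₂ p)) = p := by
      rw [germ_res, hy', hσ₂]
    have hp : p = 0 := by
      rw [← h1]
      have : G.obj.map q.op (σ₂ p) = 0 := ht
      rw [this, map_zero]
    apply Subtype.ext
    show σ₂ p = 0
    rw [hp, map_zero]
  have hσ₂inj : Function.Injective σ₂ := fun p p' h => by
    rw [← hσ₂ p, ← hσ₂ p', h]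
  have hcardE : Nat.card σ₂.range = n := by
    rw [← hn₀]
    exact (Nat.card_congr (Equiv.ofInjective σ₂ hσ₂inj)).symm
  haveI : Finite σ₂.range := Finite.of_equiv _ (Equiv.ofInjective σ₂ hσ₂inj)
  have hsurj : ∀ {V : T.Etale} (q : V ⟶ restrictOpen W O') (s : G.obj.obj (op V)) (v : V.left),
      ∃ (V' : T.Etale) (g : V' ⟶ V) (v' : V'.left), g.left.base v' = v ∧
        ∃ t : σ₂.range, G.obj.map g.op s = G.obj.map (g ≫ q).op t.1 := by
    intro V q s v
    obtain ⟨Ω, _, _, ζ, hζ, hn⟩ := hcard (V.hom v)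
    have hζd : ζ default = V.hom v := default_eq_of_range ζ hζ
    haveI : AlgebraicGeometry.Etale V.hom := V.prop
    obtain ⟨l, hl1, hl2⟩ := Scheme.exists_fac_of_etale_of_isSepClosed V.hom ζ v hζd.symm
    let yV : Lift ζ V := Lift.mk ζ l hl1
    haveI := hfin Ω ζ
    let φ : σ₂.range →+ (EtCoh.stalk ζ).obj G :=
      ((germ ζ G V yV).comp (G.obj.map q.op).hom).comp σ₂.range.subtype
    have hφ : ∀ t : σ₂.range, φ t = germ ζ G V yV (G.obj.map q.op t.1) := fun _ => rfl
    have hφinj : Function.Injective φ := by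
      rw [injective_iff_map_eq_zero]
      intro t ht
      rw [hφ] at ht
      obtain ⟨V', g, y', -, hg⟩ := (germ_eq_zero_iff G V yV _).1 ht
      rw [← map_comp_apply'] at hg
      exact hinj (g ≫ q) ⟨Lift.hom y' default⟩ t hg
    have hφbij : Function.Bijective φ :=
      hφinj.bijective_of_nat_card_le (by rw [hcardE, hn])
    obtain ⟨t, ht⟩ := hφbij.2 (germ ζ G V yV s)
    rw [hφ] at ht
    obtain ⟨V', g, y', hy', hg⟩ := (germ_eq_iff G V yV _ _).1 ht
    refine ⟨V', g, Lift.hom y' default, ?_, t, ?_⟩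
    · have h1 : Lift.hom y' ≫ g.left = Lift.hom yV := by
        have := congrArg Lift.hom hy'
        rw [Lift.map_hom] at this
        exact this
      have h2 : g.left (Lift.hom y' default) = Lift.hom yV default :=
        congrArg (fun k : Spec (CommRingCat.of Ω) ⟶ V.left => k default) h1
      refine h2.trans ?_
      show (Lift.mk ζ l hl1).hom default = v
      rw [Lift.mk_hom]
      exact hl2
    · rw [map_comp_apply']
      exact hg.symm
  haveI := isIso_psi G σ₂.range hinj hsurj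
  refine ⟨restrictOpen W O', Lift.hom y₂ default, AddCommGrpCat.of σ₂.range, ‹_›, ?_,
    ⟨(asIso (psi G σ₂.range)).symm⟩⟩
  show W.hom (O'.ι (Lift.hom y₂ default)) = t₀
  rw [hy₂pt, hw₀]

end Groth.Agent.Lib.helper21.CardCrit2
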