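import Mathlib
import Groth.Prelude.Def_EtBase
import Groth.Prelude.Def_PBC
import Groth.Agent.Lib.Helper21.CardCrit2
import Groth.Agent.Lib.Helper21.PtCrit

/-!
# Constructibility from local constructibility of the stalk-cardinality loci
-/

set_option autoImplicit false

open CategoryTheory CategoryTheory.Limits Opposite AlgebraicGeometry

namespace Groth.Agent.Lib.helper21.CardCrit3

open Groth.Agent.Lib.Helper21.ConstGerm Groth.Agent.Lib.Helper21.FlcSerre
  Groth.Agent.H1.EtStalk Groth.Agent.H1.EtGerm Groth.Agent.H1.EtStalkPull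
  Groth.Agent.Lib.helper21.StalkConst Groth.Agent.Lib.helper21.IrredNbhd
  Groth.Agent.Lib.helper21.CardCrit2 Groth.Agent.Lib.helper21.Constr
  Groth.Agent.Lib.helper21.FlcPull Groth.Agent.Lib.helper21.SuppConstr

universe u

/-- a sheaf which is finite constant over an étale `W` is finite locally constant over the (open)
image of `W` -/
theorem exists_open_flc {T : Scheme.{u}} (G : EtCoh.Ab T) (W : T.Etale)
    (M : AddCommGrpCat.{u + 1}) [Finite M]
    (e : EtCoh.restr G W ≅ cst.{u + 1, u, u + 1} (T.smallEtaleTopology.over W) M) :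
    ∃ O : T.Opens, (O : Set T) = Set.range W.hom ∧
      EtCoh.IsFiniteLocallyConstant ((EtCoh.pull O.ι).obj G) := by
  haveI : AlgebraicGeometry.Etale W.hom := W.prop
  have hopen : IsOpen (Set.range W.hom) := W.hom.isOpenMap.isOpen_range
  obtain ⟨K, iK, fK, ⟨eK⟩⟩ := exists_type0_model M
  refine ⟨⟨Set.range W.hom, hopen⟩, rfl, ?_⟩
  refine ⟨PUnit.{u + 1}, fun _ => (EtCoh.bc (Scheme.Opens.ι ⟨Set.range W.hom, hopen⟩)).obj W,
    ?_, fun _ => ⟨K, iK, fK, ?_⟩⟩
  · intro x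
    have hx : (Scheme.Opens.ι ⟨Set.range W.hom, hopen⟩) x ∈ Set.range W.hom := by
      have h1 : (Scheme.Opens.ι ⟨Set.range W.hom, hopen⟩) x ∈
          Set.range (Scheme.Opens.ι ⟨Set.range W.hom, hopen⟩) := ⟨x, rfl⟩
      rw [Scheme.Opens.range_ι] at h1
      exact h1
    obtain ⟨w, hw⟩ := hx
    obtain ⟨z, -, hz2⟩ := Scheme.Pullback.exists_preimage_pullback
      (f := W.hom) (g := Scheme.Opens.ι ⟨Set.range W.hom, hopen⟩) w x hw
    exact ⟨PUnit.unit, z, hz2⟩
  · exact restr_pull_const (Scheme.Opens.ι ⟨Set.range W.hom, hopen⟩) W G _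
      ⟨e ≪≫ (constantSheaf (T.smallEtaleTopology.over W) AddCommGrpCat.{u + 1}).mapIso eK⟩

variable {X : Scheme.{u}}

/-- the direction `⇐` of the stalk-cardinality criterion -/
theorem constructible_of_cardLoc [IsLocallyNoetherian X] (F : EtCoh.Ab X)
    (hfin : ∀ (Ω : Type u) [Field Ω] [IsSepClosed Ω] (ξ : Spec (CommRingCat.of Ω) ⟶ X),
      Finite ((EtCoh.stalk ξ).obj F))
    (h : ∀ n : ℕ, Topology.IsLocallyConstructible (cardLoc F n)) :
    EtPBC.IsConstructible F := by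
  apply Groth.Agent.Lib.helper21.PtCrit.constructible_of_pointwise_locNoeth
  intro x
  -- the cardinality of the stalk at `x`
  let ξ₀ := geomPt X x
  have hξ₀ : ξ₀ default = x := geomPt_default X x
  obtain ⟨O, hO, hxO, hOs⟩ := exists_open_inter_closure_subset
    (h (Nat.card ((EtCoh.stalk ξ₀).obj F))) (x := x)
    ⟨_, inferInstance, inferInstance, ξ₀, by rw [range_geom, hξ₀], rfl⟩
  obtain ⟨T₁, g₁, hg₁, hr₁⟩ := Groth.Agent.Lib.helper21.Strata.exists_immersion_range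
    (⟨O, hO⟩ : X.Opens) ⟨closure {x}, isClosed_closure⟩
  have hxr : x ∈ Set.range g₁ := by
    rw [hr₁]
    exact ⟨hxO, subset_closure rfl⟩
  obtain ⟨t₀, ht₀⟩ := hxr
  -- `t₀` is a generic point of `T₁`
  have hcl : closure ({t₀} : Set T₁) = Set.univ := by
    rw [g₁.isEmbedding.closure_eq_preimage_closure_image, Set.image_singleton, ht₀,
      Set.eq_univ_iff_forall]
    intro t
    have : g₁ t ∈ Set.range g₁ := ⟨t, rfl⟩
    rw [hr₁] at this
    exact this.2
  haveI : IsLocallyNoetherian T₁ := LocallyOfFiniteType.isLocallyNoetherian g₁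
  have hfin₁ : ∀ (Ω : Type u) [Field Ω] [IsSepClosed Ω] (ζ : Spec (CommRingCat.of Ω) ⟶ T₁),
      Finite ((EtCoh.stalk ζ).obj ((EtCoh.pull g₁).obj F)) := by
    intro Ω _ _ ζ
    haveI := hfin Ω (ζ ≫ g₁)
    exact Finite.of_equiv _ (((stalkPullIso g₁ ζ).app F).addCommGroupIsoToAddEquiv.toEquiv).symm
  have hcard₁ : ∀ t : T₁, t ∈ cardLoc ((EtCoh.pull g₁).obj F)
      (Nat.card ((EtCoh.stalk ξ₀).obj F)) := by
    intro t
    have h1 : g₁ t ∈ cardLoc F (Nat.card ((EtCoh.stalk ξ₀).obj F)) ∩ Set.range g₁ := by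
      refine ⟨hOs ?_, ⟨t, rfl⟩⟩
      have : g₁ t ∈ Set.range g₁ := ⟨t, rfl⟩
      rw [hr₁] at this
      exact this
    rw [cardLoc_inter_range] at h1
    obtain ⟨t', ht', htt'⟩ := h1
    rwa [g₁.isEmbedding.injective htt'] at ht'
  obtain ⟨W₂, w₂, M, fM, hw₂, ⟨e⟩⟩ := exists_triv_near_generic ((EtCoh.pull g₁).obj F) t₀ hcl _
    hfin₁ hcard₁
  obtain ⟨O₂, hO₂, hflc⟩ := exists_open_flc ((EtCoh.pull g₁).obj F) W₂ M e
  refine ⟨O₂.toScheme, O₂.ι ≫ g₁, inferInstance, ?_, ?_⟩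
  · have ht₀O : t₀ ∈ (O₂ : Set T₁) := by
      rw [hO₂]
      exact ⟨w₂, hw₂⟩
    have : t₀ ∈ Set.range O₂.ι := by rw [Scheme.Opens.range_ι]; exact ht₀O
    obtain ⟨o, ho⟩ := this
    refine ⟨o, ?_⟩
    rw [← ht₀, ← ho]
    rfl
  · exact flc_of_iso ((pullComp O₂.ι g₁).app F) hflc

end Groth.Agent.Lib.helper21.CardCrit3
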