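import Mathlib
import Groth.Agent.Lib.Helper21.IrredNbhd

/-!
# Finiteness of the set of lifts of a geometric point to an étale scheme, centred at generizations
of a given point
-/

set_option autoImplicit false

open CategoryTheory AlgebraicGeometry Topology

namespace Groth.Agent.Lib.helper21.SpecArrow1

open Groth.Agent.Lib.helper21.IrredNbhd

universe u

variable {X V : Scheme.{u}} (f : V ⟶ X)

/-- residue field extensions of étale morphisms are finite -/
theorem finite_residueField [Etale f] (p : V) :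
    letI : Algebra (X.residueField (f p)) (V.residueField p) :=
      (f.residueFieldMap p).hom.toAlgebra
    Module.Finite (X.residueField (f p)) (V.residueField p) := by
  algebraize [(f.stalkMap p).hom]
  have : IsLocalHom (algebraMap (X.presheaf.stalk (f p)) (V.presheaf.stalk p)) :=
    inferInstanceAs <| IsLocalHom (f.stalkMap p).hom
  suffices h : @Module.Finite
      (IsLocalRing.ResidueField (X.presheaf.stalk (f p) : Type u))
      (IsLocalRing.ResidueField (V.presheaf.stalk p : Type u)) _ _ Algebra.toModule by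
    convert! h
    refine Algebra.algebra_ext _ _ fun x ↦ ?_
    obtain ⟨x, rfl⟩ := IsLocalRing.residue_surjective x
    rfl
  have : Algebra.EssFiniteType (X.presheaf.stalk (f p)) (V.presheaf.stalk p) := by
    rw [← RingHom.essFiniteType_algebraMap, RingHom.algebraMap_toAlgebra]
    exact LocallyOfFiniteType.stalkMap f p
  have : Algebra.FormallyUnramified (X.presheaf.stalk (f p)) (V.presheaf.stalk p) := by
    rw [← RingHom.formallyUnramified_algebraMap, RingHom.algebraMap_toAlgebra]
    exact FormallyUnramified.stalkMap f p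
  exact (inferInstance : Module.Finite
      (IsLocalRing.ResidueField (X.presheaf.stalk (f p) : Type u))
      (IsLocalRing.ResidueField (V.presheaf.stalk p : Type u)))

variable {Ω : Type u} [Field Ω] (ξ : Spec (CommRingCat.of Ω) ⟶ X)

/-- finitely many lifts of a field-valued point through a given point of an étale scheme -/
theorem finite_lifts_at [Etale f] (p : V) :
    {l : Spec (CommRingCat.of Ω) ⟶ V | l ≫ f = ξ ∧ l default = p}.Finite := by
  classical
  by_cases hne : {l : Spec (CommRingCat.of Ω) ⟶ V | l ≫ f = ξ ∧ l default = p}.Nonempty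
  swap
  · rw [Set.not_nonempty_iff_eq_empty] at hne
    rw [hne]
    exact Set.finite_empty
  obtain ⟨l₀, hl₀, hl₀p⟩ := hne
  obtain ⟨⟨q₀, a₀⟩, rfl⟩ := (Scheme.SpecToEquivOfField Ω V).symm.surjective l₀
  obtain rfl : q₀ = p := by simpa [Scheme.SpecToEquivOfField] using hl₀p
  let c := f.residueFieldMap q₀
  let g : (V.residueField q₀ ⟶ CommRingCat.of Ω) → (Spec (CommRingCat.of Ω) ⟶ V) :=
    fun a => Spec.map a ≫ V.fromSpecResidueField q₀
  let A : Set (V.residueField q₀ ⟶ CommRingCat.of Ω) := {a | c ≫ a = c ≫ a₀}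
  have hsub : {l : Spec (CommRingCat.of Ω) ⟶ V | l ≫ f = ξ ∧ l default = q₀} ⊆ g '' A := by
    rintro l ⟨hl, hlp⟩
    obtain ⟨⟨q, a⟩, rfl⟩ := (Scheme.SpecToEquivOfField Ω V).symm.surjective l
    obtain rfl : q = q₀ := by simpa [Scheme.SpecToEquivOfField] using hlp
    refine ⟨a, ?_, rfl⟩
    have h1 : (Spec.map a ≫ V.fromSpecResidueField q) ≫ f =
        (Spec.map a₀ ≫ V.fromSpecResidueField q) ≫ f := hl.trans hl₀.symm
    rw [Category.assoc, Category.assoc,
      ← Scheme.Hom.SpecMap_residueFieldMap_fromSpecResidueField,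
      ← Category.assoc, ← Category.assoc, cancel_mono, ← Spec.map_comp, ← Spec.map_comp,
      Spec.map_inj] at h1
    exact h1
  refine Set.Finite.subset (Set.Finite.image g ?_) hsub
  -- finiteness of `A`
  letI : Algebra (X.residueField (f q₀)) (V.residueField q₀) := c.hom.toAlgebra
  letI : Algebra (X.residueField (f q₀)) Ω := (c ≫ a₀).hom.toAlgebra
  haveI : Module.Finite (X.residueField (f q₀)) (V.residueField q₀) := finite_residueField f q₀
  let ι : A → (V.residueField q₀ →ₐ[X.residueField (f q₀)] Ω) := fun a =>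
    { toRingHom := a.1.hom
      commutes' := fun r => by
        have h := a.2
        exact congrArg (fun k : X.residueField (f q₀) ⟶ CommRingCat.of Ω => k.hom r) h }
  have hι : Function.Injective ι := by
    intro a b hab
    apply Subtype.ext
    apply CommRingCat.hom_ext
    exact congrArg (fun k : V.residueField q₀ →ₐ[X.residueField (f q₀)] Ω => k.toRingHom) hab
  haveI : Finite A := Finite.of_injective ι hι
  exact Set.toFinite A

/-- finitely many points over a given point which are generizations of a given point -/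
theorem finite_generizations_fiber [Etale f] (v₀ : V) (x' : X) :
    {p : V | f p = x' ∧ p ⤳ v₀}.Finite := by
  obtain ⟨_, ⟨X₀', hX₀ : IsAffineOpen X₀', rfl⟩, hfX₀, -⟩ :=
    X.isBasis_affineOpens.exists_subset_of_mem_open (Set.mem_univ (f v₀)) isOpen_univ
  obtain ⟨X₀, rfl⟩ : ∃ X₀ : X.Opens, X₀ = X₀' := ⟨X₀', rfl⟩
  obtain ⟨_, ⟨V₀', hV₀ : IsAffineOpen V₀', rfl⟩, hvV₀, hsub⟩ :=
    V.isBasis_affineOpens.exists_subset_of_mem_open (show v₀ ∈ ((f ⁻¹ᵁ X₀ : V.Opens) : Set V) from hfX₀)
      (f ⁻¹ᵁ X₀).2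
  obtain ⟨V₀, rfl⟩ : ∃ V₀ : V.Opens, V₀ = V₀' := ⟨V₀', rfl⟩
  have e : V₀ ≤ f ⁻¹ᵁ X₀ := hsub
  by_cases hx' : x' ∈ X₀
  swap
  · have : {p : V | f p = x' ∧ p ⤳ v₀} = ∅ := by
      rw [Set.eq_empty_iff_forall_notMem]
      rintro p ⟨hp, hpv⟩
      apply hx'
      rw [← hp]
      exact (hpv.map f.continuous).mem_open X₀.2 hfX₀
    rw [this]
    exact Set.finite_empty
  haveI : IsAffine X₀.toScheme := hX₀
  haveI : IsAffine V₀.toScheme := hV₀
  haveI := locallyQuasiFinite_of_etale f
  have hfin := (f.resLE X₀ V₀ e).finite_preimage_singleton ⟨x', hx'⟩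
  refine Set.Finite.subset (hfin.image V₀.ι) ?_
  rintro p ⟨hp, hpv⟩
  have hpV₀ : p ∈ V₀ := hpv.mem_open V₀.2 hvV₀
  refine ⟨⟨p, hpV₀⟩, ?_, rfl⟩
  apply X₀.ι.isOpenEmbedding.injective
  have h1 := congrArg (fun k : V₀.toScheme ⟶ X => k ⟨p, hpV₀⟩) (f.resLE_comp_ι e)
  exact h1.trans hp

/-- finitely many lifts of a field-valued point centred at generizations of a given point -/
theorem finite_lifts_generizations [Etale f] (v₀ : V) :
    {l : Spec (CommRingCat.of Ω) ⟶ V | l ≫ f = ξ ∧ l default ⤳ v₀}.Finite := by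
  have h1 := finite_generizations_fiber f v₀ (ξ default)
  have h2 : {l : Spec (CommRingCat.of Ω) ⟶ V | l ≫ f = ξ ∧ l default ⤳ v₀} ⊆
      ⋃ p ∈ {p : V | f p = ξ default ∧ p ⤳ v₀},
        {l : Spec (CommRingCat.of Ω) ⟶ V | l ≫ f = ξ ∧ l default = p} := by
    rintro l ⟨hl, hlv⟩
    simp only [Set.mem_iUnion]
    refine ⟨l default, ⟨?_, hlv⟩, hl, rfl⟩
    exact congrArg (fun k : Spec (CommRingCat.of Ω) ⟶ X => k default) hl
  exact Set.Finite.subset (h1.biUnion (fun p _ => finite_lifts_at f ξ p)) h2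

end Groth.Agent.Lib.helper21.SpecArrow1
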