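import Mathlib
import Groth.Prelude.Def_EtBase
import Groth.Agent.Lib.Helper1.EtGerm
import Groth.Agent.Lib.Helper21.SpecArrow1

/-!
# Existence of specialization arrows between geometric points of the small étale site
-/

set_option autoImplicit false

open CategoryTheory CategoryTheory.Limits Opposite AlgebraicGeometry Topology

namespace Groth.Agent.Lib.helper21.SpecArrow2

open Groth.Agent.H1.EtGerm Groth.Agent.Lib.helper21.SpecArrow1

universe u

variable {X : Scheme.{u}} {Ω Ω' : Type u} [Field Ω] [IsSepClosed Ω] [Field Ω'] [IsSepClosed Ω']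
  (ξ : Spec (CommRingCat.of Ω) ⟶ X) (ξ' : Spec (CommRingCat.of Ω') ⟶ X)

/-- lifts of `ξ'` to the étale neighbourhoods of `ξ` -/
noncomputable abbrev Phi : (Scheme.pointSmallEtale ξ).fiber.Elements ⥤ Type u :=
  CategoryOfElements.π _ ⋙ (Scheme.pointSmallEtale ξ').fiber

lemma lift_map_comp {A B C : X.Etale} (f : A ⟶ B) (g : B ⟶ C) (a : Lift ξ A) :
    Lift.map (f ≫ g) a = Lift.map g (Lift.map f a) :=
  FunctorToTypes.map_comp_apply (Scheme.pointSmallEtale ξ).fiber f g a

lemma lift_map_id {A : X.Etale} (a : Lift ξ A) : Lift.map (𝟙 A) a = a :=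
  FunctorToTypes.map_id_apply (Scheme.pointSmallEtale ξ).fiber a

lemma center_map {A B : X.Etale} (f : A ⟶ B) (a : Lift ξ A) :
    Lift.hom (Lift.map f a) default = f.left (Lift.hom a default) := by
  rw [Lift.map_hom]
  rfl

/-- a compatible family of lifts gives a morphism of points -/
noncomputable def arrowOfCone (c : Cone (Phi ξ ξ')) (pt : c.pt) :
    Scheme.pointSmallEtale ξ' ⟶ Scheme.pointSmallEtale ξ :=
  ⟨{ app := fun V => ↾(fun v => c.π.app ((Scheme.pointSmallEtale ξ).fiber.elementsMk V v) pt)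
     naturality := fun V V₂ g => by
      ext v
      have h := c.w (⟨g, rfl⟩ : ((Scheme.pointSmallEtale ξ).fiber.elementsMk V (v)) ⟶ (Scheme.pointSmallEtale ξ).fiber.elementsMk V₂ (Lift.map g v))
      exact (congrArg (fun k : c.pt ⟶ (Phi ξ ξ').obj ((Scheme.pointSmallEtale ξ).fiber.elementsMk V₂ (Lift.map g v)) => k pt) h).symm }⟩

lemma arrowOfCone_app (c : Cone (Phi ξ ξ')) (pt : c.pt) (V : X.Etale) (v : Lift ξ V) :
    (arrowOfCone ξ ξ' c pt).hom.app V v = c.π.app ((Scheme.pointSmallEtale ξ).fiber.elementsMk V v) pt := rfl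

section Slice

variable {U : X.Etale} (u : Lift ξ U) (u' : Lift ξ' U)

/-- the system of lifts of `ξ'` compatible with `u'` and centred at generizations -/
noncomputable def Psi : Over ((Scheme.pointSmallEtale ξ).fiber.elementsMk U (u)) ⥤ Type u where
  obj j := {v' : Lift ξ' j.left.1 // Lift.map j.hom.1 v' = u' ∧
    Lift.hom v' default ⤳ Lift.hom j.left.2 default}
  map {j j'} g := ↾(fun v' => ⟨Lift.map g.left.1 v'.1, by
    have hw : g.left.1 ≫ j'.hom.1 = j.hom.1 := congrArg Subtype.val (Over.w g)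
    rw [← lift_map_comp, hw]
    exact v'.2.1, by
    have hg : Lift.map g.left.1 j.left.2 = j'.left.2 := g.left.2
    have h1 : Lift.hom (Lift.map g.left.1 v'.1) default = g.left.1.left (Lift.hom v'.1 default) :=
      center_map ξ' _ _
    have h2 : Lift.hom j'.left.2 default = g.left.1.left (Lift.hom j.left.2 default) :=
      (congrArg (fun y : Lift ξ j'.left.1 => Lift.hom y default) hg).symm.trans (center_map ξ _ _)
    rw [h1, h2]
    exact v'.2.2.map g.left.1.left.continuous⟩)
  map_id j := by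
    ext v'
    exact lift_map_id ξ' v'.1
  map_comp {j j' j''} g g' := by
    ext v'
    exact lift_map_comp ξ' g.left.1 g'.left.1 v'.1

instance finite_Psi (j : Over ((Scheme.pointSmallEtale ξ).fiber.elementsMk U (u))) : Finite ((Psi ξ ξ' u u').obj j) := by
  haveI : AlgebraicGeometry.Etale j.left.1.hom := j.left.1.prop
  have hfin := finite_lifts_generizations j.left.1.hom ξ' (Lift.hom j.left.2 default)
  refine @Finite.of_injective _ _ hfin.to_subtype
    (fun v' : (Psi ξ ξ' u u').obj j => ⟨Lift.hom v'.1, Lift.hom_comp v'.1, v'.2.2⟩) ?_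
  intro a b hab
  apply Subtype.ext
  apply Lift.ext
  exact congrArg Subtype.val hab

include ξ in
lemma nonempty_Psi (hspec : Lift.hom u' default ⤳ Lift.hom u default)
    (j : Over ((Scheme.pointSmallEtale ξ).fiber.elementsMk U (u))) : Nonempty ((Psi ξ ξ' u u').obj j) := by
  haveI := etale_left j.hom.1
  have hj : Lift.map j.hom.1 j.left.2 = u := j.hom.2
  have h1 : Lift.hom u' default ⤳ j.hom.1.left (Lift.hom j.left.2 default) := by
    rw [← center_map, hj]
    exact hspec
  obtain ⟨q, hq, hq'⟩ := Flat.generalizingMap j.hom.1.left h1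
  obtain ⟨y, hy, hyq⟩ := exists_lift_of_point j.hom.1 u' q hq'
  exact ⟨⟨y, hy, by rw [hyq]; exact hq⟩⟩

end Slice

/-- **Existence of specialization arrows** with a prescribed value on one étale neighbourhood -/
theorem exists_arrow {U : X.Etale} (u : Lift ξ U) (u' : Lift ξ' U)
    (hspec : Lift.hom u' default ⤳ Lift.hom u default) :
    ∃ φ : Scheme.pointSmallEtale ξ' ⟶ Scheme.pointSmallEtale ξ, φ.hom.app U u = u' := by
  haveI : ∀ j, Nonempty ((Psi ξ ξ' u u').obj j) := nonempty_Psi ξ ξ' u u' hspec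
  obtain ⟨s, hs⟩ := nonempty_sections_of_finite_cofiltered_system (Psi ξ ξ' u u')
  let c : Cone (Over.forget ((Scheme.pointSmallEtale ξ).fiber.elementsMk U (u)) ⋙ Phi ξ ξ') :=
    { pt := PUnit.{u + 1}
      π :=
        { app := fun j => ↾(fun _ => (s j).1)
          naturality := fun j j' g => by
            ext x
            exact (congrArg Subtype.val (hs g)).symm } }
  let c' := (Functor.Initial.extendCone (F := Over.forget ((Scheme.pointSmallEtale ξ).fiber.elementsMk U (u)))
    (G := Phi ξ ξ')).obj c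
  refine ⟨arrowOfCone ξ ξ' c' PUnit.unit, ?_⟩
  rw [arrowOfCone_app]
  have h := Functor.Initial.extendCone_obj_π_app' (F := Over.forget ((Scheme.pointSmallEtale ξ).fiber.elementsMk U (u)))
    (G := Phi ξ ξ') c (X := Over.mk (𝟙 ((Scheme.pointSmallEtale ξ).fiber.elementsMk U (u)))) (Y := ((Scheme.pointSmallEtale ξ).fiber.elementsMk U (u))) (𝟙 _)
  have h2 := congrArg (fun k : c.pt ⟶ (Phi ξ ξ').obj ((Scheme.pointSmallEtale ξ).fiber.elementsMk U u) => k PUnit.unit) h
  refine h2.trans ?_
  have h3 : (Phi ξ ξ').map (𝟙 ((Scheme.pointSmallEtale ξ).fiber.elementsMk U (u))) = 𝟙 _ := (Phi ξ ξ').map_id _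
  show ((Phi ξ ξ').map (𝟙 ((Scheme.pointSmallEtale ξ).fiber.elementsMk U (u)))) ((s (Over.mk (𝟙 ((Scheme.pointSmallEtale ξ).fiber.elementsMk U (u))))).1) = u'
  rw [h3]
  have h4 := (s (Over.mk (𝟙 ((Scheme.pointSmallEtale ξ).fiber.elementsMk U (u))))).2.1
  have h5 : Lift.map (𝟙 U) (s (Over.mk (𝟙 ((Scheme.pointSmallEtale ξ).fiber.elementsMk U (u))))).1 = u' := h4
  rw [lift_map_id] at h5
  exact h5

/-- **Existence of specialization arrows** -/
theorem exists_arrow_of_specializes (hspec : ξ' default ⤳ ξ default) :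
    Nonempty (Scheme.pointSmallEtale ξ' ⟶ Scheme.pointSmallEtale ξ) := by
  let u : Lift ξ (EtCoh.top X) := Lift.mk (U := EtCoh.top X) ξ
    (show Spec (CommRingCat.of Ω) ⟶ (EtCoh.top X).left from ξ) (Category.comp_id _)
  let u' : Lift ξ' (EtCoh.top X) := Lift.mk (U := EtCoh.top X) ξ'
    (show Spec (CommRingCat.of Ω') ⟶ (EtCoh.top X).left from ξ') (Category.comp_id _)
  obtain ⟨φ, -⟩ := exists_arrow ξ ξ' u u' (by
    show Lift.hom u' default ⤳ Lift.hom u default
    rw [Lift.mk_hom, Lift.mk_hom]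
    exact hspec)
  exact ⟨φ⟩

end Groth.Agent.Lib.helper21.SpecArrow2
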