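import Mathlib
import Groth.Prelude.Def_EtBase
import Groth.Prelude.Def_PBC
import Groth.Agent.Lib.Helper21.CardCrit3
import Groth.Agent.Lib.Helper21.CardCrit4
import Groth.Agent.Lib.Helper21.SpecArrow2

/-!
# Finite stalks and injective specialization maps imply constructibility
-/

set_option autoImplicit false

open CategoryTheory CategoryTheory.Limits Opposite AlgebraicGeometry

namespace Groth.Agent.Lib.helper21.CardCrit5

open Groth.Agent.Lib.Helper21.ConstGerm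
  Groth.Agent.H1.EtStalk Groth.Agent.H1.EtGerm Groth.Agent.H1.EtStalkPull
  Groth.Agent.Lib.helper21.StalkConst Groth.Agent.Lib.helper21.IrredNbhd
  Groth.Agent.Lib.helper21.CardCrit3 Groth.Agent.Lib.helper21.CardCrit4
  Groth.Agent.Lib.helper21.Constr
  Groth.Agent.Lib.helper21.SuppConstr Groth.Agent.Lib.helper21.SpecArrow2

universe u

variable {X : Scheme.{u}}

/-- lifting a geometric point along an immersion, with control of centre and stalk -/
lemma exists_lift_data {T₁ : Scheme.{u}} (g₁ : T₁ ⟶ X) [IsImmersion g₁] (F : EtCoh.Ab X)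
    {Ω : Type u} [Field Ω] [IsSepClosed Ω] (ξ : Spec (CommRingCat.of Ω) ⟶ X) (t : T₁)
    (ht : g₁ t = ξ default) :
    ∃ ζ : Spec (CommRingCat.of Ω) ⟶ T₁, Set.range ζ = {t} ∧
      Nonempty ((EtCoh.stalk ζ).obj ((EtCoh.pull g₁).obj F) ≃ (EtCoh.stalk ξ).obj F) := by
  obtain ⟨ζ, hζ⟩ := exists_lift_of_immersion g₁ ξ ⟨t, ht⟩
  refine ⟨ζ, ?_, ?_⟩
  · rw [range_geom]
    congr 1
    apply g₁.isEmbedding.injective
    rw [ht, ← hζ]
    rfl
  · have e := (stalkPullIso g₁ ζ).app F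
    rw [hζ] at e
    exact ⟨e.addCommGroupIsoToAddEquiv.toEquiv⟩

/-- **finite stalks + injective specialization maps ⟹ constructible** -/
theorem constructible_of_mono [IsLocallyNoetherian X] (F : EtCoh.Ab X)
    (hfin : ∀ (Ω : Type u) [Field Ω] [IsSepClosed Ω] (ξ : Spec (CommRingCat.of Ω) ⟶ X),
      Finite ((EtCoh.stalk ξ).obj F))
    (hmono : ∀ (Ω Ω' : Type u) [Field Ω] [IsSepClosed Ω] [Field Ω'] [IsSepClosed Ω']
        (ξ : Spec (CommRingCat.of Ω) ⟶ X) (ξ' : Spec (CommRingCat.of Ω') ⟶ X)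
        (φ : Scheme.pointSmallEtale ξ' ⟶ Scheme.pointSmallEtale ξ),
        Mono ((GrothendieckTopology.Point.Hom.sheafFiber (A := AddCommGrpCat.{u + 1}) φ).app F)) :
    EtPBC.IsConstructible F := by
  apply Groth.Agent.Lib.helper21.PtCrit.constructible_of_pointwise_locNoeth
  intro x
  have hξ₀ : geomPt X x default = x := geomPt_default X x
  obtain ⟨T₁, g₁, hg₁, hr₁⟩ := Groth.Agent.Lib.helper21.Strata.exists_immersion_range
    (⊤ : X.Opens) ⟨closure {x}, isClosed_closure⟩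
  have hr₁' : Set.range g₁ = closure {x} := by
    rw [hr₁]
    exact Set.univ_inter _
  have hxr : x ∈ Set.range g₁ := by
    rw [hr₁']
    exact subset_closure rfl
  obtain ⟨t₀, ht₀⟩ := hxr
  have hcl : closure ({t₀} : Set T₁) = Set.univ := by
    rw [g₁.isEmbedding.closure_eq_preimage_closure_image, Set.image_singleton, ht₀,
      Set.eq_univ_iff_forall]
    intro t
    have : g₁ t ∈ Set.range g₁ := ⟨t, rfl⟩
    rw [hr₁'] at this
    exact this
  haveI : IsLocallyNoetherian T₁ := LocallyOfFiniteType.isLocallyNoetherian g₁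
  obtain ⟨ζ₀, hζ₀, ⟨e₀⟩⟩ := exists_lift_data g₁ F (geomPt X x) t₀ (ht₀.trans hξ₀.symm)
  haveI := hfin _ (geomPt X x)
  haveI : Finite ((EtCoh.stalk ζ₀).obj ((EtCoh.pull g₁).obj F)) := Finite.of_equiv _ e₀.symm
  have hle : ∀ t : T₁, ∃ (Ω : Type u) (_ : Field Ω) (_ : IsSepClosed Ω)
      (ζ : Spec (CommRingCat.of Ω) ⟶ T₁), Set.range ζ = {t} ∧
        Finite ((EtCoh.stalk ζ).obj ((EtCoh.pull g₁).obj F)) ∧
        Nat.card ((EtCoh.stalk ζ).obj ((EtCoh.pull g₁).obj F)) ≤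
          Nat.card ((EtCoh.stalk ζ₀).obj ((EtCoh.pull g₁).obj F)) := by
    intro t
    have hy : geomPt X (g₁ t) default = g₁ t := geomPt_default X (g₁ t)
    obtain ⟨ζ, hζ, ⟨e⟩⟩ := exists_lift_data g₁ F (geomPt X (g₁ t)) t hy.symm
    haveI := hfin _ (geomPt X (g₁ t))
    refine ⟨_, inferInstance, inferInstance, ζ, hζ, Finite.of_equiv _ e.symm, ?_⟩
    have hspec : geomPt X x default ⤳ geomPt X (g₁ t) default := by
      rw [hξ₀, hy, specializes_iff_mem_closure, ← hr₁']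
      exact ⟨t, rfl⟩
    obtain ⟨φ⟩ := exists_arrow_of_specializes (geomPt X (g₁ t)) (geomPt X x) hspec
    haveI := hmono _ _ (geomPt X (g₁ t)) (geomPt X x) φ
    have hinj : Function.Injective
        ((GrothendieckTopology.Point.Hom.sheafFiber (A := AddCommGrpCat.{u + 1}) φ).app F) :=
      (AddCommGrpCat.mono_iff_injective _).1 inferInstance
    rw [Nat.card_congr e, Nat.card_congr e₀]
    exact Nat.card_le_card_of_injective _ hinj
  obtain ⟨W₂, w₂, M, fM, hw₂, ⟨e⟩⟩ := exists_triv_near_generic_le ((EtCoh.pull g₁).obj F) t₀ hcl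
    ζ₀ hζ₀ hle
  obtain ⟨O₂, hO₂, hflc⟩ := exists_open_flc ((EtCoh.pull g₁).obj F) W₂ M e
  refine ⟨O₂.toScheme, O₂.ι ≫ g₁, inferInstance, ?_, ?_⟩
  · have ht₀O : t₀ ∈ (O₂ : Set T₁) := by
      rw [hO₂]
      exact ⟨w₂, hw₂⟩
    have : t₀ ∈ Set.range O₂.ι := by rw [Scheme.Opens.range_ι]; exact ht₀O
    obtain ⟨o, ho⟩ := this
    refine ⟨o, ?_⟩
    rw [← ht₀, ← ho]
    rfl
  · exact flc_of_iso ((pullComp O₂.ι g₁).app F) hflc

end Groth.Agent.Lib.helper21.CardCrit5
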