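import Mathlib

/-!
# Descent of "principal, generated by a nonzerodivisor" along flat ring maps (helper21)

`exists_gen_of_flat_local`: flat local homomorphism `A → B` of local rings, `I B = (t)` with `t` a
nonzerodivisor: then `I = (s)` with `s` a nonzerodivisor.

`exists_away_gen_of_flat`: `A` Noetherian, `ψ : A → B` flat, `q'` a prime of `B` over `p`,
`I B = (t)` with `t` a nonzerodivisor: there is `h ∉ p` such that `I A_h` is generated by a
nonzerodivisor.
-/

set_option autoImplicit false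

universe u

namespace Groth.Agent.Lib.helper21.CartDesc

theorem exists_gen_of_flat_local {A B : Type u} [CommRing A] [CommRing B] [IsLocalRing A]
    [IsLocalRing B] (ψ : A →+* B) [IsLocalHom ψ] (hflat : ψ.Flat) (I : Ideal A) (t : B)
    (ht : t ∈ nonZeroDivisors B) (hI : I.map ψ = Ideal.span {t}) :
    ∃ s ∈ I, I = Ideal.span {s} ∧ s ∈ nonZeroDivisors A := by
  algebraize [ψ]
  haveI : IsLocalHom (algebraMap A B) := ‹IsLocalHom ψ›
  haveI : Module.FaithfullyFlat A B := Module.FaithfullyFlat.of_flat_of_isLocalHom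
  have hinj : Function.Injective ψ := FaithfulSMul.algebraMap_injective A B
  -- find a generator in `I`
  have hex : ∃ a ∈ I, ∃ c : B, IsUnit c ∧ ψ a = c * t := by
    by_contra hcon
    push_neg at hcon
    have hle : I.map ψ ≤ IsLocalRing.maximalIdeal B * Ideal.span {t} := by
      rw [Ideal.map_le_iff_le_comap]
      intro a ha
      rw [Ideal.mem_comap]
      have h1 : ψ a ∈ Ideal.span {t} := hI ▸ Ideal.mem_map_of_mem ψ ha
      obtain ⟨c, hc⟩ := Ideal.mem_span_singleton'.mp h1
      have hcu : ¬ IsUnit c := fun hu => hcon a ha c hu hc.symm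
      rw [← hc]
      exact Ideal.mul_mem_mul ((IsLocalRing.mem_maximalIdeal c).mpr hcu)
        (Ideal.mem_span_singleton_self t)
    have h2 : t ∈ IsLocalRing.maximalIdeal B * Ideal.span {t} :=
      hle (hI ▸ Ideal.mem_span_singleton_self t)
    obtain ⟨z, hz, hzt⟩ := Ideal.mem_mul_span_singleton.mp h2
    have h3 : (z - 1) * t = 0 := by rw [sub_mul, hzt, one_mul, sub_self]
    have h4 : z - 1 = 0 := (mem_nonZeroDivisors_iff_right.mp ht) _ h3
    have h5 : z = 1 := sub_eq_zero.mp h4
    rw [h5] at hz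
    exact (IsLocalRing.mem_maximalIdeal 1).mp hz isUnit_one
  obtain ⟨s, hsI, c, hc, hsc⟩ := hex
  have hspan : Ideal.span {ψ s} = Ideal.span {t} := by
    rw [hsc]
    exact Ideal.span_singleton_mul_left_unit hc t
  refine ⟨s, hsI, ?_, ?_⟩
  · have h1 := Ideal.comap_map_eq_self_of_faithfullyFlat (B := B) I
    have h2 := Ideal.comap_map_eq_self_of_faithfullyFlat (B := B) (Ideal.span {s})
    have h3 : (Ideal.span {s}).map (algebraMap A B) = I.map (algebraMap A B) := by
      rw [Ideal.map_span, Set.image_singleton]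
      exact hspan.trans hI.symm
    rw [← h1, ← h3, h2]
  · rw [mem_nonZeroDivisors_iff_right]
    intro x hx
    have h1 : ψ x * (c * t) = 0 := by rw [← hsc, ← map_mul, hx, map_zero]
    have h2 : ψ x * c = 0 := by
      apply (mem_nonZeroDivisors_iff_right.mp ht)
      rw [mul_assoc]; exact h1
    have h3 : ψ x = 0 := by
      have := congrArg (· * (hc.unit⁻¹ : Bˣ).1) h2
      simpa [mul_assoc] using this
    exact hinj (h3.trans (map_zero ψ).symm)

/-- uniformization over a finitely generated ideal -/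
theorem exists_uniform {A : Type u} [CommRing A] (p : Ideal A) [p.IsPrime] (J N : Ideal A)
    (hJ : J.FG) (h : ∀ x ∈ J, ∃ u, u ∉ p ∧ u * x ∈ N) :
    ∃ h0, h0 ∉ p ∧ ∀ x ∈ J, h0 * x ∈ N := by
  classical
  obtain ⟨T, rfl⟩ := hJ
  choose! u hu1 hu2 using h
  refine ⟨∏ x ∈ T, u x, ?_, ?_⟩
  · intro hmem
    obtain ⟨x, hxT, hx⟩ := (Ideal.IsPrime.prod_mem_iff).mp hmem
    exact hu1 x (Ideal.subset_span hxT) hx
  · have hle : Ideal.span (T : Set A) ≤
        Submodule.comap (LinearMap.lsmul A A (∏ x ∈ T, u x)) N := by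
      rw [Ideal.span_le]
      intro x hxT
      show (∏ y ∈ T, u y) • x ∈ N
      obtain ⟨k, hk⟩ := Finset.dvd_prod_of_mem u hxT
      rw [hk, smul_eq_mul, mul_comm (u x) k, mul_assoc]
      exact N.mul_mem_left k (hu2 x (Ideal.subset_span hxT))
    intro x hx
    exact hle hx

theorem exists_away_gen_of_flat {A B : Type u} [CommRing A] [CommRing B] [IsNoetherianRing A]
    (ψ : A →+* B) (hflat : ψ.Flat) (I : Ideal A) (p : Ideal A) [p.IsPrime] (q' : Ideal B)
    [q'.IsPrime] (hpq : p = q'.comap ψ) (t : B) (ht : t ∈ nonZeroDivisors B)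
    (hI : I.map ψ = Ideal.span {t}) :
    ∃ a ∈ I, ∃ h : A, h ∉ p ∧ ∀ (Ah : Type u) [CommRing Ah] [Algebra A Ah]
      [IsLocalization.Away h Ah],
      I.map (algebraMap A Ah) = Ideal.span {algebraMap A Ah a} ∧
        algebraMap A Ah a ∈ nonZeroDivisors Ah := by
  let Ap := Localization.AtPrime p
  let Bq := Localization.AtPrime q'
  let ψl : Ap →+* Bq := Localization.localRingHom p q' ψ hpq
  haveI : IsLocalHom ψl := Localization.isLocalHom_localRingHom p q' ψ hpq
  have hflat' : ψl.Flat := RingHom.Flat.localRingHom hflat q' p hpq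
  have hcomp : ψl.comp (algebraMap A Ap) = (algebraMap B Bq).comp ψ := by
    ext x
    exact Localization.localRingHom_to_map p q' ψ hpq x
  have hIp : (I.map (algebraMap A Ap)).map ψl = Ideal.span {algebraMap B Bq t} := by
    rw [Ideal.map_map, hcomp, ← Ideal.map_map, hI, Ideal.map_span, Set.image_singleton]
  have ht' : algebraMap B Bq t ∈ nonZeroDivisors Bq :=
    IsLocalization.map_nonZeroDivisors_le q'.primeCompl Bq (Submonoid.mem_map_of_mem _ ht)
  obtain ⟨s', hs'I, hIs', hs'nzd⟩ :=
    exists_gen_of_flat_local ψl hflat' (I.map (algebraMap A Ap)) _ ht' hIp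
  obtain ⟨⟨⟨a, haI⟩, m⟩, ham⟩ := (IsLocalization.mem_map_algebraMap_iff p.primeCompl Ap).mp hs'I
  simp only at ham
  have hmu : IsUnit (algebraMap A Ap m) := IsLocalization.map_units Ap m
  have hIa : I.map (algebraMap A Ap) = Ideal.span {algebraMap A Ap a} := by
    rw [hIs', ← ham, mul_comm]
    exact (Ideal.span_singleton_mul_left_unit hmu s').symm
  have hanzd : algebraMap A Ap a ∈ nonZeroDivisors Ap := by
    rw [← ham]
    exact mul_mem hs'nzd hmu.mem_nonZeroDivisors
  -- pointwise statements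
  have hpt1 : ∀ x ∈ I, ∃ u, u ∉ p ∧ u * x ∈ Ideal.span {a} := by
    intro x hx
    have h1 : algebraMap A Ap x ∈ Ideal.span {algebraMap A Ap a} :=
      hIa ▸ Ideal.mem_map_of_mem _ hx
    obtain ⟨y, hy⟩ := Ideal.mem_span_singleton'.mp h1
    obtain ⟨⟨b, v⟩, hbv⟩ := IsLocalization.surj p.primeCompl y
    simp only at hbv
    have h2 : algebraMap A Ap (v * x) = algebraMap A Ap (b * a) := by
      rw [map_mul, map_mul, ← hy, ← hbv]
      ring
    obtain ⟨w, hw⟩ := (IsLocalization.eq_iff_exists p.primeCompl Ap).mp h2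
    refine ⟨w * v, (w * v).2, ?_⟩
    rw [mul_assoc, hw, ← mul_assoc]
    exact Ideal.mul_mem_left _ _ (Ideal.mem_span_singleton_self a)
  let K : Ideal A := LinearMap.ker (LinearMap.lsmul A A a)
  have hK : ∀ x, x ∈ K ↔ a * x = 0 := fun x => by
    show (LinearMap.lsmul A A a) x = 0 ↔ _
    rfl
  have hpt2 : ∀ x ∈ K, ∃ u, u ∉ p ∧ u * x ∈ (⊥ : Ideal A) := by
    intro x hx
    have h1 : algebraMap A Ap x * algebraMap A Ap a = 0 := by
      rw [← map_mul, mul_comm, (hK x).mp hx, map_zero]
    have h2 : algebraMap A Ap x = 0 := (mem_nonZeroDivisors_iff_right.mp hanzd) _ h1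
    obtain ⟨m', hm'⟩ := (IsLocalization.map_eq_zero_iff p.primeCompl Ap x).mp h2
    exact ⟨m', m'.2, by rw [hm']; exact Submodule.zero_mem _⟩
  obtain ⟨h1, hh1, hh1'⟩ := exists_uniform p I (Ideal.span {a}) (IsNoetherian.noetherian I) hpt1
  obtain ⟨h2, hh2, hh2'⟩ := exists_uniform p K ⊥ (IsNoetherian.noetherian K) hpt2
  refine ⟨a, haI, h1 * h2, fun hmem => ?_, ?_⟩
  · rcases Ideal.IsPrime.mem_or_mem ‹p.IsPrime› hmem with h | h
    · exact hh1 h
    · exact hh2 h
  intro Ah _ _ _
  have hu : IsUnit (algebraMap A Ah (h1 * h2)) := IsLocalization.Away.algebraMap_isUnit _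
  rw [map_mul] at hu
  have hu1 : IsUnit (algebraMap A Ah h1) := isUnit_of_mul_isUnit_left hu
  have hu2 : IsUnit (algebraMap A Ah h2) := isUnit_of_mul_isUnit_right hu
  constructor
  · apply le_antisymm
    · rw [Ideal.map_le_iff_le_comap]
      intro x hx
      rw [Ideal.mem_comap]
      obtain ⟨k, hk⟩ := Ideal.mem_span_singleton'.mp (hh1' x hx)
      have h3 : algebraMap A Ah h1 * algebraMap A Ah x = algebraMap A Ah k * algebraMap A Ah a := by
        rw [← map_mul, ← map_mul, hk]
      have h4 : algebraMap A Ah x =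
          ((hu1.unit⁻¹ : Ahˣ) : Ah) * algebraMap A Ah k * algebraMap A Ah a := by
        rw [mul_assoc, ← h3, ← mul_assoc, IsUnit.val_inv_mul, one_mul]
      rw [h4]
      exact Ideal.mul_mem_left _ _ (Ideal.mem_span_singleton_self _)
    · rw [Ideal.span_singleton_le_iff_mem]
      exact Ideal.mem_map_of_mem _ haI
  · rw [mem_nonZeroDivisors_iff_right]
    intro y hy
    obtain ⟨⟨x, m⟩, hxm⟩ := IsLocalization.surj (Submonoid.powers (h1 * h2)) y
    simp only at hxm
    have h3 : algebraMap A Ah (x * a) = 0 := by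
      rw [map_mul, ← hxm, mul_right_comm, hy, zero_mul]
    obtain ⟨m', hm'⟩ := (IsLocalization.map_eq_zero_iff (Submonoid.powers (h1 * h2)) Ah _).mp h3
    have h4 : (m' : A) * x ∈ K := by
      rw [hK]
      rw [← hm']
      ring
    have h5 : h2 * ((m' : A) * x) = 0 := by
      have := hh2' _ h4
      exact (Submodule.mem_bot A).mp this
    have hum' : IsUnit (algebraMap A Ah m') := IsLocalization.map_units Ah m'
    have h6 : algebraMap A Ah x = 0 := by
      have h7 : algebraMap A Ah h2 * (algebraMap A Ah m' * algebraMap A Ah x) = 0 := by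
        rw [← map_mul, ← map_mul, h5, map_zero]
      have h8 := (hu2.mul_right_eq_zero).mp h7
      exact (hum'.mul_right_eq_zero).mp h8
    have hum : IsUnit (algebraMap A Ah m) := IsLocalization.map_units Ah m
    rw [h6] at hxm
    exact (hum.mul_left_eq_zero).mp hxm

end Groth.Agent.Lib.helper21.CartDesc
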