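import Mathlib
import Groth.Prelude.Def_BlowUp2
import Groth.Agent.Lib.Helper21.CartDesc1
import Groth.Agent.Lib.Helper6.IdealSheaf

/-!
# Descent of effective Cartier divisors along flat surjective morphisms (helper21)

`isEffCartierIdeal_of_comap`: `pr : X' ⟶ X` flat and surjective, `X` locally Noetherian; if the
inverse image of an ideal sheaf `𝓘` is effective Cartier on `X'` then `𝓘` is effective Cartier.
-/

set_option autoImplicit false

universe u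

open AlgebraicGeometry CategoryTheory Limits Opposite

namespace Groth.Agent.Lib.helper21.CartDesc

theorem mem_basicOpen_of_not_mem_primeIdealOf {X : Scheme.{u}} {U : X.Opens} (hU : IsAffineOpen U)
    (x : X) (hx : x ∈ U) (h : Γ(X, U)) (hh : h ∉ (hU.primeIdealOf ⟨x, hx⟩).asIdeal) :
    x ∈ X.basicOpen h := by
  have h1 : hU.fromSpec (hU.primeIdealOf ⟨x, hx⟩) = x := hU.fromSpec_primeIdealOf ⟨x, hx⟩
  have h2 : hU.primeIdealOf ⟨x, hx⟩ ∈ hU.fromSpec ⁻¹ᵁ X.basicOpen h := by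
    rw [hU.fromSpec_preimage_basicOpen]
    exact hh
  have h3 : hU.fromSpec (hU.primeIdealOf ⟨x, hx⟩) ∈ X.basicOpen h := h2
  rwa [h1] at h3

theorem isEffCartierIdeal_of_comap {X X' : Scheme.{u}} (pr : X' ⟶ X) [Flat pr] [Surjective pr]
    [IsLocallyNoetherian X] (𝓘 : X.IdealSheafData)
    (hK : BlowUp.IsEffCartierIdeal (𝓘.comap pr)) : BlowUp.IsEffCartierIdeal 𝓘 := by
  intro x
  obtain ⟨x', rfl⟩ := pr.surjective x
  obtain ⟨U₀, hU₀, hxU₀, -⟩ := exists_isAffineOpen_mem_and_subset (x := pr x') (U := ⊤) trivial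
  obtain ⟨U', hx'U', t', ht', hIt'⟩ := hK x'
  obtain ⟨f₁, hf₁le, hx'f₁⟩ := U'.2.exists_basicOpen_le (V := U'.1 ⊓ pr ⁻¹ᵁ U₀)
    ⟨x', ⟨hx'U', hxU₀⟩⟩ hx'U'
  have hW'le : (X'.affineBasicOpen f₁).1 ≤ pr ⁻¹ᵁ U₀ := hf₁le.trans inf_le_right
  have e1 : (𝓘.comap pr).ideal (X'.affineBasicOpen f₁) =
      Ideal.span {(X'.presheaf.map (homOfLE (X'.basicOpen_le f₁)).op).hom t'} := by
    rw [← (𝓘.comap pr).map_ideal_basicOpen U' f₁, hIt', Ideal.map_span, Set.image_singleton]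
  have e2 : (𝓘.comap pr).ideal (X'.affineBasicOpen f₁) =
      (𝓘.ideal ⟨U₀, hU₀⟩).map (pr.appLE U₀ (X'.affineBasicOpen f₁).1 hW'le).hom :=
    Groth.Agent.Lib.helper6.ideal_comap pr 𝓘 ⟨U₀, hU₀⟩ (X'.affineBasicOpen f₁) hW'le
  have ht : (X'.presheaf.map (homOfLE (X'.basicOpen_le f₁)).op).hom t' ∈
      nonZeroDivisors Γ(X', X'.basicOpen f₁) := by
    haveI := U'.2.isLocalization_basicOpen f₁
    exact IsLocalization.map_nonZeroDivisors_le (Submonoid.powers f₁) Γ(X', X'.basicOpen f₁)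
      (Submonoid.mem_map_of_mem _ ht')
  have hflat : (pr.appLE U₀ (X'.affineBasicOpen f₁).1 hW'le).hom.Flat :=
    Flat.flat_appLE pr hU₀ (X'.affineBasicOpen f₁).2 hW'le
  haveI : IsNoetherianRing Γ(X, U₀) := IsLocallyNoetherian.component_noetherian ⟨U₀, hU₀⟩
  have hpq := IsAffineOpen.comap_primeIdealOf_appLE U₀ hU₀ (X'.affineBasicOpen f₁).1
    (X'.affineBasicOpen f₁).2 hW'le hx'f₁
  obtain ⟨a, haI, h, hhp, H⟩ := exists_away_gen_of_flat
    (pr.appLE U₀ (X'.affineBasicOpen f₁).1 hW'le).hom hflat (𝓘.ideal ⟨U₀, hU₀⟩)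
    (hU₀.primeIdealOf ⟨pr x', hxU₀⟩).asIdeal
    ((X'.affineBasicOpen f₁).2.primeIdealOf ⟨x', hx'f₁⟩).asIdeal
    (congrArg PrimeSpectrum.asIdeal hpq.symm)
    _ ht (e2.symm.trans e1)
  haveI := hU₀.isLocalization_basicOpen h
  obtain ⟨H1, H2⟩ := H Γ(X, X.basicOpen h)
  refine ⟨X.affineBasicOpen (U := ⟨U₀, hU₀⟩) h, mem_basicOpen_of_not_mem_primeIdealOf hU₀ (pr x') hxU₀ h hhp,
    (X.presheaf.map (homOfLE (X.basicOpen_le h)).op).hom a, H2, ?_⟩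
  rw [← 𝓘.map_ideal_basicOpen ⟨U₀, hU₀⟩ h]
  exact H1

end Groth.Agent.Lib.helper21.CartDesc
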