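import Mathlib
import Groth.Agent.Lib.Helper21.CechFamU

/-!
# Čech `H^1` lifting lemma (universe polymorphic)

Adaptation of helper27's `CechSite.lift_of_h1` to general universes, for presheaves,
with gluing/separation given as hypotheses.
-/

set_option autoImplicit false
set_option linter.unusedVariables false
set_option linter.unusedSectionVars false

namespace Groth.Agent.Lib.Helper21.CechH1U

open CategoryTheory Limits Opposite Simplicial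
open Groth.Agent.Lib.helper27
open Groth.Agent.Lib.helper27.CechU
open Groth.Agent.Lib.Helper21.CechFamU

universe w v u v' u'

variable {C : Type u} [Category.{v} C] {D : Type u'} [Category.{v'} D] [HasFiniteProducts D]
  (Φ : D ⥤ C) {ι : Type w} (U : ι → D) {W : C} (π : ∀ i, Φ.obj (U i) ⟶ W)

/-- the structure morphisms to `W` -/
def ρ (T : D) (s : Sec U T) : Φ.obj T ⟶ W := Φ.map s.2 ≫ π s.1

theorem lift_of_h1
    (hπ : ∀ (T : D) (s s' : Sec U T), Φ.map s.2 ≫ π s.1 = Φ.map s'.2 ≫ π s'.1)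
    (hlift : ∀ (i j : ι) (Z : C) (gi : Z ⟶ Φ.obj (U i)) (gj : Z ⟶ Φ.obj (U j)),
      gi ≫ π i = gj ≫ π j → ∃ (T : D) (f : Z ⟶ Φ.obj T) (si : T ⟶ U i) (sj : T ⟶ U j),
        gi = f ≫ Φ.map si ∧ gj = f ≫ Φ.map sj)
    {P₁ P₂ P₃ : Cᵒᵖ ⥤ AddCommGrpCat.{w}} (f : P₁ ⟶ P₂) (g : P₂ ⟶ P₃)
    (hfg : f ≫ g = 0)
    (hinj : ∀ W : C, Function.Injective (f.app (op W)))
    (hex : ∀ (W : C) (y : P₂.obj (op W)), g.app (op W) y = 0 → ∃ x, f.app (op W) x = y)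
    (hglue : ∀ (x : ∀ i, P₂.obj (op (Φ.obj (U i)))),
      (∀ (i j : ι) (Z : C) (gi : Z ⟶ Φ.obj (U i)) (gj : Z ⟶ Φ.obj (U j)),
        gi ≫ π i = gj ≫ π j → P₂.map gi.op (x i) = P₂.map gj.op (x j)) →
      ∃ γ : P₂.obj (op W), ∀ i, P₂.map (π i).op γ = x i)
    (hsep : ∀ (s s' : P₃.obj (op W)),
      (∀ i, P₃.map (π i).op s = P₃.map (π i).op s') → s = s')
    (hH1 : ((cechComplexFunctor U).obj (Φ.op ⋙ P₁)).ExactAt 1)
    (s : P₃.obj (op W)) (t : ∀ i, P₂.obj (op (Φ.obj (U i))))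
    (ht : ∀ i, g.app _ (t i) = P₃.map (π i).op s) :
    ∃ γ : P₂.obj (op W), g.app _ γ = s := by
  let τ : ∀ T : D, Sec U T → P₂.obj (op (Φ.obj T)) :=
    fun T σ => P₂.map (Φ.map σ.2).op (t σ.1)
  have τ_nat : ∀ (T T' : D) (h : T' ⟶ T) (σ : Sec U T),
      P₂.map (Φ.map h).op (τ T σ) = τ T' ⟨σ.1, h ≫ σ.2⟩ := by
    intro T T' h σ
    simp only [τ]
    rw [← ConcreteCategory.comp_apply, ← P₂.map_comp, ← op_comp, ← Φ.map_comp]
  have gτ : ∀ (T : D) (σ : Sec U T),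
      g.app _ (τ T σ) = P₃.map (ρ Φ U π T σ).op s := by
    intro T σ
    have h1 := ConcreteCategory.congr_hom (g.naturality (Φ.map σ.2).op) (t σ.1)
    rw [ConcreteCategory.comp_apply, ConcreteCategory.comp_apply] at h1
    simp only [τ]
    rw [h1, ht, ← ConcreteCategory.comp_apply, ← P₃.map_comp, ← op_comp]
    rfl
  have hc_ex : ∀ (T : D) (t' : Fin (1 + 1) → Sec U T),
      ∃ x : P₁.obj (op (Φ.obj T)), f.app _ x = τ T (t' 1) - τ T (t' 0) := by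
    intro T t'
    apply hex
    rw [map_sub, gτ, gτ]
    have : ρ Φ U π T (t' 1) = ρ Φ U π T (t' 0) := hπ T _ _
    rw [this, sub_self]
  choose c hc using hc_ex
  have f_nat : ∀ (T T' : D) (h : T' ⟶ T) (x : P₁.obj (op (Φ.obj T))),
      f.app _ (P₁.map (Φ.map h).op x) = P₂.map (Φ.map h).op (f.app _ x) := by
    intro T T' h x
    have h1 := ConcreteCategory.congr_hom (f.naturality (Φ.map h).op) x
    rw [ConcreteCategory.comp_apply, ConcreteCategory.comp_apply] at h1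
    exact h1
  have c_nat : IsNat U (Φ.op ⋙ P₁) c := by
    intro T T' h t'
    apply hinj
    show f.app _ (P₁.map (Φ.map h).op (c T t')) = _
    rw [f_nat, hc, hc, map_sub, τ_nat, τ_nat]
  have c_cocycle : dFam U (Φ.op ⋙ P₁) 1 c = 0 := by
    funext T t'
    apply hinj
    simp only [dFam]
    have h3 : ∀ f : Fin (1 + 2) → (Φ.op ⋙ P₁).obj (op T), ∑ x, f x = f 0 + f 1 + f 2 :=
      fun f => Fin.sum_univ_three f
    rw [h3]
    rw [map_add, map_add, map_zsmul, map_zsmul, map_zsmul, hc, hc, hc]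
    have e00 : (t' ∘ Fin.succAbove (0 : Fin 3)) 0 = t' 1 := rfl
    have e01 : (t' ∘ Fin.succAbove (0 : Fin 3)) 1 = t' 2 := rfl
    have e10 : (t' ∘ Fin.succAbove (1 : Fin 3)) 0 = t' 0 := rfl
    have e11 : (t' ∘ Fin.succAbove (1 : Fin 3)) 1 = t' 2 := rfl
    have e20 : (t' ∘ Fin.succAbove (2 : Fin 3)) 0 = t' 0 := rfl
    have e21 : (t' ∘ Fin.succAbove (2 : Fin 3)) 1 = t' 1 := rfl
    rw [e00, e01, e10, e11, e20, e21]
    have hz : f.app (op (Φ.obj T)) ((0 : Fam U (Φ.op ⋙ P₁) (1 + 1)) T t') = 0 :=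
      map_zero _
    rw [hz]
    simp only [Fin.val_zero, Fin.val_one, Fin.val_two, pow_zero, pow_one, one_smul, neg_smul,
      even_two, Even.neg_pow, one_pow]
    abel
  obtain ⟨b, hb⟩ := forall_of_exactAt 0 hH1 (ΨQ U (Φ.op ⋙ P₁) 1 c) (by
    show d' U (Φ.op ⋙ P₁) 1 (ΨQ U (Φ.op ⋙ P₁) 1 c) = 0
    apply ΦQ_injective U (Φ.op ⋙ P₁) 2
    rw [ΦQ_d', ΦQ_ΨQ U (Φ.op ⋙ P₁) 1 c c_nat, c_cocycle, map_zero])
  have hb' : d' U (Φ.op ⋙ P₁) 0 b = ΨQ U (Φ.op ⋙ P₁) 1 c := hb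
  let β : Fam U (Φ.op ⋙ P₁) 0 := ΦQ U (Φ.op ⋙ P₁) 0 b
  have hβ_nat : IsNat U (Φ.op ⋙ P₁) β := ΦQ_isNat U (Φ.op ⋙ P₁) 0 b
  have hβ : dFam U (Φ.op ⋙ P₁) 0 β = c := by
    rw [← ΦQ_d', hb']
    exact ΦQ_ΨQ U (Φ.op ⋙ P₁) 1 c c_nat
  let g' : ∀ T : D, Sec U T → P₂.obj (op (Φ.obj T)) :=
    fun T σ => τ T σ - (f.app (op (Φ.obj T)) (β T (fun _ => σ)) : P₂.obj (op (Φ.obj T)))
  have g'_indep : ∀ (T : D) (σ₀ σ₁ : Sec U T), g' T σ₁ = g' T σ₀ := by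
    intro T σ₀ σ₁
    have h1 := congrFun (congrFun hβ T) ![σ₀, σ₁]
    simp only [dFam] at h1
    have h2 : ∀ f : Fin (0 + 2) → (Φ.op ⋙ P₁).obj (op T), ∑ x, f x = f 0 + f 1 :=
      fun f => Fin.sum_univ_two f
    rw [h2] at h1
    have e0 : (![σ₀, σ₁] : Fin 2 → Sec U T) ∘ Fin.succAbove (0 : Fin 2) = fun _ => σ₁ := by
      funext k
      fin_cases k
      rfl
    have e1 : (![σ₀, σ₁] : Fin 2 → Sec U T) ∘ Fin.succAbove (1 : Fin 2) = fun _ => σ₀ := by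
      funext k
      fin_cases k
      rfl
    rw [e0, e1] at h1
    have h3 := hc T ![σ₀, σ₁]
    rw [← h1] at h3
    simp at h3
    simp only [g']
    rw [sub_eq_sub_iff_sub_eq_sub, ← h3, sub_eq_add_neg]
  have g'_nat : ∀ (T T' : D) (h : T' ⟶ T) (σ : Sec U T),
      P₂.map (Φ.map h).op (g' T σ) = g' T' ⟨σ.1, h ≫ σ.2⟩ := by
    intro T T' h σ
    simp only [g']
    rw [map_sub, τ_nat, ← f_nat]
    congr 2
    exact hβ_nat T T' h (fun _ => σ)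
  obtain ⟨γ, hγ⟩ := hglue (fun i => g' (U i) ⟨i, 𝟙 _⟩) (by
      intro i j Z gi gj hij
      obtain ⟨T, f, si, sj, rfl, rfl⟩ := hlift i j Z gi gj hij
      rw [op_comp, P₂.map_comp, op_comp, P₂.map_comp]
      show P₂.map f.op (P₂.map (Φ.map si).op (g' (U i) ⟨i, 𝟙 _⟩)) =
        P₂.map f.op (P₂.map (Φ.map sj).op (g' (U j) ⟨j, 𝟙 _⟩))
      rw [g'_nat, g'_nat, g'_indep T ⟨j, sj ≫ 𝟙 _⟩ ⟨i, si ≫ 𝟙 _⟩])
  refine ⟨γ, ?_⟩
  apply hsep
  intro i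
  have h1 := ConcreteCategory.congr_hom (g.naturality (π i).op) γ
  rw [ConcreteCategory.comp_apply, ConcreteCategory.comp_apply] at h1
  rw [← h1, hγ i]
  simp only [g']
  rw [map_sub, gτ]
  have h2 : g.app (op (Φ.obj (U i)))
      (f.app (op (Φ.obj (U i))) (β (U i) (fun _ => ⟨i, 𝟙 _⟩))) = 0 := by
    have h3 : f.app (op (Φ.obj (U i))) ≫ g.app (op (Φ.obj (U i))) = 0 := by
      rw [← NatTrans.comp_app, hfg]
      rfl
    exact ConcreteCategory.congr_hom h3 _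
  rw [h2, sub_zero]
  simp [ρ]

end Groth.Agent.Lib.Helper21.CechH1U
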