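import Mathlib
import Groth.Prelude.Def_CohCx
import Groth.Agent.Lib.Helper27.NerveCx2
import Groth.Agent.Lib.Helper14.Topos3

/-!
Helper library (helper21): Cartan's criterion relative to a class `S` of sheaves of sets and a
class `Cov` of covers with targets in `S` (on top of helper27's `NerveHom`/`NerveCx`).
-/

set_option autoImplicit false
set_option linter.unusedSectionVars false
set_option linter.unusedVariables false

universe u
open CategoryTheory Limits Opposite Simplicial SimplicialObject AlgebraicTopology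

namespace Groth.Agent.Lib.Helper21.ToposCech

open Groth.Agent.Lib.helper27 Groth.Agent.Lib.Helper14.Topos

variable {C : Type u} [SmallCategory C] (J : GrothendieckTopology C)

/-- free abelian sheaf functor -/
noncomputable abbrev G : Sheaf J (Type u) ⥤ Sheaf J AddCommGrpCat.{u} := NerveCx.G J

/-- underlying sheaf of sets -/
noncomputable abbrev U : Sheaf J AddCommGrpCat.{u} ⥤ Sheaf J (Type u) := NerveCx.U J

/-- the `n`-th term of the Čech nerve of `f` -/
noncomputable abbrev nerveObj {K' K : Sheaf J (Type u)} (f : K' ⟶ K) (n : ℕ) : Sheaf J (Type u) :=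
  (Arrow.mk f).cechNerve.obj (op ⦋n⦌)

/-- `S`-acyclicity in degree `p + 1`, elementwise -/
def AcycOn (S : Set (Sheaf J (Type u))) (F : Sheaf J AddCommGrpCat.{u}) (p : ℕ) : Prop :=
  ∀ K ∈ S, ∀ x : Abelian.Ext.{u} ((G J).obj K) F (p + 1), x = 0

/-- the data of a class of covers -/
structure CovClass (S : Set (Sheaf J (Type u))) where
  /-- the covers -/
  Cov : ∀ ⦃K' K : Sheaf J (Type u)⦄, (K' ⟶ K) → Prop
  epi : ∀ ⦃K' K : Sheaf J (Type u)⦄ (f : K' ⟶ K), Cov f → Epi f
  tgt : ∀ ⦃K' K : Sheaf J (Type u)⦄ (f : K' ⟶ K), Cov f → K ∈ S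
  refine : ∀ K ∈ S, ∀ ⦃L : Sheaf J (Type u)⦄ (g : L ⟶ K), Epi g →
    ∃ (K' : Sheaf J (Type u)) (f : K' ⟶ K) (h : K' ⟶ L), Cov f ∧ h ≫ g = f
  nerve : ∀ ⦃K' K : Sheaf J (Type u)⦄ (f : K' ⟶ K), Cov f → ∀ (n : ℕ)
    (F : Sheaf J AddCommGrpCat.{u}) (p : ℕ), AcycOn J S F p →
    ∀ x : Abelian.Ext.{u} ((G J).obj (nerveObj J f n)) F (p + 1), x = 0

variable {J} {S : Set (Sheaf J (Type u))} (𝒞 : CovClass J S)

/-- Čech acyclicity relative to the class of covers -/
def CechAcyc (F : Sheaf J AddCommGrpCat.{u}) : Prop :=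
  ∀ ⦃K' K : Sheaf J (Type u)⦄ (f : K' ⟶ K), 𝒞.Cov f →
    ∀ q : ℕ, IsZero ((CohCx.cechNerveCx F f).homology (q + 1))

lemma epi_pullback_fst {X Y Z : Sheaf J (Type u)} (a : X ⟶ Z) (b : Y ⟶ Z) [Epi b] :
    Epi (pullback.fst a b) := by
  rw [epi_iff_jsurj]
  have hb : JSurj (fun _ : PUnit.{1} => b) := (epi_iff_jsurj b).1 inferInstance
  exact hb.base_change a (fun _ => pullback.snd a b) (fun _ => pullback.fst a b)
    (fun _ => (IsPullback.of_hasPullback a b).flip)

lemma exists_lift (F : Sheaf J AddCommGrpCat.{u}) (hF : CechAcyc 𝒞 F) (K : Sheaf J (Type u))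
    (hK : K ∈ S) (b : (G J).obj K ⟶ (NerveHom.embS F).X₃) :
    ∃ c : (G J).obj K ⟶ (NerveHom.embS F).X₂, c ≫ (NerveHom.embS F).g = b := by
  have hS := NerveHom.embS_shortExact F
  have : Epi (NerveHom.embS F).g := hS.epi_g
  let g' := (U J).map (NerveHom.embS F).g
  have : Epi g' := NerveCx.epi_U_map J _
  let b' : K ⟶ (U J).obj (NerveHom.embS F).X₃ := (TotAcyc.adj J).homEquiv K _ b
  have : Epi (pullback.fst b' g') := epi_pullback_fst b' g'
  obtain ⟨K', f, h, hf, hfac⟩ := 𝒞.refine K hK (pullback.fst b' g') inferInstance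
  have : Epi f := 𝒞.epi f hf
  have hE : IsZero (((NerveHom.Cx (NerveCx.P J f)).obj (NerveHom.embS F).X₁).homology 1) := by
    rw [← NerveCx.cx_eq]
    exact hF f hf 0
  -- the lift over `K'`
  let t : K' ⟶ (U J).obj (NerveHom.embS F).X₂ := h ≫ pullback.snd b' g'
  have ht : t ≫ g' = f ≫ b' := by
    rw [Category.assoc, ← pullback.condition, ← Category.assoc, hfac]
  let s' : (NerveHom.K (NerveCx.P J f)).X 0 ⟶ (NerveHom.embS F).X₂ :=
    (G J).map (WidePullback.π (fun _ : Fin (0 + 1) => (Arrow.mk f).hom) 0) ≫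
      ((TotAcyc.adj J).homEquiv K' _).symm t
  refine NerveHom.exists_lift_of_exactAt_one.{u} (NerveCx.P J f) (NerveCx.π J f)
    (NerveHom.embS F) hS hE b s' ?_
  have h0 : NerveHom.ε₀ (NerveCx.P J f) (NerveCx.π J f) =
      (G J).map (WidePullback.base (fun _ : Fin (0 + 1) => (Arrow.mk f).hom)) := by
    show (AlternatingFaceMapComplex.ε.app (NerveCx.XA J f)).f 0 = _
    rw [AlternatingFaceMapComplex.ε_app_f_zero]
    exact Category.comp_id _
  have hb : WidePullback.base (fun _ : Fin (0 + 1) => (Arrow.mk f).hom) =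
      WidePullback.π (fun _ : Fin (0 + 1) => (Arrow.mk f).hom) 0 ≫ f :=
    (WidePullback.π_arrow _ 0).symm
  have e3 : (G J).map (WidePullback.base (fun _ : Fin (0 + 1) => (Arrow.mk f).hom)) =
      (G J).map (WidePullback.π (fun _ : Fin (0 + 1) => (Arrow.mk f).hom) 0) ≫ (G J).map f :=
    (congrArg (G J).map hb).trans ((G J).map_comp _ _)
  -- the adjoint square
  have e2 : ((TotAcyc.adj J).homEquiv K' _).symm t ≫ (NerveHom.embS F).g =
      (G J).map f ≫ b := by
    rw [← Adjunction.homEquiv_naturality_right_symm, ht,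
      Adjunction.homEquiv_naturality_left_symm, Equiv.symm_apply_apply]
  refine Eq.trans ?_ (congrArg (· ≫ b) h0.symm)
  refine Eq.trans ?_ (congrArg (· ≫ b) e3.symm)
  refine (Category.assoc _ _ _).trans ?_
  refine Eq.trans ?_ (Category.assoc _ _ _).symm
  exact congrArg ((G J).map (WidePullback.π (fun _ : Fin (0 + 1) => (Arrow.mk f).hom) 0) ≫ ·) e2

lemma ext_one_eq_zero (F : Sheaf J AddCommGrpCat.{u}) (hF : CechAcyc 𝒞 F) :
    AcycOn J S F 0 := by
  intro K hK x
  have hS := NerveHom.embS_shortExact F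
  exact SieveExt.ext_one_eq_zero (NerveHom.embS F) hS inferInstance ((G J).obj K)
    (fun b => exists_lift 𝒞 F hF K hK b) x

lemma cechAcyc_X₃ (F : Sheaf J AddCommGrpCat.{u}) (hF : CechAcyc 𝒞 F) :
    CechAcyc 𝒞 (NerveHom.embS F).X₃ := by
  intro K' K f hf q
  have hS := NerveHom.embS_shortExact F
  have : Epi f := 𝒞.epi f hf
  exact NerveHom.isZero_homology_X₃.{u} (NerveCx.P J f) (NerveCx.π J f) (NerveHom.embS F) hS
    (fun n x => 𝒞.nerve f hf n F 0 (ext_one_eq_zero 𝒞 F hF) x) q (hF f hf (q + 1))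

/-- relative Cartan criterion: Čech-acyclic for the class of covers implies `S`-acyclic -/
theorem acycOn_of_cechAcyc : ∀ (n : ℕ) (F : Sheaf J AddCommGrpCat.{u}), CechAcyc 𝒞 F →
    AcycOn J S F n := by
  intro n
  induction n with
  | zero => exact fun F hF => ext_one_eq_zero 𝒞 F hF
  | succ n ih =>
    intro F hF K hK
    exact SieveExt.ext_succ_eq_zero (NerveHom.embS F) (NerveHom.embS_shortExact F) inferInstance
      ((G J).obj K) n (ih _ (cechAcyc_X₃ 𝒞 F hF) K hK)

/-- the converse: `S`-acyclic sheaves are Čech-acyclic for the class of covers -/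
theorem cechAcyc_of_acycOn (F : Sheaf J AddCommGrpCat.{u}) (hF : ∀ p, AcycOn J S F p) :
    CechAcyc 𝒞 F := by
  intro K' K f hf q
  have : Epi f := 𝒞.epi f hf
  have h : NerveHom.Acyc.{u} (NerveCx.P J f) ((NerveCx.XA J f).right) F :=
    ⟨fun n p x => 𝒞.nerve f hf n F p (hF p) x, fun p x => hF p K (𝒞.tgt f hf) x⟩
  exact NerveHom.isZero_homology_succ.{u} (NerveCx.P J f) (NerveCx.π J f) q F h

end Groth.Agent.Lib.Helper21.ToposCech
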