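import Mathlib
import Groth.Prelude.Def_CohCx
import Groth.Prelude.Def_ToposFin2
import Groth.Agent.Lib.Helper21.ToposCech1
import Groth.Agent.Lib.Helper14.Topos14
import Groth.Agent.Lib.Helper14.Topos5

/-!
Helper library (helper21): finite coproducts of members of a class `S` of sheaves of sets closed
under fibre products; the class of covers `K' ⟶ K` with `K ∈ S` and `K'` a finite coproduct of
members of `S`.
-/

set_option autoImplicit false
set_option linter.unusedSectionVars false
set_option linter.unusedVariables false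

universe u
open CategoryTheory Limits Opposite Simplicial SimplicialObject AlgebraicTopology

namespace Groth.Agent.Lib.Helper21.ToposCech

open Groth.Agent.Lib.helper27 Groth.Agent.Lib.Helper14.Topos ToposFin Groth.Agent.Lib.helper23.QCHom

variable {C : Type u} [SmallCategory C] {J : GrothendieckTopology C}

/-- finite coproducts of members of `S` -/
def Splus (S : Set (Sheaf J (Type u))) (X : Sheaf J (Type u)) : Prop :=
  ∃ (α : Type u) (_ : Finite α) (Z : α → Sheaf J (Type u)), (∀ a, Z a ∈ S) ∧ Nonempty (X ≅ ∐ Z)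

variable {S : Set (Sheaf J (Type u))}

lemma splus_of_iso {X Y : Sheaf J (Type u)} (e : X ≅ Y) (hX : Splus S X) : Splus S Y := by
  obtain ⟨α, hα, Z, hZ, ⟨eX⟩⟩ := hX
  exact ⟨α, hα, Z, hZ, ⟨e.symm ≪≫ eX⟩⟩

lemma splus_sigma {α : Type u} [Finite α] (Z : α → Sheaf J (Type u)) (hZ : ∀ a, Z a ∈ S) :
    Splus S (∐ Z) :=
  ⟨α, inferInstance, Z, hZ, ⟨Iso.refl _⟩⟩

section pullback

variable (hiso : ∀ ⦃K L : Sheaf J (Type u)⦄, K ∈ S → (K ≅ L) → L ∈ S)
  (hpb : ClosedUnderPullbacks S)

include hiso hpb

lemma pullback_mem {K L M : Sheaf J (Type u)} (f : K ⟶ M) (g : L ⟶ M) (hK : K ∈ S) (hL : L ∈ S)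
    (hM : M ∈ S) : pullback f g ∈ S := by
  obtain ⟨P, p, q, hP, hpq⟩ := hpb f g hK hL hM
  exact hiso hP hpq.isoPullback

lemma splus_pullback {X Y K : Sheaf J (Type u)} (a : X ⟶ K) (b : Y ⟶ K) (hX : Splus S X)
    (hY : Splus S Y) (hK : K ∈ S) : Splus S (pullback a b) := by
  obtain ⟨α, hα, Z, hZ, ⟨eX⟩⟩ := hX
  obtain ⟨β, hβ, W, hW, ⟨eY⟩⟩ := hY
  let a' : ∀ i, Z i ⟶ K := fun i => Sigma.ι Z i ≫ eX.inv ≫ a
  let b' : ∀ j, W j ⟶ K := fun j => Sigma.ι W j ≫ eY.inv ≫ b
  have ha : Sigma.desc a' = eX.inv ≫ a := by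
    apply Sigma.hom_ext
    intro i
    simp [a']
  have hb : Sigma.desc b' = eY.inv ≫ b := by
    apply Sigma.hom_ext
    intro j
    simp [b']
  have h0 := FinitaryPreExtensive.isPullback_sigmaDesc a' b'
  rw [ha, hb] at h0
  have h1 := h0.of_iso (Iso.refl _) eX.symm eY.symm (Iso.refl _)
    (fst' := (Limits.Sigma.desc fun (p : α × β) =>
      pullback.fst (a' p.1) (b' p.2) ≫ Sigma.ι Z p.1) ≫ eX.inv)
    (snd' := (Limits.Sigma.desc fun (p : α × β) =>
      pullback.snd (a' p.1) (b' p.2) ≫ Sigma.ι W p.2) ≫ eY.inv)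
    (f' := a) (g' := b) (by simp) (by simp) (by simp) (by simp)
  refine ⟨α × β, inferInstance, fun p => pullback (a' p.1) (b' p.2), fun p => ?_,
    ⟨h1.isoPullback.symm⟩⟩
  exact pullback_mem hiso hpb _ _ (hZ p.1) (hW p.2) hK

end pullback

section nerve

variable {K' K : Sheaf J (Type u)} (f : K' ⟶ K)

/-- the `n`-th term of the Čech nerve, in plain form -/
noncomputable abbrev WP (n : ℕ) : Sheaf J (Type u) :=
  widePullback K (fun _ : Fin (n + 1) => K') (fun _ => f)

/-- the base map of the `n`-th term of the Čech nerve -/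
noncomputable abbrev nerveBase (n : ℕ) : WP f n ⟶ K :=
  WidePullback.base (fun _ : Fin (n + 1) => f)

/-- the projections of the `n`-th term of the Čech nerve -/
noncomputable abbrev nerveπ (n : ℕ) (i : Fin (n + 1)) : WP f n ⟶ K' :=
  WidePullback.π (fun _ : Fin (n + 1) => f) i

lemma nerveπ_f (n : ℕ) (i : Fin (n + 1)) : nerveπ f n i ≫ f = nerveBase f n :=
  WidePullback.π_arrow (fun _ : Fin (n + 1) => f) i

/-- the `0`-th term of the Čech nerve is the source -/
noncomputable def nerveZeroIso : WP f 0 ≅ K' where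
  hom := nerveπ f 0 0
  inv := WidePullback.lift f (fun _ => 𝟙 K') (fun _ => Category.id_comp _)
  hom_inv_id := by
    apply WidePullback.hom_ext
    · intro j
      have hj : j = 0 := Fin.eq_zero j
      subst hj
      rw [Category.assoc, WidePullback.lift_π, Category.comp_id, Category.id_comp]
    · rw [Category.assoc, WidePullback.lift_base, Category.id_comp]
      exact nerveπ_f f 0 0
  inv_hom_id := WidePullback.lift_π _ _ _ _ _

/-- forgetting the last factor -/
noncomputable def succFst (n : ℕ) : WP f (n + 1) ⟶ WP f n :=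
  WidePullback.lift (nerveBase f (n + 1)) (fun i => nerveπ f (n + 1) (Fin.castSucc i))
    (fun i => nerveπ_f f (n + 1) _)

@[reassoc]
lemma succFst_π (n : ℕ) (i : Fin (n + 1)) :
    succFst f n ≫ nerveπ f n i = nerveπ f (n + 1) (Fin.castSucc i) :=
  WidePullback.lift_π _ _ _ _ _

@[reassoc]
lemma succFst_base (n : ℕ) : succFst f n ≫ nerveBase f n = nerveBase f (n + 1) :=
  WidePullback.lift_base _ _ _ _

/-- the comparison map to the fibre product -/
noncomputable def succHom (n : ℕ) : WP f (n + 1) ⟶ pullback (nerveBase f n) f :=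
  pullback.lift (succFst f n) (nerveπ f (n + 1) (Fin.last _))
    ((succFst_base f n).trans (nerveπ_f f (n + 1) _).symm)

@[reassoc]
lemma succHom_fst (n : ℕ) : succHom f n ≫ pullback.fst (nerveBase f n) f = succFst f n :=
  pullback.lift_fst _ _ _

@[reassoc]
lemma succHom_snd (n : ℕ) :
    succHom f n ≫ pullback.snd (nerveBase f n) f = nerveπ f (n + 1) (Fin.last _) :=
  pullback.lift_snd _ _ _

/-- the components of the inverse comparison map -/
noncomputable def succLeg (n : ℕ) (i : Fin (n + 1 + 1)) : pullback (nerveBase f n) f ⟶ K' :=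
  Fin.lastCases (motive := fun _ => pullback (nerveBase f n) f ⟶ K')
    (pullback.snd (nerveBase f n) f) (fun j => pullback.fst (nerveBase f n) f ≫ nerveπ f n j) i

lemma succLeg_last (n : ℕ) : succLeg f n (Fin.last _) = pullback.snd (nerveBase f n) f :=
  Fin.lastCases_last

lemma succLeg_castSucc (n : ℕ) (j : Fin (n + 1)) :
    succLeg f n (Fin.castSucc j) = pullback.fst (nerveBase f n) f ≫ nerveπ f n j :=
  Fin.lastCases_castSucc _

lemma succLeg_f (n : ℕ) (i : Fin (n + 1 + 1)) :
    succLeg f n i ≫ f = pullback.fst (nerveBase f n) f ≫ nerveBase f n := by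
  induction i using Fin.lastCases with
  | last =>
    rw [succLeg_last]
    exact pullback.condition.symm
  | cast j =>
    rw [succLeg_castSucc, Category.assoc]
    exact congrArg (pullback.fst (nerveBase f n) f ≫ ·) (nerveπ_f f n j)

/-- the inverse comparison map -/
noncomputable def succInv (n : ℕ) : pullback (nerveBase f n) f ⟶ WP f (n + 1) :=
  WidePullback.lift (pullback.fst (nerveBase f n) f ≫ nerveBase f n) (succLeg f n)
    (succLeg_f f n)

@[reassoc]
lemma succInv_π (n : ℕ) (i : Fin (n + 1 + 1)) :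
    succInv f n ≫ nerveπ f (n + 1) i = succLeg f n i :=
  WidePullback.lift_π _ _ _ _ _

@[reassoc]
lemma succInv_base (n : ℕ) :
    succInv f n ≫ nerveBase f (n + 1) = pullback.fst (nerveBase f n) f ≫ nerveBase f n :=
  WidePullback.lift_base _ _ _ _

/-- the successor term of the Čech nerve as a fibre product -/
noncomputable def nerveSuccIso (n : ℕ) :
    WP f (n + 1) ≅ pullback (nerveBase f n) f where
  hom := succHom f n
  inv := succInv f n
  hom_inv_id := by
    apply WidePullback.hom_ext
    · intro i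
      refine (Category.assoc _ _ _).trans (Eq.trans ?_ (Category.id_comp _).symm)
      refine (congrArg (succHom f n ≫ ·) (succInv_π f n i)).trans ?_
      induction i using Fin.lastCases with
      | last => rw [succLeg_last, succHom_snd]
      | cast j => rw [succLeg_castSucc, succHom_fst_assoc, succFst_π]
    · refine (Category.assoc _ _ _).trans (Eq.trans ?_ (Category.id_comp _).symm)
      refine (congrArg (succHom f n ≫ ·) (succInv_base f n)).trans ?_
      rw [succHom_fst_assoc, succFst_base]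
  inv_hom_id := by
    apply pullback.hom_ext
    · refine (Category.assoc _ _ _).trans (Eq.trans ?_ (Category.id_comp _).symm)
      refine (congrArg (succInv f n ≫ ·) (succHom_fst f n)).trans ?_
      apply WidePullback.hom_ext
      · intro j
        refine (Category.assoc _ _ _).trans ?_
        refine (congrArg (succInv f n ≫ ·) (succFst_π f n j)).trans ?_
        rw [succInv_π, succLeg_castSucc]
      · refine (Category.assoc _ _ _).trans ?_
        refine (congrArg (succInv f n ≫ ·) (succFst_base f n)).trans ?_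
        rw [succInv_base]
    · refine (Category.assoc _ _ _).trans (Eq.trans ?_ (Category.id_comp _).symm)
      refine (congrArg (succInv f n ≫ ·) (succHom_snd f n)).trans ?_
      rw [succInv_π, succLeg_last]

variable (hiso : ∀ ⦃K L : Sheaf J (Type u)⦄, K ∈ S → (K ≅ L) → L ∈ S)
  (hpb : ClosedUnderPullbacks S)

include hiso hpb in
lemma splus_WP (hK : K ∈ S) (hK' : Splus S K') : ∀ n : ℕ, Splus S (WP f n) := by
  intro n
  induction n with
  | zero => exact splus_of_iso (nerveZeroIso f).symm hK'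
  | succ n ih =>
    exact splus_of_iso (nerveSuccIso f n).symm (splus_pullback hiso hpb _ _ ih hK' hK)

include hiso hpb in
lemma splus_nerve (hK : K ∈ S) (hK' : Splus S K') (n : ℕ) : Splus S (nerveObj J f n) :=
  splus_WP f hiso hpb hK hK' n

end nerve

section ext

lemma ext_eq_zero_of_iso {X Y : Sheaf J (Type u)} (e : X ≅ Y) (F : Sheaf J AddCommGrpCat.{u})
    (p : ℕ) (h : ∀ y : Abelian.Ext.{u} ((G J).obj Y) F p, y = 0)
    (x : Abelian.Ext.{u} ((G J).obj X) F p) : x = 0 := by
  have h1 : (Abelian.Ext.mk₀ ((G J).map e.hom)).comp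
      ((Abelian.Ext.mk₀ ((G J).map e.inv)).comp x (zero_add p)) (zero_add p) = x := by
    rw [Abelian.Ext.mk₀_comp_mk₀_assoc, ← (G J).map_comp, e.hom_inv_id, (G J).map_id,
      Abelian.Ext.mk₀_id_comp]
  rw [← h1, h ((Abelian.Ext.mk₀ ((G J).map e.inv)).comp x (zero_add p)), Abelian.Ext.comp_zero]

lemma ext_eq_zero_of_sigma {α : Type u} [Finite α] (Z : α → Sheaf J (Type u))
    (F : Sheaf J AddCommGrpCat.{u}) (p : ℕ)
    (h : ∀ a, ∀ y : Abelian.Ext.{u} ((G J).obj (Z a)) F p, y = 0)
    (x : Abelian.Ext.{u} ((G J).obj (∐ Z)) F p) : x = 0 := by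
  haveI := Fintype.ofFinite α
  haveI : PreservesColimitsOfSize.{u, u} (G J) := (TotAcyc.adj J).leftAdjoint_preservesColimits
  have hc : IsColimit (Cofan.mk ((G J).obj (∐ Z)) fun a => (G J).map (Sigma.ι Z a) :
      Cofan fun a => (G J).obj (Z a)) :=
    isColimitCofanMkObjOfIsColimit (G J) Z _ (coproductIsCoproduct Z)
  have hb := biconeIsBilimitOfColimitCoconeOfIsColimit hc
  let e := Abelian.Ext.biproductAddEquiv hb F p
  have hx : e x = 0 := by
    funext a
    exact h a _
  exact e.injective (hx.trans (map_zero e).symm)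

lemma ext_eq_zero_of_splus {X : Sheaf J (Type u)} (hX : Splus S X)
    (F : Sheaf J AddCommGrpCat.{u}) (p : ℕ) (hF : AcycOn J S F p)
    (x : Abelian.Ext.{u} ((G J).obj X) F (p + 1)) : x = 0 := by
  obtain ⟨α, hα, Z, hZ, ⟨e⟩⟩ := hX
  exact ext_eq_zero_of_iso e F (p + 1)
    (fun y => ext_eq_zero_of_sigma Z F (p + 1) (fun a y' => hF (Z a) (hZ a) y') y) x

end ext

section cov

variable (hqc : ∀ K ∈ S, IsQC K) (hgen : IsGenerating S)
  (hiso : ∀ ⦃K L : Sheaf J (Type u)⦄, K ∈ S → (K ≅ L) → L ∈ S)
  (hpb : ClosedUnderPullbacks S)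

include hqc hgen hpb in
lemma isCoherent_of_splus {X : Sheaf J (Type u)} (hX : Splus S X) : IsCoherent X := by
  obtain ⟨α, hα, Z, hZ, ⟨e⟩⟩ := hX
  have h1 : IsQC (∐ Z) :=
    isQC_of_jsurj_finite Z (fun a => Sigma.ι Z a)
      ((epi_sigmaDesc_iff_jsurj (π := fun a => Sigma.ι Z a)).1 (by
        have : Limits.Sigma.desc (fun a => Sigma.ι Z a) = 𝟙 _ := by
          apply Limits.Sigma.hom_ext
          intro k
          simp
        rw [this]
        infer_instance)) (fun a => hqc _ (hZ a))
  have h2 : IsQS (∐ Z) := (isQS_sigma_iff Z).2 (fun a => isQS_of_mem hqc hgen hpb (hZ a))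
  exact ⟨isQC_of_iso e.symm h1, Groth.Agent.Lib.Helper14.Topos.isQS_of_iso e h2⟩

/-- the class of covers of members of `S` by finite coproducts of members of `S` -/
noncomputable def covClass : CovClass J S where
  Cov K' K f := K ∈ S ∧ Epi f ∧ Splus S K'
  epi _ _ _ h := h.2.1
  tgt _ _ _ h := h.1
  refine K hK L g hg := by
    obtain ⟨ι, F, π, hF, hπ⟩ := isGenerating_jsurj hgen L
    have hg' : JSurj (fun _ : PUnit.{1} => g) := (epi_iff_jsurj g).1 hg
    have hcomp := hg'.comp (fun _ i => π i) (fun _ => hπ)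
    obtain ⟨n, i, hi⟩ := hcomp.exists_fin (hqc K hK)
    let Z : ULift.{u} (Fin n) → Sheaf J (Type u) := fun k => F (i k.down).2
    refine ⟨∐ Z, Limits.Sigma.desc (fun k => π (i k.down).2 ≫ g),
      Limits.Sigma.desc (fun k => π (i k.down).2), ⟨hK, ?_, splus_sigma Z (fun k => hF _)⟩, ?_⟩
    · rw [epi_sigmaDesc_iff_jsurj]
      refine hi.of_refine _ (fun k => ⟨ULift.up k, 𝟙 _, Category.id_comp _⟩)
    · apply Limits.Sigma.hom_ext
      intro k
      simp
  nerve K' K f h n F p hF x :=
    ext_eq_zero_of_splus (splus_nerve f hiso hpb h.1 h.2.2 n) F p hF x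

end cov

end Groth.Agent.Lib.Helper21.ToposCech
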