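import Mathlib
import Groth.Prelude.Def_CohCx
import Groth.Agent.Lib.Helper21.ToposCech2

/-!
Helper library (helper21): a functor between sheaf toposes which preserves fibre products
commutes with Čech nerves.
-/

set_option autoImplicit false
set_option linter.unusedSectionVars false
set_option linter.unusedVariables false

universe u
open CategoryTheory Limits Opposite Simplicial SimplicialObject

namespace Groth.Agent.Lib.Helper21.CechPull

open Groth.Agent.Lib.Helper21.ToposCech

variable {C : Type u} [SmallCategory C] {J : GrothendieckTopology C}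
  {D : Type u} [SmallCategory D] {K : GrothendieckTopology D}
  (Φ : Sheaf J (Type u) ⥤ Sheaf K (Type u)) [PreservesLimitsOfShape WalkingCospan Φ]
  {K' K₀ : Sheaf J (Type u)} (f : K' ⟶ K₀)

theorem existsUnique_lift (n : ℕ) : ∀ {A : Sheaf K (Type u)} (p : Fin (n + 1) → (A ⟶ Φ.obj K'))
    (hp : ∀ i j, p i ≫ Φ.map f = p j ≫ Φ.map f),
    ∃! g : A ⟶ Φ.obj (WP f n), ∀ i, g ≫ Φ.map (nerveπ f n i) = p i := by
  induction n with
  | zero =>
    intro A p hp
    have h0 : (nerveZeroIso f).inv ≫ nerveπ f 0 0 = 𝟙 K' := (nerveZeroIso f).inv_hom_id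
    have h1 : nerveπ f 0 0 ≫ (nerveZeroIso f).inv = 𝟙 _ := (nerveZeroIso f).hom_inv_id
    refine ⟨p 0 ≫ Φ.map (nerveZeroIso f).inv, ?_, ?_⟩
    · intro i
      obtain rfl : i = 0 := Fin.eq_zero i
      rw [Category.assoc, ← Φ.map_comp, h0, Φ.map_id, Category.comp_id]
    · intro g hg
      rw [← hg 0, Category.assoc, ← Φ.map_comp, h1, Φ.map_id, Category.comp_id]
  | succ n ih =>
    intro A p hp
    obtain ⟨g₀, hg₀, hu₀⟩ := ih (fun i => p (Fin.castSucc i)) (fun i j => hp _ _)
    have hpb : IsPullback (Φ.map (pullback.fst (nerveBase f n) f))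
        (Φ.map (pullback.snd (nerveBase f n) f)) (Φ.map (nerveBase f n)) (Φ.map f) :=
      (IsPullback.of_hasPullback _ _).map Φ
    have hcond : g₀ ≫ Φ.map (nerveBase f n) = p (Fin.last _) ≫ Φ.map f := by
      rw [← nerveπ_f f n 0, Φ.map_comp, ← Category.assoc, hg₀ 0]
      exact hp _ _
    have hinv : ∀ i, (nerveSuccIso f n).inv ≫ nerveπ f (n + 1) i = succLeg f n i :=
      fun i => succInv_π f n i
    refine ⟨hpb.lift g₀ (p (Fin.last _)) hcond ≫ Φ.map (nerveSuccIso f n).inv, ?_, ?_⟩
    · intro i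
      rw [Category.assoc, ← Φ.map_comp, hinv]
      induction i using Fin.lastCases with
      | last =>
        rw [succLeg_last]
        exact hpb.lift_snd _ _ _
      | cast j =>
        rw [succLeg_castSucc, Φ.map_comp, ← Category.assoc, hpb.lift_fst]
        exact hg₀ j
    · intro g hg
      have h1 : g ≫ Φ.map (nerveSuccIso f n).hom = hpb.lift g₀ (p (Fin.last _)) hcond := by
        apply hpb.hom_ext
        · rw [hpb.lift_fst, Category.assoc, ← Φ.map_comp]
          have : (nerveSuccIso f n).hom ≫ pullback.fst (nerveBase f n) f = succFst f n :=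
            succHom_fst f n
          rw [this]
          apply hu₀
          intro i
          rw [Category.assoc, ← Φ.map_comp, succFst_π]
          exact hg _
        · rw [hpb.lift_snd, Category.assoc, ← Φ.map_comp]
          have : (nerveSuccIso f n).hom ≫ pullback.snd (nerveBase f n) f =
              nerveπ f (n + 1) (Fin.last _) := succHom_snd f n
          rw [this]
          exact hg _
      rw [← h1, Category.assoc, ← Φ.map_comp, Iso.hom_inv_id, Φ.map_id, Category.comp_id]

/-- the comparison map from the image of the Čech nerve to the Čech nerve of the image -/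
noncomputable def homN (n : ℕ) : Φ.obj (WP f n) ⟶ WP (Φ.map f) n :=
  WidePullback.lift (Φ.map (nerveBase f n)) (fun i => Φ.map (nerveπ f n i))
    (fun i => by rw [← Φ.map_comp, nerveπ_f])

@[reassoc]
lemma homN_π (n : ℕ) (i : Fin (n + 1)) :
    homN Φ f n ≫ nerveπ (Φ.map f) n i = Φ.map (nerveπ f n i) :=
  WidePullback.lift_π _ _ _ _ _

@[reassoc]
lemma homN_base (n : ℕ) : homN Φ f n ≫ nerveBase (Φ.map f) n = Φ.map (nerveBase f n) :=
  WidePullback.lift_base _ _ _ _

instance isIso_homN (n : ℕ) : IsIso (homN Φ f n) := by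
  obtain ⟨g, hg, hu⟩ := existsUnique_lift Φ f n (fun i => nerveπ (Φ.map f) n i)
    (fun i j => by rw [nerveπ_f, nerveπ_f])
  refine ⟨g, ?_, ?_⟩
  · obtain ⟨g', hg', hu'⟩ := existsUnique_lift Φ f n (fun i => Φ.map (nerveπ f n i))
      (fun i j => by rw [← Φ.map_comp, ← Φ.map_comp, nerveπ_f, nerveπ_f])
    rw [hu' (homN Φ f n ≫ g) (fun i => by rw [Category.assoc, hg i, homN_π]),
      hu' (𝟙 _) (fun i => Category.id_comp _)]
  · apply WidePullback.hom_ext
    · intro i
      rw [Category.assoc, Category.id_comp]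
      exact (congrArg (g ≫ ·) (homN_π Φ f n i)).trans (hg i)
    · rw [Category.assoc, Category.id_comp]
      refine (congrArg (g ≫ ·) (homN_base Φ f n)).trans ?_
      rw [← nerveπ_f f n 0, Φ.map_comp, ← Category.assoc, hg 0, nerveπ_f]

section general

variable {𝒞 : Type*} [Category 𝒞] {X Y : 𝒞} (a : X ⟶ Y)
  [∀ n : ℕ, HasWidePullback.{0} (Arrow.mk a).right (fun _ : Fin (n + 1) => (Arrow.mk a).left)
    fun _ => (Arrow.mk a).hom]

lemma cechNerve_map_π {Δ Δ' : SimplexCategoryᵒᵖ} (g : Δ ⟶ Δ') (i : Fin (Δ'.unop.len + 1)) :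
    (Arrow.mk a).cechNerve.map g ≫
      WidePullback.π (fun _ : Fin (Δ'.unop.len + 1) => (Arrow.mk a).hom) i =
      WidePullback.π (fun _ : Fin (Δ.unop.len + 1) => (Arrow.mk a).hom)
        (g.unop.toOrderHom i) :=
  WidePullback.lift_π _ _ _ _ _

lemma cechNerve_map_base {Δ Δ' : SimplexCategoryᵒᵖ} (g : Δ ⟶ Δ') :
    (Arrow.mk a).cechNerve.map g ≫
      WidePullback.base (fun _ : Fin (Δ'.unop.len + 1) => (Arrow.mk a).hom) =
      WidePullback.base (fun _ : Fin (Δ.unop.len + 1) => (Arrow.mk a).hom) :=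
  WidePullback.lift_base _ _ _ _

end general

/-- the image of the Čech nerve is the Čech nerve of the image -/
noncomputable def nerveIso :
    ((Arrow.mk f).cechNerve ⋙ Φ : SimplicialObject (Sheaf K (Type u))) ≅
      (Arrow.mk (Φ.map f)).cechNerve :=
  NatIso.ofComponents (fun Δ => asIso (homN Φ f Δ.unop.len)) (by
    intro Δ Δ' g
    apply WidePullback.hom_ext
    · intro i
      dsimp only [Functor.comp_map, asIso_hom]
      rw [Category.assoc, Category.assoc]
      refine (congrArg (Φ.map ((Arrow.mk f).cechNerve.map g) ≫ ·) (homN_π Φ f _ i)).trans ?_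
      rw [← Φ.map_comp]
      refine Eq.trans ?_ (congrArg (homN Φ f Δ.unop.len ≫ ·)
        (cechNerve_map_π (Φ.map f) g i).symm)
      refine Eq.trans ?_ (homN_π Φ f _ _).symm
      exact congrArg Φ.map (cechNerve_map_π f g i)
    · dsimp only [Functor.comp_map, asIso_hom]
      rw [Category.assoc, Category.assoc]
      refine (congrArg (Φ.map ((Arrow.mk f).cechNerve.map g) ≫ ·) (homN_base Φ f _)).trans ?_
      rw [← Φ.map_comp]
      refine Eq.trans ?_ (congrArg (homN Φ f Δ.unop.len ≫ ·)
        (cechNerve_map_base (Φ.map f) g).symm)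
      refine Eq.trans ?_ (homN_base Φ f _).symm
      exact congrArg Φ.map (cechNerve_map_base f g))

end Groth.Agent.Lib.Helper21.CechPull
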