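import Mathlib

/-!
# Inverse image of abelian sheaves commutes with the free abelian sheaf functor
-/

open CategoryTheory Limits Opposite

universe u

namespace Groth.Agent.Lib.Helper21.PullFree

variable {C D : Type u} [SmallCategory C] [SmallCategory D]
  (J : GrothendieckTopology C) (K : GrothendieckTopology D) (u : D ⥤ C) [u.IsContinuous K J]

/-- the free abelian sheaf functor. -/
noncomputable abbrev freeSh {E : Type u} [SmallCategory E] (L : GrothendieckTopology E) :
    Sheaf L (Type u) ⥤ Sheaf L AddCommGrpCat.{u} :=
  Sheaf.composeAndSheafify L AddCommGrpCat.free.{u}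

/-- free ⊣ forget on sheaves. -/
noncomputable abbrev freeAdj {E : Type u} [SmallCategory E] (L : GrothendieckTopology E) :
    freeSh L ⊣ sheafCompose L (forget AddCommGrpCat.{u}) :=
  Sheaf.adjunction L AddCommGrpCat.adj.{u}

/-- direct image commutes with the forgetful functors. -/
def rightIso : u.sheafPushforwardContinuous AddCommGrpCat.{u} K J ⋙
      sheafCompose K (forget AddCommGrpCat.{u}) ≅
    sheafCompose J (forget AddCommGrpCat.{u}) ⋙ u.sheafPushforwardContinuous (Type u) K J :=
  NatIso.ofComponents (fun G => Iso.refl _)

/-- inverse image commutes with the free abelian sheaf functors. -/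
noncomputable def pullFreeIso :
    freeSh K ⋙ u.sheafPullback AddCommGrpCat.{u} K J ≅ u.sheafPullback (Type u) K J ⋙ freeSh J :=
  ((freeAdj K).comp (u.sheafAdjunctionContinuous AddCommGrpCat.{u} K J)).leftAdjointUniq
    (((u.sheafAdjunctionContinuous (Type u) K J).comp (freeAdj J)).ofNatIsoRight (rightIso J K u).symm)

end Groth.Agent.Lib.Helper21.PullFree
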