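import Mathlib
import Groth.Prelude.Def_CohCx
import Groth.Agent.Lib.Helper21.CechPull1
import Groth.Agent.Lib.Helper21.PullFree
import Groth.Agent.Lib.Helper27.NerveCx2

/-!
Helper library (helper21): if the inverse image functor `g_!` on sheaves of sets attached to a
continuous functor of sites commutes with fibre products, then the pushforward along the functor
(`g⁻¹`) preserves totally acyclic abelian sheaves.
-/

set_option autoImplicit false
set_option linter.unusedSectionVars false
set_option linter.unusedVariables false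

universe u
open CategoryTheory Limits Opposite Simplicial SimplicialObject AlgebraicTopology

namespace Groth.Agent.Lib.Helper21.CechPull

open Groth.Agent.Lib.helper27 Groth.Agent.Lib.Helper21.ToposCech Groth.Agent.Lib.Helper21.PullFree

variable {C D : Type u} [SmallCategory C] [SmallCategory D]
  (J : GrothendieckTopology C) (K : GrothendieckTopology D) (u : C ⥤ D) [u.IsContinuous J K]

/-- `g_!` on sheaves of sets -/
noncomputable abbrev shriekSet : Sheaf J (Type u) ⥤ Sheaf K (Type u) := u.sheafPullback (Type u) J K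

/-- `g_!` on abelian sheaves -/
noncomputable abbrev shriekAb : Sheaf J AddCommGrpCat.{u} ⥤ Sheaf K AddCommGrpCat.{u} :=
  u.sheafPullback AddCommGrpCat.{u} J K

/-- `g⁻¹` on abelian sheaves -/
noncomputable abbrev invAb : Sheaf K AddCommGrpCat.{u} ⥤ Sheaf J AddCommGrpCat.{u} :=
  u.sheafPushforwardContinuous AddCommGrpCat.{u} J K

/-- the adjunction `g_! ⊣ g⁻¹` on abelian sheaves -/
noncomputable abbrev adjAb : shriekAb J K u ⊣ invAb J K u :=
  u.sheafAdjunctionContinuous AddCommGrpCat.{u} J K

instance : (invAb J K u).Additive := by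
  haveI : PreservesLimitsOfSize.{0, 0} (invAb J K u) := (adjAb J K u).rightAdjoint_preservesLimits
  exact Functor.additive_of_preserves_binary_products _

instance : (shriekAb J K u).Additive := (adjAb J K u).left_adjoint_additive

variable [PreservesLimitsOfShape WalkingCospan (shriekSet J K u)]
  {K' K₀ : Sheaf J (Type u)} (f : K' ⟶ K₀)

/-- the simplicial abelian sheaves: `g_!` of the free Čech nerve is the free Čech nerve of `g_!` -/
noncomputable def simpIso :
    (NerveCx.P J f ⋙ shriekAb J K u : SimplicialObject (Sheaf K AddCommGrpCat.{u})) ≅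
      NerveCx.P K ((shriekSet J K u).map f) :=
  (Functor.associator (Arrow.mk f).cechNerve (freeSh J) (shriekAb J K u)) ≪≫
    Functor.isoWhiskerLeft (Arrow.mk f).cechNerve (pullFreeIso K J u) ≪≫
    (Functor.associator (Arrow.mk f).cechNerve (shriekSet J K u) (freeSh K)).symm ≪≫
    Functor.isoWhiskerRight (nerveIso (shriekSet J K u) f) (freeSh K)

/-- the chain complexes -/
noncomputable def cxIso :
    ((shriekAb J K u).mapHomologicalComplex _).obj (NerveHom.K (NerveCx.P J f)) ≅
      NerveHom.K (NerveCx.P K ((shriekSet J K u).map f)) :=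
  eqToIso (Functor.congr_obj (map_alternatingFaceMapComplex (shriekAb J K u)) (NerveCx.P J f)) ≪≫
    (alternatingFaceMapComplex _).mapIso (simpIso J K u f)

/-- the components of the isomorphism of chain complexes -/
noncomputable def ψ (n : ℕ) :
    (shriekAb J K u).obj ((NerveHom.K (NerveCx.P J f)).X n) ≅
      (NerveHom.K (NerveCx.P K ((shriekSet J K u).map f))).X n :=
  (HomologicalComplex.eval _ _ n).mapIso (cxIso J K u f)

@[reassoc]
lemma ψ_comm (n : ℕ) :
    (shriekAb J K u).map ((NerveHom.K (NerveCx.P J f)).d (n + 1) n) ≫ (ψ J K u f n).hom =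
      (ψ J K u f (n + 1)).hom ≫
        (NerveHom.K (NerveCx.P K ((shriekSet J K u).map f))).d (n + 1) n :=
  ((cxIso J K u f).hom.comm (n + 1) n).symm

@[reassoc]
lemma ψ_comm_inv (n : ℕ) :
    (NerveHom.K (NerveCx.P K ((shriekSet J K u).map f))).d (n + 1) n ≫ (ψ J K u f n).inv =
      (ψ J K u f (n + 1)).inv ≫
        (shriekAb J K u).map ((NerveHom.K (NerveCx.P J f)).d (n + 1) n) :=
  ((cxIso J K u f).inv.comm (n + 1) n).symm

/-- exactness of the Čech complex of `g⁻¹ A` along `f` follows from exactness of the Čech complex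
of `A` along `g_! f` -/
theorem isZero_cech_inv (A : Sheaf K AddCommGrpCat.{u}) (q : ℕ)
    (h : IsZero ((CohCx.cechNerveCx A ((shriekSet J K u).map f)).homology (q + 1))) :
    IsZero ((CohCx.cechNerveCx ((invAb J K u).obj A) f).homology (q + 1)) := by
  let P := NerveCx.P J f
  let P' := NerveCx.P K ((shriekSet J K u).map f)
  let adj := adjAb J K u
  have hex : ((NerveHom.Cx P').obj A).ExactAt (q + 1) :=
    (HomologicalComplex.exactAt_iff_isZero_homology _ _).2 h
  rw [HomologicalComplex.exactAt_iff' _ q (q + 1) (q + 2) (by simp) (by simp),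
    ShortComplex.ab_exact_iff] at hex
  show IsZero (((NerveHom.Cx P).obj ((invAb J K u).obj A)).homology (q + 1))
  rw [← HomologicalComplex.exactAt_iff_isZero_homology,
    HomologicalComplex.exactAt_iff' _ q (q + 1) (q + 2) (by simp) (by simp),
    ShortComplex.ab_exact_iff]
  intro x hx
  have hx' : (NerveHom.K P).d (q + 1 + 1) (q + 1) ≫ NerveHom.toHom P x = 0 :=
    (NerveHom.d_apply P _ (q + 1) x).symm.trans hx
  -- transport the cocycle
  let xs : (shriekAb J K u).obj ((NerveHom.K P).X (q + 1)) ⟶ A :=
    (adj.homEquiv _ _).symm (NerveHom.toHom P x)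
  let x' : (NerveHom.K P').X (q + 1) ⟶ A := (ψ J K u f (q + 1)).inv ≫ xs
  have e1 : (shriekAb J K u).map ((NerveHom.K P).d (q + 1 + 1) (q + 1)) ≫ xs = 0 := by
    rw [← Adjunction.homEquiv_naturality_left_symm, hx', Adjunction.homEquiv_counit,
      Functor.map_zero, zero_comp]
  have hx'' : (NerveHom.K P').d (q + 1 + 1) (q + 1) ≫ x' = 0 :=
    (ψ_comm_inv_assoc J K u f (q + 1) xs).trans
      ((congrArg ((ψ J K u f (q + 1 + 1)).inv ≫ ·) e1).trans comp_zero)
  obtain ⟨y', hy'⟩ := hex (NerveHom.ofHom P' x')
    ((NerveHom.d_apply P' A (q + 1) _).trans hx'')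
  have hy : (NerveHom.K P').d (q + 1) q ≫ NerveHom.toHom P' y' = x' :=
    (NerveHom.d_apply P' A q y').symm.trans hy'
  refine ⟨NerveHom.ofHom P (adj.homEquiv _ _ ((ψ J K u f q).hom ≫ NerveHom.toHom P' y')), ?_⟩
  refine (NerveHom.d_apply P _ q _).trans ?_
  show (NerveHom.K P).d (q + 1) q ≫ adj.homEquiv _ _ ((ψ J K u f q).hom ≫ NerveHom.toHom P' y') =
    NerveHom.toHom P x
  rw [← Adjunction.homEquiv_naturality_left]
  have e2 : (shriekAb J K u).map ((NerveHom.K P).d (q + 1) q) ≫
      (ψ J K u f q).hom ≫ NerveHom.toHom P' y' = xs :=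
    (ψ_comm_assoc J K u f q _).trans
      ((congrArg ((ψ J K u f (q + 1)).hom ≫ ·) hy).trans (Iso.hom_inv_id_assoc _ _))
  rw [e2]
  exact Equiv.apply_symm_apply _ _

/-- `g⁻¹` preserves totally acyclic abelian sheaves when `g_!` commutes with fibre products -/
theorem isTotallyAcyclic_inv (A : Sheaf K AddCommGrpCat.{u}) (hA : CohCx.IsTotallyAcyclic A) :
    CohCx.IsTotallyAcyclic ((invAb J K u).obj A) := by
  refine NerveCx.isTotallyAcyclic_of_cechAcyc J _ (fun K' K₀ f hf q => ?_)
  haveI : (shriekSet J K u).PreservesEpimorphisms :=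
    Functor.preservesEpimorphisms_of_adjunction (u.sheafAdjunctionContinuous (Type u) J K)
  haveI := hf
  exact isZero_cech_inv J K u f A q
    (NerveCx.isZero_of_totallyAcyclic K ((shriekSet J K u).map f) A hA q)

end Groth.Agent.Lib.Helper21.CechPull
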