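import Mathlib
import Groth.Prelude.Def_LocCohZ
import Groth.Agent.Lib.Helper27.SectSupp4
import Groth.Agent.Lib.Helper21.ClosedPush

/-!
# `i_* ⊣ i⁻¹ Γ_Z` for the inclusion of a closed subset
-/

set_option autoImplicit false

open CategoryTheory Limits Opposite TopologicalSpace
open Groth.Agent.Lib.helper27

universe u

namespace Groth.Agent.Lib.helper21.ClosedAdj

variable {X : TopCat.{u}} (U : Opens X)

/-- the inclusion of the closed complement -/
noncomputable abbrev ii : TopCat.of ((U : Set X)ᶜ : Set X) ⟶ X := CohCx.inclCompl U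

lemma hii : Topology.IsClosedEmbedding (ii U) :=
  Topology.IsClosedEmbedding.subtypeVal U.2.isClosed_compl

lemma map_eq_bot_iff (V : Opens X) : (Opens.map (ii U)).obj V = ⊥ ↔ V ≤ U := by
  constructor
  · intro h x hx
    by_contra hxU
    have : (⟨x, hxU⟩ : ((U : Set X)ᶜ : Set X)) ∈ (Opens.map (ii U)).obj V := hx
    rw [h] at this
    exact this
  · intro h
    apply le_antisymm _ bot_le
    rintro ⟨x, hxU⟩ hx
    exact (hxU (h hx)).elim

/-- the adjunction `i⁻¹ ⊣ i_*` -/
noncomputable abbrev adj₀ : CohTop.pull (ii U) ⊣ CohTop.push (ii U) :=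
  TopCat.Sheaf.pullbackPushforwardAdjunction AddCommGrpCat.{u} (ii U)

/-- sections of a direct image from the closed complement over opens inside `U` vanish -/
lemma subsingleton_push (G : CohTop.Ab (TopCat.of ((U : Set X)ᶜ : Set X))) (V : Opens X)
    (hV : V ≤ U) : Subsingleton (((CohTop.push (ii U)).obj G).obj.obj (op V)) := by
  have ht : IsTerminal (G.obj.obj (op ((Opens.map (ii U)).obj V))) :=
    TopCat.Sheaf.isTerminalOfEqEmpty G ((map_eq_bot_iff U V).2 hV)
  have hz : IsZero (G.obj.obj (op ((Opens.map (ii U)).obj V))) :=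
    (isZero_zero _).of_iso (ht.uniqueUpToIso (isZero_zero AddCommGrpCat.{u}).isTerminal)
  exact AddCommGrpCat.subsingleton_of_isZero hz

/-- every map from a direct image is killed by the unit `F ⟶ j_* j⁻¹ F` -/
lemma comp_η_eq_zero (G : CohTop.Ab (TopCat.of ((U : Set X)ᶜ : Set X))) {F : CohTop.Ab X}
    (φ : (CohTop.push (ii U)).obj G ⟶ F) : φ ≫ SectSupp.η U F = 0 := by
  apply Sheaf.hom_ext
  apply NatTrans.ext
  funext V
  apply AddCommGrpCat.hom_ext
  apply AddMonoidHom.ext
  intro s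
  show ((SectSupp.η U F).hom.app V).hom ((φ.hom.app V).hom s) = 0
  obtain ⟨V⟩ := V
  rw [SectSupp.η_app_eq_zero_iff]
  have nat := ConcreteCategory.congr_hom (φ.hom.naturality (homOfLE (SectSupp.jj_le U V)).op) s
  refine nat.symm.trans ?_
  haveI := subsingleton_push U G (SectSupp.jj U V) (SectSupp.jj_le' U V)
  have h0 : (((CohTop.push (ii U)).obj G).obj.map (homOfLE (SectSupp.jj_le U V)).op).hom s = 0 :=
    Subsingleton.elim _ _
  exact (congrArg (φ.hom.app (op (SectSupp.jj U V))).hom h0).trans (map_zero _)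

/-- sections of `Γ_Z F` over opens inside `U` vanish -/
lemma isZero_sectSupp (F : CohTop.Ab X) (V : Opens X) (hV : V ≤ U) :
    IsZero (((LocCohZ.sectSuppF U).obj F).obj.obj (op V)) := by
  have : Subsingleton (((LocCohZ.sectSuppF U).obj F).obj.obj (op V)) := by
    refine subsingleton_of_forall_eq 0 fun t => ?_
    apply SectSupp.ιZ_app_injective U F V
    rw [map_zero]
    have h0 := (SectSupp.exists_ιZ_app_eq_iff U F V _).1 ⟨t, rfl⟩
    have hle : V ≤ SectSupp.jj U V := SectSupp.le_jj U V V le_rfl hV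
    have := congrArg (F.obj.map (homOfLE hle).op).hom h0
    rw [SectSupp.map_map_apply, map_zero] at this
    refine Eq.trans ?_ this
    have hid : F.obj.map (homOfLE (le_refl V)).op = 𝟙 _ := by
      rw [show homOfLE (le_refl V) = 𝟙 V from Subsingleton.elim _ _, op_id, F.obj.map_id]
    rw [hid]
    rfl
  exact AddCommGrpCat.isZero_of_subsingleton _

/-- `Γ_Z F` is a direct image from `Z` -/
lemma essImage_sectSupp (F : CohTop.Ab X) :
    (CohTop.push (ii U)).essImage ((LocCohZ.sectSuppF U).obj F) := by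
  obtain ⟨G', ⟨e⟩⟩ := ClosedPush.exists_push_iso (ii U) (hii U) ((LocCohZ.sectSuppF U).obj F)
    (fun V hV => isZero_sectSupp U F V ((map_eq_bot_iff U V).1 hV))
  exact ⟨G', ⟨e⟩⟩

instance : (CohTop.push (ii U)).Full := ClosedPush.push_full (ii U) (hii U).isInducing

instance : (CohTop.push (ii U)).Faithful := ClosedPush.push_faithful (ii U) (hii U).isInducing

instance isIso_unit_sectSupp (F : CohTop.Ab X) :
    IsIso ((adj₀ U).unit.app ((LocCohZ.sectSuppF U).obj F)) :=
  (Adjunction.isIso_unit_app_iff_mem_essImage (adj₀ U)).2 (essImage_sectSupp U F)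

/-- the counit `i_* i⁻¹ Γ_Z F ⟶ F` -/
noncomputable def c (F : CohTop.Ab X) :
    (CohTop.push (ii U)).obj ((CohTop.pull (ii U)).obj ((LocCohZ.sectSuppF U).obj F)) ⟶ F :=
  inv ((adj₀ U).unit.app ((LocCohZ.sectSuppF U).obj F)) ≫ SectSupp.ιZ U F

lemma c_natural {F F' : CohTop.Ab X} (a : F ⟶ F') :
    (CohTop.push (ii U)).map ((CohTop.pull (ii U)).map ((LocCohZ.sectSuppF U).map a)) ≫ c U F' =
      c U F ≫ a := by
  unfold c
  rw [Category.assoc, ← SectSupp.map_ι, ← Category.assoc, ← Category.assoc]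
  congr 1
  rw [IsIso.comp_inv_eq, Category.assoc, IsIso.eq_inv_comp]
  exact ((adj₀ U).unit.naturality ((LocCohZ.sectSuppF U).map a)).symm

variable {U}

/-- forward map of the hom-set bijection -/
noncomputable def toFun {G : CohTop.Ab (TopCat.of ((U : Set X)ᶜ : Set X))} {F : CohTop.Ab X}
    (φ : (CohTop.push (ii U)).obj G ⟶ F) :
    G ⟶ (CohTop.pull (ii U)).obj ((LocCohZ.sectSuppF U).obj F) :=
  (CohTop.push (ii U)).preimage
    (SectSupp.liftZ U φ (comp_η_eq_zero U G φ) ≫ (adj₀ U).unit.app ((LocCohZ.sectSuppF U).obj F))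

lemma map_toFun {G : CohTop.Ab (TopCat.of ((U : Set X)ᶜ : Set X))} {F : CohTop.Ab X}
    (φ : (CohTop.push (ii U)).obj G ⟶ F) :
    (CohTop.push (ii U)).map (toFun φ) =
      SectSupp.liftZ U φ (comp_η_eq_zero U G φ) ≫ (adj₀ U).unit.app ((LocCohZ.sectSuppF U).obj F) :=
  Functor.map_preimage _ _

/-- backward map of the hom-set bijection -/
noncomputable def invFun {G : CohTop.Ab (TopCat.of ((U : Set X)ᶜ : Set X))} {F : CohTop.Ab X}
    (ψ : G ⟶ (CohTop.pull (ii U)).obj ((LocCohZ.sectSuppF U).obj F)) :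
    (CohTop.push (ii U)).obj G ⟶ F :=
  (CohTop.push (ii U)).map ψ ≫ c U F

lemma liftZ_comp {G : CohTop.Ab (TopCat.of ((U : Set X)ᶜ : Set X))} {F F' : CohTop.Ab X}
    (φ : (CohTop.push (ii U)).obj G ⟶ F) (a : F ⟶ F') :
    SectSupp.liftZ U (φ ≫ a) (comp_η_eq_zero U G _) =
      SectSupp.liftZ U φ (comp_η_eq_zero U G φ) ≫ (LocCohZ.sectSuppF U).map a := by
  apply (cancel_mono (SectSupp.ιZ U F')).1
  rw [SectSupp.liftZ_ι, Category.assoc, SectSupp.map_ι, ← Category.assoc, SectSupp.liftZ_ι]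

lemma invFun_toFun {G : CohTop.Ab (TopCat.of ((U : Set X)ᶜ : Set X))} {F : CohTop.Ab X}
    (φ : (CohTop.push (ii U)).obj G ⟶ F) : invFun (toFun φ) = φ := by
  unfold invFun c
  rw [map_toFun, Category.assoc, IsIso.hom_inv_id_assoc, SectSupp.liftZ_ι]

lemma toFun_invFun {G : CohTop.Ab (TopCat.of ((U : Set X)ᶜ : Set X))} {F : CohTop.Ab X}
    (ψ : G ⟶ (CohTop.pull (ii U)).obj ((LocCohZ.sectSuppF U).obj F)) : toFun (invFun ψ) = ψ := by
  apply (CohTop.push (ii U)).map_injective
  rw [map_toFun]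
  have h1 : SectSupp.liftZ U (invFun ψ) (comp_η_eq_zero U G _) = (CohTop.push (ii U)).map ψ ≫
      inv ((adj₀ U).unit.app ((LocCohZ.sectSuppF U).obj F)) := by
    apply (cancel_mono (SectSupp.ιZ U F)).1
    rw [SectSupp.liftZ_ι, Category.assoc]
    rfl
  rw [h1, Category.assoc, IsIso.inv_hom_id, Category.comp_id]

variable (U)

/-- the adjunction `i_* ⊣ i⁻¹ Γ_Z` -/
noncomputable def adj : CohTop.push (ii U) ⊣ LocCohZ.sectSuppF U ⋙ CohTop.pull (ii U) :=
  Adjunction.mkOfHomEquiv
    { homEquiv := fun G F =>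
        { toFun := toFun
          invFun := invFun
          left_inv := invFun_toFun
          right_inv := toFun_invFun }
      homEquiv_naturality_left_symm := fun f g => by
        show (CohTop.push (ii U)).map (f ≫ g) ≫ c U _ = _
        rw [Functor.map_comp, Category.assoc]
        rfl
      homEquiv_naturality_right := fun {G F F'} φ a => by
        apply (CohTop.push (ii U)).map_injective
        show (CohTop.push (ii U)).map (toFun (φ ≫ a)) = (CohTop.push (ii U)).map (toFun φ ≫ _)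
        rw [Functor.map_comp, map_toFun, map_toFun, liftZ_comp, Category.assoc, Category.assoc]
        congr 1
        exact (adj₀ U).unit.naturality ((LocCohZ.sectSuppF U).map a) }

end Groth.Agent.Lib.helper21.ClosedAdj
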