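import Mathlib
import Groth.Prelude.Def_SuppFam
import Groth.Agent.Lib.Helper21.ClosedAdj
import Groth.Agent.Lib.Helper21.TopRestr

/-!
# `Γ_Z` preserves injective abelian sheaves (closed and locally closed supports)
-/

set_option autoImplicit false

open CategoryTheory Limits Opposite TopologicalSpace
open Groth.Agent.Lib.helper27

universe u

namespace Groth.Agent.Lib.helper21.ClosedInj

/-- direct image preserves injectives -/
lemma injective_push {Z X : TopCat.{u}} (f : Z ⟶ X) (J : CohTop.Ab Z) (hJ : Injective J) :
    Injective ((CohTop.push f).obj J) := by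
  have h : (TopCat.Sheaf.pullback AddCommGrpCat.{u} f).PreservesMonomorphisms := inferInstance
  exact (TopCat.Sheaf.pullbackPushforwardAdjunction AddCommGrpCat.{u} f).map_injective J hJ

variable {X : TopCat.{u}}

/-- `Γ_Z` preserves injectives, `Z` closed -/
theorem injective_sectSupp (U : Opens X) (I : CohTop.Ab X) (hI : Injective I) :
    Injective ((LocCohZ.sectSuppF U).obj I) := by
  have h0 : (CohTop.push (ClosedAdj.ii U)).IsRightAdjoint :=
    (ClosedAdj.adj₀ U).isRightAdjoint
  have h : (CohTop.push (ClosedAdj.ii U)).PreservesMonomorphisms := inferInstance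
  have h1 : Injective ((LocCohZ.sectSuppF U ⋙ CohTop.pull (ClosedAdj.ii U)).obj I) :=
    (ClosedAdj.adj U).map_injective I hI
  have h2 := injective_push (ClosedAdj.ii U) _ h1
  exact Injective.of_iso (asIso ((ClosedAdj.adj₀ U).unit.app ((LocCohZ.sectSuppF U).obj I))).symm
    h2

/-- `Γ_Z` preserves injectives, `Z` locally closed -/
theorem injective_sectSuppLC {W V : Opens X} (h : W ≤ V) (F : CohTop.Ab X) (hF : Injective F) :
    Injective ((SuppFam.sectSuppLC h).obj F) := by
  haveI := Groth.Agent.Lib.Helper21.TopRestr.restr_preservesInjectiveObjects V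
  have h1 : Injective ((CohTop.restrFunctor V).obj F) :=
    (CohTop.restrFunctor V).injective_obj_of_injective hF
  have h2 := injective_sectSupp (SuppFam.inOpen V W) ((CohTop.restrFunctor V).obj F) h1
  exact injective_push (CohCx.incl V) _ h2

end Groth.Agent.Lib.helper21.ClosedInj
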