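import Mathlib
import Groth.Agent.Lib.Helper21.CodimDepth
import Groth.Agent.Lib.Helper18.ProjBasic
import Groth.Agent.Lib.Helper19.ProjSpaceProper
import Groth.Agent.Lib.Helper20.PnLocalRing
import Groth.Agent.Lib.Helper28.TwistPn
import Groth.Agent.Lib.Helper16.FLF5

/-!
# Vanishing of `ℰxt^i(ι_* O_X, E)` below the codimension on `P^N_k` (helper21)
-/

set_option autoImplicit false
universe u

open CategoryTheory CategoryTheory.Limits AlgebraicGeometry Opposite TopologicalSpace

namespace Groth.Agent.Lib.helper21.CodimDepthPn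

open Groth.Agent.Lib.helper3.FTField Groth.Agent.Lib.helper21.CodimDepth
open Scheme.Modules

attribute [local instance] Groth.Agent.Lib.helper21.ShHomCoh.hasInjRes

variable (k : Type u) [Field k] (N : ℕ)

instance locallyOfFiniteType_projSpace :
    LocallyOfFiniteType (CohB1.ProjSpace N k ↘ Spec (CommRingCat.of k)) := by
  haveI : IsProper (CohB1.ProjSpace.toSpec N k) :=
    Groth.Agent.Lib.helper19.ProjSpaceProper.proper_toSpec N k
  change LocallyOfFiniteType (CohB1.ProjSpace.toSpec N k)
  infer_instance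

/-- all irreducible components of `P^N_k` have dimension `N` -/
theorem dim_irreducibleComponents_projSpace (Z : Set ↥(CohB1.ProjSpace N k))
    (hZ : Z ∈ irreducibleComponents ↥(CohB1.ProjSpace N k)) :
    topologicalKrullDim ↥Z = (N : WithBot ℕ∞) := by
  haveI : IsIntegral (CohB1.ProjSpace N k) :=
    Groth.Agent.Lib.Helper18.ProjBasic.isIntegral_projSpace N k
  rw [irreducibleComponents_eq_singleton, Set.mem_singleton_iff] at hZ
  subst hZ
  rw [← Groth.Agent.Lib.Helper18.ProjBasic.topologicalKrullDim_projSpace N k]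
  exact IsHomeomorph.topologicalKrullDim_eq _
    (Homeomorph.Set.univ ↥(CohB1.ProjSpace N k)).isHomeomorph

/-- **Vanishing below the codimension on `P^N_k`**: `ℰxt^i(ι_* O_X, E) = 0` for `i < r` when
`dim X + r ≤ N` and `E` is finite locally free. -/
theorem isZero_extSh_push_projSpace {X : Scheme.{u}} (ι : X ⟶ CohB1.ProjSpace N k)
    [IsClosedImmersion ι] (r : ℕ)
    (hr : topologicalKrullDim ↥X + (r : WithBot ℕ∞) ≤ (N : WithBot ℕ∞))
    (E : (CohB1.ProjSpace N k).Modules) (hE : FlatMod.IsFinLocFree E) (i : ℕ) (hi : i < r) :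
    IsZero ((ModSite.extSh (O := (CohB1.ProjSpace N k).sheaf)
      ((Scheme.Modules.pushforward ι).obj (Coh.structureModule X)) i).obj E) := by
  haveI : IsLocallyNoetherian (CohB1.ProjSpace N k) :=
    LocallyOfFiniteType.isLocallyNoetherian (CohB1.ProjSpace N k ↘ Spec (CommRingCat.of k))
  refine isZero_extSh_push_of_depth ι E
    (Groth.Agent.Lib.Lead.RankAdd.isCoh_of_isFinLocFree hE) r (fun x => ?_) i hi
  obtain ⟨m, hm⟩ := exists_nat_trdeg_residueField k (CohB1.ProjSpace N k) (ι x)
  have h1 := dim_closure_eq_trdeg k (CohB1.ProjSpace N k) (ι x) m hm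
  have h2 : (m : WithBot ℕ∞) + (r : WithBot ℕ∞) ≤ (N : WithBot ℕ∞) := by
    rw [← h1]
    exact (add_le_add_left ((dim_closure_image_le ι x).trans
      (topologicalKrullDim_subspace_le X _)) _).trans hr
  have h3 : m + r ≤ N := by exact_mod_cast h2
  have h4 := le_depth_stalk_of_regular k (CohB1.ProjSpace N k) N
    (dim_irreducibleComponents_projSpace k N) E hE (ι x)
    (Groth.Agent.Lib.Helper20.PnLocalRing.isRegularLocalRing_stalk N k (ι x)) m h1.le
  refine le_trans ?_ h4
  have h5 : r ≤ N - m := by omega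
  exact_mod_cast h5

end Groth.Agent.Lib.helper21.CodimDepthPn
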