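import Mathlib
import Groth.Agent.Lib.Helper25.StalkExact
import Groth.Agent.Lib.Helper7.CohKer
import Groth.Agent.Lib.Helper8.DevMaster
import Groth.Agent.Lib.Helper21.ModOpenBC2

/-!
# Stalk-local properties of coherent modules spread out to a neighbourhood (helper21)
-/

set_option autoImplicit false
universe u

open CategoryTheory CategoryTheory.Limits AlgebraicGeometry Opposite TopologicalSpace

namespace Groth.Agent.Lib.helper21.CohSpread

open Scheme.Modules

variable {X : Scheme.{u}}

/-- a module whose stalks vanish on `O` restricts to zero on `O` (as helper11's lemma) -/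
lemma isZero_restrict_of_stalks_vanish (M : X.Modules) (O : X.Opens)
    (h : ∀ z ∈ O, Subsingleton (M.presheaf.stalk z)) :
    IsZero ((restrictFunctor O.ι).obj M) := by
  rw [IsZero.iff_id_eq_zero]
  apply Scheme.Modules.hom_ext
  intro P
  ext m
  have hsub : Subsingleton Γ(M, O.ι ''ᵁ P) := by
    refine ⟨fun s t => ?_⟩
    refine TopCat.Presheaf.section_ext (⟨M.presheaf, M.isSheaf⟩ : TopCat.Sheaf Ab X) _ s t
      (fun z hz => ?_)
    have := h z (Scheme.Opens.ι_image_le O P hz)
    exact Subsingleton.elim _ _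
  exact hsub.elim _ _

variable [IsLocallyNoetherian X]

/-- a coherent module with zero stalk at `x` vanishes near `x` -/
theorem exists_isZero_restrict (F : X.Modules) (hF : Coh.IsCoh F) (x : X)
    (hx : Subsingleton (F.presheaf.stalk x)) :
    ∃ U : X.Opens, x ∈ U ∧ IsZero ((restrictFunctor U.ι).obj F) := by
  have hcl := Groth.Agent.Lib.helper8.Dev.isClosed_support_of_isCoh F hF
  refine ⟨⟨(CohB1.support F)ᶜ, hcl.isOpen_compl⟩, fun h => h hx, ?_⟩
  refine isZero_restrict_of_stalks_vanish F _ fun z hz => ?_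
  by_contra hcon
  exact hz hcon

/-- if `φ_x` is injective, `φ` is a monomorphism near `x` -/
theorem exists_mono_restrict {F G : X.Modules} (hF : Coh.IsCoh F) (hG : Coh.IsCoh G)
    (φ : G ⟶ F) (x : X) (hφ : Mono ((DerSch.stalkFunctor X x).map φ)) :
    ∃ U : X.Opens, x ∈ U ∧ Mono ((restrictFunctor U.ι).map φ) := by
  have hK : Coh.IsCoh (kernel φ) := Groth.Agent.Lib.helper7.CohKer.isCoh_kernel hG hF φ
  have h0 : IsZero ((DerSch.stalkFunctor X x).obj (kernel φ)) :=
    IsZero.of_iso (isZero_kernel_of_mono ((DerSch.stalkFunctor X x).map φ))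
      (PreservesKernel.iso (DerSch.stalkFunctor X x) φ)
  have hsub : Subsingleton ((kernel φ).presheaf.stalk x) :=
    ModuleCat.subsingleton_of_isZero h0
  obtain ⟨U, hxU, hU⟩ := exists_isZero_restrict (kernel φ) hK x hsub
  refine ⟨U, hxU, ?_⟩
  have h1 : IsZero (kernel ((restrictFunctor U.ι).map φ)) :=
    IsZero.of_iso hU (PreservesKernel.iso (restrictFunctor U.ι) φ).symm
  exact Preadditive.mono_of_isZero_kernel _ h1

/-- if `φ_x` is surjective, `φ` is an epimorphism near `x` -/
theorem exists_epi_restrict {F G : X.Modules} (hF : Coh.IsCoh F) (hG : Coh.IsCoh G)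
    (φ : G ⟶ F) (x : X) (hφ : Epi ((DerSch.stalkFunctor X x).map φ)) :
    ∃ U : X.Opens, x ∈ U ∧ Epi ((restrictFunctor U.ι).map φ) := by
  have hC : Coh.IsCoh (cokernel φ) := Groth.Agent.Lib.helper7.CohKer.isCoh_cokernel hG hF φ
  have h0 : IsZero ((DerSch.stalkFunctor X x).obj (cokernel φ)) :=
    IsZero.of_iso (isZero_cokernel_of_epi ((DerSch.stalkFunctor X x).map φ))
      (PreservesCokernel.iso (DerSch.stalkFunctor X x) φ)
  have hsub : Subsingleton ((cokernel φ).presheaf.stalk x) :=
    ModuleCat.subsingleton_of_isZero h0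
  obtain ⟨U, hxU, hU⟩ := exists_isZero_restrict (cokernel φ) hC x hsub
  refine ⟨U, hxU, ?_⟩
  have h1 : IsZero (cokernel ((restrictFunctor U.ι).map φ)) :=
    IsZero.of_iso hU (PreservesCokernel.iso (restrictFunctor U.ι) φ).symm
  exact Preadditive.epi_of_isZero_cokernel _ h1

/-- if `φ_x` is bijective, `φ` is an isomorphism near `x` -/
theorem exists_isIso_restrict {F G : X.Modules} (hF : Coh.IsCoh F) (hG : Coh.IsCoh G)
    (φ : G ⟶ F) (x : X) (hm : Mono ((DerSch.stalkFunctor X x).map φ))
    (he : Epi ((DerSch.stalkFunctor X x).map φ)) :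
    ∃ U : X.Opens, x ∈ U ∧ IsIso ((restrictFunctor U.ι).map φ) := by
  have hK : Coh.IsCoh (kernel φ) := Groth.Agent.Lib.helper7.CohKer.isCoh_kernel hG hF φ
  have hC : Coh.IsCoh (cokernel φ) := Groth.Agent.Lib.helper7.CohKer.isCoh_cokernel hG hF φ
  have h0 : IsZero ((DerSch.stalkFunctor X x).obj (kernel φ)) :=
    IsZero.of_iso (isZero_kernel_of_mono ((DerSch.stalkFunctor X x).map φ))
      (PreservesKernel.iso (DerSch.stalkFunctor X x) φ)
  have h0' : IsZero ((DerSch.stalkFunctor X x).obj (cokernel φ)) :=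
    IsZero.of_iso (isZero_cokernel_of_epi ((DerSch.stalkFunctor X x).map φ))
      (PreservesCokernel.iso (DerSch.stalkFunctor X x) φ)
  have hsubK : Subsingleton ((kernel φ).presheaf.stalk x) := ModuleCat.subsingleton_of_isZero h0
  have hsubC : Subsingleton ((cokernel φ).presheaf.stalk x) :=
    ModuleCat.subsingleton_of_isZero h0'
  have hclK := Groth.Agent.Lib.helper8.Dev.isClosed_support_of_isCoh (kernel φ) hK
  have hclC := Groth.Agent.Lib.helper8.Dev.isClosed_support_of_isCoh (cokernel φ) hC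
  let W : X.Opens := ⟨(CohB1.support (kernel φ))ᶜ ∩ (CohB1.support (cokernel φ))ᶜ,
    hclK.isOpen_compl.inter hclC.isOpen_compl⟩
  refine ⟨W, ⟨fun h => h hsubK, fun h => h hsubC⟩, ?_⟩
  have hKW : IsZero ((restrictFunctor W.ι).obj (kernel φ)) :=
    isZero_restrict_of_stalks_vanish _ W fun z hz => by
      by_contra hcon
      exact hz.1 hcon
  have hCW : IsZero ((restrictFunctor W.ι).obj (cokernel φ)) :=
    isZero_restrict_of_stalks_vanish _ W fun z hz => by
      by_contra hcon
      exact hz.2 hcon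
  haveI : Mono ((restrictFunctor W.ι).map φ) :=
    Preadditive.mono_of_isZero_kernel _
      (IsZero.of_iso hKW (PreservesKernel.iso (restrictFunctor W.ι) φ).symm)
  haveI : Epi ((restrictFunctor W.ι).map φ) :=
    Preadditive.epi_of_isZero_cokernel _
      (IsZero.of_iso hCW (PreservesCokernel.iso (restrictFunctor W.ι) φ).symm)
  exact isIso_of_mono_of_epi _

end Groth.Agent.Lib.helper21.CohSpread
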