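import Mathlib
import Groth.Prelude.Def_EtBase
import Groth.Prelude.Def_PBC
import Groth.Agent.Lib.Helper21.CardCrit3
import Groth.Agent.Lib.Helper21.SpecArrow2

/-!
# Specialization maps of finite locally constant sheaves are isomorphisms; a sheaf whose germ maps
from a finite group of sections are bijective at all geometric points is constant
-/

set_option autoImplicit false

open CategoryTheory CategoryTheory.Limits Opposite AlgebraicGeometry Topology

namespace Groth.Agent.Lib.helper21.SpecIso1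

open Groth.Agent.Lib.Helper21.ConstGerm Groth.Agent.Lib.Helper21.FlcExt
  Groth.Agent.H1.EtStalk Groth.Agent.H1.EtGerm
  Groth.Agent.Lib.helper21.StalkConst Groth.Agent.Lib.helper21.StalkSplit
  Groth.Agent.Lib.helper21.IrredNbhd Groth.Agent.Lib.helper21.CardCrit1
  Groth.Agent.Lib.helper21.SpecArrow2
open Groth.Agent.Lib.helper21.CardCrit2 (map_comp_apply' default_eq_of_range)

universe u

variable {X : Scheme.{u}}

section Germ

variable {Ω Ω' : Type u} [Field Ω] [IsSepClosed Ω] [Field Ω'] [IsSepClosed Ω']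
  {ξ : Spec (CommRingCat.of Ω) ⟶ X} {ξ' : Spec (CommRingCat.of Ω') ⟶ X}
  (φ : Scheme.pointSmallEtale ξ' ⟶ Scheme.pointSmallEtale ξ)

/-- specialization maps are compatible with germs -/
lemma sheafFiber_germ (F : EtCoh.Ab X) (U : X.Etale) (y : Lift ξ U) (s : F.obj.obj (op U)) :
    (GrothendieckTopology.Point.Hom.sheafFiber (A := AddCommGrpCat.{u + 1}) φ).app F
      (germ ξ F U y s) = germ ξ' F U (φ.hom.app U y) s := by
  have h := (Scheme.pointSmallEtale ξ).toPresheafFiber_presheafFiberDesc
    (P := F.obj) (T := (Scheme.pointSmallEtale ξ').presheafFiber.obj F.obj)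
    (fun V x => (Scheme.pointSmallEtale ξ').toPresheafFiber V (φ.hom.app V x) F.obj)
    (by
      intro V V' f x
      have := FunctorToTypes.naturality φ.hom f x
      rw [this]
      exact (Scheme.pointSmallEtale ξ').toPresheafFiber_w f _ F.obj) U y
  exact congrArg (fun k : F.obj.obj (op U) ⟶
    (Scheme.pointSmallEtale ξ').presheafFiber.obj F.obj => k s) h

/-- the specialization maps of a finite locally constant sheaf are isomorphisms -/
theorem isIso_sheafFiber_of_flc (F : EtCoh.Ab X) (hF : EtCoh.IsFiniteLocallyConstant F) :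
    IsIso ((GrothendieckTopology.Point.Hom.sheafFiber (A := AddCommGrpCat.{u + 1}) φ).app F) := by
  obtain ⟨I, U, hcov, h⟩ := hF
  obtain ⟨i, y₀, hy₀⟩ := hcov (ξ default)
  obtain ⟨M, iM, fM, ⟨e⟩⟩ := h i
  haveI : AlgebraicGeometry.Etale (U i).hom := (U i).prop
  obtain ⟨l, hl1, -⟩ := Scheme.exists_fac_of_etale_of_isSepClosed (U i).hom ξ y₀ hy₀
  let y : Lift ξ (U i) := Lift.mk ξ l hl1
  have hcomp : ∀ a, (GrothendieckTopology.Point.Hom.sheafFiber (A := AddCommGrpCat.{u + 1}) φ).app F
      (stalkOfConst F e ξ y a) = stalkOfConst F e ξ' (φ.hom.app (U i) y) a := by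
    intro a
    rw [stalkOfConst_apply, stalkOfConst_apply]
    exact sheafFiber_germ φ F (U i) y _
  have hbij : Function.Bijective
      ((GrothendieckTopology.Point.Hom.sheafFiber (A := AddCommGrpCat.{u + 1}) φ).app F) := by
    have h1 : Function.Bijective (stalkOfConst F e ξ y) :=
      ⟨stalkOfConst_injective F e ξ y, stalkOfConst_surjective F e ξ y⟩
    have h2 : Function.Bijective (stalkOfConst F e ξ' (φ.hom.app (U i) y)) :=
      ⟨stalkOfConst_injective F e ξ' _, stalkOfConst_surjective F e ξ' _⟩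
    have h3 : (fun a => (GrothendieckTopology.Point.Hom.sheafFiber
        (A := AddCommGrpCat.{u + 1}) φ).app F (stalkOfConst F e ξ y a)) =
        fun a => stalkOfConst F e ξ' (φ.hom.app (U i) y) a := funext hcomp
    have h4 : Function.Bijective (fun a => (GrothendieckTopology.Point.Hom.sheafFiber
        (A := AddCommGrpCat.{u + 1}) φ).app F (stalkOfConst F e ξ y a)) := by
      rw [h3]; exact h2
    exact (Function.Bijective.of_comp_iff _ h1).1 h4
  exact (ConcreteCategory.isIso_iff_bijective _).2 hbij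

end Germ

section Noeth

/-- in a Noetherian sober space every point has a neighbourhood all of whose points share a
generization with it -/
theorem exists_open_common_generization_of_noetherianSpace {U : Type*} [TopologicalSpace U]
    [TopologicalSpace.NoetherianSpace U] [QuasiSober U] (w : U) :
    ∃ O : Set U, IsOpen O ∧ w ∈ O ∧ ∀ v ∈ O, ∃ η : U, η ⤳ v ∧ η ⤳ w := by
  classical
  let S : Set (Set U) := {Z ∈ irreducibleComponents U | w ∉ Z}
  have hSfin : S.Finite :=
    (TopologicalSpace.NoetherianSpace.finite_irreducibleComponents (α := U)).subset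
      (fun Z hZ => hZ.1)
  have hclosed : IsClosed (⋃₀ S) := by
    rw [Set.sUnion_eq_biUnion]
    exact hSfin.isClosed_biUnion (fun Z hZ => isClosed_of_mem_irreducibleComponents Z hZ.1)
  refine ⟨(⋃₀ S)ᶜ, hclosed.isOpen_compl, ?_, ?_⟩
  · rintro ⟨Z, hZ, hwZ⟩
    exact hZ.2 hwZ
  · intro o ho
    have ho' : o ∈ ⋃₀ irreducibleComponents U := by
      rw [sUnion_irreducibleComponents]; trivial
    obtain ⟨Z, hZ, hoZ⟩ := ho'
    have hwZ : w ∈ Z := by
      by_contra h
      exact ho ⟨Z, ⟨hZ, h⟩, hoZ⟩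
    have hZirr : IsIrreducible Z := hZ.1
    have hZcl : IsClosed Z := isClosed_of_mem_irreducibleComponents Z hZ
    have hgen := hZirr.isGenericPoint_genericPoint_closure
    rw [hZcl.closure_eq] at hgen
    refine ⟨hZirr.genericPoint, ?_, ?_⟩
    · rw [specializes_iff_mem_closure, hgen.def]
      exact hoZ
    · rw [specializes_iff_mem_closure, hgen.def]
      exact hwZ

/-- in a locally Noetherian scheme every point has an open neighbourhood all of whose points
share a generization with it -/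
theorem exists_open_common_generization (W : Scheme.{u}) [IsLocallyNoetherian W] (w : W) :
    ∃ O : W.Opens, w ∈ O ∧ ∀ v ∈ O, ∃ η : W, η ⤳ v ∧ η ⤳ w := by
  obtain ⟨_, ⟨V, hV : IsAffineOpen V, rfl⟩, hwV, -⟩ :=
    W.isBasis_affineOpens.exists_subset_of_mem_open (Set.mem_univ w) isOpen_univ
  have hN : TopologicalSpace.NoetherianSpace (V : Set W) := by
    have := IsLocallyNoetherian.component_noetherian (X := W) ⟨V, hV⟩
    have : IsNoetherianRing Γ(W, V) := this
    have e := hV.isoSpec
    have h1 : TopologicalSpace.NoetherianSpace (Spec Γ(W, V)) :=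
      inferInstanceAs (TopologicalSpace.NoetherianSpace (PrimeSpectrum Γ(W, V)))
    exact (TopologicalSpace.noetherianSpace_iff_of_homeomorph e.hom.homeomorph).2 h1
  have hQ : QuasiSober (V : Set W) := V.isOpenEmbedding'.quasiSober
  obtain ⟨O, hO, hwO, hOc⟩ := exists_open_common_generization_of_noetherianSpace
    (U := (V : Set W)) (⟨w, hwV⟩ : (V : Set W))
  refine ⟨⟨Subtype.val '' O, V.2.isOpenMap_subtype_val _ hO⟩, ⟨⟨w, hwV⟩, hwO, rfl⟩, ?_⟩
  rintro _ ⟨o, hoO, rfl⟩
  obtain ⟨η, h1, h2⟩ := hOc o hoO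
  exact ⟨η.1, (subtype_specializes_iff η o).1 h1, (subtype_specializes_iff η ⟨w, hwV⟩).1 h2⟩

end Noeth

section Triv

variable {T : Scheme.{u}} (G : EtCoh.Ab T) {Ω₀ : Type u} [Field Ω₀] [IsSepClosed Ω₀]
  (ζ₀ : Spec (CommRingCat.of Ω₀) ⟶ T) {W₂ : T.Etale}
  (σ₂ : (EtCoh.stalk ζ₀).obj G →+ G.obj.obj (op W₂))

/-- if the germ maps `p ↦ (σ₂ p)_ζ` are bijective at all lifts of geometric points to `W₂`, then
`G` is constant on `W₂` -/
theorem isIso_psi_of_bijective
    (hbij : ∀ (Ω : Type u) [Field Ω] [IsSepClosed Ω] (ζ : Spec (CommRingCat.of Ω) ⟶ T)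
      (y : Lift ζ W₂), Function.Bijective (fun p => germ ζ G W₂ y (σ₂ p))) :
    IsIso (psi G σ₂.range) := by
  apply isIso_psi
  · intro V q hV t ht
    obtain ⟨v⟩ := hV
    obtain ⟨ζ, yV, -⟩ := exists_geomPt_lift V v
    obtain ⟨_, p, rfl⟩ := t
    have h1 : germ ζ G W₂ (Lift.map q yV) (σ₂ p) = 0 := by
      rw [← germ_res]
      have : G.obj.map q.op (σ₂ p) = 0 := ht
      rw [this, map_zero]
    have h2 : germ ζ G W₂ (Lift.map q yV) (σ₂ 0) = 0 := by rw [map_zero, map_zero]
    have hp : p = 0 := (hbij _ ζ (Lift.map q yV)).1 (h1.trans h2.symm)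
    apply Subtype.ext
    show σ₂ p = 0
    rw [hp, map_zero]
  · intro V q s v
    obtain ⟨ζ, yV, hyV⟩ := exists_geomPt_lift V v
    obtain ⟨p, hp⟩ := (hbij _ ζ (Lift.map q yV)).2 (germ ζ G V yV s)
    have hp' : germ ζ G V yV (G.obj.map q.op (σ₂ p)) = germ ζ G V yV s := by
      rw [germ_res]
      exact hp
    obtain ⟨V', g, y', hy', hg⟩ := (germ_eq_iff G V yV _ _).1 hp'
    refine ⟨V', g, Lift.hom y' default, ?_, ⟨σ₂ p, p, rfl⟩, ?_⟩
    · rw [← center_map, hy']
      exact hyV
    · rw [map_comp_apply']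
      exact hg.symm

end Triv

end Groth.Agent.Lib.helper21.SpecIso1
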