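import Mathlib
import Groth.Prelude.Def_EtBase
import Groth.Prelude.Def_PBC
import Groth.Agent.Lib.Helper21.SpecIso1
import Groth.Agent.Lib.Helper21.CardCrit5
import Groth.Agent.Lib.Helper21.PtCrit

/-!
# Stalks of constructible sheaves

The geometric stalks of a constructible abelian étale sheaf are finite, and their cardinality depends
only on the underlying point.
-/

set_option autoImplicit false

open CategoryTheory CategoryTheory.Limits Opposite AlgebraicGeometry Topology

namespace Groth.Agent.Lib.helper21.ConsStalk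

open Groth.Agent.Lib.Helper21.ConstGerm
  Groth.Agent.H1.EtStalk Groth.Agent.H1.EtGerm
  Groth.Agent.Lib.helper21.StalkConst
  Groth.Agent.Lib.helper21.SpecArrow2 Groth.Agent.Lib.helper21.SpecIso1
  Groth.Agent.Lib.helper21.CardCrit5 Groth.Agent.Lib.helper21.PtCrit
open Groth.Agent.Lib.helper21.CardCrit2 (default_eq_of_range)

universe u

variable {X : Scheme.{u}}

/-- the stalks of a finite locally constant sheaf are finite -/
theorem finite_stalk_of_flc (G : EtCoh.Ab X) (hG : EtCoh.IsFiniteLocallyConstant G)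
    {Ω : Type u} [Field Ω] [IsSepClosed Ω] (ζ : Spec (CommRingCat.of Ω) ⟶ X) :
    Finite ((EtCoh.stalk ζ).obj G) := by
  obtain ⟨I, U, hcov, h⟩ := hG
  obtain ⟨i, y₀, hy₀⟩ := hcov (ζ default)
  obtain ⟨M, iM, fM, ⟨e⟩⟩ := h i
  haveI : AlgebraicGeometry.Etale (U i).hom := (U i).prop
  obtain ⟨l, hl1, -⟩ := Scheme.exists_fac_of_etale_of_isSepClosed (U i).hom ζ y₀ hy₀
  let y : Lift ζ (U i) := Lift.mk ζ l hl1
  haveI : Finite (AddCommGrpCat.of (ULift.{u + 1} M)) := inferInstanceAs (Finite (ULift.{u + 1} M))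
  exact Finite.of_surjective _ (stalkOfConst_surjective G e ζ y)

/-- the stalks of a constructible sheaf are finite -/
theorem finite_stalk_of_constructible (F : EtCoh.Ab X) (hF : EtPBC.IsConstructible F)
    {Ω : Type u} [Field Ω] [IsSepClosed Ω] (ξ : Spec (CommRingCat.of Ω) ⟶ X) :
    Finite ((EtCoh.stalk ξ).obj F) := by
  obtain ⟨V, T, g, hi, hxV, hr, hf⟩ := exists_flc_of_constructible F hF (ξ default)
  haveI := hi
  have ht : ξ default ∈ Set.range g := by
    rw [hr]
    exact ⟨hxV, subset_closure rfl⟩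
  obtain ⟨t, ht⟩ := ht
  obtain ⟨ζ, -, ⟨e⟩⟩ := exists_lift_data g F ξ t ht
  haveI := finite_stalk_of_flc _ hf ζ
  exact Finite.of_equiv _ e

/-- the cardinality of a geometric stalk of a constructible sheaf depends only on the underlying
point -/
theorem card_stalk_eq_of_constructible (F : EtCoh.Ab X) (hF : EtPBC.IsConstructible F)
    {Ω Ω' : Type u} [Field Ω] [IsSepClosed Ω] [Field Ω'] [IsSepClosed Ω']
    (ξ : Spec (CommRingCat.of Ω) ⟶ X) (ξ' : Spec (CommRingCat.of Ω') ⟶ X)
    (h : ξ default = ξ' default) :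
    Nat.card ((EtCoh.stalk ξ).obj F) = Nat.card ((EtCoh.stalk ξ').obj F) := by
  obtain ⟨V, T, g, hi, hxV, hr, hf⟩ := exists_flc_of_constructible F hF (ξ default)
  haveI := hi
  have ht : ξ default ∈ Set.range g := by
    rw [hr]
    exact ⟨hxV, subset_closure rfl⟩
  obtain ⟨t, ht⟩ := ht
  obtain ⟨ζ, hζ, ⟨e⟩⟩ := exists_lift_data g F ξ t ht
  obtain ⟨ζ', hζ', ⟨e'⟩⟩ := exists_lift_data g F ξ' t (ht.trans h)
  have hsp : ζ' default ⤳ ζ default := by
    rw [default_eq_of_range ζ hζ, default_eq_of_range ζ' hζ']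
  obtain ⟨φ⟩ := exists_arrow_of_specializes ζ ζ' hsp
  haveI := isIso_sheafFiber_of_flc φ _ hf
  have hb : Function.Bijective
      ((GrothendieckTopology.Point.Hom.sheafFiber (A := AddCommGrpCat.{u + 1}) φ).app
        ((EtCoh.pull g).obj F)) :=
    (ConcreteCategory.isIso_iff_bijective _).1 inferInstance
  rw [← Nat.card_congr e, ← Nat.card_congr e']
  exact Nat.card_congr (Equiv.ofBijective _ hb)

end Groth.Agent.Lib.helper21.ConsStalk
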