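import Mathlib
import Groth.Agent.S13791

set_option autoImplicit false

open CategoryTheory CategoryTheory.Limits Opposite

namespace Groth.Agent.Lib.Helper21.ConstH1

universe u

open Groth.Agent.S13791.S13791aux

variable {C : Type u} [SmallCategory C] (J : GrothendieckTopology C)

/-- the constant sheaf functor -/
noncomputable abbrev cst : AddCommGrpCat.{u} ⥤ Sheaf J AddCommGrpCat.{u} :=
  constantSheaf J AddCommGrpCat.{u}

/-- the unit `A → A_X(U)` -/
noncomputable def η (A : AddCommGrpCat.{u}) (U : Cᵒᵖ) : A ⟶ ((cst J).obj A).obj.obj U :=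
  (toSheafify J ((Functor.const Cᵒᵖ).obj A)).app U

lemma η_nat (A : AddCommGrpCat.{u}) {U V : Cᵒᵖ} (f : U ⟶ V) (a : A) :
    ((cst J).obj A).obj.map f (η J A U a) = η J A V a := by
  have h := ConcreteCategory.congr_hom
    ((toSheafify J ((Functor.const Cᵒᵖ).obj A)).naturality f) a
  rw [ConcreteCategory.comp_apply, ConcreteCategory.comp_apply] at h
  exact h.symm

/-- the unit for sheaves of sets -/
noncomputable def ηs (X : Type u) (U : Cᵒᵖ) :
    X ⟶ ((constantSheaf J (Type u)).obj X).obj.obj U :=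
  (toSheafify J ((Functor.const Cᵒᵖ).obj X)).app U

lemma ccc_fac (A : AddCommGrpCat.{u}) :
    Functor.whiskerRight (toSheafify J ((Functor.const Cᵒᵖ).obj A)) (forget AddCommGrpCat.{u}) ≫
      ((constantCommuteCompose J (forget AddCommGrpCat.{u})).hom.app A).hom =
    (Functor.constComp Cᵒᵖ A (forget AddCommGrpCat.{u})).hom ≫
      toSheafify J ((Functor.const Cᵒᵖ).obj ((forget AddCommGrpCat.{u}).obj A)) := by
  rw [constantCommuteCompose_hom_app_hom]
  refine (Category.assoc _ _ _).symm.trans ?_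
  rw [toSheafify_naturality]
  congr 1
  exact sheafComposeIso_inv_fac J (forget AddCommGrpCat.{u}) ((Functor.const Cᵒᵖ).obj A)

lemma ccc_η (A : AddCommGrpCat.{u}) (U : Cᵒᵖ) (a : A) :
    ((constantCommuteCompose J (forget AddCommGrpCat.{u})).hom.app A).hom.app U (η J A U a) =
      ηs J ((forget AddCommGrpCat.{u}).obj A) U a := by
  have h := congrArg (fun t : ((Functor.const Cᵒᵖ).obj A ⋙ forget AddCommGrpCat.{u}) ⟶
      ((forget AddCommGrpCat.{u} ⋙ constantSheaf J (Type u)).obj A).obj => t.app U a) (ccc_fac J A)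
  exact h

lemma cstMap_ηs {X Y : Type u} (σ : X ⟶ Y) (U : Cᵒᵖ) (a : X) :
    ((constantSheaf J (Type u)).map σ).hom.app U (ηs J X U a) = ηs J Y U (σ a) := by
  have h := congrArg (fun t : ((Functor.const Cᵒᵖ).obj X) ⟶
      ((constantSheaf J (Type u)).obj Y).obj => t.app U a)
    (toSheafify_naturality J ((Functor.const Cᵒᵖ).map σ))
  exact h.symm

lemma ccc_inv_ηs (B : AddCommGrpCat.{u}) (U : Cᵒᵖ) (b : B) :
    ((constantCommuteCompose J (forget AddCommGrpCat.{u})).inv.app B).hom.app U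
      (ηs J ((forget AddCommGrpCat.{u}).obj B) U b) = η J B U b := by
  rw [← ccc_η]
  have h := congrArg (fun t : ((constantSheaf J AddCommGrpCat.{u} ⋙
      sheafCompose J (forget AddCommGrpCat.{u})).obj B) ⟶ _ => t.hom.app U (η J B U b))
    ((constantCommuteCompose J (forget AddCommGrpCat.{u})).hom_inv_id_app B)
  exact h

lemma tau_η {A B : AddCommGrpCat.{u}} (σ : A → B) (U : Cᵒᵖ) (a : A) :
    tau J σ U (η J A U a) = η J B U (σ a) := by
  show ((constantCommuteCompose J (forget AddCommGrpCat.{u})).inv.app B).hom.app U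
    (((constantSheaf J (Type u)).map (TypeCat.ofHom σ)).hom.app U
      (((constantCommuteCompose J (forget AddCommGrpCat.{u})).hom.app A).hom.app U (η J A U a))) = _
  rw [ccc_η, cstMap_ηs]
  exact ccc_inv_ηs J B U (σ a)

/-- the group of integers -/
abbrev Zc : AddCommGrpCat.{u} := AddCommGrpCat.of (ULift.{u} ℤ)

/-- the constant sheaf `ℤ` -/
noncomputable abbrev ZX : Sheaf J AddCommGrpCat.{u} := (cst J).obj Zc

/-- the section `1` -/
noncomputable def one (U : Cᵒᵖ) : (ZX J).obj.obj U := η J Zc U (ULift.up 1)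

variable {J}

/-- the global section defined by a morphism from `ℤ` -/
noncomputable def sec {F : Sheaf J AddCommGrpCat.{u}} (ψ : ZX J ⟶ F) (U : Cᵒᵖ) : F.obj.obj U :=
  ψ.hom.app U (one J U)

lemma sec_nat {F : Sheaf J AddCommGrpCat.{u}} (ψ : ZX J ⟶ F) {U V : Cᵒᵖ} (f : U ⟶ V) :
    F.obj.map f (sec ψ U) = sec ψ V := by
  have h := ConcreteCategory.congr_hom (ψ.hom.naturality f) (one J U)
  rw [ConcreteCategory.comp_apply, ConcreteCategory.comp_apply] at h
  rw [sec, ← h]
  show ψ.hom.app V ((ZX J).obj.map f (one J U)) = _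
  rw [one, η_nat]
  rfl

lemma sec_comp {F G : Sheaf J AddCommGrpCat.{u}} (ψ : ZX J ⟶ F) (g : F ⟶ G) (U : Cᵒᵖ) :
    sec (ψ ≫ g) U = g.hom.app U (sec ψ U) := rfl

lemma sec_ext {F : Sheaf J AddCommGrpCat.{u}} (ψ ψ' : ZX J ⟶ F) (h : ∀ U, sec ψ U = sec ψ' U) :
    ψ = ψ' := by
  apply Sheaf.hom_ext
  apply sheafify_hom_ext _ _ _ F.property
  refine NatTrans.ext (funext fun U => ?_)
  apply hom_ext_ulift
  exact h U

/-- the morphism from `ℤ` defined by a global section -/
noncomputable def ofSec {F : Sheaf J AddCommGrpCat.{u}} (s : ∀ U : Cᵒᵖ, F.obj.obj U)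
    (hs : ∀ {U V : Cᵒᵖ} (f : U ⟶ V), F.obj.map f (s U) = s V) : ZX J ⟶ F :=
  ObjectProperty.homMk (sheafifyLift J
    ({ app := fun U => ofOne (s U)
       naturality := fun U V f => by
        apply hom_ext_ulift
        simp only [Functor.const_obj_obj, Functor.const_obj_map, Category.id_comp]
        rw [ofOne_one]
        erw [ConcreteCategory.comp_apply]
        rw [ofOne_one, hs] } : (Functor.const Cᵒᵖ).obj Zc ⟶ F.obj) F.property)

lemma sec_ofSec {F : Sheaf J AddCommGrpCat.{u}} (s : ∀ U : Cᵒᵖ, F.obj.obj U)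
    (hs : ∀ {U V : Cᵒᵖ} (f : U ⟶ V), F.obj.map f (s U) = s V) (U : Cᵒᵖ) :
    sec (ofSec s hs) U = s U := by
  have h := toSheafify_sheafifyLift J
    ({ app := fun U => ofOne (s U)
       naturality := fun U V f => by
        apply hom_ext_ulift
        simp only [Functor.const_obj_obj, Functor.const_obj_map, Category.id_comp]
        rw [ofOne_one]
        erw [ConcreteCategory.comp_apply]
        rw [ofOne_one, hs] } : (Functor.const Cᵒᵖ).obj Zc ⟶ F.obj) F.property
  have h2 := congrArg (fun t : (Functor.const Cᵒᵖ).obj Zc ⟶ F.obj => t.app U (ULift.up 1)) h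
  simp only [NatTrans.comp_app] at h2
  rw [ofOne_one] at h2
  exact h2

variable (J)

lemma local_const (A : AddCommGrpCat.{u}) (V : C) (s : ((cst J).obj A).obj.obj (op V)) :
    ∃ S ∈ J V, ∀ ⦃W : C⦄ (f : W ⟶ V), S f →
      ∃ a : A, ((cst J).obj A).obj.map f.op s = η J A (op W) a := by
  refine ⟨_, Presheaf.imageSieve_mem J (toSheafify J ((Functor.const Cᵒᵖ).obj A)) s, ?_⟩
  rintro W f ⟨t, ht⟩
  exact ⟨t, ht.symm⟩

lemma eta_inj (A : AddCommGrpCat.{u}) (W : C) (a a' : A)
    (h : η J A (op W) a = η J A (op W) a') : a = a' ∨ ⊥ ∈ J W := by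
  by_cases haa : a = a'
  · exact Or.inl haa
  · right
    have hm := Presheaf.equalizerSieve_mem J (toSheafify J ((Functor.const Cᵒᵖ).obj A)) a a' h
    refine J.superset_covering ?_ hm
    intro Y f hf
    exact (haa hf).elim

variable {J}

lemma eq_of_bot_mem {W : C} (h : ⊥ ∈ J W) (F : Sheaf J AddCommGrpCat.{u})
    (x y : F.obj.obj (op W)) : x = y :=
  Sheaf.isSeparated F W ⊥ h x y (fun _ _ hf => hf.elim)

lemma ext_local (F : Sheaf J AddCommGrpCat.{u}) {V : C} (x y : F.obj.obj (op V))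
    (S : Sieve V) (hS : S ∈ J V)
    (h : ∀ ⦃W : C⦄ (f : W ⟶ V), S f → F.obj.map f.op x = F.obj.map f.op y) : x = y :=
  Sheaf.isSeparated F V S hS x y (fun W f hf => h f hf)

section Rep

variable {A : AddCommGrpCat.{u}} (n : ℤ) (ρ δ : A → A)
  (h1 : ∀ a, a = ρ a + n • δ a) (h2 : ∀ a b, ρ (a + n • b) = ρ a)

include h1 in
lemma tau_decomp {V : C} (s : ((cst J).obj A).obj.obj (op V)) :
    s = tau J ρ (op V) s + n • tau J δ (op V) s := by
  obtain ⟨S, hS, hc⟩ := local_const J A V s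
  refine ext_local _ _ _ S hS ?_
  intro W f hf
  obtain ⟨a, ha⟩ := hc f hf
  rw [map_add, map_zsmul, tau_nat, tau_nat, ha, tau_η, tau_η, ← map_zsmul, ← map_add]
  exact congrArg _ (h1 a)

include h2 in
lemma tau_shift {V : C} (s b : ((cst J).obj A).obj.obj (op V)) :
    tau J ρ (op V) (s + n • b) = tau J ρ (op V) s := by
  obtain ⟨S, hS, hc⟩ := local_const J A V s
  obtain ⟨S', hS', hc'⟩ := local_const J A V b
  refine ext_local _ _ _ (S ⊓ S') (J.intersection_covering hS hS') ?_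
  intro W f hf
  obtain ⟨a, ha⟩ := hc f hf.1
  obtain ⟨b₀, hb⟩ := hc' f hf.2
  rw [tau_nat, tau_nat, map_add, map_zsmul, ha, hb, ← map_zsmul, ← map_add, tau_η, tau_η, h2]

end Rep

lemma torsionFree_sections {A : AddCommGrpCat.{u}}
    (hA : ∀ (m : ℤ) (a : A), m ≠ 0 → m • a = 0 → a = 0) (n : ℤ) (hn : n ≠ 0) {V : C}
    (b : ((cst J).obj A).obj.obj (op V)) (hb : n • b = 0) : b = 0 := by
  obtain ⟨S, hS, hc⟩ := local_const J A V b
  refine ext_local _ _ _ S hS ?_
  intro W f hf
  obtain ⟨b₀, hb₀⟩ := hc f hf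
  rw [map_zero, hb₀]
  have h3 : η J A (op W) (n • b₀) = η J A (op W) 0 := by
    rw [map_zsmul, ← hb₀, ← map_zsmul, hb, map_zero, map_zero]
  rcases eta_inj J A W _ _ h3 with h4 | h4
  · rw [hA n b₀ hn h4, map_zero]
  · exact eq_of_bot_mem h4 _ _ _

lemma exists_rep (A : AddCommGrpCat.{u}) (n : ℤ) :
    ∃ ρ δ : A → A, (∀ a, a = ρ a + n • δ a) ∧ (∀ a b, ρ (a + n • b) = ρ a) := by
  let N : AddSubgroup A := (zsmulAddGroupHom n : A →+ A).range
  have hq : Function.Surjective (QuotientAddGroup.mk' N) := QuotientAddGroup.mk'_surjective N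
  let ρ : A → A := fun a => Function.surjInv hq (QuotientAddGroup.mk' N a)
  have hρ : ∀ a, ∃ d : A, n • d = -ρ a + a := by
    intro a
    have h1 : QuotientAddGroup.mk' N (ρ a) = QuotientAddGroup.mk' N a := Function.surjInv_eq hq _
    have h2 : -ρ a + a ∈ N := QuotientAddGroup.eq.1 h1
    obtain ⟨d, hd⟩ := h2
    exact ⟨d, hd⟩
  refine ⟨ρ, fun a => (hρ a).choose, ?_, ?_⟩
  · intro a
    rw [(hρ a).choose_spec]
    abel
  · intro a b
    show Function.surjInv hq _ = Function.surjInv hq _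
    congr 1
    apply QuotientAddGroup.eq.2
    refine ⟨-b, ?_⟩
    show n • (-b) = _
    rw [smul_neg]
    abel

/-- sections of a short exact sequence of sheaves are left exact -/
lemma sections_left_exact (S : ShortComplex (Sheaf J AddCommGrpCat.{u})) (hS : S.ShortExact)
    (V : Cᵒᵖ) :
    Function.Injective (S.f.hom.app V) ∧
    ∀ y, S.g.hom.app V y = 0 → ∃ x, S.f.hom.app V x = y := by
  have hΓ : PreservesFiniteLimits
      ((sheafSections J AddCommGrpCat.{u}).obj V) := by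
    show PreservesFiniteLimits (sheafToPresheaf J AddCommGrpCat.{u} ⋙
      (evaluation _ _).obj V)
    infer_instance
  have hadd : ((sheafSections J AddCommGrpCat.{u}).obj V).Additive :=
    ⟨fun {_ _ _ _} => rfl⟩
  have key : ∀ (S : ShortComplex (Sheaf J AddCommGrpCat.{u})), S.ShortExact →
      (S.map ((sheafSections J AddCommGrpCat.{u}).obj V)).Exact ∧
        Mono (((sheafSections J AddCommGrpCat.{u}).obj V).map S.f) :=
    ((Functor.preservesFiniteLimits_tfae
      ((sheafSections J AddCommGrpCat.{u}).obj V)).out 3 0).1 hΓ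
  obtain ⟨hex, hm⟩ := key S hS
  constructor
  · exact (AddCommGrpCat.mono_iff_injective _).1 hm
  · intro y hy
    rw [ShortComplex.ab_exact_iff] at hex
    exact hex y hy

lemma nat_apply {F G : Sheaf J AddCommGrpCat.{u}} (α : F ⟶ G) {V W : C} (f : W ⟶ V)
    (t : F.obj.obj (op V)) :
    α.hom.app (op W) (F.obj.map f.op t) = G.obj.map f.op (α.hom.app (op V) t) := by
  have h := ConcreteCategory.congr_hom (α.hom.naturality f.op) t
  rw [ConcreteCategory.comp_apply, ConcreteCategory.comp_apply] at h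
  exact h

lemma map_comp_apply' (F : Sheaf J AddCommGrpCat.{u}) {V W Z : C} (f : W ⟶ V) (g : Z ⟶ W)
    (t : F.obj.obj (op V)) :
    F.obj.map (g ≫ f).op t = F.obj.map g.op (F.obj.map f.op t) := by
  rw [op_comp, Functor.map_comp]
  rfl

/-- chosen representatives modulo `n` -/
noncomputable def rep (A : AddCommGrpCat.{u}) (n : ℤ) : A → A := (exists_rep A n).choose

/-- the quotient by `n` of the difference to the representative -/
noncomputable def del (A : AddCommGrpCat.{u}) (n : ℤ) : A → A := (exists_rep A n).choose_spec.choose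

lemma rep_del (A : AddCommGrpCat.{u}) (n : ℤ) (a : A) : a = rep A n a + n • del A n a :=
  (exists_rep A n).choose_spec.choose_spec.1 a

lemma rep_shift (A : AddCommGrpCat.{u}) (n : ℤ) (a b : A) : rep A n (a + n • b) = rep A n a :=
  (exists_rep A n).choose_spec.choose_spec.2 a b

lemma tau_rep_eq (A : AddCommGrpCat.{u}) (n : ℤ) {V : C} (s : ((cst J).obj A).obj.obj (op V)) :
    tau J (rep A n) (op V) s = s + n • (-tau J (del A n) (op V) s) := by
  have hdec := tau_decomp n (rep A n) (del A n) (rep_del A n) s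
  rw [smul_neg]
  nth_rewrite 2 [hdec]
  abel

lemma tau_rep_idem (A : AddCommGrpCat.{u}) (n : ℤ) {V : C} (s : ((cst J).obj A).obj.obj (op V)) :
    tau J (rep A n) (op V) (tau J (rep A n) (op V) s) = tau J (rep A n) (op V) s :=
  (congrArg (tau J (rep A n) (op V)) (tau_rep_eq A n s)).trans
    (tau_shift n (rep A n) (rep_shift A n) _ _)

section Main

variable {A : AddCommGrpCat.{u}} (hA : ∀ (m : ℤ) (a : A), m ≠ 0 → m • a = 0 → a = 0)
  {I K : Sheaf J AddCommGrpCat.{u}} (ι : (cst J).obj A ⟶ I) (p : I ⟶ K) (w : ι ≫ p = 0)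
  (hS : (ShortComplex.mk ι p w).ShortExact)
  {ι' : Type u} (Uo : ι' → C) (n : ι' → ℤ) (hn : ∀ i, n i ≠ 0)
  (hcov : ∀ V : C, ∃ R ∈ J V, ∀ ⦃W : C⦄ (g : W ⟶ V), R g → ∃ i, Nonempty (W ⟶ Uo i))
  (hcompat : ∀ (i j : ι') (W : C), (W ⟶ Uo i) → (W ⟶ Uo j) → n i = n j ∨ ⊥ ∈ J W)
  (k : ZX J ⟶ K) (e : ZX J ⟶ I)
  (hke : ∀ (i : ι') (V : C) (_ : V ⟶ Uo i),
    p.hom.app (op V) (sec e (op V)) = n i • sec k (op V))

include hS in
lemma ι_inj (V : C) : Function.Injective (ι.hom.app (op V)) :=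
  (sections_left_exact _ hS (op V)).1

include hS in
lemma exists_of_p_eq_zero (V : C) (t : I.obj.obj (op V)) (ht : p.hom.app (op V) t = 0) :
    ∃ s, ι.hom.app (op V) s = t :=
  (sections_left_exact _ hS (op V)).2 t ht

include w in
lemma p_ι (V : C) (s : ((cst J).obj A).obj.obj (op V)) :
    p.hom.app (op V) (ι.hom.app (op V) s) = 0 := by
  have h := congrArg (fun t : (cst J).obj A ⟶ K => t.hom.app (op V) s) w
  exact h

/-- the normalised lifts of `k` -/
def Good (V : C) (t : I.obj.obj (op V)) : Prop :=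
  p.hom.app (op V) t = sec k (op V) ∧
  ∀ (W : C) (f : W ⟶ V) (i : ι') (_ : W ⟶ Uo i), ∃ s : ((cst J).obj A).obj.obj (op W),
    ι.hom.app (op W) s = n i • I.obj.map f.op t - sec e (op W) ∧
      tau J (rep A (n i)) (op W) s = s

lemma good_restrict {V W : C} (f : W ⟶ V) (t : I.obj.obj (op V))
    (ht : Good ι p Uo n k e V t) : Good ι p Uo n k e W (I.obj.map f.op t) := by
  refine ⟨?_, ?_⟩
  · rw [nat_apply, ht.1, sec_nat]
  · intro W' g i h
    obtain ⟨s, hs1, hs2⟩ := ht.2 W' (g ≫ f) i h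
    refine ⟨s, ?_, hs2⟩
    rw [hs1, map_comp_apply']

include hA hS hn hcov w in
lemma good_unique (V : C) (t₁ t₂ : I.obj.obj (op V))
    (h₁ : Good ι p Uo n k e V t₁) (h₂ : Good ι p Uo n k e V t₂) : t₁ = t₂ := by
  obtain ⟨R, hR, hRi⟩ := hcov V
  refine ext_local I _ _ R hR ?_
  intro W g hg
  obtain ⟨i, ⟨h⟩⟩ := hRi g hg
  obtain ⟨s₁, hs₁, hT₁⟩ := h₁.2 W g i h
  obtain ⟨s₂, hs₂, hT₂⟩ := h₂.2 W g i h
  have hd : p.hom.app (op W) (I.obj.map g.op t₁ - I.obj.map g.op t₂) = 0 := by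
    rw [map_sub, nat_apply, nat_apply, h₁.1, h₂.1, sub_self]
  obtain ⟨b, hb⟩ := exists_of_p_eq_zero ι p w hS W _ hd
  have h3 : s₁ = s₂ + n i • b := by
    apply ι_inj ι p w hS W
    rw [map_add, map_zsmul, hs₁, hs₂, hb]
    simp only [smul_sub]
    abel
  have h4 : s₁ = s₂ := by
    rw [← hT₁, h3, tau_shift (n i) (rep A (n i)) (rep_shift A (n i)), hT₂]
  have h5 : n i • b = 0 := by
    rw [h4] at h3
    exact (add_eq_left.1 h3.symm)
  have h6 : b = 0 := torsionFree_sections hA (n i) (hn i) b h5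
  rw [h6, map_zero] at hb
  exact (sub_eq_zero.1 hb.symm)

include hS hcov hcompat hke w in
lemma good_local_exists [Epi p] (V : C) :
    ∃ R ∈ J V, ∀ ⦃W : C⦄ (g : W ⟶ V), R g → ∃ t, Good ι p Uo n k e W t := by
  obtain ⟨R₁, hR₁, hRi⟩ := hcov V
  haveI : Sheaf.IsLocallySurjective p := (Sheaf.isLocallySurjective_iff_epi' (φ := p)).2 inferInstance
  have hR₂ := Presheaf.imageSieve_mem J p.hom (sec k (op V))
  refine ⟨R₁ ⊓ Presheaf.imageSieve p.hom (sec k (op V)), J.intersection_covering hR₁ hR₂, ?_⟩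
  rintro W g ⟨hg₁, ⟨t₀, ht₀⟩⟩
  obtain ⟨i, ⟨h⟩⟩ := hRi g hg₁
  have ht₀' : p.hom.app (op W) t₀ = sec k (op W) := by
    rw [ht₀]
    exact sec_nat k g.op
  have hc : p.hom.app (op W) (n i • t₀ - sec e (op W)) = 0 := by
    rw [map_sub, map_zsmul, ht₀', hke i W h, sub_self]
  obtain ⟨s, hs⟩ := exists_of_p_eq_zero ι p w hS W _ hc
  have hdec := tau_decomp (n i) (rep A (n i)) (del A (n i)) (rep_del A (n i)) s
  refine ⟨t₀ - ι.hom.app (op W) (tau J (del A (n i)) (op W) s), ?_, ?_⟩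
  · rw [map_sub, p_ι ι p w, sub_zero, ht₀']
  · intro W' f j h'
    rcases hcompat i j W' (f ≫ h) h' with hij | hbot
    · refine ⟨((cst J).obj A).obj.map f.op (tau J (rep A (n i)) (op W) s), ?_, ?_⟩
      · rw [nat_apply, ← hij]
        have h2 : ι.hom.app (op W) (tau J (rep A (n i)) (op W) s) =
            n i • (t₀ - ι.hom.app (op W) (tau J (del A (n i)) (op W) s)) - sec e (op W) := by
          have h3 : ι.hom.app (op W) s =
              ι.hom.app (op W) (tau J (rep A (n i)) (op W) s) +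
                n i • ι.hom.app (op W) (tau J (del A (n i)) (op W) s) := by
            rw [← map_zsmul, ← map_add, ← hdec]
          have h4 : ι.hom.app (op W) (tau J (rep A (n i)) (op W) s) =
              ι.hom.app (op W) s - n i • ι.hom.app (op W) (tau J (del A (n i)) (op W) s) := by
            rw [h3]
            abel
          rw [h4, hs, smul_sub]
          abel
        rw [h2, map_sub, map_zsmul]
        congr 1
        exact sec_nat e f.op
      · rw [← hij, tau_nat, tau_rep_idem]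
    · exact ⟨0, eq_of_bot_mem hbot _ _ _, eq_of_bot_mem hbot _ _ _⟩

include hA hS hn hcov hcompat hke w in
lemma good_exists [Epi p] (V : C) : ∃ t, Good ι p Uo n k e V t := by
  obtain ⟨R, hR, hex⟩ := good_local_exists ι p w hS Uo n hcov hcompat k e hke V
  have hsh : Presieve.IsSheaf J (I.obj ⋙ forget AddCommGrpCat.{u}) :=
    (isSheaf_iff_isSheaf_of_type J _).1
      ((Presheaf.isSheaf_iff_isSheaf_forget J I.obj (forget AddCommGrpCat.{u})).1 I.property)
  let x : Presieve.FamilyOfElements (I.obj ⋙ forget AddCommGrpCat.{u}) R.arrows :=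
    fun W g hg => (hex g hg).choose
  have hxg : ∀ {W : C} (g : W ⟶ V) (hg : R g), Good ι p Uo n k e W (x g hg) :=
    fun g hg => (hex g hg).choose_spec
  have hx : x.Compatible := by
    intro Y₁ Y₂ Z g₁ g₂ f₁ f₂ h₁ h₂ _
    exact good_unique hA ι p w hS Uo n hn hcov k e Z _ _
      (good_restrict ι p Uo n k e g₁ _ (hxg f₁ h₁)) (good_restrict ι p Uo n k e g₂ _ (hxg f₂ h₂))
  let t : I.obj.obj (op V) := (hsh R hR).amalgamate x hx
  have ht : ∀ {W : C} (g : W ⟶ V) (hg : R g), I.obj.map g.op t = x g hg :=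
    fun g hg => (hsh R hR).valid_glue hx g hg
  have hpt : p.hom.app (op V) t = sec k (op V) := by
    refine ext_local K _ _ R hR ?_
    intro W g hg
    rw [← nat_apply, ht g hg, (hxg g hg).1]
    exact (sec_nat k g.op).symm
  refine ⟨t, hpt, ?_⟩
  intro W' f i h
  have hc : p.hom.app (op W') (n i • I.obj.map f.op t - sec e (op W')) = 0 := by
    rw [map_sub, map_zsmul, nat_apply, hpt, hke i W' h, sec_nat k f.op, sub_self]
  obtain ⟨s', hs'⟩ := exists_of_p_eq_zero ι p w hS W' _ hc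
  refine ⟨s', hs', ?_⟩
  refine ext_local _ _ _ (R.pullback f) (J.pullback_stable f hR) ?_
  intro W'' g' hg'
  have hgood := hxg (g' ≫ f) hg'
  obtain ⟨s'', hs''1, hs''2⟩ := hgood.2 W'' (𝟙 W'') i (g' ≫ h)
  have heq : s'' = ((cst J).obj A).obj.map g'.op s' := by
    apply ι_inj ι p w hS W''
    rw [hs''1, nat_apply, hs', map_sub, map_zsmul, ← ht (g' ≫ f) hg', map_comp_apply']
    congr 1
    · congr 1
      have : I.obj.map (𝟙 W'').op (I.obj.map g'.op (I.obj.map f.op t)) =
          I.obj.map g'.op (I.obj.map f.op t) := by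
        rw [op_id, CategoryTheory.Functor.map_id]
        rfl
      exact this
    · exact (sec_nat e g'.op).symm
  rw [tau_nat, ← heq, hs''2]

include hA hS hn hcov hcompat hke w in
theorem exists_lift_of_locally_nonzero [Epi p] : ∃ e'' : ZX J ⟶ I, e'' ≫ p = k := by
  have hex := good_exists hA ι p w hS Uo n hn hcov hcompat k e hke
  refine ⟨ofSec (fun U => (hex U.unop).choose) ?_, ?_⟩
  · intro U V f
    exact good_unique hA ι p w hS Uo n hn hcov k e V.unop _ _
      (good_restrict ι p Uo n k e f.unop _ (hex U.unop).choose_spec) (hex V.unop).choose_spec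
  · apply sec_ext
    intro U
    rw [sec_comp, sec_ofSec]
    exact (hex U.unop).choose_spec.1

end Main

open CategoryTheory.Abelian in
theorem main {A : AddCommGrpCat.{u}} (hA : ∀ (m : ℤ) (a : A), m ≠ 0 → m • a = 0 → a = 0)
    (φ : ZX J ⟶ ZX J) {ι' : Type u} (Uo : ι' → C) (n : ι' → ℤ) (hn : ∀ i, n i ≠ 0)
    (hφ : ∀ (i : ι') (V : C) (_ : V ⟶ Uo i), φ.hom.app (op V) = n i • 𝟙 _)
    (hcov : ∀ V : C, ∃ R ∈ J V, ∀ ⦃W : C⦄ (g : W ⟶ V), R g → ∃ i, Nonempty (W ⟶ Uo i))
    (x : Ext (ZX J) ((cst J).obj A) 1)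
    (hx : (Ext.mk₀ φ).comp x (zero_add 1) = 0) : x = 0 := by
  let ι := Injective.ι ((cst J).obj A)
  let S : ShortComplex (Sheaf J AddCommGrpCat.{u}) :=
    ShortComplex.mk ι (cokernel.π ι) (cokernel.condition ι)
  have hS : S.ShortExact :=
    { exact := ShortComplex.exact_cokernel ι
      mono_f := (inferInstance : Mono ι)
      epi_g := (inferInstance : Epi (cokernel.π ι)) }
  have hx0 : x.comp (Ext.mk₀ S.f) (add_zero 1) = 0 := Ext.eq_zero_of_injective _
  obtain ⟨x₃, hx₃⟩ := Ext.covariant_sequence_exact₁ _ hS x hx0 (zero_add 1)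
  obtain ⟨k, rfl⟩ := (Ext.mk₀_bijective _ _).2 x₃
  have h1 : (Ext.mk₀ (φ ≫ k)).comp hS.extClass (zero_add 1) = 0 := by
    rw [← Ext.mk₀_comp_mk₀, Ext.comp_assoc_of_second_deg_zero, hx₃, hx]
  obtain ⟨x₂, hx₂⟩ := Ext.covariant_sequence_exact₃ _ hS (Ext.mk₀ (φ ≫ k)) (zero_add 1) h1
  obtain ⟨e, rfl⟩ := (Ext.mk₀_bijective _ _).2 x₂
  rw [Ext.mk₀_comp_mk₀] at hx₂
  have he : e ≫ S.g = φ ≫ k := (Ext.mk₀_bijective _ _).1 hx₂
  have hke : ∀ (i : ι') (V : C) (_ : V ⟶ Uo i),
      S.g.hom.app (op V) (sec e (op V)) = n i • sec k (op V) := by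
    intro i V h
    rw [← sec_comp, he, sec_comp]
    have h2 : sec φ (op V) = n i • one J (op V) := by
      rw [sec, hφ i V h]
      rfl
    rw [h2, map_zsmul]
    rfl
  have hcompat : ∀ (i j : ι') (W : C), (W ⟶ Uo i) → (W ⟶ Uo j) → n i = n j ∨ ⊥ ∈ J W := by
    intro i j W hi hj
    have h2 : n i • one J (op W) = n j • one J (op W) := by
      have := hφ i W hi
      rw [hφ j W hj] at this
      have h3 := congrArg (fun t : (ZX J).obj.obj (op W) ⟶ (ZX J).obj.obj (op W) =>
        t (one J (op W))) this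
      exact h3.symm
    have h4 : η J Zc (op W) (n i • ULift.up 1) = η J Zc (op W) (n j • ULift.up 1) := by
      rw [map_zsmul, map_zsmul]
      exact h2
    rcases eta_inj J Zc W _ _ h4 with h5 | h5
    · left
      have h6 := congrArg ULift.down h5
      simpa using h6
    · exact Or.inr h5
  haveI : Epi S.g := hS.epi_g
  obtain ⟨e'', he''⟩ := exists_lift_of_locally_nonzero hA S.f S.g S.zero hS Uo n hn hcov hcompat
    k e hke
  rw [← hx₃, ← he'', ← Ext.mk₀_comp_mk₀, Ext.comp_assoc_of_second_deg_zero, hS.comp_extClass,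
    Ext.comp_zero]

end Groth.Agent.Lib.Helper21.ConstH1
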