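import Mathlib
import Groth.Prelude.Def_EtBase
import Groth.Agent.Lib.Helper1.EtGerm
import Groth.Agent.Lib.Helper21.ConstGerm
import Groth.Agent.Lib.Helper21.FlcConn

/-!
# The locally constant value function of a section of a constant étale sheaf

For a scheme `W`, an abelian group `M` and a section `t` of the constant étale sheaf `M_W` over an
étale `W`-scheme `T`, we define `val t : T.left → M`, show that it is locally constant, compatible
with restriction, and that it determines `t`.
-/

set_option autoImplicit false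

open CategoryTheory CategoryTheory.Limits Opposite AlgebraicGeometry

namespace Groth.Agent.Lib.helper21.ConstVal

open Groth.Agent.Lib.Helper21.ConstGerm Groth.Agent.H1.EtGerm

universe u

variable {W : Scheme.{u}}

lemma eX (X : Scheme.{u}) : X.smallEtaleTopology =
    (X.smallPretopology (P := EtCoh.etaleMP) (Q := EtCoh.etaleMP)).toGrothendieck :=
  Scheme.smallGrothendieckTopology_eq_toGrothendieck_smallPretopology X le_rfl

lemma mem_of_pointwise (T : W.Etale) (R : Sieve T)
    (h : ∀ x : T.left, ∃ (Y : W.Etale) (g : Y ⟶ T) (y : Y.left), R g ∧ g.left.base y = x) :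
    R ∈ W.smallEtaleTopology T := by
  have key : R ∈ (W.smallPretopology (P := EtCoh.etaleMP) (Q := EtCoh.etaleMP)).toGrothendieck T →
      R ∈ W.smallEtaleTopology T := by
    intro hR
    rw [eX]
    exact hR
  apply key
  refine (Scheme.mem_toGrothendieck_smallPretopology T _).2 (fun x => ?_)
  obtain ⟨Y, g, y, hg, hy⟩ := h x
  haveI := etale_left g
  exact ⟨Y, g, y, hg, inferInstance, hy⟩

lemma pointwise_of_mem (T : W.Etale) (R : Sieve T) (hR : R ∈ W.smallEtaleTopology T) (x : T.left) :
    ∃ (Y : W.Etale) (g : Y ⟶ T) (y : Y.left), R g ∧ g.left.base y = x := by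
  rw [eX] at hR
  obtain ⟨Y, f, y, hf, -, hy⟩ := (Scheme.mem_toGrothendieck_smallPretopology T _).1 hR x
  exact ⟨Y, f, y, hf, hy⟩

lemma not_bot_mem (T : W.Etale) (t : T.left) : ⊥ ∉ W.smallEtaleTopology T := by
  intro h
  obtain ⟨Y, f, y, hf, -⟩ := pointwise_of_mem T _ h t
  exact hf

variable (M : AddCommGrpCat.{u + 1})

/-- the constant étale sheaf with value `M` -/
noncomputable abbrev G (W : Scheme.{u}) (M : AddCommGrpCat.{u + 1}) : EtCoh.Ab W :=
  cst.{u + 1, u, u + 1} W.smallEtaleTopology M

/-- the constant section -/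
noncomputable abbrev et (T : W.Etale) (a : M) : (G W M).obj.obj (op T) :=
  eta.{u + 1, u, u + 1} W.smallEtaleTopology M (op T) a

variable {M}

lemma et_map {T T' : W.Etale} (k : T' ⟶ T) (a : M) :
    (G W M).obj.map k.op (et M T a) = et M T' a :=
  eta_nat.{u + 1, u, u + 1} W.smallEtaleTopology M k.op a

lemma map_map {T T' T'' : W.Etale} (k : T' ⟶ T) (k' : T'' ⟶ T') (t : (G W M).obj.obj (op T)) :
    (G W M).obj.map k'.op ((G W M).obj.map k.op t) = (G W M).obj.map (k' ≫ k).op t := by
  rw [op_comp, Functor.map_comp]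
  rfl

/-- `t` takes the value `a` near `p` -/
def Val {T : W.Etale} (t : (G W M).obj.obj (op T)) (p : T.left) (a : M) : Prop :=
  ∃ (T' : W.Etale) (k : T' ⟶ T) (p' : T'.left), k.left.base p' = p ∧
    (G W M).obj.map k.op t = et M T' a

lemma val_exists {T : W.Etale} (t : (G W M).obj.obj (op T)) (p : T.left) : ∃ a, Val t p a := by
  obtain ⟨S, hS, hb⟩ := local_const.{u + 1, u, u + 1} W.smallEtaleTopology M T t
  obtain ⟨Y, f, y, hf, hy⟩ := pointwise_of_mem T S hS p
  obtain ⟨a, ha⟩ := hb f hf
  exact ⟨a, Y, f, y, hy, ha⟩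

lemma val_unique {T : W.Etale} {t : (G W M).obj.obj (op T)} {p : T.left} {a a' : M}
    (h : Val t p a) (h' : Val t p a') : a = a' := by
  obtain ⟨T₁, k₁, p₁, hp₁, e₁⟩ := h
  obtain ⟨T₂, k₂, p₂, hp₂, e₂⟩ := h'
  obtain ⟨P, l₁, l₂, z, hl, -, -⟩ :=
    Groth.Agent.Lib.Helper21.FlcConn.exists_common k₁ k₂ p₁ p₂ (hp₁.trans hp₂.symm)
  have h1 : (G W M).obj.map (l₁ ≫ k₁).op t = et M P a := by
    rw [← map_map, e₁, et_map]
  have h2 : (G W M).obj.map (l₁ ≫ k₁).op t = et M P a' := by
    rw [hl, ← map_map, e₂, et_map]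
  rcases eta_inj.{u + 1, u, u + 1} W.smallEtaleTopology M P a a' (h1.symm.trans h2) with h | h
  · exact h
  · exact (not_bot_mem P z h).elim

/-- the value of a section of the constant sheaf at a point -/
noncomputable def val {T : W.Etale} (t : (G W M).obj.obj (op T)) (p : T.left) : M :=
  (val_exists t p).choose

lemma val_spec {T : W.Etale} (t : (G W M).obj.obj (op T)) (p : T.left) : Val t p (val t p) :=
  (val_exists t p).choose_spec

lemma val_eq {T : W.Etale} {t : (G W M).obj.obj (op T)} {p : T.left} {a : M} (h : Val t p a) :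
    val t p = a :=
  val_unique (val_spec t p) h

lemma Val.map {T T₁ : W.Etale} (h : T₁ ⟶ T) {t : (G W M).obj.obj (op T)} {p₁ : T₁.left} {a : M}
    (hv : Val t (h.left.base p₁) a) : Val ((G W M).obj.map h.op t) p₁ a := by
  obtain ⟨T', k, p', hp', e⟩ := hv
  obtain ⟨P, l₁, l₂, z, hl, -, hz⟩ :=
    Groth.Agent.Lib.Helper21.FlcConn.exists_common k h p' p₁ hp'
  refine ⟨P, l₂, z, hz, ?_⟩
  rw [map_map, ← hl, ← map_map, e, et_map]

lemma val_map {T T₁ : W.Etale} (h : T₁ ⟶ T) (t : (G W M).obj.obj (op T)) (p₁ : T₁.left) :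
    val ((G W M).obj.map h.op t) p₁ = val t (h.left.base p₁) :=
  val_eq (Val.map h (val_spec t _))

lemma val_et {T : W.Etale} (a : M) (p : T.left) : val (et M T a) p = a := by
  refine val_eq ⟨T, 𝟙 T, p, rfl, ?_⟩
  rw [et_map]

lemma Val.isOpen {T : W.Etale} (t : (G W M).obj.obj (op T)) (a : M) :
    IsOpen {p : T.left | Val t p a} := by
  rw [isOpen_iff_forall_mem_open]
  rintro p ⟨T', k, p', hp', e⟩
  haveI := etale_left k
  refine ⟨Set.range k.left.base, ?_, k.left.isOpenMap.isOpen_range, ⟨p', hp'⟩⟩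
  rintro _ ⟨q, rfl⟩
  exact ⟨T', k, q, rfl, e⟩

lemma isLocallyConstant_val {T : W.Etale} (t : (G W M).obj.obj (op T)) :
    IsLocallyConstant (val t) := by
  rw [IsLocallyConstant.iff_isOpen_fiber]
  intro a
  have : val t ⁻¹' {a} = {p : T.left | Val t p a} := by
    ext p
    constructor
    · intro h
      have h' : val t p = a := h
      exact h' ▸ val_spec t p
    · intro h
      exact val_eq h
  rw [this]
  exact Val.isOpen t a

/-- a section all of whose values are `a` is the constant section `a` -/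
lemma eq_et_of_val {T : W.Etale} (t : (G W M).obj.obj (op T)) (a : M)
    (h : ∀ p : T.left, val t p = a) : t = et M T a := by
  let S : Sieve T :=
    { arrows := fun T' k => (G W M).obj.map k.op t = et M T' a
      downward_closed := by
        intro Y Z f hf g
        show (G W M).obj.map (g ≫ f).op t = et M Z a
        rw [← map_map, hf, et_map] }
  have hS : S ∈ W.smallEtaleTopology T := by
    refine mem_of_pointwise T S (fun p => ?_)
    obtain ⟨T', k, p', hp', e⟩ := (h p) ▸ val_spec t p
    exact ⟨T', k, p', e, hp'⟩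
  refine Sheaf.isSeparated (G W M) T S hS t (et M T a) (fun T' k hk => ?_)
  rw [et_map]
  exact hk

end Groth.Agent.Lib.helper21.ConstVal
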