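import Mathlib
import Groth.Prelude.Def_EtBase
import Groth.Prelude.Def_EtCore
import Groth.Agent.Lib.Helper21.ConstVal

set_option autoImplicit false

open CategoryTheory CategoryTheory.Limits Opposite AlgebraicGeometry

namespace Groth.Agent.Lib.helper21.ConstUnit

open Groth.Agent.Lib.Helper21.ConstGerm Groth.Agent.H1.EtGerm Groth.Agent.Lib.helper21.ConstVal

universe u

variable {X W : Scheme.{u}} (f : W ⟶ X) (M : AddCommGrpCat.{u + 1})

/-- the comparison map `M_X → f_* M_W` -/
noncomputable def psi : G X M ⟶ (EtCoh.push f).obj (G W M) :=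
  (EtCoh.pullPushAdj f).homEquiv _ _ ((EtCore.pullConstIso f).app M).hom

lemma unit_eq : (EtCoh.pullPushAdj f).unit.app (G X M) =
    psi f M ≫ (EtCoh.push f).map ((EtCore.pullConstIso f).app M).inv := by
  rw [psi, Adjunction.homEquiv_unit, Category.assoc, ← Functor.map_comp, Iso.hom_inv_id,
    CategoryTheory.Functor.map_id]
  exact (Category.comp_id _).symm

/-- the adjunction used to define `pullConstIso` -/
noncomputable abbrev adjA :
    constantSheaf X.smallEtaleTopology AddCommGrpCat.{u+1} ⋙ EtCoh.pull f ⊣ EtCore.gsec W :=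
  ((EtCore.constAdj X).comp (EtCoh.pullPushAdj f)).ofNatIsoRight (EtCore.pushGsecIso f)

lemma h0 : (adjA f).homEquiv _ _ ((EtCore.pullConstIso f).hom.app M) =
    (EtCore.constAdj W).unit.app M :=
  Adjunction.homEquiv_leftAdjointUniq_hom_app (adjA f) (EtCore.constAdj W) M

lemma constAdj_unit (a : M) :
    ((EtCore.constAdj X).unit.app M : _ ⟶ _) a = et M (EtCoh.top X) a := by
  rfl

lemma h1 : (EtCore.constAdj X).unit.app M ≫ (EtCore.gsec X).map (psi f M) ≫
    (EtCore.pushGsecIso f).hom.app (G W M) = (EtCore.constAdj W).unit.app M := by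
  have h := h0 f M
  rw [Adjunction.homEquiv_ofNatIsoRight_apply, Adjunction.comp_homEquiv] at h
  simp only [Equiv.trans_apply] at h
  rw [Adjunction.homEquiv_unit] at h
  rw [← h, Category.assoc]
  rfl

lemma psi_top (a : M) : (psi f M).hom.app (op (EtCoh.top X)) (et M (EtCoh.top X) a) =
    et M ((EtCoh.bc f).obj (EtCoh.top X)) a := by
  have h := ConcreteCategory.congr_hom (h1 f M) a
  have h2 : (G W M).obj.map (EtCore.bcTopIso f).inv.op
      ((psi f M).hom.app (op (EtCoh.top X)) (et M (EtCoh.top X) a)) = et M (EtCoh.top W) a := h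
  have h3 := congrArg ((G W M).obj.map (EtCore.bcTopIso f).hom.op) h2
  rw [et_map] at h3
  rw [← h3]
  have h4 : (EtCore.bcTopIso f).inv.op ≫ (EtCore.bcTopIso f).hom.op = 𝟙 _ := by
    rw [← op_comp, Iso.hom_inv_id, op_id]
  have h5 := ConcreteCategory.congr_hom (congrArg (G W M).obj.map h4)
    ((psi f M).hom.app (op (EtCoh.top X)) (et M (EtCoh.top X) a))
  rw [Functor.map_comp, CategoryTheory.Functor.map_id] at h5
  exact h5.symm

lemma psi_et (V : X.Etale) (a : M) : (psi f M).hom.app (op V) (et M V a) =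
    et M ((EtCoh.bc f).obj V) a := by
  let g : V ⟶ EtCoh.top X := (EtCore.topIsTerminal X).from V
  rw [← et_map g a]
  have h := NatTrans.naturality_apply (psi f M).hom g.op (et M (EtCoh.top X) a)
  refine h.trans ?_
  rw [psi_top]
  exact et_map ((EtCoh.bc f).map g) a

lemma et_zero (T : W.Etale) : et M T 0 = 0 := map_zero _

/-- `psi` is injective on sections as soon as `f` has dense range -/
lemma psi_injective (hd : DenseRange f.base) (V : X.Etale) :
    Function.Injective ((psi f M).hom.app (op V)) := by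
  refine (injective_iff_map_eq_zero ((psi f M).hom.app (op V)).hom).2 ?_
  intro s hs
  replace hs : (psi f M).hom.app (op V) s = 0 := hs
  obtain ⟨S, hS, hb⟩ := local_const.{u + 1, u, u + 1} X.smallEtaleTopology M V s
  refine Sheaf.isSeparated (G X M) V S hS s 0 (fun V' g hg => ?_)
  obtain ⟨a, ha⟩ := hb g hg
  replace ha : (G X M).obj.map g.op s = et M V' a := ha
  rw [map_zero, ha]
  have h1 : (psi f M).hom.app (op V') (et M V' a) = 0 := by
    rw [← ha]
    refine (NatTrans.naturality_apply (psi f M).hom g.op s).trans ?_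
    rw [hs, map_zero]
  rw [psi_et] at h1
  have h2 : et M ((EtCoh.bc f).obj V') a = et M ((EtCoh.bc f).obj V') 0 :=
    h1.trans (et_zero M _).symm
  rcases eta_inj.{u + 1, u, u + 1} W.smallEtaleTopology M _ a 0 h2 with h | h
  · rw [h, et_zero]
  · have hempty : IsEmpty V'.left := by
      refine ⟨fun v' => ?_⟩
      haveI : Etale V'.hom := V'.prop
      have hopen : IsOpen (Set.range V'.hom.base) := V'.hom.isOpenMap.isOpen_range
      obtain ⟨w, v'', hw⟩ := hd.exists_mem_open hopen ⟨_, v', rfl⟩
      obtain ⟨z, -, -⟩ := Scheme.Pullback.exists_preimage_pullback (f := V'.hom) (g := f) v'' w hw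
      exact not_bot_mem ((EtCoh.bc f).obj V') z h
    haveI := subsingleton_of_isEmpty (G X M) V'
    exact Subsingleton.elim _ _

/-- `psi` is locally surjective if locally constant functions on `V ×_X W` are constant near every
point of `V` -/
lemma psi_locSurj
    (hloc : ∀ (V : X.Etale) (φ : ((EtCoh.bc f).obj V).left → M) (_ : IsLocallyConstant φ)
      (v : V.left), ∃ N : V.left.Opens, v ∈ N ∧ ∃ a : M, ∀ z : ((EtCoh.bc f).obj V).left,
        (pullback.fst V.hom f : ((EtCoh.bc f).obj V).left ⟶ V.left).base z ∈ N → φ z = a)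
    (V : X.Etale) (t : (G W M).obj.obj (op ((EtCoh.bc f).obj V))) :
    Presheaf.imageSieve (psi f M).hom (U := V) t ∈ X.smallEtaleTopology V := by
  refine mem_of_pointwise V _ (fun v => ?_)
  obtain ⟨N, hvN, a, hN⟩ := hloc V (val t) (isLocallyConstant_val t) v
  refine ⟨restrictOpen V N, restrictOpenι V N, ⟨v, hvN⟩, ⟨et M _ a, ?_⟩, rfl⟩
  rw [psi_et]
  symm
  refine eq_et_of_val _ a (fun p => ?_)
  refine (val_map ((EtCoh.bc f).map (restrictOpenι V N)) t p).trans ?_
  apply hN
  have sq := (EtCoh.isPullback_bc_map f (restrictOpenι V N)).w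
  have h3 := congrArg (fun k : ((EtCoh.bc f).obj (restrictOpen V N)).left ⟶ V.left => k.base p) sq
  refine (show _ = _ from h3) ▸ ?_
  exact ((pullback.fst (restrictOpen V N).hom f :
    ((EtCoh.bc f).obj (restrictOpen V N)).left ⟶ (restrictOpen V N).left).base p).2

theorem isIso_psi (hd : DenseRange f.base)
    (hloc : ∀ (V : X.Etale) (φ : ((EtCoh.bc f).obj V).left → M) (_ : IsLocallyConstant φ)
      (v : V.left), ∃ N : V.left.Opens, v ∈ N ∧ ∃ a : M, ∀ z : ((EtCoh.bc f).obj V).left,
        (pullback.fst V.hom f : ((EtCoh.bc f).obj V).left ⟶ V.left).base z ∈ N → φ z = a) :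
    IsIso (psi f M) := by
  refine (Sheaf.isLocallyBijective_iff_isIso (A := AddCommGrpCat.{u + 1}) (psi f M)).1
    ⟨?_, ⟨fun t => psi_locSurj f M hloc _ t⟩⟩
  exact Presheaf.isLocallyInjective_of_injective _ _ (fun V => psi_injective f M hd V.unop)

/-- **Criterion**: the unit `M_X → f_* f^* M_X` is an isomorphism if `f` has dense range and locally
constant functions on `V ×_X W` are constant near every point of `V`. -/
theorem isIso_unit_const (M' : Type) [AddCommGroup M'] (hd : DenseRange f.base)
    (hloc : ∀ (V : X.Etale) (φ : ((EtCoh.bc f).obj V).left → ULift.{u + 1} M')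
      (_ : IsLocallyConstant φ) (v : V.left), ∃ N : V.left.Opens, v ∈ N ∧
        ∃ a : ULift.{u + 1} M', ∀ z : ((EtCoh.bc f).obj V).left,
        (pullback.fst V.hom f : ((EtCoh.bc f).obj V).left ⟶ V.left).base z ∈ N → φ z = a) :
    IsIso ((EtCoh.pullPushAdj f).unit.app (EtCoh.const X M')) := by
  have := isIso_psi f (AddCommGrpCat.of (ULift.{u + 1} M')) hd hloc
  have h := unit_eq f (AddCommGrpCat.of (ULift.{u + 1} M'))
  have h' : (EtCoh.pullPushAdj f).unit.app (EtCoh.const X M') =
      psi f (AddCommGrpCat.of (ULift.{u + 1} M')) ≫ (EtCoh.push f).map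
        ((EtCore.pullConstIso f).app (AddCommGrpCat.of (ULift.{u + 1} M'))).inv := h
  rw [h']
  infer_instance

end Groth.Agent.Lib.helper21.ConstUnit
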