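import Mathlib
import Groth.Prelude.Def_ega3
import Groth.Agent.Lib.Helper21.CorepHom1
import Groth.Agent.Lib.Helper21.TermSec

/-!
# `Hom(E, H) ≃ Γ(X, H ⊗ E^∨)` for `E` finite locally free, and the functors `M ↦ f^*M~ ⊗ F` (helper21)
-/

set_option autoImplicit false
universe u

open CategoryTheory CategoryTheory.Limits Opposite AlgebraicGeometry TopologicalSpace MonoidalCategory

namespace Groth.Agent.Lib.helper21.CorepHom

open Groth.Agent.Lib.Helper21.TensorW Groth.Agent.Lib.Helper21.TensorAdj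
  Groth.Agent.Lib.Helper21.TensorMon
open Groth.Agent.Lib.helper12.InvDual Groth.Agent.Lib.helper12.TensorPowAdd
  Groth.Agent.Lib.helper12.PullTensor Groth.Agent.Lib.helper12.TensorAssoc
  Groth.Agent.Lib.helper12.TensorRestrict Groth.Agent.Lib.helper12.TensorSec
open Groth.Agent.Lib.Lead.ModTensor (tensorMap tensorMap_id tensorMap_comp)
open Groth.Agent.Lib.helper21.FLFDual
open Scheme.Modules

variable {X : Scheme.{u}}

section abstractAdj

variable {𝒜 : Type*} [Category 𝒜] {L R : 𝒜 ⥤ 𝒜} (adj : L ⊣ R) {T E : 𝒜} (lam : L.obj T ≅ E)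

/-- `Hom(E, H) → Hom(T, R H)` for `λ : L T ≅ E` -/
def betaA (H : 𝒜) (φ : E ⟶ H) : T ⟶ R.obj H := adj.homEquiv T H (lam.hom ≫ φ)

lemma betaA_injective (H : 𝒜) : Function.Injective (betaA adj lam H) := by
  intro φ φ' h
  have h1 := (adj.homEquiv T H).injective h
  exact (cancel_epi lam.hom).mp h1

lemma betaA_surjective (H : 𝒜) (σ : T ⟶ R.obj H) : ∃ φ, betaA adj lam H φ = σ := by
  refine ⟨lam.inv ≫ (adj.homEquiv T H).symm σ, ?_⟩
  unfold betaA
  rw [Iso.hom_inv_id_assoc, Equiv.apply_symm_apply]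

lemma betaA_comp {H H' : 𝒜} (φ : E ⟶ H) (h : H ⟶ H') :
    betaA adj lam H' (φ ≫ h) = betaA adj lam H φ ≫ R.map h := by
  unfold betaA
  rw [← Category.assoc]
  exact adj.homEquiv_naturality_right _ _

lemma betaA_add [Preadditive 𝒜] [L.Additive] (H : 𝒜) (φ φ' : E ⟶ H) :
    betaA adj lam H (φ + φ') = betaA adj lam H φ + betaA adj lam H φ' := by
  unfold betaA
  rw [Preadditive.comp_add]
  exact adj.homAddEquiv_add _ _ _ _

end abstractAdj

/-- the left unitor `O ⊗ E ≅ E` -/
noncomputable def lunit (E : X.Modules) : CohB1.tensorMod (Coh.structureModule X) E ≅ E :=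
  (unitIso X.sheaf).app E

theorem lunit_naturality {E E' : X.Modules} (a : E' ⟶ E) :
    (lunit E').hom ≫ a = tensorMap (𝟙 (Coh.structureModule X)) a ≫ (lunit E).hom :=
  ((unitIso X.sheaf).hom.naturality a).symm

/-- `Hom(E, H) → Hom(O, H ⊗ E^∨)` -/
noncomputable def beta {E : X.Modules} (hE : FlatMod.IsFinLocFree E) (H : X.Modules)
    (φ : E ⟶ H) : Coh.structureModule X ⟶ CohB1.tensorMod H (dualMod E) :=
  (tensDualAdj hE).homEquiv (Coh.structureModule X) H ((lunit E).hom ≫ φ)

theorem beta_injective {E : X.Modules} (hE : FlatMod.IsFinLocFree E) (H : X.Modules) :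
    Function.Injective (beta hE H) :=
  betaA_injective (𝒜 := X.Modules) (tensDualAdj hE) (T := Coh.structureModule X) (lunit E) H

theorem beta_surjective {E : X.Modules} (hE : FlatMod.IsFinLocFree E) (H : X.Modules)
    (σ : Coh.structureModule X ⟶ CohB1.tensorMod H (dualMod E)) : ∃ φ, beta hE H φ = σ :=
  betaA_surjective (𝒜 := X.Modules) (tensDualAdj hE) (T := Coh.structureModule X) (lunit E) H σ

theorem beta_add {E : X.Modules} (hE : FlatMod.IsFinLocFree E) (H : X.Modules) (φ φ' : E ⟶ H) :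
    beta hE H (φ + φ') = beta hE H φ + beta hE H φ' :=
  haveI : (tens X.sheaf E).Additive := additive_tens' _
  betaA_add (𝒜 := ModSite.Mod X.sheaf) (tensDualAdj hE) (T := Coh.structureModule X) (lunit E) H φ φ'

theorem beta_comp {E : X.Modules} (hE : FlatMod.IsFinLocFree E) {H H' : X.Modules} (φ : E ⟶ H)
    (h : H ⟶ H') : beta hE H' (φ ≫ h) = beta hE H φ ≫ tensorMap h (𝟙 (dualMod E)) :=
  betaA_comp (𝒜 := X.Modules) (tensDualAdj hE) (T := Coh.structureModule X) (lunit E) φ h

theorem beta_dinat {E E' : X.Modules} (hE : FlatMod.IsFinLocFree E) (hE' : FlatMod.IsFinLocFree E')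
    (a : E' ⟶ E) (H : X.Modules) (φ : E ⟶ H) :
    beta hE' H (a ≫ φ) = beta hE H φ ≫ dMap H a := by
  have h0 : (lunit E').hom ≫ a ≫ φ =
      tensorMap (𝟙 (Coh.structureModule X)) a ≫ (lunit E).hom ≫ φ :=
    (Category.assoc _ _ _).symm.trans
      ((congrArg (fun t => t ≫ φ) (lunit_naturality a)).trans (Category.assoc _ _ _))
  exact (congrArg ((tensDualAdj hE').homEquiv (Coh.structureModule X) H) h0).trans
    (tensDualAdj_homEquiv_dinat hE hE' a (Coh.structureModule X) H _)

section alpha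

variable (A : Type u) [CommRing A] [X.Over (Spec (CommRingCat.of A))]

/-- `M ↦ f^* M~` -/
noncomputable def PA : ModuleCat.{u} A ⥤ X.Modules :=
  tilde.functor (CommRingCat.of A) ⋙ Scheme.Modules.pullback (X ↘ Spec (CommRingCat.of A))

theorem tensorAFunctor_map (F : X.Modules) {M M' : ModuleCat.{u} A} (g : M ⟶ M') :
    (CohIII.tensorAFunctor A F).map g = tensorMap ((PA (X := X) A).map g) (𝟙 F) := rfl

/-- the natural transformation `T_{F₀} ⟶ T_{F₁}` induced by `w : F₀ ⟶ F₁` -/
noncomputable def thetaA {F₀ F₁ : X.Modules} (w : F₀ ⟶ F₁) :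
    CohIII.tensorAFunctor A F₀ ⟶ CohIII.tensorAFunctor A F₁ where
  app M := tensorMap (𝟙 ((PA (X := X) A).obj M)) w
  naturality M M' g := by
    change tensorMap ((PA (X := X) A).map g) (𝟙 F₀) ≫ tensorMap (𝟙 _) w =
      tensorMap (𝟙 _) w ≫ tensorMap ((PA (X := X) A).map g) (𝟙 F₁)
    rw [← tensorMap_comp, ← tensorMap_comp, Category.comp_id, Category.id_comp, Category.comp_id,
      Category.id_comp]

/-- the global section named by a morphism `O ⟶ N` -/
noncomputable def gsec (N : X.Modules) (σ : Coh.structureModule X ⟶ N) :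
    (CohIII.globalSectionsA A).obj N :=
  Groth.Agent.Lib.Helper21.TermSec.ev (X := (⊤ : X.Opens)) N σ

theorem gsec_injective (N : X.Modules) : Function.Injective (gsec A N) :=
  Groth.Agent.Lib.Helper21.TermSec.ev_injective (X := (⊤ : X.Opens)) Limits.isTerminalTop N

theorem gsec_surjective (N : X.Modules) (s : (CohIII.globalSectionsA A).obj N) :
    ∃ σ, gsec A N σ = s :=
  ⟨Groth.Agent.Lib.Helper21.TermSec.ofEv (X := (⊤ : X.Opens)) Limits.isTerminalTop N s,
    Groth.Agent.Lib.Helper21.TermSec.ev_ofEv (X := (⊤ : X.Opens)) Limits.isTerminalTop N s⟩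

theorem gsec_add (N : X.Modules) (σ τ : Coh.structureModule X ⟶ N) :
    gsec A N (σ + τ) = gsec A N σ + gsec A N τ := rfl

theorem gsec_comp {N N' : X.Modules} (σ : Coh.structureModule X ⟶ N) (k : N ⟶ N') :
    gsec A N' (σ ≫ k) = ((CohIII.globalSectionsA A).map k).hom (gsec A N σ) := rfl

/-- `Hom(E, f^*M~ ⊗ F) → Γ(X, f^*M~ ⊗ (F ⊗ E^∨))` -/
noncomputable def alpha (F : X.Modules) {E : X.Modules} (hE : FlatMod.IsFinLocFree E)
    (M : ModuleCat.{u} A) (φ : E ⟶ (CohIII.tensorAFunctor A F).obj M) :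
    (CohIII.tensorAFunctor A (CohB1.tensorMod F (dualMod E)) ⋙ CohIII.globalSectionsA A).obj M :=
  gsec A _ (beta hE ((CohIII.tensorAFunctor A F).obj M) φ ≫
    (assocMod ((PA (X := X) A).obj M) F (dualMod E)).hom)

theorem alpha_injective (F : X.Modules) {E : X.Modules} (hE : FlatMod.IsFinLocFree E)
    (M : ModuleCat.{u} A) : Function.Injective (alpha A F hE M) := by
  intro φ φ' h
  have h1 := gsec_injective A _ h
  have h2 := (cancel_mono (assocMod ((PA (X := X) A).obj M) F (dualMod E)).hom).mp h1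
  exact beta_injective hE _ h2

theorem alpha_surjective (F : X.Modules) {E : X.Modules} (hE : FlatMod.IsFinLocFree E)
    (M : ModuleCat.{u} A)
    (s : (CohIII.tensorAFunctor A (CohB1.tensorMod F (dualMod E)) ⋙
      CohIII.globalSectionsA A).obj M) : ∃ φ, alpha A F hE M φ = s := by
  obtain ⟨σ, hσ⟩ := gsec_surjective A _ s
  obtain ⟨φ, hφ⟩ := beta_surjective hE ((CohIII.tensorAFunctor A F).obj M)
    (σ ≫ (assocMod ((PA (X := X) A).obj M) F (dualMod E)).inv)
  refine ⟨φ, ?_⟩
  unfold alpha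
  rw [hφ, Category.assoc, Iso.inv_hom_id, Category.comp_id]
  exact hσ

theorem alpha_add (F : X.Modules) {E : X.Modules} (hE : FlatMod.IsFinLocFree E)
    (M : ModuleCat.{u} A) (φ φ' : E ⟶ (CohIII.tensorAFunctor A F).obj M) :
    alpha A F hE M (φ + φ') = alpha A F hE M φ + alpha A F hE M φ' := by
  unfold alpha
  rw [beta_add, Preadditive.add_comp]
  exact gsec_add A _ _ _

/-- naturality of `alpha` in `M` -/
theorem alpha_naturality (F : X.Modules) {E : X.Modules} (hE : FlatMod.IsFinLocFree E)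
    {M M' : ModuleCat.{u} A} (g : M ⟶ M') (φ : E ⟶ (CohIII.tensorAFunctor A F).obj M) :
    alpha A F hE M' (φ ≫ (CohIII.tensorAFunctor A F).map g) =
      ((CohIII.tensorAFunctor A (CohB1.tensorMod F (dualMod E)) ⋙
        CohIII.globalSectionsA A).map g).hom (alpha A F hE M φ) := by
  have h1 : beta hE ((CohIII.tensorAFunctor A F).obj M') (φ ≫ (CohIII.tensorAFunctor A F).map g) ≫
      (assocMod ((PA (X := X) A).obj M') F (dualMod E)).hom =
      (beta hE ((CohIII.tensorAFunctor A F).obj M) φ ≫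
        (assocMod ((PA (X := X) A).obj M) F (dualMod E)).hom) ≫
      (CohIII.tensorAFunctor A (CohB1.tensorMod F (dualMod E))).map g := by
    have e1 := beta_comp hE φ ((CohIII.tensorAFunctor A F).map g)
    have e2 := assocMod_naturality ((PA (X := X) A).map g) (𝟙 F) (𝟙 (dualMod E))
    have e3 : tensorMap (𝟙 F) (𝟙 (dualMod E)) = 𝟙 _ := tensorMap_id F (dualMod E)
    rw [e3] at e2
    calc _ = (beta hE ((CohIII.tensorAFunctor A F).obj M) φ ≫
          tensorMap (tensorMap ((PA (X := X) A).map g) (𝟙 F)) (𝟙 (dualMod E))) ≫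
          (assocMod ((PA (X := X) A).obj M') F (dualMod E)).hom :=
          congrArg (fun t => t ≫ (assocMod ((PA (X := X) A).obj M') F (dualMod E)).hom) e1
      _ = beta hE ((CohIII.tensorAFunctor A F).obj M) φ ≫
          (tensorMap (tensorMap ((PA (X := X) A).map g) (𝟙 F)) (𝟙 (dualMod E)) ≫
          (assocMod ((PA (X := X) A).obj M') F (dualMod E)).hom) := Category.assoc _ _ _
      _ = beta hE ((CohIII.tensorAFunctor A F).obj M) φ ≫
          ((assocMod ((PA (X := X) A).obj M) F (dualMod E)).hom ≫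
            tensorMap ((PA (X := X) A).map g) (𝟙 (CohB1.tensorMod F (dualMod E)))) :=
          congrArg (fun t => beta hE ((CohIII.tensorAFunctor A F).obj M) φ ≫ t) e2
      _ = _ := (Category.assoc _ _ _).symm
  exact (congrArg (gsec A _) h1).trans (gsec_comp A _ _)

/-- compatibility of `alpha` with `v : E₁ ⟶ E₀` -/
theorem alpha_precomp (F : X.Modules) {E₀ E₁ : X.Modules} (h₀ : FlatMod.IsFinLocFree E₀)
    (h₁ : FlatMod.IsFinLocFree E₁) (v : E₁ ⟶ E₀) (M : ModuleCat.{u} A)
    (φ : E₀ ⟶ (CohIII.tensorAFunctor A F).obj M) :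
    alpha A F h₁ M (v ≫ φ) =
      ((Functor.whiskerRight (thetaA A (dMap F v)) (CohIII.globalSectionsA A)).app M).hom
        (alpha A F h₀ M φ) := by
  have h1 : beta h₁ ((CohIII.tensorAFunctor A F).obj M) (v ≫ φ) ≫
      (assocMod ((PA (X := X) A).obj M) F (dualMod E₁)).hom =
      (beta h₀ ((CohIII.tensorAFunctor A F).obj M) φ ≫
        (assocMod ((PA (X := X) A).obj M) F (dualMod E₀)).hom) ≫
      (thetaA A (dMap F v)).app M := by
    have e1 := beta_dinat h₀ h₁ v ((CohIII.tensorAFunctor A F).obj M) φ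
    have e2 := assocMod_naturality (𝟙 ((PA (X := X) A).obj M)) (𝟙 F) (dualMap v)
    have e3 : tensorMap (𝟙 ((PA (X := X) A).obj M)) (𝟙 F) = 𝟙 _ := tensorMap_id _ F
    rw [e3] at e2
    calc _ = (beta h₀ ((CohIII.tensorAFunctor A F).obj M) φ ≫
          dMap ((CohIII.tensorAFunctor A F).obj M) v) ≫
          (assocMod ((PA (X := X) A).obj M) F (dualMod E₁)).hom :=
          congrArg (fun t => t ≫ (assocMod ((PA (X := X) A).obj M) F (dualMod E₁)).hom) e1
      _ = beta h₀ ((CohIII.tensorAFunctor A F).obj M) φ ≫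
          (dMap ((CohIII.tensorAFunctor A F).obj M) v ≫
          (assocMod ((PA (X := X) A).obj M) F (dualMod E₁)).hom) := Category.assoc _ _ _
      _ = beta h₀ ((CohIII.tensorAFunctor A F).obj M) φ ≫
          ((assocMod ((PA (X := X) A).obj M) F (dualMod E₀)).hom ≫
            tensorMap (𝟙 ((PA (X := X) A).obj M)) (tensorMap (𝟙 F) (dualMap v))) :=
          congrArg (fun t => beta h₀ ((CohIII.tensorAFunctor A F).obj M) φ ≫ t) e2
      _ = _ := (Category.assoc _ _ _).symm
  exact (congrArg (gsec A _) h1).trans (gsec_comp A _ _)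

end alpha

end Groth.Agent.Lib.helper21.CorepHom
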