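import Mathlib
import Groth.Agent.Lib.Helper21.CorepHom2
import Groth.Agent.Lib.Helper11.GammaCorep
import Groth.Agent.Lib.Helper18.DegCalc
import Groth.Agent.Lib.Lead.RankAdd

/-!
# `M ↦ Hom(G, f^*M~ ⊗ F)` is corepresentable for `G` with a finite locally free presentation (helper21)
-/

set_option autoImplicit false
universe u

open CategoryTheory CategoryTheory.Limits Opposite AlgebraicGeometry TopologicalSpace MonoidalCategory

namespace Groth.Agent.Lib.helper21.CorepHom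

open Groth.Agent.Lib.helper12.InvDual
open Groth.Agent.Lib.helper21.FLFDual

variable (A : Type u) [CommRing A] [IsNoetherianRing A] (X : Scheme.{u})
  [X.Over (Spec (CommRingCat.of A))] [IsProper (X ↘ Spec (CommRingCat.of A))]
  (F : X.Modules) (hF : Coh.IsCoh F) (hfl : FlatMod.IsFlatOver (X ↘ Spec (CommRingCat.of A)) F)
  (G E₀ E₁ : X.Modules) (h₀ : FlatMod.IsFinLocFree E₀) (h₁ : FlatMod.IsFinLocFree E₁)
  (v : E₁ ⟶ E₀) (π : E₀ ⟶ G) [Epi π] (w : v ≫ π = 0) (hex : (ShortComplex.mk v π w).Exact)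

omit [IsNoetherianRing A] [IsProper (X ↘ Spec (CommRingCat.of A))] in
theorem alpha_zero {E : X.Modules} (hE : FlatMod.IsFinLocFree E) (M : ModuleCat.{u} A) :
    alpha A F hE M 0 = 0 := by
  have h := alpha_add A F hE M 0 0
  rw [add_zero] at h
  exact left_eq_add.mp h

include hF hfl h₀ h₁ hex in
theorem exists_corep_hom :
    ∃ N : ModuleCat.{u} A, Module.Finite A N ∧
      Nonempty (CohIII.tensorAFunctor A F ⋙ preadditiveCoyoneda.obj (op G) ≅
        (linearCoyoneda A (ModuleCat.{u} A)).obj (op N) ⋙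
          forget₂ (ModuleCat.{u} A) AddCommGrpCat.{u}) := by
  have hd₀ := Groth.Agent.Lib.helper11.Bidual.isFinLocFree_dualMod h₀
  have hd₁ := Groth.Agent.Lib.helper11.Bidual.isFinLocFree_dualMod h₁
  have hF₀ : Coh.IsCoh (CohB1.tensorMod F (dualMod E₀)) :=
    Groth.Agent.Lib.Helper18.DegCalc.isCoh_tensorMod hF
      (Groth.Agent.Lib.Lead.RankAdd.isCoh_of_isFinLocFree hd₀)
  have hF₁ : Coh.IsCoh (CohB1.tensorMod F (dualMod E₁)) :=
    Groth.Agent.Lib.Helper18.DegCalc.isCoh_tensorMod hF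
      (Groth.Agent.Lib.Lead.RankAdd.isCoh_of_isFinLocFree hd₁)
  have hfl₀ := isFlatOver_tensorMod_of_isFinLocFree (X ↘ Spec (CommRingCat.of A)) F (dualMod E₀)
    hfl hd₀
  have hfl₁ := isFlatOver_tensorMod_of_isFinLocFree (X ↘ Spec (CommRingCat.of A)) F (dualMod E₁)
    hfl hd₁
  let η := Functor.whiskerRight (thetaA (X := X) A (dMap F v)) (CohIII.globalSectionsA A)
  obtain ⟨R, ι, hRfin, hιinj, hιker⟩ :=
    Groth.Agent.Lib.helper11.GammaCorep.exists_kernel_corep A X _ _ hF₀ hF₁ hfl₀ hfl₁ η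
  refine ⟨R, hRfin, ?_⟩
  -- the kernel condition for `π ≫ ψ`
  have hker : ∀ (M : ModuleCat.{u} A) (ψ : G ⟶ (CohIII.tensorAFunctor A F).obj M),
      (η.app M).hom (alpha A F h₀ M (π ≫ ψ)) = 0 := by
    intro M ψ
    rw [← alpha_precomp A F h₀ h₁ v M (π ≫ ψ), ← Category.assoc, w, zero_comp]
    exact alpha_zero A X F h₁ M
  -- the comparison map
  let Θ : ∀ (M : ModuleCat.{u} A), (G ⟶ (CohIII.tensorAFunctor A F).obj M) → (R ⟶ M) :=
    fun M ψ => Classical.choose ((hιker M _).mp (hker M ψ))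
  have hΘ : ∀ (M : ModuleCat.{u} A) (ψ : G ⟶ (CohIII.tensorAFunctor A F).obj M),
      (ι.app M).hom (Θ M ψ) = alpha A F h₀ M (π ≫ ψ) :=
    fun M ψ => Classical.choose_spec ((hιker M _).mp (hker M ψ))
  have hΘadd : ∀ (M : ModuleCat.{u} A) (ψ ψ' : G ⟶ (CohIII.tensorAFunctor A F).obj M),
      Θ M (ψ + ψ') = Θ M ψ + Θ M ψ' := by
    intro M ψ ψ'
    apply hιinj M
    refine (hΘ M _).trans ?_
    refine Eq.trans ?_ (map_add (ι.app M).hom (Θ M ψ) (Θ M ψ')).symm
    have e1 : alpha A F h₀ M (π ≫ (ψ + ψ')) =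
        alpha A F h₀ M (π ≫ ψ) + alpha A F h₀ M (π ≫ ψ') := by
      rw [Preadditive.comp_add, alpha_add]
    exact e1.trans (congrArg₂ (· + ·) (hΘ M ψ).symm (hΘ M ψ').symm)
  have hΘinj : ∀ M, Function.Injective (Θ M) := by
    intro M ψ ψ' h
    have h1 : alpha A F h₀ M (π ≫ ψ) = alpha A F h₀ M (π ≫ ψ') :=
      (hΘ M ψ).symm.trans ((congrArg (ι.app M).hom h).trans (hΘ M ψ'))
    exact (cancel_epi π).mp (alpha_injective A F h₀ M h1)
  have hΘsurj : ∀ M, Function.Surjective (Θ M) := by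
    intro M y
    have hy : (η.app M).hom ((ι.app M).hom y) = 0 := (hιker M _).mpr ⟨y, rfl⟩
    obtain ⟨φ, hφ⟩ := alpha_surjective A F h₀ M ((ι.app M).hom y)
    have hvφ : v ≫ φ = 0 := by
      apply alpha_injective A F h₁ M
      rw [alpha_precomp A F h₀ h₁ v M φ, hφ, alpha_zero]
      exact hy
    refine ⟨hex.desc φ hvφ, ?_⟩
    apply hιinj M
    refine (hΘ M _).trans ?_
    have h2 : π ≫ hex.desc φ hvφ = φ := hex.g_desc φ hvφ
    rw [h2]
    exact hφ
  have hΘnat : ∀ {M M' : ModuleCat.{u} A} (g : M ⟶ M')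
      (ψ : G ⟶ (CohIII.tensorAFunctor A F).obj M),
      Θ M' (ψ ≫ (CohIII.tensorAFunctor A F).map g) = Θ M ψ ≫ g := by
    intro M M' g ψ
    apply hιinj M'
    refine (hΘ M' _).trans ?_
    have e1 : alpha A F h₀ M' (π ≫ ψ ≫ (CohIII.tensorAFunctor A F).map g) =
        ((CohIII.tensorAFunctor A (CohB1.tensorMod F (dualMod E₀)) ⋙
          CohIII.globalSectionsA A).map g).hom (alpha A F h₀ M (π ≫ ψ)) := by
      rw [← Category.assoc]
      exact alpha_naturality A F h₀ g (π ≫ ψ)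
    refine e1.trans ?_
    have hn := congrArg (fun t => t.hom (Θ M ψ)) (ι.naturality g)
    refine Eq.trans ?_ hn.symm
    exact congrArg ((CohIII.tensorAFunctor A (CohB1.tensorMod F (dualMod E₀)) ⋙
      CohIII.globalSectionsA A).map g).hom (hΘ M ψ).symm
  refine ⟨NatIso.ofComponents (fun M => AddEquiv.toAddCommGrpIso
    (AddEquiv.ofBijective (AddMonoidHom.mk' (Θ M) (hΘadd M)) ⟨hΘinj M, hΘsurj M⟩)) ?_⟩
  intro M M' g
  ext ψ
  exact hΘnat g ψ

end Groth.Agent.Lib.helper21.CorepHom
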