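import Mathlib
import Groth.Agent.Lib.Helper13.RatExt1

/-!
# Generic sections of proper morphisms over a base with valuation local rings extend

* `exists_section_of_generic_section_of_isProper`: `X` integral locally Noetherian with all local
  rings valuation rings (e.g. a Dedekind scheme), `p : P ⟶ X` proper, `s : Spec K(X) ⟶ P` lifting
  `Spec K(X) ⟶ X`; then `p` has a section.
* `valuationRing_stalk_of_isDedekindDomain`: local rings of `Spec R`, `R` Dedekind, are valuation
  rings.
-/

set_option autoImplicit false
set_option linter.style.haveILetI false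
universe u

noncomputable section

open CategoryTheory AlgebraicGeometry TopologicalSpace Opposite
open Groth.Agent.Lib.helper13.RatExt

namespace Groth.Agent.Lib.helper21.DedekindSection

variable {X P : Scheme.{u}}

/-- a generic section of a proper morphism over an integral locally Noetherian scheme all of whose
local rings are valuation rings extends to a section. -/
theorem exists_section_of_generic_section_of_isProper [IsIntegral X] [IsLocallyNoetherian X]
    (hval : ∀ x : X, ValuationRing (X.presheaf.stalk x)) (p : P ⟶ X) [IsProper p]
    (s : Spec (X.functionField) ⟶ P) (hs : s ≫ p = X.fromSpecStalk (genericPoint X)) :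
    ∃ t : X ⟶ P, t ≫ p = 𝟙 X := by
  classical
  obtain ⟨V, hξV, g, -, hg⟩ := spread_out_of_isGermInjective' (𝟙 X) p s
    (by rw [hs, Category.comp_id])
  have hV : Dense (V : Set X) := V.2.dense ⟨_, hξV⟩
  have hpiece : ∀ y : X, ∃ Q : Piece p (𝟙 X) V g, y ∈ Set.range Q.j := fun y =>
    exists_piece p (𝟙 X) V hV g hg y inferInstance (hval y)
  choose Q hQ using hpiece
  have hU : ((⊤ : X.Opens) : Set X) = ⋃ i, Set.range (Q i).j := by
    ext y
    simp only [Opens.coe_top, Set.mem_univ, Set.mem_iUnion, true_iff]
    exact ⟨y, hQ y⟩
  obtain ⟨g', hg'p, -⟩ := exists_glue hV Q ⊤ hU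
  refine ⟨X.topIso.inv ≫ g', ?_⟩
  rw [Category.assoc, hg'p, Category.comp_id, Scheme.toIso_inv_ι]


/-- the local rings of the spectrum of a Dedekind domain are valuation rings. -/
theorem valuationRing_stalk_of_isDedekindDomain (R : Type u) [CommRing R] [IsDedekindDomain R]
    (x : Spec (CommRingCat.of R)) :
    ValuationRing ((Spec (CommRingCat.of R)).presheaf.stalk x) := by
  letI : Algebra R ((Spec (CommRingCat.of R)).presheaf.stalk x) :=
    inferInstanceAs (Algebra R ((Spec.structureSheaf R).presheaf.stalk x))
  haveI : IsLocalization.AtPrime ((Spec (CommRingCat.of R)).presheaf.stalk x) x.asIdeal :=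
    inferInstanceAs (IsLocalization.AtPrime ((Spec.structureSheaf R).presheaf.stalk x) x.asIdeal)
  by_cases h : x.asIdeal = ⊥
  · have hF : IsField ((Spec (CommRingCat.of R)).presheaf.stalk x) := by
      rw [IsLocalRing.isField_iff_maximalIdeal_eq,
        ← IsLocalization.AtPrime.map_eq_maximalIdeal x.asIdeal, h, Ideal.map_bot]
    letI := hF.toField
    infer_instance
  · haveI := IsLocalization.AtPrime.isDiscreteValuationRing_of_dedekind_domain R h
      ((Spec (CommRingCat.of R)).presheaf.stalk x)
    infer_instance


/-- over a Dedekind domain, a proper scheme with a point over the fraction field has a section. -/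
theorem exists_section_of_fractionRing_point (R : Type u) [CommRing R] [IsDedekindDomain R]
    (p : P ⟶ Spec (CommRingCat.of R)) [IsProper p]
    (s₀ : Spec (CommRingCat.of (FractionRing R)) ⟶ P)
    (hs₀ : s₀ ≫ p = Spec.map (CommRingCat.ofHom (algebraMap R (FractionRing R)))) :
    ∃ t : Spec (CommRingCat.of R) ⟶ P, t ≫ p = 𝟙 _ := by
  haveI hdom : IsDomain (CommRingCat.of R) := inferInstanceAs (IsDomain R)
  letI : Algebra R (Spec (CommRingCat.of R)).functionField :=
    instAlgebraCarrierFunctionFieldSpec (CommRingCat.of R)
  haveI : IsFractionRing R (Spec (CommRingCat.of R)).functionField :=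
    functionField_isFractionRing_of_affine (CommRingCat.of R)
  let e : FractionRing R ≃ₐ[R] (Spec (CommRingCat.of R)).functionField :=
    FractionRing.algEquiv R _
  refine exists_section_of_generic_section_of_isProper
    (valuationRing_stalk_of_isDedekindDomain R) p
    (Spec.map (CommRingCat.ofHom
      (e : FractionRing R →+* (Spec (CommRingCat.of R)).functionField)) ≫ s₀) ?_
  rw [Category.assoc, hs₀, ← Spec.map_comp, Spec.fromSpecStalk_eq']
  congr 1
  ext r
  exact e.commutes r

end Groth.Agent.Lib.helper21.DedekindSection

end
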