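import Mathlib
import Groth.Agent.Lib.Helper25.DerivedAdj
import Groth.Agent.Lib.Helper1.AdjExact

/-!
# Fully faithful exact right adjoints on derived categories (helper21)

For an adjunction `G ⊣ F` of exact additive functors between abelian categories with `F` fully faithful
(counit an isomorphism):
* `isIso_counit`: the counit of the induced adjunction `G.mapDerivedCategory ⊣ F.mapDerivedCategory` is an
  isomorphism; `full_faithful`: `F.mapDerivedCategory` is full and faithful;
* `essImage_iff`: `K` lies in the essential image of `F.mapDerivedCategory` iff every cohomology object of `K`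
  lies in the essential image of `F`.
-/

set_option autoImplicit false
set_option linter.style.haveILetI false
universe w₁ w₂ v₁ v₂ u₁ u₂
open CategoryTheory CategoryTheory.Limits

namespace Groth.Agent.Lib.helper21.DerivedFF

open Groth.Agent.Lib.helper25.DerivedAdj

variable {C₁ : Type u₁} [Category.{v₁} C₁] [Abelian C₁] [HasDerivedCategory.{w₁} C₁]
  {C₂ : Type u₂} [Category.{v₂} C₂] [Abelian C₂] [HasDerivedCategory.{w₂} C₂]
  {G : C₁ ⥤ C₂} {F : C₂ ⥤ C₁} [G.Additive] [F.Additive]
  [PreservesFiniteLimits G] [PreservesFiniteColimits G]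
  [PreservesFiniteLimits F] [PreservesFiniteColimits F] (adj : G ⊣ F)

lemma isIso_counit_app_Q [IsIso adj.counit] (K : CochainComplex C₂ ℤ) :
    IsIso ((mapDerivedCategoryAdj adj).counit.app (DerivedCategory.Q.obj K)) := by
  letI : CatCommSq (G.mapHomologicalComplex (ComplexShape.up ℤ)) DerivedCategory.Q DerivedCategory.Q
      G.mapDerivedCategory := ⟨G.mapDerivedCategoryFactors.symm⟩
  letI : CatCommSq (F.mapHomologicalComplex (ComplexShape.up ℤ)) DerivedCategory.Q DerivedCategory.Q
      F.mapDerivedCategory := ⟨F.mapDerivedCategoryFactors.symm⟩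
  have h := Adjunction.localization_counit_app (mapHomologicalComplexAdj adj (ComplexShape.up ℤ))
    DerivedCategory.Q (HomologicalComplex.quasiIso C₁ (ComplexShape.up ℤ)) DerivedCategory.Q
    (HomologicalComplex.quasiIso C₂ (ComplexShape.up ℤ)) G.mapDerivedCategory F.mapDerivedCategory K
  haveI : ∀ i, IsIso (((mapHomologicalComplexAdj adj (ComplexShape.up ℤ)).counit.app K).f i) :=
    fun i => inferInstanceAs (IsIso (adj.counit.app (K.X i)))
  haveI : IsIso ((mapHomologicalComplexAdj adj (ComplexShape.up ℤ)).counit.app K) :=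
    HomologicalComplex.Hom.isIso_of_components _
  change IsIso (((mapHomologicalComplexAdj adj (ComplexShape.up ℤ)).localization DerivedCategory.Q
    (HomologicalComplex.quasiIso C₁ (ComplexShape.up ℤ)) DerivedCategory.Q
    (HomologicalComplex.quasiIso C₂ (ComplexShape.up ℤ)) G.mapDerivedCategory
    F.mapDerivedCategory).counit.app (DerivedCategory.Q.obj K))
  rw [h]
  infer_instance

theorem isIso_counit_app [IsIso adj.counit] (P : DerivedCategory C₂) :
    IsIso ((mapDerivedCategoryAdj adj).counit.app P) :=
  (NatTrans.isIso_app_iff_of_iso _ (DerivedCategory.Q.objObjPreimageIso P)).1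
    (isIso_counit_app_Q adj _)

instance isIso_counit [IsIso adj.counit] : IsIso (mapDerivedCategoryAdj adj).counit :=
  haveI := isIso_counit_app adj
  NatIso.isIso_of_isIso_app _

theorem full_faithful [IsIso adj.counit] :
    F.mapDerivedCategory.Full ∧ F.mapDerivedCategory.Faithful :=
  ⟨(mapDerivedCategoryAdj adj).fullyFaithfulROfIsIsoCounit.full,
    (mapDerivedCategoryAdj adj).fullyFaithfulROfIsIsoCounit.faithful⟩

/-- the unit of the induced adjunction at `Q.obj E` is an isomorphism as soon as the unit of `adj` is an
isomorphism on the cohomology objects of `E` -/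
lemma isIso_unit_app_Q (E : CochainComplex C₁ ℤ)
    (h : ∀ n : ℤ, IsIso (adj.unit.app (E.homology n))) :
    IsIso ((mapDerivedCategoryAdj adj).unit.app (DerivedCategory.Q.obj E)) := by
  letI : CatCommSq (G.mapHomologicalComplex (ComplexShape.up ℤ)) DerivedCategory.Q DerivedCategory.Q
      G.mapDerivedCategory := ⟨G.mapDerivedCategoryFactors.symm⟩
  letI : CatCommSq (F.mapHomologicalComplex (ComplexShape.up ℤ)) DerivedCategory.Q DerivedCategory.Q
      F.mapDerivedCategory := ⟨F.mapDerivedCategoryFactors.symm⟩
  have hu := Adjunction.localization_unit_app (mapHomologicalComplexAdj adj (ComplexShape.up ℤ))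
    DerivedCategory.Q (HomologicalComplex.quasiIso C₁ (ComplexShape.up ℤ)) DerivedCategory.Q
    (HomologicalComplex.quasiIso C₂ (ComplexShape.up ℤ)) G.mapDerivedCategory F.mapDerivedCategory E
  have hq : QuasiIso ((mapHomologicalComplexAdj adj (ComplexShape.up ℤ)).unit.app E) := by
    rw [quasiIso_iff]
    intro n
    rw [quasiIsoAt_iff_isIso_homologyMap]
    have key := NatTrans.app_homology adj.unit (E.sc n)
    have h1 : IsIso (ShortComplex.homologyMap ((E.sc n).mapNatTrans adj.unit)) := by
      have h2 : ShortComplex.homologyMap ((E.sc n).mapNatTrans adj.unit) =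
          ((E.sc n).mapHomologyIso (𝟭 C₁)).hom ≫ adj.unit.app (E.sc n).homology ≫
            ((E.sc n).mapHomologyIso (G ⋙ F)).inv := by
        rw [key]
        simp
      rw [h2]
      haveI : IsIso (adj.unit.app (E.sc n).homology) := h n
      infer_instance
    exact h1
  haveI : IsIso (DerivedCategory.Q.map ((mapHomologicalComplexAdj adj (ComplexShape.up ℤ)).unit.app E)) :=
    (DerivedCategory.isIso_Q_map_iff_quasiIso _ _).mpr hq
  change IsIso (((mapHomologicalComplexAdj adj (ComplexShape.up ℤ)).localization DerivedCategory.Q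
    (HomologicalComplex.quasiIso C₁ (ComplexShape.up ℤ)) DerivedCategory.Q
    (HomologicalComplex.quasiIso C₂ (ComplexShape.up ℤ)) G.mapDerivedCategory
    F.mapDerivedCategory).unit.app (DerivedCategory.Q.obj E))
  rw [hu]
  infer_instance

theorem essImage_iff [IsIso adj.counit] [F.Full] [F.Faithful] (K : DerivedCategory C₁) :
    F.mapDerivedCategory.essImage K ↔
      ∀ n : ℤ, F.essImage ((DerivedCategory.homologyFunctor C₁ n).obj K) := by
  constructor
  · rintro ⟨M, ⟨e⟩⟩ n
    exact ⟨(DerivedCategory.homologyFunctor C₂ n).obj M,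
      ⟨(Groth.Agent.H1.AdjExact.homologyMapIso F M n).symm ≪≫
        (DerivedCategory.homologyFunctor C₁ n).mapIso e⟩⟩
  · intro h
    haveI := (full_faithful adj).1
    haveI := (full_faithful adj).2
    rw [← Adjunction.isIso_unit_app_iff_mem_essImage (mapDerivedCategoryAdj adj)]
    let E := DerivedCategory.Q.objPreimage K
    let e : DerivedCategory.Q.obj E ≅ K := DerivedCategory.Q.objObjPreimageIso K
    refine (NatTrans.isIso_app_iff_of_iso _ e).1 (isIso_unit_app_Q adj E fun n => ?_)
    rw [Adjunction.isIso_unit_app_iff_mem_essImage adj]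
    have hn := h n
    have e2 : (DerivedCategory.homologyFunctor C₁ n).obj K ≅ E.homology n :=
      (DerivedCategory.homologyFunctor C₁ n).mapIso e.symm ≪≫
        (DerivedCategory.homologyFunctorFactors C₁ n).app E
    exact Functor.essImage.ofIso e2 hn

end Groth.Agent.Lib.helper21.DerivedFF
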