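import Groth.Agent.Lib.Helper21.PrinPart4
import Groth.Agent.Lib.Helper16.FLF5
import Groth.Agent.Lib.Helper16.QCohEpi

/-!
# `P^n_{X/S}` is generated by the image of `d^n`; the canonical maps of principal parts are epi (helper21)

* `span_dn_eq_top`: on an affine chart `U`, `Γ(P^n_{X/S}, U)` is generated as a `Γ(X,U)`-module by the `d^n b`.
* `isQuasicoherent_P`.
* `epi_of_range_dn`: a morphism `φ : M ⟶ P^n_{X/S}` whose image on sections over (a cover by) affine charts
  contains all `d^n b` is an epimorphism.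
-/

set_option autoImplicit false
set_option linter.style.haveILetI false
universe u
open CategoryTheory CategoryTheory.Limits AlgebraicGeometry TopologicalSpace Opposite

namespace Groth.Agent.Lib.helper21.PrinPart

open _root_.PrinPart TensorProduct

section Gen
variable {X S : Scheme.{u}} (f : X ⟶ S) (n : ℕ) {U : X.Opens} (hU : IsAffineOpen U)
  {V : S.Opens} (hV : IsAffineOpen V) (e : U ≤ f ⁻¹ᵁ V)

include hU hV e in
theorem span_dn_eq_top : Submodule.span Γ(X, U) (Set.range (dn f n U)) = ⊤ := by
  letI := (f.appLE V U e).hom.toAlgebra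
  have key : ∀ z : Γ(X, U) ⊗[Γ(S, V)] Γ(X, U),
      (secP f n U).symm (Φ f hU hV e n z) ∈ Submodule.span Γ(X, U) (Set.range (dn f n U)) := by
    intro z
    induction z using TensorProduct.induction_on with
    | zero => rw [map_zero, map_zero]; exact zero_mem _
    | tmul b b' =>
      have h : (secP f n U).symm (Φ f hU hV e n (b ⊗ₜ[Γ(S, V)] b')) = b • dn f n U b' := by
        apply (secP f n U).injective
        rw [AddEquiv.apply_symm_apply, secP_smul, secP_dn, Φ_tmul, Scheme.Hom.app_eq_appLE]
      rw [h]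
      exact Submodule.smul_mem _ _ (Submodule.subset_span ⟨b', rfl⟩)
    | add z w hz hw => rw [map_add, map_add]; exact add_mem hz hw
  rw [eq_top_iff]
  intro x _
  obtain ⟨z, hz⟩ := Φ_surjective f hU hV e n (secP f n U x)
  have := key z
  rwa [hz, AddEquiv.symm_apply_apply] at this

end Gen

section Epi
variable {X S : Scheme.{u}} (f : X ⟶ S) (n : ℕ)

instance isQuasicoherent_P : (P f n).IsQuasicoherent := by
  haveI : (Coh.structureModule X).IsQuasicoherent :=
    Groth.Agent.Lib.helper16.FLF.isQuasicoherent_of_isFinLocFree _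
      (Groth.Agent.Lib.helper16.FLF.isFinLocFree_structureModule X)
  exact isQuasicoherent_PMod f n (Coh.structureModule X)

/-- a morphism into `P^n_{X/S}` whose image on sections over a cover by affine charts contains all the
`d^n b` is an epimorphism -/
theorem epi_of_range_dn {M : X.Modules} (φ : M ⟶ P f n) {ι : Type*} (W : ι → X.Opens)
    (hW : ∀ i, IsAffineOpen (W i)) (hWV : ∀ i, ∃ V : S.Opens, IsAffineOpen V ∧ W i ≤ f ⁻¹ᵁ V)
    (hcov : ∀ x : X, ∃ i, x ∈ W i)
    (h : ∀ (i : ι) (b : Γ(X, W i)), ∃ m : Γ(M, W i), φ.app (W i) m = dn f n (W i) b) : Epi φ := by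
  refine Groth.Agent.Lib.helper16.QCohEpi.epi_of_surjective_on_affine_cover φ W hW hcov (fun i => ?_)
  obtain ⟨V, hV, e⟩ := hWV i
  intro y
  have hy : y ∈ Submodule.span Γ(X, W i) (Set.range (dn f n (W i))) := by
    rw [span_dn_eq_top f n (hW i) hV e]; trivial
  induction hy using Submodule.span_induction with
  | mem x hx =>
    obtain ⟨b, rfl⟩ := hx
    exact h i b
  | zero => exact ⟨0, map_zero _⟩
  | add x y _ _ hx hy =>
    obtain ⟨a, ha⟩ := hx
    obtain ⟨b, hb⟩ := hy
    exact ⟨a + b, by rw [map_add, ha, hb]⟩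
  | smul r x _ hx =>
    obtain ⟨a, ha⟩ := hx
    refine ⟨r • a, ?_⟩
    have := Scheme.Modules.Hom.app_smul φ r a
    rw [ha] at this
    exact this

end Epi

end Groth.Agent.Lib.helper21.PrinPart
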