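import Groth.Agent.Lib.Helper21.DiffOpShAlg
import Groth.Agent.Lib.Helper21.AffHom1
import Groth.Agent.Lib.Helper21.PrinPart7
import Groth.Agent.Lib.Helper8.PullbackUnit

/-!
# Ring-level differential operators on an affine scheme come from sheaf-level ones (helper21, S9715)
-/

set_option autoImplicit false
set_option linter.style.haveILetI false
universe u
open CategoryTheory CategoryTheory.Limits AlgebraicGeometry TopologicalSpace Opposite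

namespace Groth.Agent.Lib.helper21.DiffOpSh

open _root_.PrinPart Scheme.Modules TensorProduct
open Groth.Agent.Lib.helper8.PullbackUnit Groth.Agent.Lib.helper21.PrinPart

section Main
variable {X S : Scheme.{u}} [IsAffine X] [IsAffine S] (f : X ⟶ S)
  (F G : X.Modules) [F.IsQuasicoherent] (k : ℕ)

theorem exists_diffOp (e : (⊤ : X.Opens) ≤ f ⁻¹ᵁ ⊤) (φ₀ : Γ(S, ⊤) →+* Γ(X, ⊤))
    (hφ₀ : φ₀ = (f.appLE ⊤ ⊤ e).hom) :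
    letI : Algebra Γ(S, ⊤) Γ(X, ⊤) := φ₀.toAlgebra
    letI : Module Γ(S, ⊤) Γ(F, ⊤) := Module.compHom Γ(F, ⊤) φ₀
    letI : Module Γ(S, ⊤) Γ(G, ⊤) := Module.compHom Γ(G, ⊤) φ₀
    haveI : IsScalarTower Γ(S, ⊤) Γ(X, ⊤) Γ(F, ⊤) := IsScalarTower.of_algebraMap_smul fun _ _ => rfl
    haveI : IsScalarTower Γ(S, ⊤) Γ(X, ⊤) Γ(G, ⊤) := IsScalarTower.of_algebraMap_smul fun _ _ => rfl
    ∀ D' : Γ(F, ⊤) →ₗ[Γ(S, ⊤)] Γ(G, ⊤), Diff16.IsDiffOpLE Γ(S, ⊤) Γ(X, ⊤) Γ(F, ⊤) Γ(G, ⊤) k D' →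
      ∃ D : F.presheaf ⟶ G.presheaf, PrinPart.IsDiffOpLE f F G k D ∧
        ∀ m : Γ(F, ⊤), (D.app (op ⊤)).hom m = D' m := by
  subst hφ₀
  letI : Algebra Γ(S, ⊤) Γ(X, ⊤) := (f.appLE ⊤ ⊤ e).hom.toAlgebra
  letI : Module Γ(S, ⊤) Γ(F, ⊤) := Module.compHom Γ(F, ⊤) (f.appLE ⊤ ⊤ e).hom
  letI : Module Γ(S, ⊤) Γ(G, ⊤) := Module.compHom Γ(G, ⊤) (f.appLE ⊤ ⊤ e).hom
  haveI : IsScalarTower Γ(S, ⊤) Γ(X, ⊤) Γ(F, ⊤) := IsScalarTower.of_algebraMap_smul fun _ _ => rfl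
  haveI : IsScalarTower Γ(S, ⊤) Γ(X, ⊤) Γ(G, ⊤) := IsScalarTower.of_algebraMap_smul fun _ _ => rfl
  intro D' hD'
  have hU := isAffineOpen_top X
  have hV := isAffineOpen_top S
  have hW : IsAffineOpen (pr1 f k ⁻¹ᵁ ⊤) := isAffineOpen_pr1_preimage f k hU hV e
  have e₂ : pr1 f k ⁻¹ᵁ ⊤ ≤ pr2 f k ⁻¹ᵁ ⊤ := (preimage_pr1 f k ⊤).le
  have hd : IsBC ((pr2 f k).appLE ⊤ (pr1 f k ⁻¹ᵁ ⊤) e₂).hom (ρ (pr2 f k) e₂ F) :=
    isBC_ρ (pr2 f k) hU hW e₂ F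
  obtain ⟨u₀, hu₀1, hu₀2⟩ := exists_lin
    ((pr1 f k).appLE ⊤ (pr1 f k ⁻¹ᵁ ⊤) le_rfl).hom
    ((pr2 f k).appLE ⊤ (pr1 f k ⁻¹ᵁ ⊤) e₂).hom
    (Φ f hU hV e k) (Φ_surjective f hU hV e k) (Φ_tmul f hU hV e k) k (ker_Φ f hU hV e k)
    D' hD' (ρ (pr2 f k) e₂ F) hd
  haveI := isQuasicoherent_PMod f k F
  let u₀L : Γ(PMod f k F, ⊤) →ₗ[Γ(X, ⊤)] Γ(G, ⊤) :=
    { toFun := u₀
      map_add' := map_add u₀
      map_smul' := fun a y => by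
        have := hu₀1 a y
        rw [← Scheme.Hom.app_eq_appLE] at this
        exact this }
  obtain ⟨u, hu⟩ := Groth.Agent.Lib.helper21.AffHom.exists_hom_of_linearMap (PMod f k F) G u₀L
  refine ⟨dPHom f k F ≫ Scheme.Modules.Hom.mapPresheaf u, ⟨u, fun U t => rfl⟩, fun m => ?_⟩
  change (u.app ⊤).hom (dP f k F ⊤ m) = D' m
  rw [hu]
  exact hu₀2 m

end Main

end Groth.Agent.Lib.helper21.DiffOpSh
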