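import Groth.Agent.Lib.Helper28.IsBCExtra

/-!
# Base change squares in universal-property form (helper21)

* `IsBC.cancel_left`: if `k` and `k' ∘ k` are base changes (along `φ`, `φ' ∘ φ`) and `k'` is `φ'`-semilinear,
  then `k'` is a base change along `φ'`.
* `isBC_of_square`, `span_of_square`: for a commutative square of semilinear maps
  `N → M` (base change along `B → A`), `N' → M'` (base change along `B' → A'`), `h : N → N'`, `k : M → M'`:
  if `h` is a base change along `B → B'` then `k` is one along `A → A'`; if `h N` spans `N'` then `k M` spans `M'`.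
* `IsBC.span_range`, `surjective_of_span`.
-/

set_option autoImplicit false
set_option linter.style.haveILetI false
universe u

namespace Groth.Agent.Lib.helper21.GrBCAlg

open Groth.Agent.Lib.helper8.PullbackUnit Groth.Agent.Lib.helper28.IsBCExtra

section Cancel
variable {R R' R'' : Type u} [CommRing R] [CommRing R'] [CommRing R'']
  {φ : R →+* R'} {φ' : R' →+* R''} {N P Q : Type u}
  [AddCommGroup N] [Module R N] [AddCommGroup P] [Module R' P] [AddCommGroup Q] [Module R'' Q]
  {k : N →+ P} {k' : P →+ Q}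

theorem IsBC.span_range (hk : IsBC φ k) : Submodule.span R' (Set.range k) = ⊤ := by
  set S := Submodule.span R' (Set.range k) with hS
  obtain ⟨h', -, hu⟩ := hk.existsUnique_lift (P ⧸ S) 0 (by intro r n; simp)
  have h1 : S.mkQ = h' := hu S.mkQ (fun n => by
    rw [Submodule.mkQ_apply, AddMonoidHom.zero_apply, Submodule.Quotient.mk_eq_zero]
    exact Submodule.subset_span ⟨n, rfl⟩)
  have h2 : (0 : P →ₗ[R'] P ⧸ S) = h' := hu 0 (fun n => rfl)
  have h3 : S.mkQ = 0 := h1.trans h2.symm
  rw [← Submodule.ker_mkQ S, h3, LinearMap.ker_zero]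

theorem IsBC.cancel_left (hk : IsBC φ k) (hk' : ∀ (r : R') (p : P), k' (r • p) = φ' r • k' p)
    (hkk : IsBC (φ'.comp φ) (k'.comp k)) : IsBC φ' k' := by
  refine ⟨hk', ?_⟩
  intro T _ _ ℓ hℓ
  obtain ⟨ℓ', hℓ', hu⟩ := hkk.existsUnique_lift T (ℓ.comp k) (by
    intro r n
    change ℓ (k (r • n)) = φ' (φ r) • ℓ (k n)
    rw [hk.map_smul, hℓ])
  letI : Module R' T := Module.compHom T φ'
  have key : ∀ p, ℓ' (k' p) = ℓ p := by
    let ℓ₁ : P →ₗ[R'] T :=
      { toFun := fun p => ℓ' (k' p)
        map_add' := fun a b => by rw [map_add, map_add]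
        map_smul' := fun r p => by
          rw [hk', _root_.map_smul]
          rfl }
    let ℓ₂ : P →ₗ[R'] T :=
      { toFun := fun p => ℓ p
        map_add' := fun a b => map_add ℓ a b
        map_smul' := fun r p => by
          rw [hℓ]
          rfl }
    obtain ⟨z, -, hz⟩ := hk.existsUnique_lift T (ℓ.comp k) (by
      intro r n
      change ℓ (k (r • n)) = φ r • ℓ (k n)
      rw [hk.map_smul, hℓ]
      rfl)
    have e1 : ℓ₁ = z := hz ℓ₁ (fun n => hℓ' n)
    have e2 : ℓ₂ = z := hz ℓ₂ (fun n => rfl)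
    intro p
    exact congr($(e1.trans e2.symm) p)
  refine ⟨ℓ', key, fun ℓ'' hℓ'' => hu ℓ'' (fun n => ?_)⟩
  change ℓ'' (k' (k n)) = ℓ (k n)
  exact hℓ'' (k n)

end Cancel

section Square
variable {B B' A A' : Type u} [CommRing B] [CommRing B'] [CommRing A] [CommRing A']
  {ψ : B →+* B'} {π : B →+* A} {π' : B' →+* A'} {α : A →+* A'}
  {N N' M M' : Type u} [AddCommGroup N] [Module B N] [AddCommGroup N'] [Module B' N']
  [AddCommGroup M] [Module A M] [AddCommGroup M'] [Module A' M']
  {h : N →+ N'} {q : N →+ M} {q' : N' →+ M'} {k : M →+ M'}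

theorem isBC_of_square (hsq : α.comp π = π'.comp ψ) (hq : IsBC π q) (hq' : IsBC π' q')
    (hk : ∀ (a : A) (m : M), k (a • m) = α a • k m) (hcomm : ∀ n, k (q n) = q' (h n))
    (hh : IsBC ψ h) : IsBC α k := by
  refine IsBC.cancel_left hq hk ?_
  have h1 : IsBC (π'.comp ψ) (q'.comp h) := IsBC.trans hh hq'
  rw [hsq]
  have e : k.comp q = q'.comp h := by
    ext n
    exact hcomm n
  rw [e]
  exact h1

theorem span_of_square (hq' : IsBC π' q')
    (hcomm : ∀ n, k (q n) = q' (h n))
    (hh : Submodule.span B' (Set.range h) = ⊤) : Submodule.span A' (Set.range k) = ⊤ := by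
  rw [eq_top_iff, ← IsBC.span_range hq', Submodule.span_le]
  rintro _ ⟨n', rfl⟩
  have hn' : n' ∈ Submodule.span B' (Set.range h) := by rw [hh]; trivial
  induction hn' using Submodule.span_induction with
  | mem x hx =>
    obtain ⟨n, rfl⟩ := hx
    rw [← hcomm]
    exact Submodule.subset_span ⟨q n, rfl⟩
  | zero => rw [map_zero]; exact Submodule.zero_mem _
  | add x y _ _ hx hy => rw [map_add]; exact Submodule.add_mem _ hx hy
  | smul b x _ hx => rw [hq'.map_smul]; exact Submodule.smul_mem _ _ hx

end Square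

section Surj
variable {R' : Type u} [CommRing R'] {P Q : Type u} [AddCommGroup P] [AddCommGroup Q]
  [Module R' P] [Module R' Q]

theorem surjective_of_span (w : P →ₗ[R'] Q) {S : Set Q} (hS : Submodule.span R' S = ⊤)
    (hw : ∀ s ∈ S, s ∈ LinearMap.range w) : Function.Surjective w := by
  rw [← LinearMap.range_eq_top, eq_top_iff, ← hS, Submodule.span_le]
  exact hw

end Surj

end Groth.Agent.Lib.helper21.GrBCAlg
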