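import Groth.Agent.LibDiff29i
import Groth.Agent.Lib.Helper21.GrBCAlg1

/-!
# From ring-level differential operators to linear maps out of principal parts (helper21, S9715)

`Φ : A ⊗[R] A →+* P` surjective with kernel `I ^ (k + 1)`, `Φ (b ⊗ c) = p₁ b * p₂ c`; `d : M → MP` a base change
along `p₂`. A differential operator `D' : M → N` of order `≤ k` factors as `u₀ ∘ d` with `u₀ : MP → N` linear over `A`
through `p₁` (`exists_lin`).
-/

set_option autoImplicit false
set_option linter.style.haveILetI false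
set_option linter.unusedSectionVars false
universe u
open TensorProduct

namespace Groth.Agent.Lib.helper21.DiffOpSh

open Diff16 Groth.Agent.LibDiff29 Groth.Agent.Lib.helper8.PullbackUnit

section TT
variable {A P : Type u} [CommRing A] [CommRing P] (p₁ : A →+* P)
  (N : Type u) [AddCommGroup N] [Module A N]

/-- additive maps `P → N` which are `A`-linear (`P` an `A`-module through `p₁`) -/
def linSub : AddSubgroup (P →+ N) where
  carrier := {φ | ∀ (a : A) (x : P), φ (p₁ a * x) = a • φ x}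
  zero_mem' := fun a x => by simp
  add_mem' := fun {φ ψ} hφ hψ a x => by
    rw [AddMonoidHom.add_apply, AddMonoidHom.add_apply, hφ, hψ, smul_add]
  neg_mem' := fun {φ} hφ a x => by
    rw [AddMonoidHom.neg_apply, AddMonoidHom.neg_apply, hφ, smul_neg]

/-- `A`-linear maps `P → N` -/
abbrev TT : Type u := ↥(linSub p₁ N)

variable {p₁ N}

/-- evaluation -/
def TT.ev (φ : TT p₁ N) (x : P) : N := φ.1 x

theorem TT.ext {φ ψ : TT p₁ N} (h : ∀ x, φ.ev x = ψ.ev x) : φ = ψ :=
  Subtype.ext (AddMonoidHom.ext h)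

theorem TT.ev_add (φ ψ : TT p₁ N) (x : P) : (φ + ψ).ev x = φ.ev x + ψ.ev x := rfl

theorem TT.ev_zero (x : P) : (0 : TT p₁ N).ev x = 0 := rfl

theorem TT.ev_map_add (φ : TT p₁ N) (x y : P) : φ.ev (x + y) = φ.ev x + φ.ev y :=
  map_add φ.1 x y

theorem TT.ev_map_zero (φ : TT p₁ N) : φ.ev 0 = 0 := map_zero φ.1

theorem TT.ev_map_smul (φ : TT p₁ N) (a : A) (x : P) : φ.ev (p₁ a * x) = a • φ.ev x :=
  φ.2 a x

/-- constructor -/
def TT.mk' (φ : P → N) (h0 : φ 0 = 0) (h1 : ∀ x y, φ (x + y) = φ x + φ y)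
    (h2 : ∀ (a : A) x, φ (p₁ a * x) = a • φ x) : TT p₁ N :=
  ⟨{ toFun := φ, map_zero' := h0, map_add' := h1 }, h2⟩

@[simp] theorem TT.ev_mk' (φ : P → N) (h0 h1 h2) (x : P) :
    (TT.mk' (p₁ := p₁) φ h0 h1 h2).ev x = φ x := rfl

noncomputable instance : Module P (TT p₁ N) where
  smul c φ := TT.mk' (fun x => φ.ev (c * x))
    (by rw [mul_zero, TT.ev_map_zero])
    (fun x y => by rw [mul_add, TT.ev_map_add])
    (fun a x => by rw [mul_left_comm, TT.ev_map_smul])
  one_smul φ := TT.ext fun x => by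
    change φ.ev (1 * x) = φ.ev x
    rw [one_mul]
  mul_smul c c' φ := TT.ext fun x => by
    change φ.ev (c * c' * x) = φ.ev (c' * (c * x))
    congr 1; ring
  smul_zero c := TT.ext fun x => rfl
  smul_add c φ ψ := TT.ext fun x => rfl
  add_smul c c' φ := TT.ext fun x => by
    change φ.ev ((c + c') * x) = φ.ev (c * x) + φ.ev (c' * x)
    rw [add_mul, TT.ev_map_add]
  zero_smul φ := TT.ext fun x => by
    change φ.ev (0 * x) = 0
    rw [zero_mul, TT.ev_map_zero]

theorem TT.ev_smul (c : P) (φ : TT p₁ N) (x : P) : (c • φ).ev x = φ.ev (c * x) := rfl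

end TT

section Main
variable {R A P : Type u} [CommRing R] [CommRing A] [CommRing P] [Algebra R A]
  (p₁ p₂ : A →+* P) (Φ : A ⊗[R] A →+* P) (hΦs : Function.Surjective Φ)
  (hΦt : ∀ b c : A, Φ (b ⊗ₜ[R] c) = p₁ b * p₂ c) (k : ℕ)
  (hΦk : RingHom.ker Φ = KaehlerDifferential.ideal R A ^ (k + 1))
  {M N : Type u} [AddCommGroup M] [Module R M] [Module A M] [IsScalarTower R A M]
  [AddCommGroup N] [Module R N] [Module A N] [IsScalarTower R A N]
  (D' : M →ₗ[R] N) (hD' : IsDiffOpLE R A M N k D')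

/-- `(m, x) ↦ linearize (c ↦ D' (c • m)) x` -/
noncomputable def lin2 (m : M) (x : A ⊗[R] A) : N := linearize R A A N (Dm D' m) x

theorem lin2_tmul (m : M) (b c : A) : lin2 D' m (b ⊗ₜ[R] c) = b • D' (c • m) := by
  rw [lin2, linearize_tmul, Dm_apply]

theorem lin2_add_right (m : M) (x y : A ⊗[R] A) : lin2 D' m (x + y) = lin2 D' m x + lin2 D' m y :=
  map_add _ x y

theorem lin2_zero_right (m : M) : lin2 D' m (0 : A ⊗[R] A) = 0 := map_zero _

theorem lin2_add_left (m m' : M) (x : A ⊗[R] A) :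
    lin2 D' (m + m') x = lin2 D' m x + lin2 D' m' x := by
  induction x using TensorProduct.induction_on with
  | zero => rw [lin2_zero_right, lin2_zero_right, lin2_zero_right, add_zero]
  | tmul b c => rw [lin2_tmul, lin2_tmul, lin2_tmul, smul_add, map_add, smul_add]
  | add x y hx hy => rw [lin2_add_right, lin2_add_right, lin2_add_right, hx, hy]; abel

theorem lin2_zero_left (x : A ⊗[R] A) : lin2 D' (0 : M) x = 0 := by
  have := lin2_add_left D' (0 : M) 0 x
  rw [add_zero] at this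
  exact left_eq_add.mp this

theorem lin2_mul_left (m : M) (a : A) (x : A ⊗[R] A) :
    lin2 D' m ((a ⊗ₜ[R] (1 : A)) * x) = a • lin2 D' m x := by
  induction x using TensorProduct.induction_on with
  | zero => rw [mul_zero, lin2_zero_right, smul_zero]
  | tmul b c =>
    rw [Algebra.TensorProduct.tmul_mul_tmul, one_mul, lin2_tmul, lin2_tmul, mul_smul]
  | add x y hx hy => rw [mul_add, lin2_add_right, lin2_add_right, hx, hy, smul_add]

theorem lin2_mul_right (m : M) (a : A) (x : A ⊗[R] A) :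
    lin2 D' m (((1 : A) ⊗ₜ[R] a) * x) = lin2 D' (a • m) x := by
  induction x using TensorProduct.induction_on with
  | zero => rw [mul_zero, lin2_zero_right, lin2_zero_right]
  | tmul b c =>
    rw [Algebra.TensorProduct.tmul_mul_tmul, one_mul, lin2_tmul, lin2_tmul, mul_comm, mul_smul]
  | add x y hx hy => rw [mul_add, lin2_add_right, lin2_add_right, hx, hy]

include hD' hΦk in
theorem lin2_eq_of_Φ_eq (m : M) (x y : A ⊗[R] A) (h : Φ x = Φ y) : lin2 D' m x = lin2 D' m y := by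
  have h1 : x - y ∈ KaehlerDifferential.ideal R A ^ (k + 1) := by
    rw [← hΦk, RingHom.mem_ker, map_sub, h, sub_self]
  have h2 := linearize_eq_zero_of_isDiffOpLE k (Dm D' m) (Dm_order hD' m) _ h1
  have h3 : lin2 D' m (x - y) = 0 := h2
  have h4 : lin2 D' m x = lin2 D' m (x - y) + lin2 D' m y := by
    rw [← lin2_add_right, sub_add_cancel]
  rw [h4, h3, zero_add]

include hΦs hΦt hΦk hD' in
theorem exists_lin {MP : Type u} [AddCommGroup MP] [Module P MP] (d : M →+ MP) (hd : IsBC p₂ d) :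
    ∃ u₀ : MP →+ N, (∀ (a : A) (y : MP), u₀ (p₁ a • y) = a • u₀ y) ∧ ∀ m, u₀ (d m) = D' m := by
  -- the value on `Φ x`
  have hsurj := hΦs
  let ℓ : M → P → N := fun m p => lin2 D' m (Function.surjInv hΦs p)
  have hℓ : ∀ m x, ℓ m (Φ x) = lin2 D' m x := fun m x =>
    lin2_eq_of_Φ_eq Φ k hΦk D' hD' m _ _ (Function.surjInv_eq hΦs (Φ x))
  have hΦ1 : ∀ a : A, Φ (a ⊗ₜ[R] (1 : A)) = p₁ a := fun a => by rw [hΦt, map_one, mul_one]
  have hΦ2 : ∀ a : A, Φ ((1 : A) ⊗ₜ[R] a) = p₂ a := fun a => by rw [hΦt, map_one, one_mul]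
  let h : M → TT p₁ N := fun m => TT.mk' (ℓ m)
    (by rw [← map_zero Φ, hℓ, lin2_zero_right])
    (fun p q => by
      obtain ⟨x, rfl⟩ := hΦs p
      obtain ⟨y, rfl⟩ := hΦs q
      rw [← map_add, hℓ, hℓ, hℓ, lin2_add_right])
    (fun a p => by
      obtain ⟨x, rfl⟩ := hΦs p
      rw [← hΦ1, ← map_mul, hℓ, hℓ, lin2_mul_left])
  let hh : M →+ TT p₁ N :=
    { toFun := h
      map_zero' := TT.ext fun p => by
        obtain ⟨x, rfl⟩ := hΦs p
        change ℓ 0 (Φ x) = 0
        rw [hℓ, lin2_zero_left]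
      map_add' := fun m m' => TT.ext fun p => by
        obtain ⟨x, rfl⟩ := hΦs p
        change ℓ (m + m') (Φ x) = ℓ m (Φ x) + ℓ m' (Φ x)
        rw [hℓ, hℓ, hℓ, lin2_add_left] }
  have hhs : ∀ (a : A) (m : M), hh (a • m) = p₂ a • hh m := by
    intro a m
    refine TT.ext fun p => ?_
    obtain ⟨x, rfl⟩ := hΦs p
    change ℓ (a • m) (Φ x) = ℓ m (p₂ a * Φ x)
    rw [← hΦ2, ← map_mul, hℓ, hℓ, lin2_mul_right]
  obtain ⟨H, hH, -⟩ := hd.existsUnique_lift (TT p₁ N) hh hhs
  refine ⟨{ toFun := fun y => (H y).ev 1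
            map_zero' := by rw [map_zero]; rfl
            map_add' := fun y y' => by rw [map_add]; rfl }, ?_, ?_⟩
  · intro a y
    change (H (p₁ a • y)).ev 1 = a • (H y).ev 1
    rw [_root_.map_smul, TT.ev_smul, TT.ev_map_smul]
  · intro m
    change (H (d m)).ev 1 = D' m
    rw [hH]
    change ℓ m 1 = D' m
    rw [← map_one Φ, hℓ, Algebra.TensorProduct.one_def, lin2_tmul, one_smul, one_smul]

end Main

end Groth.Agent.Lib.helper21.DiffOpSh
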