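import Mathlib
import Groth.Agent.Lib.Helper16.PushColim1
import Groth.Agent.Lib.Helper28.SheafModBasis
import Groth.Agent.S2249

/-!
# Sections over affine opens commute with colimits of quasi-coherent modules (helper21)

* `preservesColimit_Γ`: on `Spec R`, `moduleSpecΓFunctor` preserves colimits of diagrams of
  quasi-coherent modules; `isQuasicoherent_of_isColimit_Spec`: such colimits are quasi-coherent.
* `secAb U : X.Modules ⥤ Ab`, `preservesColimit_secAb`: for `U` affine open, `Γ(U, -)` preserves
  colimits of diagrams of quasi-coherent modules.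
* `isIso_of_isIso_secAb`: isomorphisms of modules are detected on affine opens.
* `preservesColimit_pushforward`: `f_*` for `f` affine preserves colimits of diagrams of
  quasi-coherent modules.
-/

set_option autoImplicit false
universe u
open CategoryTheory Limits AlgebraicGeometry Opposite

namespace Groth.Agent.Lib.helper21.QCohColim

section affine

variable {R : CommRingCat.{u}} {J : Type*} [Category J]

/-- `Γ` preserves colimits of diagrams in the image of `tilde` -/
lemma preservesColimit_Γ_tilde (E : J ⥤ ModuleCat.{u} R) [HasColimit E] :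
    PreservesColimit (E ⋙ tilde.functor R) (moduleSpecΓFunctor (R := R)) := by
  have hc := colimit.isColimit E
  have h1 : IsColimit ((tilde.functor R).mapCocone (colimit.cocone E)) := isColimitOfPreserves _ hc
  apply preservesColimit_of_preserves_colimit_cocone h1
  have : PreservesColimit E (tilde.functor R ⋙ moduleSpecΓFunctor) :=
    preservesColimit_of_natIso E (tilde.toTildeΓNatIso (R := R))
  exact isColimitOfPreserves (tilde.functor R ⋙ moduleSpecΓFunctor) hc

/-- a diagram of quasi-coherent modules on `Spec R` is `tilde` of its global sections -/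
noncomputable def diagramIso (D : J ⥤ (Spec R).Modules) (hD : ∀ j, (D.obj j).IsQuasicoherent) :
    (D ⋙ moduleSpecΓFunctor (R := R)) ⋙ tilde.functor R ≅ D :=
  NatIso.ofComponents
    (fun j => @asIso _ _ _ _ ((tilde.adjunction (R := R)).counit.app (D.obj j))
      (haveI := hD j
       show IsIso (D.obj j).fromTildeΓ from inferInstance))
    (fun {i j} f => (tilde.adjunction (R := R)).counit.naturality (D.map f))

lemma preservesColimit_Γ (D : J ⥤ (Spec R).Modules) (hD : ∀ j, (D.obj j).IsQuasicoherent)
    [HasColimit (D ⋙ moduleSpecΓFunctor (R := R))] :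
    PreservesColimit D (moduleSpecΓFunctor (R := R)) := by
  have := preservesColimit_Γ_tilde (D ⋙ moduleSpecΓFunctor (R := R))
  exact preservesColimit_of_iso_diagram _ (diagramIso D hD)

lemma isQuasicoherent_of_isColimit_Spec (D : J ⥤ (Spec R).Modules)
    (hD : ∀ j, (D.obj j).IsQuasicoherent)
    [HasColimit (D ⋙ moduleSpecΓFunctor (R := R))] {c : Cocone D} (hc : IsColimit c) :
    c.pt.IsQuasicoherent := by
  let E := D ⋙ moduleSpecΓFunctor (R := R)
  have h1 : IsColimit ((tilde.functor R).mapCocone (colimit.cocone E)) :=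
    isColimitOfPreserves _ (colimit.isColimit E)
  have h2 : IsColimit ((Cocone.precompose (diagramIso D hD).inv).obj
      ((tilde.functor R).mapCocone (colimit.cocone E))) :=
    (IsColimit.precomposeInvEquiv _ _).symm h1
  let e : c.pt ≅ (tilde.functor R).obj (colimit E) := hc.coconePointUniqueUpToIso h2
  exact (SheafOfModules.isQuasicoherent (Spec R).ringCatSheaf).prop_of_iso e.symm
    (show ((tilde.functor R).obj (colimit E)).IsQuasicoherent from inferInstance)

end affine

section loc

variable {X : Scheme.{u}}

/-- sections over `U`, as a functor to abelian groups -/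
noncomputable def secAb (U : X.Opens) : X.Modules ⥤ Ab.{u} :=
  Scheme.Modules.toPresheaf X ⋙ (evaluation _ _).obj (op U)

lemma secAb_obj (U : X.Opens) (M : X.Modules) : (secAb U).obj M = Γ(M, U) := rfl

lemma secAb_map (U : X.Opens) {M N : X.Modules} (φ : M ⟶ N) : (secAb U).map φ = φ.app U := rfl

/-- global sections on `Spec R` -/
noncomputable def ΓSpecSecAbIso (R : CommRingCat.{u}) :
    moduleSpecΓFunctor (R := R) ⋙ forget₂ (ModuleCat.{u} R) Ab.{u} ≅ secAb (X := Spec R) ⊤ :=
  NatIso.ofComponents (fun M => Iso.refl _) (by intro M N φ; rfl)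

/-- sections of a restriction -/
noncomputable def restrictSecAbIso {Y : Scheme.{u}} (f : Y ⟶ X) [IsOpenImmersion f] (V : Y.Opens) :
    Scheme.Modules.restrictFunctor f ⋙ secAb V ≅ secAb (f ''ᵁ V) :=
  NatIso.ofComponents (fun M => Iso.refl _) (by intro M N φ; rfl)


/-- `Γ(U, -)` preserves colimits of quasi-coherent modules for `U` affine -/
lemma preservesColimit_secAb {J : Type u} [Category.{u} J] {U : X.Opens} (hU : IsAffineOpen U)
    (D : J ⥤ X.Modules) (hD : ∀ j, (D.obj j).IsQuasicoherent) :
    PreservesColimit D (secAb U) := by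
  have hU' : hU.fromSpec ''ᵁ ⊤ = U :=
    (Scheme.Hom.image_top_eq_opensRange _).trans hU.opensRange_fromSpec
  let e : Scheme.Modules.restrictFunctor hU.fromSpec ⋙
      (moduleSpecΓFunctor (R := Γ(X, U)) ⋙ forget₂ (ModuleCat.{u} Γ(X, U)) Ab.{u}) ≅ secAb U :=
    Functor.isoWhiskerLeft _ (ΓSpecSecAbIso Γ(X, U)) ≪≫ restrictSecAbIso hU.fromSpec ⊤ ≪≫
      eqToIso (by rw [hU'])
  have h1 : PreservesColimit D (Scheme.Modules.restrictFunctor hU.fromSpec) := inferInstance
  have h2 : PreservesColimit (D ⋙ Scheme.Modules.restrictFunctor hU.fromSpec)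
      (moduleSpecΓFunctor (R := Γ(X, U))) :=
    preservesColimit_Γ _ (fun j => by
      haveI := hD j
      exact Scheme.Modules.isQuasicoherent_restrictFunctor hU.fromSpec (D.obj j))
  have h3 : PreservesColimit (D ⋙ Scheme.Modules.restrictFunctor hU.fromSpec)
      (moduleSpecΓFunctor (R := Γ(X, U)) ⋙ forget₂ (ModuleCat.{u} Γ(X, U)) Ab.{u}) :=
    comp_preservesColimit _ _
  have h4 : PreservesColimit D (Scheme.Modules.restrictFunctor hU.fromSpec ⋙
      (moduleSpecΓFunctor (R := Γ(X, U)) ⋙ forget₂ (ModuleCat.{u} Γ(X, U)) Ab.{u})) :=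
    comp_preservesColimit _ _
  exact preservesColimit_of_natIso D e

end loc


section push

variable {X S : Scheme.{u}}

/-- isomorphisms of modules are detected on sections over affine opens -/
lemma isIso_of_isIso_secAb {A B : S.Modules} (φ : A ⟶ B)
    (h : ∀ V : S.affineOpens, IsIso ((secAb V.1).map φ)) : IsIso φ := by
  have hb : ∀ V ∈ S.affineOpens, Function.Bijective (φ.val.app (op V)) := by
    intro V hV
    have h1 := h ⟨V, hV⟩
    exact (ConcreteCategory.isIso_iff_bijective ((secAb V).map φ)).mp h1
  have h1 : Mono φ := Groth.Agent.Lib.helper28.SheafModBasis.mono_of_injective_on_basis φ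
    S.affineOpens S.isBasis_affineOpens (fun V hV => (hb V hV).1)
  have h2 : Epi φ := Groth.Agent.Lib.helper28.SheafModBasis.epi_of_surjective_on_basis φ
    S.affineOpens S.isBasis_affineOpens (fun V hV => (hb V hV).2)
  exact isIso_of_mono_of_epi φ

/-- sections of a pushforward -/
noncomputable def pushforwardSecAbIso (f : X ⟶ S) (V : S.Opens) :
    Scheme.Modules.pushforward f ⋙ secAb V ≅ secAb (f ⁻¹ᵁ V) :=
  NatIso.ofComponents (fun M => Iso.refl _) (by intro M N φ; rfl)

/-- the direct image along an affine morphism preserves colimits of quasi-coherent modules -/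
theorem preservesColimit_pushforward (f : X ⟶ S) [IsAffineHom f] {J : Type u} [Category.{u} J]
    (D : J ⥤ X.Modules) (hD : ∀ j, (D.obj j).IsQuasicoherent) :
    PreservesColimit D (Scheme.Modules.pushforward f) := by
  refine Groth.Agent.Lib.helper16.PushColim.preservesColimit_of_jointly
    (Scheme.Modules.pushforward f) (fun V : S.affineOpens => secAb V.1) D ?_ ?_ ?_
  · intro V
    refine preservesColimit_secAb V.2 _ (fun j => ?_)
    haveI : Coh.IsQCoh (D.obj j) := hD j
    exact Groth.Agent.S2249.result f (D.obj j)
  · intro V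
    have := preservesColimit_secAb (V.2.preimage f) D hD
    exact preservesColimit_of_natIso D (pushforwardSecAbIso f V.1).symm
  · intro A B φ h
    exact isIso_of_isIso_secAb φ h

end push

end Groth.Agent.Lib.helper21.QCohColim
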