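import Mathlib
import Groth.Prelude.Def_RelSpec2
import Groth.Agent.Lib.Helper21.QCohColim
import Groth.Agent.Lib.Helper21.QCAlgMod1

/-!
# The direct image `AMod.dirImg f` along an affine morphism preserves colimits of quasi-coherent
modules (helper21)
-/

set_option autoImplicit false
universe u
open CategoryTheory Limits AlgebraicGeometry Opposite

namespace Groth.Agent.Lib.helper21.DirImgColim

open Groth.Agent.Lib.helper21.QCohColim Groth.Agent.Lib.helper21.QCAlgMod

section general

variable {C : Type u} [SmallCategory C] {J : GrothendieckTopology C}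
  {R S : Sheaf J RingCat.{u}} (α : R ⟶ S)

instance reflectsIsomorphisms_restrictScalars :
    (SheafOfModules.restrictScalars.{u} α).ReflectsIsomorphisms := by
  have h : (SheafOfModules.restrictScalars.{u} α ⋙ SheafOfModules.toSheaf.{u} R).ReflectsIsomorphisms :=
    ⟨fun {A B} φ hφ => by
      have h1 : IsIso ((SheafOfModules.toSheaf.{u} S).map φ) := by
        have e := (restrictScalarsToSheafIso α).hom.naturality φ
        have h2 : (SheafOfModules.toSheaf.{u} S).map φ =
            (restrictScalarsToSheafIso α).inv.app A ≫
              (SheafOfModules.restrictScalars.{u} α ⋙ SheafOfModules.toSheaf.{u} R).map φ ≫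
                (restrictScalarsToSheafIso α).hom.app B := by
          rw [e, ← Category.assoc, Iso.inv_hom_id_app, Category.id_comp]
        rw [h2]
        infer_instance
      exact isIso_of_reflects_iso φ (SheafOfModules.toSheaf.{u} S)⟩
  exact reflectsIsomorphisms_of_comp _ (SheafOfModules.toSheaf.{u} R)

theorem reflectsColimits_restrictScalars :
    ReflectsColimitsOfSize.{u, u} (SheafOfModules.restrictScalars.{u} α) := by
  haveI := preservesColimits_restrictScalars α
  exact ⟨fun {J} _ => reflectsColimitsOfShape_of_reflectsIsomorphisms⟩

end general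

variable {X S : Scheme.{u}}

theorem preservesColimit_dirImg (f : X ⟶ S) [IsAffineHom f] {J : Type u} [Category.{u} J]
    (D : J ⥤ X.Modules) (hD : ∀ j, (D.obj j).IsQuasicoherent) :
    PreservesColimit D (AMod.dirImg f) := by
  have h1 : PreservesColimit D (AMod.dirImg f ⋙ AMod.toOS (RelSpec.QCAlg.directImage f)) := by
    rw [AMod.toOS_dirImg]
    exact preservesColimit_pushforward f D hD
  have h2 : ReflectsColimit (D ⋙ AMod.dirImg f) (AMod.toOS (RelSpec.QCAlg.directImage f)) :=
    (reflectsColimits_restrictScalars
      (AMod.strHom (RelSpec.QCAlg.directImage f))).reflectsColimitsOfShape.reflectsColimit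
  exact preservesColimit_of_reflects_of_preserves (AMod.dirImg f)
    (AMod.toOS (RelSpec.QCAlg.directImage f))

end Groth.Agent.Lib.helper21.DirImgColim
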