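import Mathlib

set_option autoImplicit false
universe u v₁ u₁
open CategoryTheory Limits Opposite

namespace Groth.Agent.Lib.helper21.FreeSpan

section cofan

variable {A : Type u} [Ring A] {I : Type*}

/-- the point of a colimit cofan of modules is spanned by the images of the injections -/
lemma iSup_range_cofan (M : I → ModuleCat.{u} A) (c : Cofan M) (hc : IsColimit c) :
    ⨆ i, LinearMap.range (c.inj i).hom = ⊤ := by
  set E : Submodule A c.pt := ⨆ i, LinearMap.range (c.inj i).hom with hE
  have h0 : ModuleCat.ofHom E.mkQ = (0 : c.pt ⟶ ModuleCat.of A (c.pt ⧸ E)) := by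
    refine Cofan.IsColimit.hom_ext hc _ _ (fun i => ?_)
    rw [comp_zero]
    ext x
    have hx : (c.inj i).hom x ∈ E :=
      (le_iSup (fun i => LinearMap.range (c.inj i).hom) i) ⟨x, rfl⟩
    exact (Submodule.Quotient.mk_eq_zero E).mpr hx
  rw [eq_top_iff]
  intro x _
  have h1 : E.mkQ x = 0 := congrArg (fun φ => φ.hom x) h0
  exact (Submodule.Quotient.mk_eq_zero E).mp h1

end cofan

section free

variable {C : Type u₁} [Category.{v₁} C] {J : GrothendieckTopology C} {R : Sheaf J RingCat.{u}}
  [HasWeakSheafify J AddCommGrpCat.{u}] [J.WEqualsLocallyBijective AddCommGrpCat.{u}]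

instance (X : Cᵒᵖ) : (SheafOfModules.evaluation.{u} R X).Additive :=
  inferInstanceAs (SheafOfModules.forget.{u} R ⋙ PresheafOfModules.evaluation _ X).Additive

/-- the value of a free module on finitely many generators is spanned by the free sections -/
theorem span_freeSection (I : Type u) [Finite I] (X : Cᵒᵖ) :
    Submodule.span (R.obj.obj X)
      (Set.range fun i : I =>
        PresheafOfModules.sections.eval (SheafOfModules.freeSection (R := R) i) X) = ⊤ := by
  classical
  haveI := Fintype.ofFinite I
  have hp : PreservesColimitsOfShape (Discrete I) (SheafOfModules.evaluation.{u} R X) := by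
    haveI : PreservesBiproductsOfShape I (SheafOfModules.evaluation.{u} R X) :=
      preservesBiproductsOfShape_of_preservesProductsOfShape _
    exact preservesCoproductsOfShape_of_preservesBiproductsOfShape _
  have hc := isColimitCofanMkObjOfIsColimit (SheafOfModules.evaluation.{u} R X)
    (fun _ : I => SheafOfModules.unit R) (fun i => SheafOfModules.ιFree (R := R) i)
    (SheafOfModules.isColimitFreeCofan (R := R) I)
  have h1 := iSup_range_cofan _ _ hc
  rw [eq_top_iff]
  refine le_trans (le_of_eq h1.symm) (iSup_le (fun i => ?_))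
  rintro _ ⟨r, rfl⟩
  let φ : (R.obj.obj X) →ₗ[R.obj.obj X] (SheafOfModules.free (R := R) I).val.obj X :=
    ((SheafOfModules.evaluation.{u} R X).map (SheafOfModules.ιFree (R := R) i)).hom
  have h3 : φ (1 : R.obj.obj X) =
      PresheafOfModules.sections.eval (SheafOfModules.freeSection (R := R) i) X := rfl
  let r' : R.obj.obj X := r
  have h4 : φ r' = r' • φ 1 := by
    rw [← φ.map_smul, smul_eq_mul, mul_one]
  show φ r' ∈ _
  rw [h4, h3]
  exact Submodule.smul_mem _ _ (Submodule.subset_span ⟨i, rfl⟩)

end free

end Groth.Agent.Lib.helper21.FreeSpan
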