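import Groth.Agent.Lib.Helper21.QCAlgMod3
import Groth.Agent.Lib.Helper21.FreeSpan
import Groth.Agent.Lib.Helper16.QCohEpi

/-!
# Finite generation of modules over a quasi-coherent sheaf of algebras on an affine open (helper21)
-/

set_option autoImplicit false
universe u
open CategoryTheory CategoryTheory.Limits AlgebraicGeometry TopologicalSpace Opposite

namespace Groth.Agent.Lib.helper21.QCAlgMod

open Scheme.Modules

section terminal

variable {D : Type*} [Category D] {R₀ : Dᵒᵖ ⥤ RingCat.{u}}

/-- a section of a presheaf of modules from its value at a terminal object -/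
noncomputable def sectionsOfTerminal (M : PresheafOfModules.{u} R₀) {T : D} (hT : IsTerminal T)
    (m : M.obj (op T)) : M.sections :=
  PresheafOfModules.sectionsMk (fun Y => M.map (hT.from Y.unop).op m) (by
    intro Y Z g
    have e : (hT.from Y.unop).op ≫ g = (hT.from Z.unop).op :=
      Quiver.Hom.unop_inj (hT.hom_ext _ _)
    show (M.presheaf.map g).hom ((M.presheaf.map (hT.from Y.unop).op).hom m) =
      (M.presheaf.map (hT.from Z.unop).op).hom m
    rw [← e, M.presheaf.map_comp]
    rfl)

lemma sectionsOfTerminal_eval (M : PresheafOfModules.{u} R₀) {T : D} (hT : IsTerminal T)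
    (m : M.obj (op T)) : (sectionsOfTerminal M hT m).eval (op T) = m := by
  show (M.presheaf.map (hT.from T).op).hom m = m
  have : hT.from T = 𝟙 T := hT.hom_ext _ _
  rw [this, op_id, M.presheaf.map_id]
  rfl

end terminal

variable {X : Scheme.{u}} {S : Sheaf (Opens.grothendieckTopology X) RingCat.{u}}
  (α : X.ringCatSheaf ⟶ S) (W : X.Opens)

/-- the object of `Over W` corresponding to the whole of `W` -/
noncomputable abbrev topObj : Over W := (Opens.overEquivalence W).inverse.obj ⊤

/-- `topObj W` is terminal -/
noncomputable def isTerminalTopObj : IsTerminal (topObj W) :=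
  IsTerminal.ofIso Over.mkIdTerminal ((Opens.overEquivalence W).unitIso.app (Over.mk (𝟙 W)) ≪≫
    (Opens.overEquivalence W).inverse.mapIso (eqToIso (by
      ext x
      simp)))


section span

variable {α W}
variable (hS : ((SheafOfModules.restrictScalars.{u} α).obj (SheafOfModules.unit S)).IsQuasicoherent)
  (hW : IsAffineOpen W) (N : SheafOfModules.{u} (S.over W))
  (hN : ((Φ α W).obj N).IsQuasicoherent)

/-- the value at `topObj W` of a morphism, as a linear map -/
noncomputable abbrev topLin {M N : SheafOfModules.{u} (S.over W)} (p : M ⟶ N) :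
    M.val.obj (op (topObj W)) →ₗ[(S.over W).obj.obj (op (topObj W))] N.val.obj (op (topObj W)) :=
  (p.val.app (op (topObj W))).hom

include hW hN in
/-- sections spanning the value at `topObj W` generate -/
theorem epi_of_span {I : Type u} (s : I → N.sections)
    (h : Submodule.span ((S.over W).obj.obj (op (topObj W)))
      (Set.range fun i => PresheafOfModules.sections.eval (s i) (op (topObj W))) = ⊤) :
    Epi (N.freeHomEquiv.symm s) := by
  set p := N.freeHomEquiv.symm s with hp
  suffices h1 : Epi ((Φ α W).map p) from (Φ α W).epi_of_epi_map h1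
  haveI : IsAffine (W : Scheme.{u}) := hW
  haveI := hN
  have hsurj : Function.Surjective (topLin p) := by
    rw [← LinearMap.range_eq_top, eq_top_iff, ← h, Submodule.span_le]
    rintro _ ⟨i, rfl⟩
    refine ⟨PresheafOfModules.sections.eval (SheafOfModules.freeSection (R := S.over W) i)
      (op (topObj W)), ?_⟩
    have := SheafOfModules.sectionsMap_freeHomEquiv_symm_freeSection (M := N) s i
    exact congrArg (fun t => PresheafOfModules.sections.eval t (op (topObj W))) this
  refine Groth.Agent.Lib.helper16.QCohEpi.epi_of_surjective_on_affine_cover ((Φ α W).map p)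
    (fun _ : Unit => (⊤ : (W : Scheme.{u}).Opens)) (fun _ => isAffineOpen_top _)
    (fun _ => ⟨(), trivial⟩) (fun _ => ?_)
  intro y
  obtain ⟨x, hx⟩ := hsurj y
  exact ⟨x, hx⟩

include hS hW hN in
/-- finitely many generating sections span the value at `topObj W` -/
theorem span_of_epi {I : Type u} [Finite I] (p : SheafOfModules.free (R := S.over W) I ⟶ N)
    [Epi p] :
    Submodule.span ((S.over W).obj.obj (op (topObj W)))
      (Set.range fun i => PresheafOfModules.sections.eval (N.freeHomEquiv p i) (op (topObj W))) =
        ⊤ := by
  haveI : IsAffine (W : Scheme.{u}) := hW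
  haveI := hN
  haveI := isQuasicoherent_Φ_free α hS W I
  haveI : Epi ((Φ α W).map p) := inferInstance
  have h1 := Groth.Agent.Lib.helper16.QCohEpi.surjective_app_of_epi ((Φ α W).map p)
    (isAffineOpen_top (W : Scheme.{u}))
  have hsurj : Function.Surjective (topLin p) := by
    intro y
    obtain ⟨x, hx⟩ := h1 y
    exact ⟨x, hx⟩
  have h2 := Groth.Agent.Lib.helper21.FreeSpan.span_freeSection (R := S.over W) I (op (topObj W))
  have h3 : Submodule.map (topLin p) ⊤ = ⊤ := by
    rw [Submodule.map_top, LinearMap.range_eq_top]
    exact hsurj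
  rw [← h2, Submodule.map_span] at h3
  rw [← h3]
  congr 1
  ext y
  constructor
  · rintro ⟨i, rfl⟩
    exact ⟨_, ⟨i, rfl⟩, rfl⟩
  · rintro ⟨_, ⟨i, rfl⟩, rfl⟩
    exact ⟨i, rfl⟩


include hW hN in
/-- a module whose value at `topObj W` is finite has finitely many generating sections -/
theorem exists_generatingSections_of_finite
    [Module.Finite ((S.over W).obj.obj (op (topObj W))) (N.val.obj (op (topObj W)))] :
    ∃ G : N.GeneratingSections, Finite G.I := by
  obtain ⟨n, m, hm⟩ := Module.Finite.exists_fin
    (R := (S.over W).obj.obj (op (topObj W))) (M := N.val.obj (op (topObj W)))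
  let s : ULift.{u} (Fin n) → N.sections :=
    fun j => sectionsOfTerminal N.val (isTerminalTopObj W) (m j.down)
  have hs : Submodule.span ((S.over W).obj.obj (op (topObj W)))
      (Set.range fun i => PresheafOfModules.sections.eval (s i) (op (topObj W))) = ⊤ := by
    rw [eq_top_iff, ← hm]
    refine Submodule.span_mono ?_
    rintro _ ⟨j, rfl⟩
    exact ⟨ULift.up j, sectionsOfTerminal_eval N.val (isTerminalTopObj W) (m j)⟩
  exact ⟨{ I := ULift.{u} (Fin n), s := s, epi := epi_of_span hW N hN s hs }, inferInstance⟩

include hS hW hN in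
/-- a module with finitely many generating sections has finite value at `topObj W` -/
theorem finite_of_generatingSections (G : N.GeneratingSections) [Finite G.I] :
    Module.Finite ((S.over W).obj.obj (op (topObj W))) (N.val.obj (op (topObj W))) := by
  haveI := G.epi
  have h := span_of_epi hS hW N hN G.π
  refine ⟨?_⟩
  rw [← h]
  exact Submodule.fg_span (Set.finite_range _)

end span

end Groth.Agent.Lib.helper21.QCAlgMod
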