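import Groth.Prelude.Def_RelSpec2
import Groth.Agent.Lib.Helper21.QCAlgMod4
import Groth.Agent.Lib.Helper21.PushColim
import Groth.Agent.Lib.Helper16.CohFinite
import Groth.Agent.S2249

/-!
# Finite type and the direct image along an affine morphism (helper21)
-/

set_option autoImplicit false
universe u
open CategoryTheory CategoryTheory.Limits AlgebraicGeometry TopologicalSpace Opposite

namespace Groth.Agent.Lib.helper21.DirImgFT

open Groth.Agent.Lib.helper21.QCAlgMod Scheme.Modules

variable {X S : Scheme.{u}} (f : X ⟶ S) [IsAffineHom f]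

/-- the direct image of the structure sheaf is the unit module over the direct image algebra -/
noncomputable def dirImgUnitIso :
    (AMod.dirImg f).obj (SheafOfModules.unit X.ringCatSheaf) ≅
      SheafOfModules.unit (AMod.ringSheaf (RelSpec.QCAlg.directImage f)) :=
  (SheafOfModules.fullyFaithfulForget _).preimageIso
    (PresheafOfModules.isoMk (fun U => Iso.refl _) (by intros; rfl))

theorem isQuasicoherent_unit_scheme (X : Scheme.{u}) :
    (SheafOfModules.unit X.ringCatSheaf).IsQuasicoherent := by
  have h : (SheafOfModules.free (R := X.ringCatSheaf) PUnit.{u + 1}).IsQuasicoherent :=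
    inferInstance
  let e : SheafOfModules.free (R := X.ringCatSheaf) PUnit.{u + 1} ≅
      SheafOfModules.unit X.ringCatSheaf :=
    Limits.coproductUniqueIso (fun _ : PUnit.{u + 1} => SheafOfModules.unit X.ringCatSheaf)
  exact (SheafOfModules.isQuasicoherent X.ringCatSheaf).prop_of_iso e h

theorem isQuasicoherent_unit :
    ((SheafOfModules.restrictScalars.{u} (AMod.strHom (RelSpec.QCAlg.directImage f))).obj
      (SheafOfModules.unit (AMod.ringSheaf (RelSpec.QCAlg.directImage f)))).IsQuasicoherent := by
  haveI : Coh.IsQCoh (SheafOfModules.unit X.ringCatSheaf) := isQuasicoherent_unit_scheme X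
  have h : Coh.IsQCoh ((Scheme.Modules.pushforward f).obj (SheafOfModules.unit X.ringCatSheaf)) :=
    Groth.Agent.S2249.result f (SheafOfModules.unit X.ringCatSheaf)
  exact (SheafOfModules.isQuasicoherent S.ringCatSheaf).prop_of_iso
    ((AMod.toOS (RelSpec.QCAlg.directImage f)).mapIso (dirImgUnitIso f)) h

theorem isQuasicoherent_Φ_dirImg (F : X.Modules) [F.IsQuasicoherent] (W : S.Opens) :
    ((Φ (AMod.strHom (RelSpec.QCAlg.directImage f)) W).obj
      (((AMod.dirImg f).obj F).over W)).IsQuasicoherent := by
  have h : Coh.IsQCoh ((Scheme.Modules.pushforward f).obj F) := Groth.Agent.S2249.result f F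
  haveI : ((Scheme.Modules.pushforward f).obj F).IsQuasicoherent := h
  have h2 : ((restrictFunctor W.ι).obj ((Scheme.Modules.pushforward f).obj F)).IsQuasicoherent :=
    inferInstance
  exact (SheafOfModules.isQuasicoherent (W : Scheme.{u}).ringCatSheaf).prop_of_iso
    (ΦOverIso (AMod.strHom (RelSpec.QCAlg.directImage f)) W ((AMod.dirImg f).obj F)).symm h2

theorem topObj_left (W : S.Opens) : (topObj W).left = W := by
  ext x
  simp [topObj]


theorem isAffineOpen_preimage_topObj {W : S.Opens} (hW : IsAffineOpen W) :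
    IsAffineOpen (f ⁻¹ᵁ (topObj W).left) := by
  rw [topObj_left]
  exact hW.preimage f

/-- finite type passes to the direct image -/
theorem isFiniteType_dirImg (F : X.Modules) [F.IsQuasicoherent]
    (h : SheafOfModules.IsFiniteType.{u} (R := X.ringCatSheaf) F) :
    SheafOfModules.IsFiniteType.{u} (R := AMod.ringSheaf (RelSpec.QCAlg.directImage f))
      ((AMod.dirImg f).obj F) := by
  have key : ∀ V : S.affineOpens,
      ∃ G : (((AMod.dirImg f).obj F).over V.1).GeneratingSections, Finite G.I := fun V => by
    haveI : Module.Finite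
        (((AMod.ringSheaf (RelSpec.QCAlg.directImage f)).over V.1).obj.obj (op (topObj V.1)))
        ((((AMod.dirImg f).obj F).over V.1).val.obj (op (topObj V.1))) :=
      Groth.Agent.Lib.helper16.CohFinite.finite_sections_of_isFiniteType F h
        (isAffineOpen_preimage_topObj f V.2)
    exact exists_generatingSections_of_finite V.2 _ (isQuasicoherent_Φ_dirImg f F V.1)
  choose G hG using key
  let σ : SheafOfModules.LocalGeneratorsData.{u} ((AMod.dirImg f).obj F) :=
    { I := S.affineOpens
      X := fun V => V.1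
      coversTop := (Opens.coversTop_iff _ _).mpr
        (show IsOpenCover _ from iSup_affineOpens_eq_top S)
      generators := G }
  have hσ : σ.IsFiniteType :=
    @SheafOfModules.LocalGeneratorsData.IsFiniteType.mk _ _ _ _ _ _ _ σ
      (fun i => @SheafOfModules.GeneratingSections.IsFiniteType.mk _ _ _ _ _ _ _
        (σ.generators i) (hG i))
  exact @SheafOfModules.IsFiniteType.mk _ _ _ _ _ _ ((AMod.dirImg f).obj F) ⟨σ, hσ⟩


/-- finite type descends from the direct image -/
theorem isFiniteType_of_dirImg (F : X.Modules) [F.IsQuasicoherent]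
    (h : SheafOfModules.IsFiniteType.{u} (R := AMod.ringSheaf (RelSpec.QCAlg.directImage f))
      ((AMod.dirImg f).obj F)) :
    SheafOfModules.IsFiniteType.{u} (R := X.ringCatSheaf) F := by
  obtain ⟨σ, hσ⟩ := SheafOfModules.IsFiniteType.exists_localGeneratorsData ((AMod.dirImg f).obj F)
  have hx : ∀ x : X, ∃ V : S.Opens, IsAffineOpen V ∧ f x ∈ V ∧
      ∃ G : (((AMod.dirImg f).obj F).over V).GeneratingSections, Finite G.I := by
    intro x
    have hcov : IsOpenCover σ.X := (Opens.coversTop_iff _ _).mp σ.coversTop
    obtain ⟨i, hi⟩ : ∃ i, f x ∈ σ.X i := by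
      have : f x ∈ (⨆ i, σ.X i : S.Opens) := by rw [hcov.iSup_eq_top]; trivial
      exact Opens.mem_iSup.mp this
    obtain ⟨V, hV, hxV, hVle⟩ := Opens.isBasis_iff_nbhd.mp S.isBasis_affineOpens hi
    refine ⟨V, hV, hxV, ?_⟩
    let g : V ⟶ σ.X i := homOfLE hVle
    haveI : PreservesColimitsOfSize.{u, u}
        (SheafOfModules.overMap.{u} (AMod.ringSheaf (RelSpec.QCAlg.directImage f)) g) :=
      Groth.Agent.Lib.Helper21.PushColim.pushforward_preservesColimits _
    let G0 := (σ.generators i).map
      (SheafOfModules.overMap.{u} (AMod.ringSheaf (RelSpec.QCAlg.directImage f)) g)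
      (SheafOfModules.overMapUnitIso g).symm
    let G1 := SheafOfModules.GeneratingSections.equivOfIso
      ((SheafOfModules.overFunctorMap.{u} (AMod.ringSheaf (RelSpec.QCAlg.directImage f)) g).app
        ((AMod.dirImg f).obj F)) G0
    exact ⟨G1, (hσ.isFiniteType i).finite⟩
  choose V hV hxV G hG using hx
  have hfin : ∀ x, Module.Finite Γ(X, f ⁻¹ᵁ (topObj (V x)).left)
      Γ(F, f ⁻¹ᵁ (topObj (V x)).left) := fun x =>
    haveI := hG x
    finite_of_generatingSections (isQuasicoherent_unit f) (hV x) _
      (isQuasicoherent_Φ_dirImg f F (V x)) (G x)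
  refine Groth.Agent.Lib.helper16.CohFinite.isFiniteType_of_finite_sections F
    (fun x : X => f ⁻¹ᵁ (topObj (V x)).left) (fun x => isAffineOpen_preimage_topObj f (hV x))
    ?_ hfin
  rw [eq_top_iff]
  intro x _
  refine Opens.mem_iSup.mpr ⟨x, ?_⟩
  rw [topObj_left]
  exact hxV x

end Groth.Agent.Lib.helper21.DirImgFT
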