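import Mathlib
import Groth.Prelude.Def_RDer

/-!
# When is the second edge map `H^n(Ψ K) ⟶ Ψ(H^n K)` an isomorphism?

For a left exact additive `Ψ` and a cochain complex `K` which is exact in degrees `< n` and whose
terms satisfy a relative injectivity property (`K^i` is injective with respect to monomorphisms
into `K^{i+1}`), `RDer.homologyComparison Ψ K n` is an isomorphism: there is a partial contracting
homotopy in degrees `< n`, so the cokernel `K^{n-1} ⟶ Z^n ⟶ H^n` is absolute.
-/

set_option autoImplicit false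

open CategoryTheory CategoryTheory.Limits HomologicalComplex

namespace Groth.Agent.Lib.Helper21.EdgeOutIso

universe v₂ v₃ u₂ u₃

section absolute

variable {B : Type u₂} [Category.{v₂} B] [Preadditive B] {C : Type u₃} [Category.{v₃} C]
  [Preadditive C] (Ψ : B ⥤ C) [Ψ.Additive]

/-- The cokernel of a morphism with a generalized inverse is preserved by any additive functor. -/
noncomputable def isColimitMapCokernelOfGenInv {X Z Q : B} (f : X ⟶ Z) (s : Z ⟶ X)
    (hs : f ≫ s ≫ f = f) (π : Z ⟶ Q) (w : f ≫ π = 0)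
    (hπ : IsColimit (CokernelCofork.ofπ π w)) :
    IsColimit (CokernelCofork.ofπ (Ψ.map π)
      (show Ψ.map f ≫ Ψ.map π = 0 by rw [← Ψ.map_comp, w, Ψ.map_zero])) := by
  have hepi : Epi π := Cofork.IsColimit.epi hπ
  have h1 : f ≫ (𝟙 Z - s ≫ f) = 0 := by
    rw [Preadditive.comp_sub, Category.comp_id, hs, sub_self]
  let ι : Q ⟶ Z := hπ.desc (CokernelCofork.ofπ (𝟙 Z - s ≫ f) h1)
  have hι : π ≫ ι = 𝟙 Z - s ≫ f := hπ.fac (CokernelCofork.ofπ (𝟙 Z - s ≫ f) h1)
    WalkingParallelPair.one
  have hι' : ι ≫ π = 𝟙 Q := by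
    rw [← cancel_epi π, ← Category.assoc, hι, Preadditive.sub_comp, Category.id_comp,
      Category.assoc, w, comp_zero, sub_zero, Category.comp_id]
  refine CokernelCofork.IsColimit.ofπ _ _ (fun g' _ => Ψ.map ι ≫ g') ?_ ?_
  · intro Z' g' hg'
    rw [← Category.assoc, ← Ψ.map_comp, hι, Ψ.map_sub, Ψ.map_id, Preadditive.sub_comp,
      Category.id_comp, Ψ.map_comp, Category.assoc, hg', comp_zero, sub_zero]
  · intro Z' g' hg' m hm
    rw [← hm, ← Category.assoc, ← Ψ.map_comp, hι', Ψ.map_id, Category.id_comp]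

end absolute

section comparison

variable {B : Type u₂} [Category.{v₂} B] [Abelian B] {C : Type u₃} [Category.{v₃} C] [Abelian C]
  (Ψ : B ⥤ C) [Ψ.Additive] [PreservesFiniteLimits Ψ]
  {ι' : Type*} {c : ComplexShape ι'} (K : HomologicalComplex B c) (i : ι')

set_option backward.isDefEq.respectTransparency false in
instance isIso_cyclesComparison : IsIso (RDer.cyclesComparison Ψ K i) := by
  have : RDer.cyclesComparison Ψ K i =
      (IsLimit.conePointUniqueUpToIso
        (((Ψ.mapHomologicalComplex c).obj K).cyclesIsKernel i (c.next i) rfl)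
        (KernelFork.mapIsLimit _ (K.cyclesIsKernel i (c.next i) rfl) Ψ)).hom := rfl
  rw [this]
  infer_instance

set_option backward.isDefEq.respectTransparency false in
/-- If `K.toCycles (prev i) i` has a generalized inverse, the homology comparison is an iso. -/
theorem isIso_homologyComparison_of_genInv
    (s : K.cycles i ⟶ K.X (c.prev i))
    (hs : K.toCycles (c.prev i) i ≫ s ≫ K.toCycles (c.prev i) i = K.toCycles (c.prev i) i) :
    IsIso (RDer.homologyComparison Ψ K i) := by
  have hΨ := isColimitMapCokernelOfGenInv Ψ (K.toCycles (c.prev i) i) s hs (K.homologyπ i)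
    (K.toCycles_comp_homologyπ (c.prev i) i) (K.homologyIsCokernel (c.prev i) i rfl)
  have hepi : Epi (Ψ.map (K.homologyπ i)) := Cofork.IsColimit.epi hΨ
  have w : Ψ.map (K.toCycles (c.prev i) i) ≫ inv (RDer.cyclesComparison Ψ K i) ≫
      ((Ψ.mapHomologicalComplex c).obj K).homologyπ i = 0 := by
    rw [← RDer.toCycles_cyclesComparison, Category.assoc, IsIso.hom_inv_id_assoc,
      toCycles_comp_homologyπ]
  let φ : Ψ.obj (K.homology i) ⟶ ((Ψ.mapHomologicalComplex c).obj K).homology i :=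
    hΨ.desc (CokernelCofork.ofπ _ w)
  have hφ : Ψ.map (K.homologyπ i) ≫ φ = inv (RDer.cyclesComparison Ψ K i) ≫
      ((Ψ.mapHomologicalComplex c).obj K).homologyπ i :=
    hΨ.fac (CokernelCofork.ofπ _ w) WalkingParallelPair.one
  refine ⟨⟨φ, ?_, ?_⟩⟩
  · rw [← cancel_epi (((Ψ.mapHomologicalComplex c).obj K).homologyπ i),
      RDer.homologyπ_homologyComparison_assoc, hφ, IsIso.hom_inv_id_assoc, Category.comp_id]
  · rw [← cancel_epi (Ψ.map (K.homologyπ i)), ← Category.assoc, hφ, Category.assoc,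
      RDer.homologyπ_homologyComparison, IsIso.inv_hom_id_assoc, Category.comp_id]

end comparison

section homotopy

variable {B : Type u₂} [Category.{v₂} B] [Abelian B] (K : CochainComplex B ℕ)

/-- the "previous" term of the homotopy identity -/
noncomputable def E (h : ∀ i : ℕ, K.X (i + 1) ⟶ K.X i) : ∀ i : ℕ, K.X i ⟶ K.X i
  | 0 => 0
  | (m + 1) => h m ≫ K.d m (m + 1)

lemma E_comp_d (h : ∀ i : ℕ, K.X (i + 1) ⟶ K.X i) (i : ℕ) : E K h i ≫ K.d i (i + 1) = 0 := by
  cases i with
  | zero => simp [E]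
  | succ m => simp [E]

lemma E_update (h : ∀ i : ℕ, K.X (i + 1) ⟶ K.X i) (n : ℕ) (x : K.X (n + 1) ⟶ K.X n) (i : ℕ)
    (hi : i ≤ n) : E K (Function.update h n x) i = E K h i := by
  cases i with
  | zero => rfl
  | succ m =>
    simp only [E]
    rw [Function.update_of_ne (by omega)]

/-- relative injectivity of `K^i` with respect to monos into `K^{i+1}` -/
def RelInj (i : ℕ) : Prop :=
  ∀ {T : B} (m : T ⟶ K.X (i + 1)) [Mono m] (φ : T ⟶ K.X i), ∃ h : K.X (i + 1) ⟶ K.X i, m ≫ h = φ

lemma ext_of_exact (S : ShortComplex B) (hS : S.Exact) {T : B} (k : S.X₂ ⟶ T) (w : S.f ≫ k = 0)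
    (hri : ∀ {T' : B} (m : T' ⟶ S.X₃) [Mono m] (φ : T' ⟶ T), ∃ h : S.X₃ ⟶ T, m ≫ h = φ) :
    ∃ h : S.X₃ ⟶ T, S.g ≫ h = k := by
  have hm : Mono S.fromOpcycles := hS.mono_fromOpcycles
  obtain ⟨h, hh⟩ := hri S.fromOpcycles (S.descOpcycles k w)
  exact ⟨h, by rw [← S.p_fromOpcycles, Category.assoc, hh, ShortComplex.p_descOpcycles]⟩

lemma exists_ext (i : ℕ) (hex : K.ExactAt i) (hri : RelInj K i) (k : K.X i ⟶ K.X i)
    (hk : ∀ i', K.d i' i ≫ k = 0) : ∃ h : K.X (i + 1) ⟶ K.X i, K.d i (i + 1) ≫ h = k := by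
  obtain ⟨i', hi'⟩ : ∃ i', (ComplexShape.up ℕ).prev i = i' := ⟨_, rfl⟩
  rw [K.exactAt_iff' i' i (i + 1) hi' (by simp)] at hex
  exact ext_of_exact (K.sc' i' i (i + 1)) hex k (hk i') (fun m hm φ => @hri _ m hm φ)

/-- existence of a partial contracting homotopy -/
theorem exists_partial_homotopy (n : ℕ) (hex : ∀ i < n, K.ExactAt i)
    (hri : ∀ i < n, RelInj K i) :
    ∃ h : ∀ i : ℕ, K.X (i + 1) ⟶ K.X i,
      ∀ i < n, K.d i (i + 1) ≫ h i + E K h i = 𝟙 (K.X i) := by
  induction n with
  | zero => exact ⟨fun _ => 0, fun i hi => absurd hi (Nat.not_lt_zero i)⟩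
  | succ n ih =>
    obtain ⟨h, hh⟩ := ih (fun i hi => hex i (Nat.lt_succ_of_lt hi))
      (fun i hi => hri i (Nat.lt_succ_of_lt hi))
    have hk : ∀ i', K.d i' n ≫ (𝟙 (K.X n) - E K h n) = 0 := by
      intro i'
      by_cases hr : i' + 1 = n
      · subst hr
        have h1 := hh i' (Nat.lt_succ_self i')
        have h2 : K.d i' (i' + 1) ≫ h i' = 𝟙 _ - E K h i' := eq_sub_of_add_eq h1
        simp only [E]
        rw [Preadditive.comp_sub, Category.comp_id, ← Category.assoc, h2, Preadditive.sub_comp,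
          Category.id_comp, E_comp_d, sub_zero, sub_self]
      · rw [K.shape i' n hr, zero_comp]
    obtain ⟨x, hx⟩ := exists_ext K n (hex n (Nat.lt_succ_self n)) (hri n (Nat.lt_succ_self n))
      _ hk
    refine ⟨Function.update h n x, fun i hi => ?_⟩
    rw [E_update K h n x i (Nat.lt_succ_iff.1 hi)]
    rcases Nat.lt_succ_iff_lt_or_eq.1 hi with hlt | rfl
    · rw [Function.update_of_ne (Nat.ne_of_lt hlt)]
      exact hh i hlt
    · rw [Function.update_self, hx, sub_add_cancel]

/-- a generalized inverse of `toCycles` in degree `n` -/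
theorem exists_genInv (n : ℕ) (hex : ∀ i < n, K.ExactAt i) (hri : ∀ i < n, RelInj K i)
    (i' : ℕ) (hi' : (ComplexShape.up ℕ).prev n = i') :
    ∃ s : K.cycles n ⟶ K.X i', K.toCycles i' n ≫ s ≫ K.toCycles i' n = K.toCycles i' n := by
  cases n with
  | zero =>
    have h0 : i' = 0 := by simpa using hi'.symm
    subst h0
    have hz : K.toCycles 0 0 = 0 := by
      rw [← cancel_mono (K.iCycles 0), toCycles_i, zero_comp]
      exact K.shape 0 0 (by simp)
    exact ⟨0, by rw [hz, zero_comp]⟩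
  | succ m =>
    have h0 : i' = m := by simpa using hi'.symm
    subst h0
    obtain ⟨h, hh⟩ := exists_partial_homotopy K (i' + 1) hex hri
    refine ⟨K.iCycles (i' + 1) ≫ h i', ?_⟩
    have h1 := hh i' (Nat.lt_succ_self i')
    have h2 : K.d i' (i' + 1) ≫ h i' = 𝟙 _ - E K h i' := eq_sub_of_add_eq h1
    rw [← cancel_mono (K.iCycles (i' + 1))]
    simp only [Category.assoc, toCycles_i]
    rw [← Category.assoc (K.toCycles i' (i' + 1)), toCycles_i, ← Category.assoc, h2,
      Preadditive.sub_comp, Category.id_comp, E_comp_d, sub_zero]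

end homotopy

section main

variable {B : Type u₂} [Category.{v₂} B] [Abelian B] {C : Type u₃} [Category.{v₃} C] [Abelian C]
  (Ψ : B ⥤ C) [Ψ.Additive] [PreservesFiniteLimits Ψ] (K : CochainComplex B ℕ)

/-- **Main lemma**: if `K` is exact in degrees `< n` and `K^i` is injective relative to monos into
`K^{i+1}` for `i < n`, then `H^n(Ψ K) ⟶ Ψ(H^n K)` is an isomorphism for left exact `Ψ`. -/
theorem isIso_homologyComparison (n : ℕ) (hex : ∀ i < n, K.ExactAt i)
    (hri : ∀ i < n, RelInj K i) : IsIso (RDer.homologyComparison Ψ K n) := by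
  obtain ⟨s, hs⟩ := exists_genInv K n hex hri _ rfl
  exact isIso_homologyComparison_of_genInv Ψ K n s hs

end main

end Groth.Agent.Lib.Helper21.EdgeOutIso
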