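import Mathlib
import Groth.Prelude.Def_EtBase
import Groth.Prelude.Def_EtCech
import Groth.Agent.Lib.Helper21.CechH1U
import Groth.Agent.Lib.Helper27.CechRDer

/-!
# Čech-flasque étale sheaves: sections are exact, and two-out-of-three
-/

set_option autoImplicit false
set_option linter.unusedVariables false
set_option linter.unusedSectionVars false

namespace Groth.Agent.Lib.Helper21.EtCechFlasque

open CategoryTheory Limits Opposite AlgebraicGeometry
open Groth.Agent.Lib.helper27

universe u

variable {X : Scheme.{u}}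

/-- sections of a short exact sequence of étale sheaves are left exact -/
lemma sections_left_exact (S : ShortComplex (EtCoh.Ab X)) (hS : S.ShortExact) (V : X.Etale) :
    Function.Injective (S.f.hom.app (op V)) ∧
    ∀ y, S.g.hom.app (op V) y = 0 → ∃ x, S.f.hom.app (op V) x = y := by
  have hΓ : PreservesFiniteLimits
      ((sheafSections X.smallEtaleTopology AddCommGrpCat.{u + 1}).obj (op V)) := by
    show PreservesFiniteLimits (sheafToPresheaf X.smallEtaleTopology AddCommGrpCat.{u + 1} ⋙
      (evaluation _ _).obj (op V))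
    infer_instance
  have hadd : ((sheafSections X.smallEtaleTopology AddCommGrpCat.{u + 1}).obj (op V)).Additive :=
    ⟨fun {_ _ _ _} => rfl⟩
  have key : ∀ (S : ShortComplex (EtCoh.Ab X)), S.ShortExact →
      (S.map ((sheafSections X.smallEtaleTopology AddCommGrpCat.{u + 1}).obj (op V))).Exact ∧
        Mono (((sheafSections X.smallEtaleTopology AddCommGrpCat.{u + 1}).obj (op V)).map S.f) :=
    ((Functor.preservesFiniteLimits_tfae
      ((sheafSections X.smallEtaleTopology AddCommGrpCat.{u + 1}).obj (op V))).out 3 0).1 hΓ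
  obtain ⟨hex, hm⟩ := key S hS
  constructor
  · exact (AddCommGrpCat.mono_iff_injective _).1 hm
  · intro y hy
    rw [ShortComplex.ab_exact_iff] at hex
    exact hex y hy

/-- covering sieves of the small étale site are jointly surjective -/
lemma exists_of_mem {V : X.Etale} {R : Sieve V} (hR : R ∈ X.smallEtaleTopology V)
    (x : ↥(V.left)) : ∃ (W : X.Etale) (w : W ⟶ V) (y : ↥(W.left)), R w ∧ w.left.base y = x := by
  have eX : X.smallEtaleTopology =
      (X.smallPretopology (P := EtCoh.etaleMP) (Q := EtCoh.etaleMP)).toGrothendieck :=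
    Scheme.smallGrothendieckTopology_eq_toGrothendieck_smallPretopology X le_rfl
  rw [eX] at hR
  obtain ⟨W, w, y, hw, -, hy⟩ := (Scheme.mem_toGrothendieck_smallPretopology V R).1 hR x
  exact ⟨W, w, y, hw, hy⟩

/-- gluing of sections of a sheaf of abelian groups along a covering family of arrows -/
lemma glue_arrows (F : EtCoh.Ab X) {B : X.Etale} {I : Type (u + 1)} (Y : I → X.Etale)
    (π : ∀ i, Y i ⟶ B) (h : Sieve.ofArrows Y π ∈ X.smallEtaleTopology B)
    (x : ∀ i, F.obj.obj (op (Y i)))
    (hx : ∀ (i j : I) (Z : X.Etale) (gi : Z ⟶ Y i) (gj : Z ⟶ Y j), gi ≫ π i = gj ≫ π j →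
      F.obj.map gi.op (x i) = F.obj.map gj.op (x j)) :
    ∃! t : F.obj.obj (op B), ∀ i, F.obj.map (π i).op t = x i := by
  have h1 : Presieve.IsSheaf X.smallEtaleTopology (F.obj ⋙ forget AddCommGrpCat.{u + 1}) :=
    (isSheaf_iff_isSheaf_of_type X.smallEtaleTopology _).1
      ((Presheaf.isSheaf_iff_isSheaf_forget X.smallEtaleTopology F.obj
        (forget AddCommGrpCat.{u + 1})).1 F.property)
  have h2 := h1 _ h
  rw [Sieve.ofArrows, ← Presieve.isSheafFor_iff_generate, Presieve.isSheafFor_arrows_iff] at h2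
  exact h2 x hx

variable [∀ U : X.Etale, HasFiniteProducts (Over U)]

/-- If the first Čech cohomology of the kernel vanishes for all coverings, the sections of a short
exact sequence of étale sheaves are right exact. -/
theorem sections_surjective (S : ShortComplex (EtCoh.Ab X)) (hS : S.ShortExact)
    (h1 : ∀ (U : X.Etale) (ι : Type (u + 1)) (Uf : ι → Over U),
      (∀ x : ↥(U.left), ∃ (i : ι) (y : ↥((Uf i).left.left)), (Uf i).hom.left.base y = x) →
      IsZero (EtCech.cechH Uf S.X₁.obj 1))
    (V : X.Etale) : Function.Surjective (S.g.hom.app (op V)) := by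
  intro s
  haveI : Epi S.g := hS.epi_g
  have hloc : Sheaf.IsLocallySurjective S.g :=
    (Sheaf.isLocallySurjective_iff_epi' (φ := S.g)).2 inferInstance
  let R : Sieve V := Presheaf.imageSieve S.g.hom s
  have hR : R ∈ X.smallEtaleTopology V := Presheaf.imageSieve_mem _ S.g.hom s
  let ι : Type (u + 1) := Σ W : X.Etale, {w : W ⟶ V // R w}
  let Uf : ι → Over V := fun i => Over.mk i.2.1
  have hsurj : ∀ x : ↥(V.left), ∃ (i : ι) (y : ↥((Uf i).left.left)),
      (Uf i).hom.left.base y = x := by
    intro x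
    obtain ⟨W, w, y, hw, hy⟩ := exists_of_mem hR x
    exact ⟨⟨W, w, hw⟩, y, hy⟩
  have hcov : Sieve.ofArrows (fun i => (Uf i).left) (fun i => (Uf i).hom) ∈
      X.smallEtaleTopology V := by
    refine X.smallEtaleTopology.superset_covering ?_ hR
    intro W w hw
    exact ⟨_, 𝟙 _, _, ⟨(⟨W, w, hw⟩ : ι)⟩, Category.id_comp _⟩
  have hH1 : ((cechComplexFunctor Uf).obj ((Over.forget V).op ⋙ S.X₁.obj)).ExactAt 1 := by
    rw [HomologicalComplex.exactAt_iff_isZero_homology]
    exact h1 V ι Uf hsurj
  have hle := fun W => sections_left_exact S hS W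
  have hfg : S.f.hom ≫ S.g.hom = 0 := congrArg (fun φ => φ.hom) S.zero
  refine CechH1U.lift_of_h1 (Over.forget V) Uf (fun i => (Uf i).hom) ?_ ?_ S.f.hom S.g.hom hfg
    (fun W => (hle W).1) (fun W => (hle W).2) ?_ ?_ hH1 s (fun i => i.2.2.choose)
    (fun i => i.2.2.choose_spec)
  · intro T σ σ'
    exact (Over.w σ.2).trans (Over.w σ'.2).symm
  · intro i j Z gi gj hij
    refine ⟨Over.mk (gi ≫ (Uf i).hom), 𝟙 _, Over.homMk gi rfl, Over.homMk gj hij.symm, ?_, ?_⟩
    · exact (Category.id_comp _).symm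
    · exact (Category.id_comp _).symm
  · intro x hx
    obtain ⟨γ, hγ, -⟩ := glue_arrows S.X₂ (fun i => (Uf i).left) (fun i => (Uf i).hom) hcov x hx
    exact ⟨γ, hγ⟩
  · intro a b hab
    obtain ⟨c, -, hc⟩ := glue_arrows S.X₃ (fun i => (Uf i).left) (fun i => (Uf i).hom) hcov
      (fun i => S.X₃.obj.map (Uf i).hom.op b) (by
        intro i j Z gi gj hij
        rw [← ConcreteCategory.comp_apply, ← S.X₃.obj.map_comp, ← op_comp, hij, op_comp,
          S.X₃.obj.map_comp, ConcreteCategory.comp_apply])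
    rw [hc a hab, hc b (fun i => rfl)]

/-- **Čech-flasque two-out-of-three** for étale sheaves. -/
theorem isZero_cechH_X₃ (S : ShortComplex (EtCoh.Ab X)) (hS : S.ShortExact)
    (h1 : ∀ (U : X.Etale) (ι : Type (u + 1)) (Uf : ι → Over U),
      (∀ x : ↥(U.left), ∃ (i : ι) (y : ↥((Uf i).left.left)), (Uf i).hom.left.base y = x) →
      ∀ p : ℕ, 0 < p → IsZero (EtCech.cechH Uf S.X₁.obj p))
    (U : X.Etale) (ι : Type (u + 1)) (Uf : ι → Over U)
    (hU : ∀ x : ↥(U.left), ∃ (i : ι) (y : ↥((Uf i).left.left)), (Uf i).hom.left.base y = x)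
    (p : ℕ) (hp : 0 < p) (h2 : IsZero (EtCech.cechH Uf S.X₂.obj p)) :
    IsZero (EtCech.cechH Uf S.X₃.obj p) := by
  let F := sheafToPresheaf X.smallEtaleTopology AddCommGrpCat.{u + 1}
  have hF : PreservesFiniteLimits F := by
    show PreservesFiniteLimits (sheafToPresheaf X.smallEtaleTopology AddCommGrpCat.{u + 1})
    infer_instance
  have hFa : F.Additive := by
    show (sheafToPresheaf X.smallEtaleTopology AddCommGrpCat.{u + 1}).Additive
    infer_instance
  have key : ∀ (S : ShortComplex (EtCoh.Ab X)), S.ShortExact →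
      (S.map F).Exact ∧ Mono (F.map S.f) :=
    ((Functor.preservesFiniteLimits_tfae F).out 3 0).1 hF
  obtain ⟨hex, hm⟩ := key S hS
  have hepi : Epi (S.map F).g := by
    show Epi S.g.hom
    rw [NatTrans.epi_iff_epi_app]
    intro W
    rw [AddCommGrpCat.epi_iff_surjective]
    exact sections_surjective S hS (fun U ι Uf hUf => h1 U ι Uf hUf 1 Nat.one_pos) W.unop
  have hS' : (S.map F).ShortExact := { exact := hex, mono_f := hm, epi_g := hepi }
  have hC := CechRDer.cx_shortExact Uf (S.map F) hS'
  have hex3 := hC.homology_exact₃ p (p + 1) rfl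
  exact hex3.isZero_of_both_zeros (h2.eq_of_src _ _) ((h1 U ι Uf hU (p + 1) (Nat.succ_pos p)).eq_of_tgt _ _)

end Groth.Agent.Lib.Helper21.EtCechFlasque
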