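import Mathlib
import Groth.Agent.S0658
import Groth.Agent.Lib.Helper13.Normal6

/-!
# Extension of generic points with values in an étale scheme over a field

* `isIso_residue_genericPoint`: at the generic point of an integral scheme the residue map is an
  isomorphism.
* `exists_extension_etale_field`: `W` integral normal over a field `k`, `G` étale over `k`; a
  `k`-morphism `Spec κ(ξ_W) ⟶ G` extends to a `k`-morphism `W ⟶ G`.
-/

set_option autoImplicit false
set_option linter.style.haveILetI false
universe u

noncomputable section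

open CategoryTheory AlgebraicGeometry TopologicalSpace Opposite Limits

namespace Groth.Agent.Lib.helper21.EtTorsorSec

/-- at the generic point of an integral scheme the residue map is an isomorphism. -/
instance isIso_residue_genericPoint (W : Scheme.{u}) [IsIntegral W] :
    IsIso (W.residue (genericPoint W)) := by
  rw [ConcreteCategory.isIso_iff_bijective]
  exact ⟨RingHom.injective (W.residue (genericPoint W)).hom, W.residue_surjective _⟩

/-- `W` integral normal over a field `k`, `G` étale over `k`: a `k`-morphism from the generic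
point of `W` to `G` extends to `W`. -/
theorem exists_extension_etale_field (k : Type u) [Field k] {G : Scheme.{u}}
    (p : G ⟶ Spec (CommRingCat.of k)) [Etale p] {W : Scheme.{u}} [IsIntegral W]
    (hW : Pi1.IsNormalScheme W) (wk : W ⟶ Spec (CommRingCat.of k))
    (ψ : Spec (W.residueField (genericPoint W)) ⟶ G)
    (hψ : ψ ≫ p = W.fromSpecResidueField (genericPoint W) ≫ wk) :
    ∃ ψ' : W ⟶ G, ψ' ≫ p = wk ∧ W.fromSpecResidueField (genericPoint W) ≫ ψ' = ψ := by
  obtain ⟨ι, K, hK1, hK2, hfd, hsep, e, he⟩ := (Groth.Agent.S0658.result k G p).mp inferInstance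
  -- the component containing the image point
  obtain ⟨i, y, hy⟩ := (sigmaOpenCover (fun i => Spec (CommRingCat.of (K i)))).exists_eq
    (e.inv (ψ default))
  have hy' : (Sigma.ι (fun i => Spec (CommRingCat.of (K i))) i ≫ e.hom) y = ψ default := by
    have h1 : Sigma.ι (fun i => Spec (CommRingCat.of (K i))) i y = e.inv (ψ default) := hy
    rw [Scheme.Hom.comp_apply, h1, ← Scheme.Hom.comp_apply, Iso.inv_hom_id]
    rfl
  have hrange : Set.range ψ ⊆
      Set.range (Sigma.ι (fun i => Spec (CommRingCat.of (K i))) i ≫ e.hom) := by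
    rintro _ ⟨z, rfl⟩
    rw [Unique.eq_default z]
    exact ⟨y, hy'⟩
  let ψi : Spec (W.residueField (genericPoint W)) ⟶ Spec (CommRingCat.of (K i)) :=
    IsOpenImmersion.lift (Sigma.ι (fun i => Spec (CommRingCat.of (K i))) i ≫ e.hom) ψ hrange
  have hψi : ψi ≫ Sigma.ι (fun i => Spec (CommRingCat.of (K i))) i ≫ e.hom = ψ :=
    IsOpenImmersion.lift_fac _ _ _
  -- the finite base change
  let a : Spec (CommRingCat.of (K i)) ⟶ Spec (CommRingCat.of k) :=
    Spec.map (CommRingCat.ofHom (algebraMap k (K i)))
  haveI : IsFinite a := by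
    rw [IsFinite.SpecMap_iff]
    haveI := hfd i
    exact RingHom.finite_algebraMap.mpr inferInstance
  have hcomm : ψi ≫ a = W.fromSpecResidueField (genericPoint W) ≫ wk := by
    rw [← hψ, ← hψi, Category.assoc, Category.assoc, he i]
  let t : Spec W.functionField ⟶ pullback a wk :=
    Spec.map (inv (W.residue (genericPoint W))) ≫
      pullback.lift ψi (W.fromSpecResidueField (genericPoint W)) hcomm
  have ht : t ≫ pullback.snd a wk = W.fromSpecStalk (genericPoint W) := by
    rw [Category.assoc, pullback.lift_snd, Scheme.fromSpecResidueField, ← Category.assoc,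
      ← Spec.map_comp, IsIso.hom_inv_id, Spec.map_id, Category.id_comp]
  obtain ⟨s', hs'1, hs'2⟩ := Groth.Agent.Lib.helper13.Normal.extendGen hW (pullback.snd a wk) t ht
  refine ⟨s' ≫ pullback.fst a wk ≫ Sigma.ι (fun i => Spec (CommRingCat.of (K i))) i ≫ e.hom,
    ?_, ?_⟩
  · rw [Category.assoc, Category.assoc, Category.assoc, he i]
    change s' ≫ pullback.fst a wk ≫ a = wk
    rw [pullback.condition, reassoc_of% hs'1]
  · rw [Scheme.fromSpecResidueField, Category.assoc, reassoc_of% hs'2]
    change Spec.map (W.residue (genericPoint W)) ≫ (Spec.map (inv (W.residue (genericPoint W))) ≫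
      pullback.lift ψi (W.fromSpecResidueField (genericPoint W)) hcomm) ≫ _ = ψ
    rw [Category.assoc, pullback.lift_fst_assoc, hψi, ← Category.assoc, ← Spec.map_comp,
      IsIso.inv_hom_id, Spec.map_id, Category.id_comp]

end Groth.Agent.Lib.helper21.EtTorsorSec

end
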