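import Mathlib
import Groth.Prelude.Def_ActBC

/-!
# Points of pseudo-torsors: acting on points and the difference of two points
-/

set_option autoImplicit false
set_option linter.style.haveILetI false
universe u

noncomputable section

open CategoryTheory AlgebraicGeometry Limits MonoidalCategory CartesianMonoidalCategory

namespace Groth.Agent.Lib.helper21.EtTorsorSec

variable {S : Scheme.{u}} {G E : Over S} [GrpObj G] (a : AlgGrp.Action G E)

/-- acting by a point of `G` on a point of `E` (scheme level). -/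
def actPt {T : Scheme.{u}} (t : T ⟶ S) (g : T ⟶ G.left) (hg : g ≫ G.hom = t)
    (e : T ⟶ E.left) (he : e ≫ E.hom = t) : T ⟶ E.left :=
  (lift (Over.homMk g hg : Over.mk t ⟶ G) (Over.homMk e he : Over.mk t ⟶ E) ≫ a.act).left

theorem actPt_hom {T : Scheme.{u}} (t : T ⟶ S) (g : T ⟶ G.left) (hg : g ≫ G.hom = t)
    (e : T ⟶ E.left) (he : e ≫ E.hom = t) : actPt a t g hg e he ≫ E.hom = t :=
  Over.w (lift (Over.homMk g hg : Over.mk t ⟶ G) (Over.homMk e he : Over.mk t ⟶ E) ≫ a.act)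

theorem comp_actPt {T T' : Scheme.{u}} (b : T' ⟶ T) (t : T ⟶ S) (g : T ⟶ G.left)
    (hg : g ≫ G.hom = t) (e : T ⟶ E.left) (he : e ≫ E.hom = t) :
    b ≫ actPt a t g hg e he =
      actPt a (b ≫ t) (b ≫ g) (by rw [Category.assoc, hg]) (b ≫ e)
        (by rw [Category.assoc, he]) := by
  let b' : Over.mk (b ≫ t) ⟶ Over.mk t := Over.homMk b (by simp)
  have h : b' ≫ (lift (Over.homMk g hg : Over.mk t ⟶ G) (Over.homMk e he : Over.mk t ⟶ E) ≫
      a.act) = lift (Over.homMk (b ≫ g) (by rw [Category.assoc, hg]; rfl) : Over.mk (b ≫ t) ⟶ G)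
        (Over.homMk (b ≫ e) (by rw [Category.assoc, he]; rfl) : Over.mk (b ≫ t) ⟶ E) ≫ a.act := by
    rw [← Category.assoc, comp_lift]
    rfl
  exact congrArg (fun m => m.left) h

/-- the difference of two points of a pseudo-torsor. -/
def diffPt (hps : NonAbH1.IsPseudoTorsorSch a) {T : Scheme.{u}} (t : T ⟶ S)
    (e₁ : T ⟶ E.left) (he₁ : e₁ ≫ E.hom = t) (e₂ : T ⟶ E.left) (he₂ : e₂ ≫ E.hom = t) :
    T ⟶ G.left :=
  haveI : IsIso (lift a.act (snd G E)) := hps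
  (lift (Over.homMk e₁ he₁ : Over.mk t ⟶ E) (Over.homMk e₂ he₂ : Over.mk t ⟶ E) ≫
    inv (lift a.act (snd G E)) ≫ fst G E).left

theorem diffPt_hom (hps : NonAbH1.IsPseudoTorsorSch a) {T : Scheme.{u}} (t : T ⟶ S)
    (e₁ : T ⟶ E.left) (he₁ : e₁ ≫ E.hom = t) (e₂ : T ⟶ E.left) (he₂ : e₂ ≫ E.hom = t) :
    diffPt a hps t e₁ he₁ e₂ he₂ ≫ G.hom = t :=
  haveI : IsIso (lift a.act (snd G E)) := hps
  Over.w (lift (Over.homMk e₁ he₁ : Over.mk t ⟶ E) (Over.homMk e₂ he₂ : Over.mk t ⟶ E) ≫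
    inv (lift a.act (snd G E)) ≫ fst G E)

theorem actPt_diffPt (hps : NonAbH1.IsPseudoTorsorSch a) {T : Scheme.{u}} (t : T ⟶ S)
    (e₁ : T ⟶ E.left) (he₁ : e₁ ≫ E.hom = t) (e₂ : T ⟶ E.left) (he₂ : e₂ ≫ E.hom = t) :
    actPt a t (diffPt a hps t e₁ he₁ e₂ he₂) (diffPt_hom a hps t e₁ he₁ e₂ he₂) e₂ he₂ = e₁ := by
  haveI : IsIso (lift a.act (snd G E)) := hps
  let E₁ : Over.mk t ⟶ E := Over.homMk e₁ he₁
  let E₂ : Over.mk t ⟶ E := Over.homMk e₂ he₂
  let m : Over.mk t ⟶ G ⊗ E := lift E₁ E₂ ≫ inv (lift a.act (snd G E))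
  have hm : m ≫ lift a.act (snd G E) = lift E₁ E₂ := by
    simp only [m, Category.assoc, IsIso.inv_hom_id, Category.comp_id]
  rw [comp_lift] at hm
  have h1 : m ≫ a.act = E₁ := by
    have := congrArg (fun f => f ≫ fst E E) hm
    simpa using this
  have h2 : m ≫ snd G E = E₂ := by
    have := congrArg (fun f => f ≫ snd E E) hm
    simpa using this
  have h3 : m = lift (m ≫ fst G E) E₂ := by
    apply CartesianMonoidalCategory.hom_ext
    · simp
    · simp [h2]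
  have h4 : lift (m ≫ fst G E) E₂ ≫ a.act = E₁ := by rw [← h3, h1]
  have h5 : (Over.homMk (diffPt a hps t e₁ he₁ e₂ he₂) (diffPt_hom a hps t e₁ he₁ e₂ he₂) :
      Over.mk t ⟶ G) = m ≫ fst G E := by
    ext
    simp only [diffPt, m, Over.homMk_left, Category.assoc]
    rfl
  unfold actPt
  rw [h5, h4]
  rfl

end Groth.Agent.Lib.helper21.EtTorsorSec

end
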