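import Mathlib
import Groth.Agent.Lib.Helper9.EtaleNormal

/-!
# Morphisms to a separated `S`-scheme determined by a point over the generic point of `S`

`S` integral with generic point `η`, `π : E ⟶ S`, `x : Spec κ(η) ⟶ E`.  A morphism `τ : T ⟶ E`
over `t : T ⟶ S` is *good* if at every point `q` of `T` over `η` it restricts to `x` (through the
canonical `Spec κ(q) ⟶ Spec κ(η)`).
-/

set_option autoImplicit false
set_option linter.style.haveILetI false
universe u

noncomputable section

open CategoryTheory AlgebraicGeometry Limits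

namespace Groth.Agent.Lib.helper21.EtTorsorSec

variable {S E : Scheme.{u}} [IsIntegral S]

/-- the canonical map `Spec κ(q) ⟶ Spec κ(η)` for a point `q` over the generic point. -/
def rho {T : Scheme.{u}} (t : T ⟶ S) (q : T) (h : t q = genericPoint S) :
    Spec (T.residueField q) ⟶ Spec (S.residueField (genericPoint S)) :=
  Spec.map (t.residueFieldMap q) ≫ Spec.map (S.residueFieldCongr h.symm).hom

theorem rho_fromSpec {T : Scheme.{u}} (t : T ⟶ S) (q : T) (h : t q = genericPoint S) :
    rho t q h ≫ S.fromSpecResidueField (genericPoint S) = T.fromSpecResidueField q ≫ t := by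
  rw [rho, Category.assoc, Scheme.residueFieldCongr_fromSpecResidueField,
    Scheme.Hom.SpecMap_residueFieldMap_fromSpecResidueField]

theorem rho_unique {T : Scheme.{u}} (t : T ⟶ S) (q : T) (h : t q = genericPoint S)
    (ρ : Spec (T.residueField q) ⟶ Spec (S.residueField (genericPoint S)))
    (hρ : ρ ≫ S.fromSpecResidueField (genericPoint S) = T.fromSpecResidueField q ≫ t) :
    ρ = rho t q h := by
  rw [← cancel_mono (S.fromSpecResidueField (genericPoint S)), hρ, rho_fromSpec]

theorem rho_comp {T T' : Scheme.{u}} (b : T' ⟶ T) (t : T ⟶ S) (q' : T')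
    (h' : (b ≫ t) q' = genericPoint S) (h : t (b q') = genericPoint S) :
    rho (b ≫ t) q' h' = Spec.map (b.residueFieldMap q') ≫ rho t (b q') h := by
  symm
  apply rho_unique
  rw [Category.assoc, rho_fromSpec, Scheme.Hom.SpecMap_residueFieldMap_fromSpecResidueField_assoc]

variable (π : E ⟶ S) (x : Spec (S.residueField (genericPoint S)) ⟶ E)

/-- `τ : T ⟶ E` over `t` restricts to `x` at all points over the generic point. -/
def IsGood {T : Scheme.{u}} (t : T ⟶ S) (τ : T ⟶ E) : Prop :=
  τ ≫ π = t ∧ ∀ (q : T) (h : t q = genericPoint S),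
    T.fromSpecResidueField q ≫ τ = rho t q h ≫ x

variable {π x}

theorem IsGood.comp {T T' : Scheme.{u}} (b : T' ⟶ T) {t : T ⟶ S} {τ : T ⟶ E}
    (h : IsGood π x t τ) : IsGood π x (b ≫ t) (b ≫ τ) := by
  refine ⟨by rw [Category.assoc, h.1], fun q' h' => ?_⟩
  have hq : t (b q') = genericPoint S := by rw [← Scheme.Hom.comp_apply]; exact h'
  rw [rho_comp b t q' h' hq, Category.assoc, ← h.2 (b q') hq,
    Scheme.Hom.SpecMap_residueFieldMap_fromSpecResidueField_assoc]

/-- points over the generic point are dense in a flat `S`-scheme. -/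
theorem dense_generic_fibre {T : Scheme.{u}} (t : T ⟶ S) [Flat t] :
    Dense {q : T | t q = genericPoint S} := by
  intro u
  obtain ⟨ξ, hξ, hξu⟩ := Groth.Agent.Lib.helper9.EtaleNormal.exists_generic_specializes t u
  have hsub : ({ξ} : Set T) ⊆ {q : T | t q = genericPoint S} :=
    Set.singleton_subset_iff.mpr hξ
  exact closure_mono hsub (specializes_iff_mem_closure.mp hξu)

theorem IsGood.ext [IsSeparated π] {T : Scheme.{u}} [IsReduced T] {t : T ⟶ S} [Flat t]
    {τ₁ τ₂ : T ⟶ E} (h₁ : IsGood π x t τ₁) (h₂ : IsGood π x t τ₂) : τ₁ = τ₂ :=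
  ext_of_fromSpecResidueField_eq τ₁ τ₂ π _ (dense_generic_fibre t)
    (fun q hq => (h₁.2 q hq).trans (h₂.2 q hq).symm) (h₁.1.trans h₂.1.symm)

end Groth.Agent.Lib.helper21.EtTorsorSec

end
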