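import Mathlib
import Groth.Agent.Lib.Helper21.EtTorsorSec2
import Groth.Agent.Lib.Helper21.EtTorsorSec3
import Groth.Agent.Lib.Helper9.EtaleNormalSection
import Groth.Agent.Lib.Helper13.Normal1

/-!
# Sections of étale separated pseudo-torsors over a normal integral base extend from the generic
point, provided points of the group extend.
-/

set_option autoImplicit false
set_option linter.style.haveILetI false
universe u

noncomputable section

open CategoryTheory AlgebraicGeometry Limits
open Groth.Agent.Lib.helper9.EtaleNormal

namespace Groth.Agent.Lib.helper21.EtTorsorSec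

/-- `Spec` of a homomorphism of fields is an epimorphism of schemes. -/
theorem epi_SpecMap_of_field {K L : Type u} [Field K] [Field L] (φ : K →+* L) :
    Epi (Spec.map (CommRingCat.ofHom φ)) := by
  haveI : Flat (Spec.map (CommRingCat.ofHom φ)) := by
    rw [Flat.SpecMap_iff]
    letI := φ.toAlgebra
    show Module.Flat K L
    infer_instance
  haveI : Surjective (Spec.map (CommRingCat.ofHom φ)) := by
    refine ⟨fun y => ?_⟩
    haveI : Subsingleton (Spec (CommRingCat.of K)) :=
      inferInstanceAs (Subsingleton (PrimeSpectrum K))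
    haveI : Nonempty (Spec (CommRingCat.of L)) := inferInstanceAs (Nonempty (PrimeSpectrum L))
    exact ⟨Classical.arbitrary _, Subsingleton.elim _ _⟩
  infer_instance

variable {S : Scheme.{u}} [IsIntegral S]

theorem epi_rho {T : Scheme.{u}} (t : T ⟶ S) (q : T) (h : t q = genericPoint S) :
    Epi (rho t q h) := by
  rw [rho, ← Spec.map_comp]
  exact epi_SpecMap_of_field
    ((S.residueFieldCongr h.symm).hom ≫ t.residueFieldMap q).hom

variable {E : Scheme.{u}} {π : E ⟶ S} {x : Spec (S.residueField (genericPoint S)) ⟶ E}

/-- goodness can be checked on neighbourhoods of the points over the generic point. -/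
theorem isGood_of_local {T : Scheme.{u}} {t : T ⟶ S} {τ : T ⟶ E} (h1 : τ ≫ π = t)
    (h2 : ∀ (q : T), t q = genericPoint S → ∃ (W : Scheme.{u}) (j : W ⟶ T) (q' : W),
      j q' = q ∧ IsIso (j.residueFieldMap q') ∧ IsGood π x (j ≫ t) (j ≫ τ)) :
    IsGood π x t τ := by
  refine ⟨h1, fun q h => ?_⟩
  obtain ⟨W, j, q', rfl, hiso, hgood⟩ := h2 q h
  have h' : (j ≫ t) q' = genericPoint S := by rw [Scheme.Hom.comp_apply]; exact h
  have e1 := hgood.2 q' h'
  rw [rho_comp j t q' h' h, ← Scheme.Hom.SpecMap_residueFieldMap_fromSpecResidueField_assoc] at e1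
  haveI : IsIso (Spec.map (j.residueFieldMap q')) := inferInstance
  exact (cancel_epi (Spec.map (j.residueFieldMap q'))).mp (by simpa using e1)

end Groth.Agent.Lib.helper21.EtTorsorSec

end
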