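import Mathlib
import Groth.Agent.Lib.Helper21.EtTorsorSec4
import Groth.Agent.Lib.Helper13.Normal2

/-!
# Sections of étale separated pseudo-torsors over a normal integral base extend from the generic
point, provided points of the group extend: the construction.
-/

set_option autoImplicit false
set_option linter.style.haveILetI false
universe u

noncomputable section

open CategoryTheory AlgebraicGeometry Limits
open Groth.Agent.Lib.helper9.EtaleNormal

namespace Groth.Agent.Lib.helper21.EtTorsorSec

variable {S : Scheme.{u}} [IsIntegral S] {G E : Over S} [GrpObj G] (a : AlgGrp.Action G E)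

omit [IsIntegral S] in
theorem actPt_congr {T : Scheme.{u}} (t : T ⟶ S) {g g' : T ⟶ G.left} (hgg : g = g')
    (hg : g ≫ G.hom = t) (e : T ⟶ E.left) (he : e ≫ E.hom = t) :
    actPt a t g hg e he = actPt a t g' (hgg ▸ hg) e he := by
  subst hgg; rfl

/-- points of `G` with values in the generic point of an integral normal `S`-scheme extend. -/
def ExtendsPoints (G : Over S) : Prop :=
  ∀ (W : Scheme.{u}) [IsIntegral W], Pi1.IsNormalScheme W → ∀ (w : W ⟶ S)
    (g₀ : Spec (W.residueField (genericPoint W)) ⟶ G.left),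
    g₀ ≫ G.hom = W.fromSpecResidueField (genericPoint W) ≫ w →
    ∃ g : W ⟶ G.left, g ≫ G.hom = w ∧ W.fromSpecResidueField (genericPoint W) ≫ g = g₀

variable (hps : NonAbH1.IsPseudoTorsorSch a)
  (x : Spec (S.residueField (genericPoint S)) ⟶ E.left)
  (hx : x ≫ E.hom = S.fromSpecResidueField (genericPoint S))

include hps hx in
/-- a good morphism on an integral normal piece with a single point over the generic point. -/
theorem exists_good_piece (hG : ExtendsPoints G) {W : Scheme.{u}} [IsIntegral W]
    (hW : Pi1.IsNormalScheme W) (j : W ⟶ E.left)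
    (hξ : (j ≫ E.hom) (genericPoint W) = genericPoint S)
    (honly : ∀ q : W, (j ≫ E.hom) q = genericPoint S → q = genericPoint W) :
    ∃ τ : W ⟶ E.left, IsGood E.hom x (j ≫ E.hom) τ := by
  have he₁ : (rho (j ≫ E.hom) (genericPoint W) hξ ≫ x) ≫ E.hom =
      W.fromSpecResidueField (genericPoint W) ≫ j ≫ E.hom := by
    rw [Category.assoc, hx, rho_fromSpec]
  have he₂ : (W.fromSpecResidueField (genericPoint W) ≫ j) ≫ E.hom =
      W.fromSpecResidueField (genericPoint W) ≫ j ≫ E.hom := by rw [Category.assoc]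
  obtain ⟨g, hg1, hg2⟩ := hG W hW (j ≫ E.hom)
    (diffPt a hps _ _ he₁ _ he₂) (diffPt_hom a hps _ _ he₁ _ he₂)
  refine ⟨actPt a (j ≫ E.hom) g hg1 j rfl, actPt_hom a _ g hg1 j rfl, fun q hq => ?_⟩
  obtain rfl := honly q hq
  rw [comp_actPt, actPt_congr a _ hg2]
  exact actPt_diffPt a hps _ _ he₁ _ he₂


include hps hx in
/-- **Extension of generic sections of étale torsors**: `S` integral normal, `E` an étale,
separated, surjective pseudo-torsor under `G`, points of `G` with values in generic points of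
integral normal `S`-schemes extend; then every point of `E` over the generic point of `S`
extends to a section. -/
theorem exists_section_of_generic_point (hS : Pi1.IsNormalScheme S) [Etale E.hom]
    [IsSeparated E.hom] [Surjective E.hom] (hG : ExtendsPoints G) :
    ∃ σ : S ⟶ E.left, σ ≫ E.hom = 𝟙 S ∧ S.fromSpecResidueField (genericPoint S) ≫ σ = x := by
  haveI hqf : LocallyQuasiFinite E.hom :=
    Groth.Agent.S5067.locallyQuasiFinite_of_unramified E.hom
  have hEn : Pi1.IsNormalScheme E.left := Groth.Agent.Lib.helper13.Normal.of_etale E.hom hS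
  have hU : ∀ u : E.left, IsDomain (E.left.presheaf.stalk u) := fun u => (hEn u).1
  haveI : IsReduced E.left := Groth.Agent.Lib.helper13.Normal.isReduced hEn
  let ι : Type u := {ζ : E.left // E.hom ζ = genericPoint S}
  let W : ι → E.left.Opens := fun ζ => genOpen E.hom hU ζ.1 ζ.2
  have hcov : ⨆ i, W i = ⊤ := by
    rw [eq_top_iff]
    intro u _
    obtain ⟨ζ, hζ, hu⟩ := exists_mem_genOpen E.hom hU u
    exact TopologicalSpace.Opens.mem_iSup.mpr ⟨⟨ζ, hζ⟩, hu⟩
  have hpiece : ∀ i : ι, ∃ τ : (W i).toScheme ⟶ E.left,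
      IsGood E.hom x ((W i).ι ≫ E.hom) τ := by
    intro i
    haveI := isIntegral_genOpen E.hom hU i.1 i.2
    have hgp := genericPoint_genOpen E.hom hU i.1 i.2
    refine exists_good_piece a hps x hx hG
      (Groth.Agent.Lib.helper13.Normal.opens hEn (W i)) (W i).ι ?_ ?_
    · rw [hgp]; exact i.2
    · intro q hq
      rw [hgp]
      have hq' : E.hom q.1 = genericPoint S := hq
      have hsp : i.1 ⤳ q.1 := q.2
      have := eq_of_specializes_of_apply_eq_genericPoint E.hom hq' hsp
      exact Subtype.ext this.symm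
  choose τ hτ using hpiece
  have compat : ∀ i j, E.left.homOfLE (inf_le_left : W i ⊓ W j ≤ W i) ≫ τ i =
      E.left.homOfLE (inf_le_right : W i ⊓ W j ≤ W j) ≫ τ j := by
    intro i j
    have h1 : IsGood E.hom x ((W i ⊓ W j).ι ≫ E.hom)
        (E.left.homOfLE (inf_le_left : W i ⊓ W j ≤ W i) ≫ τ i) := by
      have := (hτ i).comp (E.left.homOfLE (inf_le_left : W i ⊓ W j ≤ W i))
      rwa [← Category.assoc, Scheme.homOfLE_ι] at this
    have h2 : IsGood E.hom x ((W i ⊓ W j).ι ≫ E.hom)
        (E.left.homOfLE (inf_le_right : W i ⊓ W j ≤ W j) ≫ τ j) := by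
      have := (hτ j).comp (E.left.homOfLE (inf_le_right : W i ⊓ W j ≤ W j))
      rwa [← Category.assoc, Scheme.homOfLE_ι] at this
    exact h1.ext h2
  obtain ⟨τ', hτ', hext⟩ := exists_glue_cover W hcov τ compat
  have hgood : IsGood E.hom x E.hom τ' := by
    refine isGood_of_local ?_ ?_
    · apply hext
      intro i
      rw [← Category.assoc, hτ' i]
      exact (hτ i).1
    · intro q hq
      refine ⟨(W ⟨q, hq⟩).toScheme, (W ⟨q, hq⟩).ι, ⟨q, self_mem_genOpen E.hom hU q hq⟩, rfl,
        inferInstance, ?_⟩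
      rw [hτ']
      exact hτ _
  have hdesc : pullback.fst E.hom E.hom ≫ τ' = pullback.snd E.hom E.hom ≫ τ' := by
    have h1 := hgood.comp (pullback.fst E.hom E.hom)
    have h2 := hgood.comp (pullback.snd E.hom E.hom)
    rw [← pullback.condition] at h2
    haveI : IsReduced (pullback E.hom E.hom) := Groth.Agent.Lib.helper13.Normal.isReduced
      (Groth.Agent.Lib.helper13.Normal.of_etale (pullback.fst E.hom E.hom ≫ E.hom) hS)
    exact h1.ext h2
  have hw : ∀ {Z : Scheme.{u}} (g₁ g₂ : Z ⟶ E.left), g₁ ≫ E.hom = g₂ ≫ E.hom →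
      g₁ ≫ τ' = g₂ ≫ τ' := by
    intro Z g₁ g₂ h
    rw [← pullback.lift_fst g₁ g₂ h, Category.assoc, hdesc, pullback.lift_snd_assoc]
  refine ⟨EffectiveEpi.desc E.hom τ' hw, ?_, ?_⟩
  · rw [← cancel_epi E.hom, EffectiveEpi.fac_assoc, hgood.1, Category.comp_id]
  · obtain ⟨q, hq⟩ := (inferInstance : Surjective E.hom).surj (genericPoint S)
    haveI := epi_rho E.hom q hq
    rw [← cancel_epi (rho E.hom q hq), ← Category.assoc, rho_fromSpec, Category.assoc,
      EffectiveEpi.fac]
    exact hgood.2 q hq

end Groth.Agent.Lib.helper21.EtTorsorSec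

end
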