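import Mathlib
import Groth.Agent.Lib.Helper21.EtTorsorSec1
import Groth.Agent.Lib.Helper21.EtTorsorSec5
import Groth.Agent.Lib.Helper14.SepGrpField2
import Groth.Agent.Lib.Helper4.TorsorFpqc2
import Groth.Agent.S0081
import Groth.Agent.S18860

/-!
# Torsors under an étale group scheme over a field, over a normal integral base
-/

set_option autoImplicit false
set_option linter.style.haveILetI false
universe u

noncomputable section

open CategoryTheory AlgebraicGeometry Limits

namespace Groth.Agent.Lib.helper21.EtTorsorSec

variable (k : Type u) [Field k] (G : Over (Spec (CommRingCat.of k))) [GrpObj G] [Etale G.hom]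
  {S : Scheme.{u}} [IsIntegral S] (s : S ⟶ Spec (CommRingCat.of k))

omit [GrpObj G] [IsIntegral S] in
/-- points of the base change of an étale `k`-group extend from generic points of integral normal
schemes. -/
theorem extendsPoints_bc : ExtendsPoints (Red.bc s G) := by
  intro W _ hW w g₀ hg₀
  have hg₀' : g₀ ≫ pullback.snd G.hom s = W.fromSpecResidueField (genericPoint W) ≫ w := hg₀
  obtain ⟨ψ', h1, h2⟩ := exists_extension_etale_field k G.hom hW (w ≫ s)
    (g₀ ≫ pullback.fst G.hom s)
    (by rw [Category.assoc, pullback.condition, reassoc_of% hg₀'])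
  refine ⟨pullback.lift ψ' w h1, pullback.lift_snd _ _ _, ?_⟩
  apply pullback.hom_ext
  · rw [Category.assoc, pullback.lift_fst, h2]
  · rw [Category.assoc, pullback.lift_snd, hg₀']

/-- an fppf torsor under the base change of an étale `k`-group to a normal integral scheme is
étale, separated and surjective, and its points over the generic point extend to sections. -/
theorem torsor_etale_field (hS : Pi1.IsNormalScheme S) {X : Over S}
    (act : AlgGrp.Action (Red.bc s G) X)
    (hT : NonAbH1.IsTorsorFor Scheme.fppfPrecoverage act) :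
    IsSeparated X.hom ∧
    (∀ x : Spec (S.residueField (genericPoint S)) ⟶ X.left,
      x ≫ X.hom = S.fromSpecResidueField (genericPoint S) →
      ∃ σ : S ⟶ X.left, σ ≫ X.hom = 𝟙 S ∧ S.fromSpecResidueField (genericPoint S) ≫ σ = x) := by
  have hfpqc : NonAbH1.IsTorsorFor Scheme.fpqcPrecoverage act := by
    obtain ⟨h1, R, hR, h2⟩ := hT
    exact ⟨h1, R, Scheme.fppfPrecoverage_le_fpqcPrecoverage _ hR, h2⟩
  haveI : IsSeparated G.hom := Groth.Agent.Lib.Helper14.SepGrpField2.isSeparated_of_grpObj' G
  haveI hGet : Etale (Red.bc s G).hom := inferInstanceAs (Etale (pullback.snd G.hom s))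
  haveI hGsep : IsSeparated (Red.bc s G).hom :=
    inferInstanceAs (IsSeparated (pullback.snd G.hom s))
  haveI : Etale X.hom := (Groth.Agent.S18860.result act hfpqc).2.2.2.2 hGet
  have hdesc := Groth.Agent.S0081.result.{u}
  haveI hXsep : IsSeparated X.hom :=
    Groth.Agent.Lib.Helper4.TorsorFpqc2.prop_of_isTorsorFor_fpqc @IsSeparated (Red.bc s G) X act
      hfpqc hGsep
  haveI : Surjective X.hom :=
    Groth.Agent.Lib.Helper4.TorsorFpqc2.prop_of_isTorsorFor_fpqc @Surjective (Red.bc s G) X act
      hfpqc (Groth.Agent.Lib.Helper4.TorsorFpqc2.surjective_of_grpObj (Red.bc s G))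
  refine ⟨hXsep, fun x hx => ?_⟩
  exact exists_section_of_generic_point act hfpqc.1 x hx hS (extendsPoints_bc k G s)

end Groth.Agent.Lib.helper21.EtTorsorSec

end
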