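import Mathlib

/-!
# `Ext` and adjunctions between exact functors (helper21)

For an adjunction `L ⊣ R` between abelian categories with `L` and `R` both exact and the target of `L` having enough
injectives, `Ext^i(L F, G) ≃+ Ext^i(F, R G)`: the map `e ↦ η_F ∘ R(e)` is a morphism of `δ`-functors in `G`, bijective
in degree `0`, and both sides are effaceable.
-/

set_option autoImplicit false

universe w w' u u' v v'

open CategoryTheory CategoryTheory.Limits CategoryTheory.Abelian

namespace Groth.Agent.Lib.helper21.ExtAdj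

variable {C : Type u} [Category.{v} C] [Abelian C] {D : Type u'} [Category.{v'} D] [Abelian D]
  [HasExt.{w} C] [HasExt.{w'} D]
  {L : C ⥤ D} {R : D ⥤ C} (adj : L ⊣ R)
  [R.Additive] [PreservesFiniteLimits R] [PreservesFiniteColimits R]

/-- the comparison map `Ext^i(L F, G) ⟶ Ext^i(F, R G)`, `e ↦ η_F ∘ R(e)` -/
noncomputable def extMap (F : C) (G : D) (i : ℕ) : Ext (L.obj F) G i →+ Ext F (R.obj G) i :=
  ((Ext.mk₀ (adj.unit.app F)).precomp (R.obj G) (zero_add i)).comp (R.mapExtAddHom (L.obj F) G i)

lemma extMap_apply (F : C) (G : D) (i : ℕ) (e : Ext (L.obj F) G i) :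
    extMap adj F G i e = (Ext.mk₀ (adj.unit.app F)).comp (e.mapExactFunctor R) (zero_add i) := rfl

lemma extMap_comp_mk₀ (F : C) {G G' : D} (g : G ⟶ G') (i : ℕ) (e : Ext (L.obj F) G i) :
    extMap adj F G' i (e.comp (Ext.mk₀ g) (add_zero i)) =
      (extMap adj F G i e).comp (Ext.mk₀ (R.map g)) (add_zero i) := by
  rw [extMap_apply, extMap_apply, Ext.mapExactFunctor_comp, Ext.mapExactFunctor_mk₀,
    Ext.comp_assoc_of_third_deg_zero]

lemma extMap_comp_extClass (F : C) {S : ShortComplex D} (hS : S.ShortExact) (i j : ℕ)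
    (h : i + 1 = j) (e : Ext (L.obj F) S.X₃ i) :
    extMap adj F S.X₁ j (e.comp hS.extClass h) =
      (extMap adj F S.X₃ i e).comp (hS.map_of_exact R).extClass h := by
  rw [extMap_apply, extMap_apply, Ext.mapExactFunctor_comp, Ext.mapExactFunctor_extClass,
    Ext.comp_assoc _ _ _ (zero_add i) h (by omega)]
  rfl

lemma extMap_mk₀ (F : C) (G : D) (f : L.obj F ⟶ G) :
    extMap adj F G 0 (Ext.mk₀ f) = Ext.mk₀ (adj.homEquiv F G f) := by
  rw [extMap_apply, Ext.mapExactFunctor_mk₀, Ext.mk₀_comp_mk₀, Adjunction.homEquiv_unit]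

lemma extMap_zero_bijective (F : C) (G : D) : Function.Bijective (extMap adj F G 0) := by
  constructor
  · intro e e' h
    obtain ⟨f, rfl⟩ := (Ext.mk₀_bijective _ _).2 e
    obtain ⟨f', rfl⟩ := (Ext.mk₀_bijective _ _).2 e'
    rw [extMap_mk₀, extMap_mk₀] at h
    have := (Ext.mk₀_bijective _ _).1 h
    rw [(adj.homEquiv F G).injective this]
  · intro y
    obtain ⟨g, rfl⟩ := (Ext.mk₀_bijective _ _).2 y
    refine ⟨Ext.mk₀ ((adj.homEquiv F G).symm g), ?_⟩
    rw [extMap_mk₀, Equiv.apply_symm_apply]

variable [EnoughInjectives D] [L.PreservesMonomorphisms]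

include adj in
lemma injective_map (I : D) [Injective I] : Injective (R.obj I) :=
  adj.map_injective I inferInstance

theorem extMap_bijective (i : ℕ) : ∀ (F : C) (G : D), Function.Bijective (extMap adj F G i) := by
  induction i with
  | zero => exact fun F G => extMap_zero_bijective adj F G
  | succ i ih =>
    intro F G
    -- the short exact sequence `0 ⟶ G ⟶ I ⟶ Q ⟶ 0`
    let ι : G ⟶ Injective.under G := Injective.ι G
    let S : ShortComplex D := ShortComplex.mk ι (cokernel.π ι) (cokernel.condition ι)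
    have hS : S.ShortExact :=
      { exact := ShortComplex.exact_cokernel ι
        mono_f := inferInstanceAs (Mono (Injective.ι G))
        epi_g := inferInstanceAs (Epi (cokernel.π ι)) }
    have hRS : (S.map R).ShortExact := hS.map_of_exact R
    haveI : Injective (S.map R).X₂ := injective_map adj (Injective.under G)
    haveI : Injective S.X₂ := inferInstanceAs (Injective (Injective.under G))
    constructor
    · -- injectivity
      rw [injective_iff_map_eq_zero]
      intro e he
      obtain ⟨e₃, rfl⟩ := Ext.covariant_sequence_exact₁ (L.obj F) hS e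
        (Ext.eq_zero_of_injective _) rfl
      have he' := (extMap_comp_extClass adj F hS i (i + 1) rfl e₃).symm.trans he
      obtain ⟨y₂, hy₂⟩ := Ext.covariant_sequence_exact₃ F hRS (extMap adj F S.X₃ i e₃) rfl he'
      obtain ⟨e₂, rfl⟩ := (ih F S.X₂).2 y₂
      have h1 : extMap adj F S.X₃ i (e₂.comp (Ext.mk₀ S.g) (add_zero i)) =
          extMap adj F S.X₃ i e₃ := by
        rw [extMap_comp_mk₀]
        exact hy₂
      have h2 := (ih F S.X₃).1 h1
      rw [← h2, Ext.comp_assoc_of_second_deg_zero, hS.comp_extClass, Ext.comp_zero]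
    · -- surjectivity
      intro y
      obtain ⟨y₃, rfl⟩ := Ext.covariant_sequence_exact₁ F hRS y
        (Ext.eq_zero_of_injective _) rfl
      obtain ⟨e₃, rfl⟩ := (ih F S.X₃).2 y₃
      exact ⟨e₃.comp hS.extClass rfl, extMap_comp_extClass adj F hS i (i + 1) rfl e₃⟩

/-- **`Ext^i(L F, G) ≃+ Ext^i(F, R G)`** for an adjunction `L ⊣ R` with `R` exact and `L` preserving monomorphisms -/
noncomputable def extAddEquiv (F : C) (G : D) (i : ℕ) : Ext (L.obj F) G i ≃+ Ext F (R.obj G) i :=
  AddEquiv.ofBijective (extMap adj F G i) (extMap_bijective adj i F G)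

end Groth.Agent.Lib.helper21.ExtAdj
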