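import Mathlib

/-!
# Extending morphisms along a monomorphism using a pushout with vanishing `Ext¹`
-/

open CategoryTheory Limits Abelian

universe w v u

namespace Groth.Agent.Lib.Helper21.ExtPushout

variable {A : Type u} [Category.{v} A] [Abelian A] [HasExt.{w} A]

/-- If `W` is the pushout of a mono `i : Y ⟶ X` along `p : Y ⟶ T`, `p` factors through `i`, and
`Ext¹(W, F) = 0`, then every morphism `Y ⟶ F` extends along `i`. -/
theorem exists_extension {Y X T W F : A} (i : Y ⟶ X) [Mono i] (p : Y ⟶ T) (pX : X ⟶ T)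
    (hp : i ≫ pX = p) (a : X ⟶ W) (b : T ⟶ W) (h : IsPushout i p a b)
    (hW : Subsingleton (Ext.{w} W F 1)) (s : Y ⟶ F) : ∃ t : X ⟶ F, i ≫ t = s := by
  let sq : Square A := { X₁ := Y, X₂ := X, X₃ := T, X₄ := W, f₁₂ := i, f₁₃ := p, f₂₄ := a, f₃₄ := b,
                         fac := h.w }
  have hsq : sq.IsPushout := h
  have hcok := hsq.isColimitCokernelCofork
  let S : ShortComplex A := ShortComplex.mk (biprod.lift i (-p)) (biprod.desc a b)
    (by simp [h.w])
  haveI : Mono S.f := mono_of_mono_fac (show S.f ≫ biprod.fst = i by simp [S])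
  have hex : S.Exact := ShortComplex.exact_of_g_is_cokernel S hcok
  haveI : Epi S.g := epi_of_isColimit_cofork hcok
  have hS : S.ShortExact := { exact := hex }
  obtain ⟨x₂, hx₂⟩ := Ext.contravariant_sequence_exact₁ hS F (Ext.mk₀ s) (n₁ := 1) rfl
    (Subsingleton.elim _ _)
  obtain ⟨t', rfl⟩ := (Ext.mk₀_bijective _ _).2 x₂
  rw [Ext.mk₀_comp_mk₀] at hx₂
  have hx : S.f ≫ t' = s := (Ext.mk₀_bijective _ _).1 hx₂
  refine ⟨biprod.inl ≫ t' - pX ≫ biprod.inr ≫ t', ?_⟩
  rw [← hx]
  have : S.f = i ≫ biprod.inl - p ≫ biprod.inr := by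
    apply biprod.hom_ext <;> simp [S]
  rw [this, Preadditive.sub_comp, Preadditive.comp_sub, ← hp]
  simp
end Groth.Agent.Lib.Helper21.ExtPushout
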