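import Mathlib

/-!
# `Γ_I(J)` is injective for `J` injective over a Noetherian ring (helper21)

For an ideal `I` of a ring `R` and an `R`-module `J`, `suppSub I J` is the submodule of elements `s`
killed by a power of every `g ∈ I` (the sections of `J^~` supported on `V(I)`).  Over a Noetherian
ring, `suppSub I J` is injective when `J` is (Baer's criterion and the Artin–Rees lemma).
-/

set_option autoImplicit false

universe u

namespace Groth.Agent.Lib.helper21.ExtY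

variable {R : Type u} [CommRing R]

/-- the elements of `J` killed by a power of every element of `I` -/
def suppSub (I : Ideal R) (J : Type u) [AddCommGroup J] [Module R J] : Submodule R J where
  carrier := {s | ∀ g ∈ I, ∃ k : ℕ, g ^ k • s = 0}
  add_mem' := by
    intro s t hs ht g hg
    obtain ⟨k, hk⟩ := hs g hg
    obtain ⟨l, hl⟩ := ht g hg
    refine ⟨k + l, ?_⟩
    have h1 : g ^ (k + l) • s = 0 := by rw [pow_add, mul_comm, mul_smul, hk, smul_zero]
    have h2 : g ^ (k + l) • t = 0 := by rw [pow_add, mul_smul, hl, smul_zero]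
    rw [smul_add, h1, h2, add_zero]
  zero_mem' := fun _ _ => ⟨0, smul_zero _⟩
  smul_mem' := by
    intro r s hs g hg
    obtain ⟨k, hk⟩ := hs g hg
    exact ⟨k, by rw [smul_comm, hk, smul_zero]⟩

variable {I : Ideal R} {J : Type u} [AddCommGroup J] [Module R J]

lemma mem_suppSub_iff (s : J) : s ∈ suppSub I J ↔ ∀ g ∈ I, ∃ k : ℕ, g ^ k • s = 0 := Iff.rfl

lemma mem_suppSub_of_pow (s : J) (N : ℕ) (h : ∀ a ∈ I ^ N, a • s = 0) : s ∈ suppSub I J :=
  fun _ hg => ⟨N, h _ (Ideal.pow_mem_pow hg N)⟩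

lemma exists_pow_smul_eq_zero [IsNoetherianRing R] (s : J) (hs : s ∈ suppSub I J) :
    ∃ N : ℕ, ∀ a ∈ I ^ N, a • s = 0 := by
  have h1 : I ≤ (Ideal.torsionOf R J s).radical := by
    intro g hg
    obtain ⟨k, hk⟩ := hs g hg
    exact ⟨k, (Ideal.mem_torsionOf_iff _ _).2 hk⟩
  obtain ⟨N, hN⟩ := Ideal.exists_pow_le_of_le_radical_of_fg h1 (IsNoetherian.noetherian I)
  exact ⟨N, fun a ha => (Ideal.mem_torsionOf_iff _ _).1 (hN ha)⟩

/-- **`Γ_I(J)` is injective** -/
theorem injective_suppSub [IsNoetherianRing R] (I : Ideal R) (J : Type u) [AddCommGroup J]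
    [Module R J] [Module.Injective R J] : Module.Injective R (suppSub I J) := by
  classical
  apply Module.Baer.injective
  intro 𝔞 φ
  let ψ : 𝔞 →ₗ[R] J := (suppSub I J).subtype ∘ₗ φ
  -- a power of `I` kills the image of `φ`
  have hfg : (𝔞 : Submodule R R).FG := IsNoetherian.noetherian 𝔞
  obtain ⟨S, hS⟩ := hfg
  have hS : Submodule.span R (S : Set R) = 𝔞 := hS
  have hSle : ∀ a ∈ S, a ∈ 𝔞 := fun a ha => hS ▸ Submodule.subset_span ha
  have hN : ∃ N : ℕ, ∀ a (ha : a ∈ S), ∀ r ∈ I ^ N, r • ψ ⟨a, hSle a ha⟩ = 0 := by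
    have h1 : ∀ a : S, ∃ N : ℕ, ∀ r ∈ I ^ N, r • ψ ⟨a.1, hSle a.1 a.2⟩ = 0 :=
      fun a => exists_pow_smul_eq_zero _ (φ ⟨a.1, hSle a.1 a.2⟩).2
    choose Nf hNf using h1
    refine ⟨Finset.univ.sup Nf, fun a ha r hr => ?_⟩
    exact hNf ⟨a, ha⟩ r (Ideal.pow_le_pow_right (Finset.le_sup (Finset.mem_univ (⟨a, ha⟩ : S))) hr)
  obtain ⟨N, hN⟩ := hN
  have hall : ∀ b (hb : b ∈ 𝔞), ∀ r ∈ I ^ N, r • ψ ⟨b, hb⟩ = 0 := by
    intro b hb
    have hb' : b ∈ Submodule.span R (S : Set R) := hS ▸ hb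
    induction hb' using Submodule.span_induction with
    | mem a ha => exact fun r hr => hN a ha r hr
    | zero =>
      intro r _
      have : (⟨0, hb⟩ : 𝔞) = 0 := rfl
      rw [this, map_zero, smul_zero]
    | add x y hx hy ihx ihy =>
      intro r hr
      have hx' : x ∈ 𝔞 := hS ▸ hx
      have hy' : y ∈ 𝔞 := hS ▸ hy
      have : (⟨x + y, hb⟩ : 𝔞) = ⟨x, hx'⟩ + ⟨y, hy'⟩ := rfl
      rw [this, map_add, smul_add, ihx hx' r hr, ihy hy' r hr, add_zero]
    | smul c x hx ihx =>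
      intro r hr
      have hx' : x ∈ 𝔞 := hS ▸ hx
      have : (⟨c • x, hb⟩ : 𝔞) = c • ⟨x, hx'⟩ := rfl
      rw [this, map_smul, smul_comm, ihx hx' r hr, smul_zero]
  -- Artin–Rees
  obtain ⟨c, hc⟩ := Ideal.exists_pow_inf_eq_pow_smul I (𝔞 : Submodule R R)
  let n := N + c
  have hAR : ∀ b (hb : b ∈ 𝔞), b ∈ I ^ n → ψ ⟨b, hb⟩ = 0 := by
    intro b hb hbn
    have h1 : b ∈ (I ^ n • ⊤ ⊓ 𝔞 : Submodule R R) := by
      refine ⟨?_, hb⟩
      rw [Ideal.smul_top_eq_map]
      simpa using hbn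
    rw [hc n (Nat.le_add_left c N)] at h1
    have hn : n - c = N := Nat.add_sub_cancel N c
    rw [hn] at h1
    have h2 : b ∈ (I ^ N • (𝔞 : Submodule R R) : Submodule R R) :=
      Submodule.smul_mono le_rfl inf_le_right h1
    have key : ∀ x ∈ (I ^ N • (𝔞 : Submodule R R) : Submodule R R),
        ∀ hx : x ∈ 𝔞, ψ ⟨x, hx⟩ = 0 := by
      intro x hx
      induction hx using Submodule.smul_induction_on' with
      | smul r hr a ha =>
        intro hx
        have : (⟨r • a, hx⟩ : 𝔞) = r • ⟨a, ha⟩ := rfl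
        rw [this, map_smul]
        exact hall a ha r hr
      | add x hx y hy ihx ihy =>
        intro hxy
        have hle : (I ^ N • (𝔞 : Submodule R R) : Submodule R R) ≤ 𝔞 := Submodule.smul_le_right
        have hx' : x ∈ 𝔞 := hle hx
        have hy' : y ∈ 𝔞 := hle hy
        have : (⟨x + y, hxy⟩ : 𝔞) = ⟨x, hx'⟩ + ⟨y, hy'⟩ := rfl
        rw [this, map_add, ihx hx', ihy hy', add_zero]
    exact key b h2 hb
  -- extend along `𝔞 / (𝔞 ∩ I^n) ↪ R / I^n`
  let K : Submodule R 𝔞 := Submodule.comap 𝔞.subtype (I ^ n)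
  have hK : K ≤ LinearMap.ker ψ := by
    rintro ⟨b, hb⟩ hbK
    exact hAR b hb hbK
  let f : (𝔞 ⧸ K) →ₗ[R] (R ⧸ I ^ n) := K.mapQ (I ^ n) 𝔞.subtype le_rfl
  have hf : Function.Injective f := by
    rw [← LinearMap.ker_eq_bot, LinearMap.ker_eq_bot']
    intro x hx
    obtain ⟨a, rfl⟩ := Submodule.Quotient.mk_surjective _ x
    rw [Submodule.mapQ_apply, Submodule.Quotient.mk_eq_zero] at hx
    exact (Submodule.Quotient.mk_eq_zero _).2 hx
  let g : (𝔞 ⧸ K) →ₗ[R] J := K.liftQ ψ hK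
  have hB : Module.Baer R J := Module.Baer.of_injective inferInstance
  obtain ⟨h, hh⟩ := hB.extension_property f hf g
  let e : J := h (Submodule.Quotient.mk 1)
  have he : e ∈ suppSub I J := by
    refine mem_suppSub_of_pow e n fun a ha => ?_
    change a • h (Submodule.Quotient.mk 1) = 0
    rw [← map_smul, ← Submodule.Quotient.mk_smul, smul_eq_mul, mul_one,
      (Submodule.Quotient.mk_eq_zero _).2 ha, map_zero]
  refine ⟨LinearMap.toSpanSingleton R (suppSub I J) ⟨e, he⟩, fun a ha => ?_⟩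
  apply Subtype.ext
  rw [LinearMap.toSpanSingleton_apply]
  change a • e = ψ ⟨a, ha⟩
  have h1 : ψ ⟨a, ha⟩ = g (Submodule.Quotient.mk ⟨a, ha⟩) := (Submodule.liftQ_apply _ _ _).symm
  rw [h1, ← hh, LinearMap.comp_apply, Submodule.mapQ_apply]
  change a • h (Submodule.Quotient.mk 1) = h (Submodule.Quotient.mk a)
  rw [← map_smul, ← Submodule.Quotient.mk_smul, smul_eq_mul, mul_one]

end Groth.Agent.Lib.helper21.ExtY
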