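import Mathlib
import Groth.Agent.Lib.Helper16.CohStalk

/-!
# Vanishing of stalks of `O_X`-modules: sections criteria (helper21)

* `subsingleton_stalk_iff`: `E_x = 0` iff every section near `x` vanishes on a smaller neighbourhood;
* `subsingleton_stalk_of_iso`, `subsingleton_stalk_restrict_iff` (restriction along open immersions);
* `subsingleton_stalk_of_affine`: for `E` quasi-coherent and `U ∋ x` affine it suffices to test the
  sections over `U`.
-/

set_option autoImplicit false

universe u

open CategoryTheory CategoryTheory.Limits AlgebraicGeometry Opposite TopologicalSpace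

namespace Groth.Agent.Lib.helper21.ExtY

open Scheme.Modules

variable {X : Scheme.{u}}

/-- `E_x = 0` iff every section defined near `x` vanishes near `x` -/
theorem subsingleton_stalk_iff (E : X.Modules) (x : X) :
    Subsingleton (E.presheaf.stalk x) ↔
      ∀ (W : X.Opens) (_ : x ∈ W) (s : Γ(E, W)), ∃ (W' : X.Opens) (h : W' ≤ W), x ∈ W' ∧
        E.presheaf.map (homOfLE h).op s = 0 := by
  constructor
  · intro h W hx s
    have h1 : E.presheaf.germ W x hx s = E.presheaf.germ W x hx 0 := Subsingleton.elim _ _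
    obtain ⟨W', hx', i1, i2, h2⟩ := TopCat.Presheaf.germ_eq E.presheaf x hx hx s 0 h1
    refine ⟨W', i1.le, hx', ?_⟩
    rw [map_zero] at h2
    exact h2
  · intro h
    refine ⟨fun a b => ?_⟩
    have key : ∀ t : E.presheaf.stalk x, t = 0 := by
      intro t
      obtain ⟨W, hx, s, rfl⟩ := TopCat.Presheaf.exists_germ_eq E.presheaf (x := x) t
      obtain ⟨W', hle, hx', h0⟩ := h W hx s
      have h2 := TopCat.Presheaf.germ_res_apply E.presheaf (homOfLE hle) x hx' s
      rw [← h2, h0, map_zero]
    rw [key a, key b]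

theorem subsingleton_stalk_of_iso {E E' : X.Modules} (e : E ≅ E') (x : X)
    (h : Subsingleton (E.presheaf.stalk x)) : Subsingleton (E'.presheaf.stalk x) := by
  let F : X.Modules ⥤ Ab.{u} := Scheme.Modules.toPresheaf X ⋙ TopCat.Presheaf.stalkFunctor _ x
  have e' : E.presheaf.stalk x ≅ E'.presheaf.stalk x := F.mapIso e
  exact e'.symm.addCommGroupIsoToAddEquiv.toEquiv.subsingleton

theorem subsingleton_stalk_of_hom {E E' : X.Modules} (φ : E ⟶ E') (x : X) {W : X.Opens}
    (hx : x ∈ W) (s : Γ(E, W)) (h : E.presheaf.germ W x hx s = 0) :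
    E'.presheaf.germ W x hx (φ.app W s) = 0 := by
  obtain ⟨W', hx', i1, i2, h2⟩ := TopCat.Presheaf.germ_eq E.presheaf x hx hx s 0
    (h.trans (map_zero _).symm)
  rw [map_zero] at h2
  have h3 := TopCat.Presheaf.germ_res_apply E'.presheaf i1 x hx' (φ.app W s)
  rw [← h3]
  have h4 : E'.presheaf.map i1.op (φ.app W s) = φ.app W' (E.presheaf.map i1.op s) := by
    have := φ.mapPresheaf.naturality i1.op
    exact (congr($this s)).symm
  rw [h4, h2, map_zero, map_zero]

section restrict

variable {Y : Scheme.{u}} (f : Y ⟶ X) [IsOpenImmersion f]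

theorem subsingleton_stalk_restrict_iff (E : X.Modules) (y : Y) :
    Subsingleton ((E.restrict f).presheaf.stalk y) ↔ Subsingleton (E.presheaf.stalk (f y)) := by
  have e : (E.restrict f).presheaf.stalk y ≅ E.presheaf.stalk (f y) :=
    (restrictStalkNatIso f y).app E
  exact ⟨fun h => e.symm.addCommGroupIsoToAddEquiv.toEquiv.subsingleton,
    fun h => e.addCommGroupIsoToAddEquiv.toEquiv.subsingleton⟩

end restrict

/-- for `E` quasi-coherent and `U ∋ x` affine, `E_x = 0` if the germs of all sections over `U`
vanish -/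
theorem subsingleton_stalk_of_affine (E : X.Modules) [E.IsQuasicoherent] {U : X.Opens}
    (hU : IsAffineOpen U) (x : X) (hx : x ∈ U)
    (h : ∀ s : Γ(E, U), E.presheaf.germ U x hx s = 0) : Subsingleton (E.presheaf.stalk x) := by
  let _ := Groth.Agent.Lib.helper16.CohStalk.modStalk E x hx
  have := Groth.Agent.Lib.helper16.CohStalk.isLocalizedModule_stalk E hU x hx
  refine ⟨fun a b => ?_⟩
  have key : ∀ t : E.presheaf.stalk x, t = 0 := by
    intro t
    obtain ⟨⟨m, s⟩, hs⟩ := IsLocalizedModule.surj (hU.primeIdealOf ⟨x, hx⟩).asIdeal.primeCompl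
      (Groth.Agent.Lib.helper16.CohStalk.germLin E x hx) t
    have h1 : (Groth.Agent.Lib.helper16.CohStalk.germLin E x hx) m = 0 := h m
    rw [h1] at hs
    have hu := IsLocalizedModule.map_units (Groth.Agent.Lib.helper16.CohStalk.germLin E x hx) s
    rw [Module.End.isUnit_iff] at hu
    apply hu.1
    rw [map_zero]
    exact hs
  rw [key a, key b]

end Groth.Agent.Lib.helper21.ExtY
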