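import Mathlib

/-!
# Derived functors of a kernel functor (helper21)

Abstract setting: `η : 𝟭 ⟶ J`, `ι : Γ ⟶ 𝟭` with `Γ F = ker (F ⟶ J F)` and `I ⟶ J I` epi for `I`
injective (think `Γ = Γ_Z`, `J = j_* j^*`).  Then for an object property `P` closed under
isomorphisms, kernels and cokernels: if `P M` and `P (R^q J M)` for all `q`, then `P (R^q Γ M)` for
all `q` (long exact sequence `0 → Γ M → M → J M → R^1 Γ M → 0`, `R^{q+1} Γ M ≅ R^q J M`).
-/

set_option autoImplicit false

universe v u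

namespace Groth.Agent.Lib.helper21.KernelLES

open CategoryTheory CategoryTheory.Limits

variable {𝒜 : Type u} [Category.{v} 𝒜] [Abelian 𝒜]
  (Γ J : 𝒜 ⥤ 𝒜) [Γ.Additive] [J.Additive] (ι : Γ ⟶ 𝟭 𝒜) (η : 𝟭 𝒜 ⟶ J)

/-- `ι` termwise on a complex -/
@[simps]
def fK (K : CochainComplex 𝒜 ℕ) : (Γ.mapHomologicalComplex _).obj K ⟶ K where
  f n := ι.app (K.X n)
  comm' i j _ := (ι.naturality (K.d i j)).symm

/-- `η` termwise on a complex -/
@[simps]
def gK (K : CochainComplex 𝒜 ℕ) : K ⟶ (J.mapHomologicalComplex _).obj K where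
  f n := η.app (K.X n)
  comm' i j _ := (η.naturality (K.d i j)).symm

variable (w : ∀ F, ι.app F ≫ η.app F = 0)

/-- the short complex of complexes `Γ K ⟶ K ⟶ J K` -/
@[simps]
def sc (K : CochainComplex 𝒜 ℕ) : ShortComplex (CochainComplex 𝒜 ℕ) :=
  ShortComplex.mk (fK Γ ι K) (gK J η K) (by
    ext n
    exact w (K.X n))

variable (hex : ∀ F, (ShortComplex.mk (ι.app F) (η.app F) (w F)).Exact)
  (hmono : ∀ F, Mono (ι.app F))
  (hepi : ∀ I, Injective I → Epi (η.app I))

include hex hmono hepi in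
lemma sc_shortExact (K : CochainComplex 𝒜 ℕ) (hK : ∀ n, Injective (K.X n)) :
    (sc Γ J ι η w K).ShortExact := by
  apply HomologicalComplex.shortExact_of_degreewise_shortExact
  intro n
  haveI := hmono (K.X n)
  haveI := hepi (K.X n) (hK n)
  exact { exact := hex (K.X n), mono_f := hmono (K.X n), epi_g := hepi (K.X n) (hK n) }

variable [HasInjectiveResolutions 𝒜]
  (P : ObjectProperty 𝒜) [P.IsClosedUnderIsomorphisms]
  (hker : ∀ {A B : 𝒜} (φ : A ⟶ B), P A → P B → P (kernel φ))
  (hcoker : ∀ {A B : 𝒜} (φ : A ⟶ B), P A → P B → P (cokernel φ))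

include hex hmono hepi hker hcoker in
/-- **main statement** -/
theorem prop_rightDerived (M : 𝒜) (hM : P M) (hJ : ∀ q, P ((J.rightDerived q).obj M)) (q : ℕ) :
    P ((Γ.rightDerived q).obj M) := by
  let I : InjectiveResolution M := injectiveResolution M
  let S := sc Γ J ι η w I.cocomplex
  have hS : S.ShortExact := sc_shortExact Γ J ι η w hex hmono hepi I.cocomplex I.injective
  have e₁ : ∀ n, (Γ.rightDerived n).obj M ≅ S.X₁.homology n := fun n => I.isoRightDerivedObj Γ n
  have e₃ : ∀ n, (J.rightDerived n).obj M ≅ S.X₃.homology n := fun n => I.isoRightDerivedObj J n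
  have h₂ : ∀ n, IsZero (S.X₂.homology (n + 1)) := fun n =>
    (I.cocomplex_exactAt_succ n).isZero_homology
  have e₂ : S.X₂.homology 0 ≅ M :=
    (asIso (HomologicalComplex.homologyMap I.ι 0)).symm ≪≫
      (HomologicalComplex.singleObjHomologySelfIso (ComplexShape.up ℕ) 0 M)
  have P₂ : P (S.X₂.homology 0) := P.prop_of_iso e₂.symm hM
  have P₃ : ∀ n, P (S.X₃.homology n) := fun n => P.prop_of_iso (e₃ n) (hJ n)
  refine P.prop_of_iso (e₁ q).symm ?_
  match q with
  | 0 =>
    have hex₂ := hS.homology_exact₂ 0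
    haveI : Mono S.f := hS.mono_f
    haveI : Mono (HomologicalComplex.homologyMap S.f 0) := by
      have h := CochainComplex.isoHomologyπ₀_inv_naturality S.f
      have h' : HomologicalComplex.homologyMap S.f 0 =
          S.X₁.isoHomologyπ₀.inv ≫ HomologicalComplex.cyclesMap S.f 0 ≫ S.X₂.isoHomologyπ₀.hom := by
        rw [← Category.assoc, ← h, Category.assoc, Iso.inv_hom_id, Category.comp_id]
      rw [h']
      infer_instance
    have hk := hex₂.fIsKernel
    exact P.prop_of_iso (hk.conePointUniqueUpToIso (kernelIsKernel _)).symm (hker _ P₂ (P₃ 0))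
  | 1 =>
    have hex₃ := hS.homology_exact₃ 0 1 (by simp)
    haveI : Epi (hS.δ 0 1 (by simp)) := hS.epi_δ 0 1 (by simp) (h₂ 0)
    have hc := hex₃.gIsCokernel
    exact P.prop_of_iso (hc.coconePointUniqueUpToIso (cokernelIsCokernel _)).symm
      (hcoker _ P₂ (P₃ 0))
  | (n + 2) =>
    exact P.prop_of_iso (hS.δIso (n + 1) (n + 2) (by simp) (h₂ n) (h₂ (n + 1))) (P₃ (n + 1))

end Groth.Agent.Lib.helper21.KernelLES
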