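import Mathlib

/-!
# `j_* j^*` only depends on the range of the open immersion `j` (helper21)
-/

set_option autoImplicit false

universe u

namespace Groth.Agent.Lib.helper21.RestrPushRange

open CategoryTheory CategoryTheory.Limits Opposite TopologicalSpace AlgebraicGeometry
open AlgebraicGeometry.Scheme.Modules

variable {U₁ U₂ Y : Scheme.{u}} (j₁ : U₁ ⟶ Y) (j₂ : U₂ ⟶ Y) [IsOpenImmersion j₁]
  [IsOpenImmersion j₂] (h : j₁.opensRange = j₂.opensRange)

include h in
lemma opens_eq (V : Y.Opens) : j₂ ''ᵁ (j₂ ⁻¹ᵁ V) = j₁ ''ᵁ (j₁ ⁻¹ᵁ V) := by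
  rw [j₁.image_preimage_eq_opensRange_inf, j₂.image_preimage_eq_opensRange_inf, h]

/-- the scalar action on `j_* j^* F` -/
lemma smul_eq {U : Scheme.{u}} (j : U ⟶ Y) [IsOpenImmersion j] (V : Y.Opens) (r : Γ(Y, V)) :
    ((j.appIso (j ⁻¹ᵁ V)).inv).hom ((j.app V).hom r) =
      (Y.presheaf.map (homOfLE (j.image_preimage_le V)).op).hom r := by
  have := j.app_appIso_inv V
  exact congr($this r)

/-- `j₁_* j₁^* F ≅ j₂_* j₂^* F` -/
noncomputable def isoApp (F : Y.Modules) :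
    (pushforward j₁).obj ((restrictFunctor j₁).obj F) ≅
      (pushforward j₂).obj ((restrictFunctor j₂).obj F) := by
  refine (SheafOfModules.fullyFaithfulForget _).preimageIso <|
    PresheafOfModules.isoMk (fun V ↦ ?_) ?_
  · refine ModuleCat.isoMk
      (F.presheaf.mapIso (eqToIso (opens_eq j₁ j₂ h V.unop)).op) ?_
    intro r
    ext x
    change @HSMul.hSMul Γ(Y, j₂ ''ᵁ (j₂ ⁻¹ᵁ V.unop)) Γ(F, j₂ ''ᵁ (j₂ ⁻¹ᵁ V.unop)) _ _
        (((j₂.appIso (j₂ ⁻¹ᵁ V.unop)).inv).hom ((j₂.app V.unop).hom r))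
        ((F.presheaf.map (eqToHom (opens_eq j₁ j₂ h V.unop)).op).hom x) =
      (F.presheaf.map (eqToHom (opens_eq j₁ j₂ h V.unop)).op).hom
        (@HSMul.hSMul Γ(Y, j₁ ''ᵁ (j₁ ⁻¹ᵁ V.unop)) Γ(F, j₁ ''ᵁ (j₁ ⁻¹ᵁ V.unop)) _ _
          (((j₁.appIso (j₁ ⁻¹ᵁ V.unop)).inv).hom ((j₁.app V.unop).hom r)) x)
    rw [smul_eq, smul_eq]
    refine Eq.trans ?_ (Scheme.Modules.map_smul F (eqToHom (opens_eq j₁ j₂ h V.unop)) _ x).symm
    congr 1
    rw [← ConcreteCategory.comp_apply, ← Functor.map_comp]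
    rfl
  · intro V V' g
    ext x
    change (F.presheaf.map (eqToHom (opens_eq j₁ j₂ h V'.unop)).op).hom
        ((F.presheaf.map (j₁.opensFunctor.map ((Opens.map j₁.base).map g.unop)).op).hom x) =
      (F.presheaf.map (j₂.opensFunctor.map ((Opens.map j₂.base).map g.unop)).op).hom
        ((F.presheaf.map (eqToHom (opens_eq j₁ j₂ h V.unop)).op).hom x)
    rw [← ConcreteCategory.comp_apply, ← ConcreteCategory.comp_apply, ← Functor.map_comp,
      ← Functor.map_comp]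
    rfl

lemma isoApp_hom_app (F : Y.Modules) (V : Y.Opens) :
    (isoApp j₁ j₂ h F).hom.app V = F.presheaf.map (eqToHom (opens_eq j₁ j₂ h V)).op := rfl

/-- `j₁_* j₁^* ≅ j₂_* j₂^*` for open immersions with the same range -/
noncomputable def iso :
    restrictFunctor j₁ ⋙ pushforward j₁ ≅ restrictFunctor j₂ ⋙ pushforward j₂ :=
  NatIso.ofComponents (isoApp j₁ j₂ h) (by
    intro M N φ
    refine Scheme.Modules.hom_ext _ _ fun V => ?_
    rw [Scheme.Modules.Hom.comp_app, Scheme.Modules.Hom.comp_app, isoApp_hom_app,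
      isoApp_hom_app]
    exact (φ.mapPresheaf.naturality (eqToHom (opens_eq j₁ j₂ h V)).op).symm)

/-- compatibility with the units -/
lemma unit_iso (F : Y.Modules) :
    (restrictAdjunction j₁).unit.app F ≫ (iso j₁ j₂ h).hom.app F =
      (restrictAdjunction j₂).unit.app F := by
  refine Scheme.Modules.hom_ext _ _ fun V => ?_
  rw [Scheme.Modules.Hom.comp_app, restrictAdjunction_unit_app_app,
    restrictAdjunction_unit_app_app]
  show F.presheaf.map _ ≫ F.presheaf.map (eqToHom (opens_eq j₁ j₂ h V)).op = _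
  rw [← Functor.map_comp]
  rfl

end Groth.Agent.Lib.helper21.RestrPushRange
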