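import Mathlib
import Groth.Prelude.Def_CxOX
import Groth.Prelude.Def_LocCohZ
import Groth.Agent.Lib.Helper21.KernelLES
import Groth.Agent.Lib.Helper21.RestrPushRange
import Groth.Agent.Lib.Helper21.SchShriek
import Groth.Agent.Lib.Helper21.ModOpenBC2
import Groth.Agent.Lib.Helper21.DerivedComm
import Groth.Agent.Lib.Helper27.DeltaFPre
import Groth.Agent.Lib.Helper7.CohKer
import Groth.Agent.S0030
import Groth.Agent.Lib.Helper16.QCohFibre

/-!
# Local cohomology sheaves of quasi-coherent modules are quasi-coherent (helper21)
-/

set_option autoImplicit false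

universe u

namespace Groth.Agent.Lib.helper21.LocCohQCoh

open CategoryTheory CategoryTheory.Limits Opposite TopologicalSpace AlgebraicGeometry
open AlgebraicGeometry.Scheme.Modules Groth.Agent.Lib.helper27

variable {U Y : Scheme.{u}} (j : U ⟶ Y) [IsOpenImmersion j]

/-- for an injective module, `I ⟶ j_* j^* I` is an epimorphism -/
theorem epi_unit_of_injective (I : Y.Modules) [Injective I] :
    Epi ((restrictAdjunction j).unit.app I) := by
  have h : j.opensRange.ι.opensRange = j.opensRange := Scheme.Opens.opensRange_ι _
  have e := RestrPushRange.unit_iso j.opensRange.ι j h I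
  haveI := SchShriek.epi_restrictAdjunction_unit j.opensRange I
  rw [← e]
  exact epi_comp _ _

/-- `R^q (j_* j^*) M` is quasi-coherent for `j` quasi-compact and `M` quasi-coherent -/
theorem isQuasicoherent_rightDerived_restrPush [QuasiCompact j] [HasInjectiveResolutions Y.Modules]
    (M : Y.Modules) [M.IsQuasicoherent] (q : ℕ) :
    (((restrictFunctor j ⋙ pushforward j).rightDerived q).obj M).IsQuasicoherent := by
  classical
  have h : j.opensRange = j.opensRange.ι.opensRange := (Scheme.Opens.opensRange_ι _).symm
  haveI : EnoughInjectives Y.Modules :=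
    Groth.Agent.Lib.Helper21.ModGroth.enoughInjectives_mod _
  haveI : PreservesFiniteLimits (pushforward j.opensRange.ι) := by
    haveI : PreservesLimitsOfSize.{u, u} (pushforward j.opensRange.ι) :=
      (restrictAdjunction j.opensRange.ι).rightAdjoint_preservesLimits
    exact PreservesLimitsOfSize.preservesFiniteLimits.{u, u} _
  let e1 := Groth.Agent.Lib.Helper21.DerivedComm.rightDerivedIso
    (RestrPushRange.iso j j.opensRange.ι h) q
  obtain ⟨e2⟩ := DeltaFPre.rightDerived_comp_exact_iso (restrictFunctor j.opensRange.ι)
    (pushforward j.opensRange.ι) (fun I hI n => by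
      haveI := hI
      haveI : Injective ((restrictFunctor j.opensRange.ι).obj I) :=
        (restrictFunctor j.opensRange.ι).injective_obj I
      exact Functor.isZero_rightDerived_obj_injective_succ _ n _) q
  haveI : QuasiCompact j.opensRange.ι := by
    have : j.opensRange.ι = j.isoOpensRange.inv ≫ j := by simp
    rw [this]
    infer_instance
  have h3 : ((Coh.Rpush j.opensRange.ι q).obj
      ((restrictFunctor j.opensRange.ι).obj M)).IsQuasicoherent :=
    Groth.Agent.S0030.result j.opensRange.ι ((restrictFunctor j.opensRange.ι).obj M) q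
  exact Groth.Agent.Lib.helper16.QCohFibre.isQuasicoherent_of_iso (hA := h3)
    ((e1 ≪≫ e2).app M).symm

/-- quasi-coherence as an object property -/
def qc (Y : Scheme.{u}) : ObjectProperty Y.Modules := fun N => N.IsQuasicoherent

instance (Y : Scheme.{u}) : (qc Y).IsClosedUnderIsomorphisms where
  of_iso e hA := Groth.Agent.Lib.helper16.QCohFibre.isQuasicoherent_of_iso (hA := hA) e

/-- **local cohomology sheaves `ℋ^q_Z(M)` of a quasi-coherent module are quasi-coherent**
(`Z` the complement of a quasi-compact open immersion) -/
theorem isQuasicoherent_HZshM [QuasiCompact j] [HasInjectiveResolutions Y.Modules]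
    (M : Y.Modules) [M.IsQuasicoherent] (q : ℕ) :
    (((DCoh.gammaZ j).rightDerived q).obj M).IsQuasicoherent := by
  have w : ∀ F : Y.Modules, (CxOX.gammaZι j).app F ≫ (restrictAdjunction j).unit.app F = 0 :=
    fun F => kernel.condition _
  refine KernelLES.prop_rightDerived (DCoh.gammaZ j) (restrictFunctor j ⋙ pushforward j)
    (CxOX.gammaZι j) (restrictAdjunction j).unit w ?_ ?_ ?_
    (qc Y) ?_ ?_ M (inferInstanceAs M.IsQuasicoherent)
    (fun n => isQuasicoherent_rightDerived_restrPush j M n) q
  · intro F
    exact ShortComplex.exact_of_f_is_kernel _ (kernelIsKernel _)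
  · intro F
    exact inferInstanceAs (Mono (kernel.ι _))
  · intro I hI
    haveI := hI
    exact epi_unit_of_injective j I
  · intro A B φ hA hB
    haveI : A.IsQuasicoherent := hA
    haveI : B.IsQuasicoherent := hB
    exact Groth.Agent.Lib.helper7.CohKer.isQuasicoherent_kernel φ
  · intro A B φ hA hB
    haveI : A.IsQuasicoherent := hA
    haveI : B.IsQuasicoherent := hB
    exact Groth.Agent.Lib.helper7.CohKer.isQuasicoherent_cokernel φ

end Groth.Agent.Lib.helper21.LocCohQCoh
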