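import Mathlib
import Groth.Agent.Lib.Helper21.LocCohQCoh
import Groth.Agent.Lib.Helper21.SuppAdj2

/-!
# `ℋ^q_Z(M)` (site version `ModSite.HZsh X.sheaf U q`) is quasi-coherent (helper21)
-/

set_option autoImplicit false
universe u

open CategoryTheory CategoryTheory.Limits Opposite AlgebraicGeometry TopologicalSpace

namespace Groth.Agent.Lib.helper21.HZshQCoh

open Scheme.Modules

section general

variable {𝒜 ℬ : Type*} [Category 𝒜] [Category ℬ] [HasZeroMorphisms 𝒜] [HasZeroMorphisms ℬ]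
  {L : 𝒜 ⥤ ℬ} {R : ℬ ⥤ 𝒜} (adj : L ⊣ R)

include adj in
lemma comp_unit_eq_zero_iff {T F : 𝒜} (g : T ⟶ F) : g ≫ adj.unit.app F = 0 ↔ L.map g = 0 := by
  haveI : L.IsLeftAdjoint := adj.isLeftAdjoint
  haveI : R.IsRightAdjoint := adj.isRightAdjoint
  constructor
  · intro h
    have h1 : L.map g = L.map (g ≫ adj.unit.app F) ≫ adj.counit.app (L.obj F) := by
      rw [L.map_comp, Category.assoc, adj.left_triangle_components, Category.comp_id]
    rw [h1, h, L.map_zero, zero_comp]
  · intro h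
    have h1 : g ≫ adj.unit.app F = adj.unit.app T ≫ R.map (L.map g) :=
      (adj.unit.naturality g)
    rw [h1, h, R.map_zero, comp_zero]

end general

section general2

variable {𝒜 ℬ ℬ' : Type*} [Category 𝒜] [Category ℬ] [Category ℬ'] [HasZeroMorphisms 𝒜]
  [HasZeroMorphisms ℬ] [HasZeroMorphisms ℬ']

lemma map_eq_zero_iff_of_iso {A B : 𝒜 ⥤ ℬ} (e : A ≅ B) {T F : 𝒜} (g : T ⟶ F) :
    A.map g = 0 ↔ B.map g = 0 := by
  constructor
  · intro h
    have h1 : B.map g = e.inv.app T ≫ A.map g ≫ e.hom.app F := by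
      rw [e.hom.naturality g, Iso.inv_hom_id_app_assoc]
    rw [h1, h, zero_comp, comp_zero]
  · intro h
    have h1 : A.map g = e.hom.app T ≫ B.map g ≫ e.inv.app F := by
      rw [e.inv.naturality g, Iso.hom_inv_id_app_assoc]
    rw [h1, h, zero_comp, comp_zero]

lemma comp_map_eq_zero_iff (L : 𝒜 ⥤ ℬ) (E : ℬ ⥤ ℬ') [E.Faithful] [E.PreservesZeroMorphisms]
    {T F : 𝒜} (g : T ⟶ F) : (L ⋙ E).map g = 0 ↔ L.map g = 0 := by
  constructor
  · intro h
    apply E.map_injective
    rw [E.map_zero]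
    exact h
  · intro h
    rw [Functor.comp_map, h, E.map_zero]

end general2

variable {X : Scheme.{u}} (U : X.Opens)

lemma restr_map_eq_zero_iff {T F : X.Modules} (g : T ⟶ F) :
    (ModSite.restr X.sheaf U).map g = 0 ↔ (restrictFunctor U.ι).map g = 0 :=
  (comp_map_eq_zero_iff (ModSite.restr X.sheaf U) (overEquiv U).functor g).symm.trans
    (map_eq_zero_iff_of_iso (overFunctorEquiv U) g)

lemma sectOnι_comp_unit (F : X.Modules) :
    (ModSite.sectOnι X.sheaf U).app F ≫ (restrictAdjunction U.ι).unit.app F = 0 := by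
  have h1 : (ModSite.restr X.sheaf U).map ((ModSite.sectOnι X.sheaf U).app F) = 0 :=
    (comp_unit_eq_zero_iff (ModSite.restrPushOverAdj X.sheaf U) _).1 (kernel.condition _)
  exact (comp_unit_eq_zero_iff (restrictAdjunction U.ι) _).2 ((restr_map_eq_zero_iff U _).1 h1)

/-- `0 → Γ_Z F → F → j_* j^* F` is exact -/
lemma exact_sectOn (F : X.Modules) :
    (ShortComplex.mk _ _ (sectOnι_comp_unit U F)).Exact := by
  refine ShortComplex.exact_of_f_is_kernel _ ?_
  refine KernelFork.IsLimit.ofι _ _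
    (fun {W} g hg => kernel.lift ((ModSite.restrPushOverAdj X.sheaf U).unit.app F) g ?_) ?_ ?_
  · exact (comp_unit_eq_zero_iff (ModSite.restrPushOverAdj X.sheaf U) _).2
      ((restr_map_eq_zero_iff U _).2 ((comp_unit_eq_zero_iff (restrictAdjunction U.ι) _).1 hg))
  · intro W g hg
    exact kernel.lift_ι _ _ _
  · intro W g hg m hm
    apply equalizer.hom_ext
    rw [kernel.lift_ι]
    exact hm

/-- **`ℋ^q_Z(M)` is quasi-coherent** for `M` quasi-coherent and `U = X ∖ Z` retrocompact -/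
theorem isQuasicoherent_HZsh [QuasiCompact U.ι] [HasInjectiveResolutions (ModSite.Mod X.sheaf)]
    (M : X.Modules) [M.IsQuasicoherent] (q : ℕ) :
    ((ModSite.HZsh X.sheaf U q).obj M).IsQuasicoherent := by
  haveI : HasInjectiveResolutions X.Modules := ‹HasInjectiveResolutions (ModSite.Mod X.sheaf)›
  let Jf : ModSite.Mod X.sheaf ⥤ ModSite.Mod X.sheaf := restrictFunctor U.ι ⋙ pushforward U.ι
  haveI : Jf.Additive :=
    inferInstanceAs ((restrictFunctor U.ι ⋙ pushforward U.ι : X.Modules ⥤ X.Modules)).Additive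
  haveI hP : ObjectProperty.IsClosedUnderIsomorphisms (C := ModSite.Mod X.sheaf)
      (LocCohQCoh.qc X) :=
    ⟨fun e hA => Groth.Agent.Lib.helper16.QCohFibre.isQuasicoherent_of_iso (hA := hA) e⟩
  refine KernelLES.prop_rightDerived (ModSite.sectOn X.sheaf U) Jf
    (ModSite.sectOnι X.sheaf U) (restrictAdjunction U.ι).unit (sectOnι_comp_unit U) ?_ ?_ ?_
    (LocCohQCoh.qc X) ?_ ?_ M (inferInstanceAs M.IsQuasicoherent)
    (fun n => LocCohQCoh.isQuasicoherent_rightDerived_restrPush U.ι M n) q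
  · exact exact_sectOn U
  · intro F
    exact inferInstanceAs (Mono (kernel.ι _))
  · intro I hI
    exact @LocCohQCoh.epi_unit_of_injective _ _ U.ι _ I hI
  · intro A B φ hA hB
    haveI : A.IsQuasicoherent := hA
    haveI : B.IsQuasicoherent := hB
    exact Groth.Agent.Lib.helper7.CohKer.isQuasicoherent_kernel φ
  · intro A B φ hA hB
    haveI : A.IsQuasicoherent := hA
    haveI : B.IsQuasicoherent := hB
    exact Groth.Agent.Lib.helper7.CohKer.isQuasicoherent_cokernel φ

end Groth.Agent.Lib.helper21.HZshQCoh
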