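import Mathlib
import Groth.Agent.Lib.Helper21.HZshQCoh
import Groth.Agent.Lib.Helper7.KerSections
import Groth.Agent.Lib.Helper2.ModSec
import Groth.Agent.Lib.Helper21.ExtShAffine

/-!
# `Γ_Z` and `ℰxt_Z` commute with restriction along open immersions of schemes (helper21)

* `exists_sectOnι_app_eq_iff`: sections of `Γ_Z M` are the sections of `M` vanishing on `U`;
* `sectOnRestrIso U φ : Γ_Z ⋙ φ^* ≅ φ^* ⋙ Γ_{φ⁻¹Z}` for an open immersion `φ`;
* `extZShRestrIso U F V i`, `extZShRestrIso' U φ F i`: the same for `ℰxt^i_Z(F, -)`, for the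
  inclusion of an open and for an isomorphism.
-/

set_option autoImplicit false

universe u

open CategoryTheory CategoryTheory.Limits AlgebraicGeometry Opposite TopologicalSpace

namespace Groth.Agent.Lib.helper21.ExtY

open Scheme.Modules Groth.Agent.Lib.helper21.SuppAdj

variable {X : Scheme.{u}} (U : X.Opens)

/-- sectionwise: null on `U` iff sections over opens inside `U` vanish -/
lemma isNullOn_iff_sections (N : X.Modules) :
    ModSite.IsNullOn X.sheaf U N ↔ ∀ (W : X.Opens), W ≤ U → ∀ s : Γ(N, W), s = 0 := by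
  rw [ExtSupp.isNullOn_iff]
  constructor
  · intro h W hW s
    exact h (homOfLE hW) s
  · intro h V g s
    exact h V (leOfHom g) s

/-- `Γ_Z M` as an `O_X`-module -/
noncomputable abbrev GZ (M : X.Modules) : X.Modules := (ModSite.sectOn X.sheaf U).obj M

/-- the inclusion `Γ_Z M ⟶ M` -/
noncomputable abbrev ιZ (M : X.Modules) : GZ U M ⟶ M := (ModSite.sectOnι X.sheaf U).app M

instance (M : X.Modules) : Mono (ιZ U M) :=
  inferInstanceAs (Mono ((ModSite.sectOnι X.sheaf U).app M))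

/-- the sections of `Γ_Z M ⊆ M` over `W` are the sections of `M` vanishing on `W ∩ U` -/
theorem exists_sectOnι_app_eq_iff (M : X.Modules) (W : X.Opens) (s : Γ(M, W)) :
    (∃ r : Γ(GZ U M, W), (ιZ U M).app W r = s) ↔
      M.presheaf.map (homOfLE (inf_le_left : W ⊓ U ≤ W)).op s = 0 := by
  constructor
  · rintro ⟨r, rfl⟩
    have h1 := (isNullOn_iff_sections U _).1 (isNullOn_sectOn X.sheaf U M) (W ⊓ U) inf_le_right
      ((GZ U M).presheaf.map (homOfLE (inf_le_left : W ⊓ U ≤ W)).op r)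
    rw [Groth.Agent.Lib.helper2.ModSec.map_app_apply, h1, map_zero]
  · intro hs
    have hex := Groth.Agent.Lib.helper21.HZshQCoh.exact_sectOn U M
    have hm : Mono (ιZ U M) := inferInstance
    obtain ⟨-, h2⟩ := @Groth.Agent.Lib.helper7.KerSections.sections_leftExact X
      (ShortComplex.mk _ _ (Groth.Agent.Lib.helper21.HZshQCoh.sectOnι_comp_unit U M)) hex hm W
    refine h2 s ?_
    show (((restrictAdjunction U.ι).unit.app M).app W).hom s = 0
    rw [restrictAdjunction_unit_app_app]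
    have hle : U.ι ''ᵁ (U.ι ⁻¹ᵁ W) ≤ W ⊓ U := by
      rw [Scheme.Hom.image_preimage_eq_opensRange_inf, Scheme.Opens.opensRange_ι]
      exact le_of_eq (inf_comm _ _)
    have h3 : M.presheaf.map (homOfLE (U.ι.image_preimage_le W)).op s =
        M.presheaf.map (homOfLE hle).op
          (M.presheaf.map (homOfLE (inf_le_left : W ⊓ U ≤ W)).op s) := by
      rw [← ConcreteCategory.comp_apply, ← Functor.map_comp]
      rfl
    exact h3.trans ((congrArg _ hs).trans (map_zero _))

section restrict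

variable {Y : Scheme.{u}} (φ : Y ⟶ X) [IsOpenImmersion φ]

lemma isNullOn_restrict {N : X.Modules} (h : ModSite.IsNullOn X.sheaf U N) :
    ModSite.IsNullOn Y.sheaf (φ ⁻¹ᵁ U) ((restrictFunctor φ).obj N) := by
  rw [isNullOn_iff_sections] at h ⊢
  intro W hW s
  exact h (φ ''ᵁ W) ((φ.image_mono hW).trans (φ.image_preimage_le U)) s

lemma image_inf_preimage_le (W : Y.Opens) : φ ''ᵁ W ⊓ U ≤ φ ''ᵁ (W ⊓ φ ⁻¹ᵁ U) := by
  rintro x ⟨⟨y, hy, rfl⟩, hxU⟩
  exact ⟨y, ⟨hy, hxU⟩, rfl⟩

/-- the comparison map `(Γ_Z M)|_Y ⟶ Γ_{Z ∩ Y}(M|_Y)` -/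
noncomputable def sectRestrHom (M : X.Modules) :
    (restrictFunctor φ).obj (GZ U M) ⟶ GZ (φ ⁻¹ᵁ U) ((restrictFunctor φ).obj M) :=
  sectLift (isNullOn_restrict U φ (isNullOn_sectOn X.sheaf U M)) ((restrictFunctor φ).map (ιZ U M))

@[reassoc]
lemma sectRestrHom_ι (M : X.Modules) :
    sectRestrHom U φ M ≫ ιZ (φ ⁻¹ᵁ U) ((restrictFunctor φ).obj M) =
      (restrictFunctor φ).map (ιZ U M) :=
  sectLift_ι _ _

lemma sectRestrHom_ι_apply (M : X.Modules) (W : Y.Opens) (a : Γ(GZ U M, φ ''ᵁ W)) :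
    (ιZ (φ ⁻¹ᵁ U) ((restrictFunctor φ).obj M)).app W ((sectRestrHom U φ M).app W a) =
      (ιZ U M).app (φ ''ᵁ W) a := by
  have h := sectRestrHom_ι U φ M
  exact congrArg (fun ψ : (restrictFunctor φ).obj (GZ U M) ⟶ (restrictFunctor φ).obj M =>
    ψ.app W a) h

instance isIso_sectRestrHom (M : X.Modules) : IsIso (sectRestrHom U φ M) := by
  rw [Groth.Agent.Lib.helper2.ModSec.isIso_iff_bijective_app]
  intro W
  have hinj := (Groth.Agent.Lib.helper2.ModSec.mono_iff_injective_app (ιZ U M)).1 inferInstance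
  have hinj' := (Groth.Agent.Lib.helper2.ModSec.mono_iff_injective_app
    (ιZ (φ ⁻¹ᵁ U) ((restrictFunctor φ).obj M))).1 inferInstance
  constructor
  · intro a b hab
    apply hinj (φ ''ᵁ W)
    have h1 := sectRestrHom_ι_apply U φ M W a
    have h2 := sectRestrHom_ι_apply U φ M W b
    rw [← h1, ← h2]
    exact congrArg _ hab
  · intro t
    let s : Γ(M, φ ''ᵁ W) := (ιZ (φ ⁻¹ᵁ U) ((restrictFunctor φ).obj M)).app W t
    have h0 := (exists_sectOnι_app_eq_iff (φ ⁻¹ᵁ U) ((restrictFunctor φ).obj M) W s).1 ⟨t, rfl⟩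
    have h0' : M.presheaf.map (homOfLE (φ.image_mono (inf_le_left : W ⊓ φ ⁻¹ᵁ U ≤ W))).op s = 0 :=
      h0
    have hs : M.presheaf.map (homOfLE (inf_le_left : φ ''ᵁ W ⊓ U ≤ φ ''ᵁ W)).op s = 0 := by
      have h3 : M.presheaf.map (homOfLE (inf_le_left : φ ''ᵁ W ⊓ U ≤ φ ''ᵁ W)).op s =
          M.presheaf.map (homOfLE (image_inf_preimage_le U φ W)).op
            (M.presheaf.map (homOfLE (φ.image_mono (inf_le_left : W ⊓ φ ⁻¹ᵁ U ≤ W))).op s) := by
        rw [← ConcreteCategory.comp_apply, ← Functor.map_comp]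
        rfl
      exact h3.trans ((congrArg _ h0').trans (map_zero _))
    obtain ⟨r, hr⟩ := (exists_sectOnι_app_eq_iff U M (φ ''ᵁ W) s).2 hs
    refine ⟨r, ?_⟩
    apply hinj' W
    rw [sectRestrHom_ι_apply]
    exact hr

/-- **`Γ_Z` commutes with restriction along an open immersion** -/
noncomputable def sectOnRestrIso :
    ModSite.sectOn X.sheaf U ⋙ restrictFunctor φ ≅
      restrictFunctor φ ⋙ ModSite.sectOn Y.sheaf (φ ⁻¹ᵁ U) :=
  NatIso.ofComponents (fun M => asIso (sectRestrHom U φ M)) (by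
    intro M M' g
    dsimp only [Functor.comp_obj, Functor.comp_map, asIso_hom]
    apply sect_hom_ext
    have h1 := (ModSite.sectOnι Y.sheaf (φ ⁻¹ᵁ U)).naturality ((restrictFunctor φ).map g)
    have h2 := (ModSite.sectOnι X.sheaf U).naturality g
    dsimp only [Functor.id_obj, Functor.id_map] at h1 h2
    have e1 : (restrictFunctor φ).map ((ModSite.sectOn X.sheaf U).map g) ≫ sectRestrHom U φ M' ≫
        ιZ (φ ⁻¹ᵁ U) ((restrictFunctor φ).obj M') =
        (restrictFunctor φ).map (ιZ U M) ≫ (restrictFunctor φ).map g := by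
      rw [sectRestrHom_ι, ← Functor.map_comp, ← Functor.map_comp]
      exact congrArg _ h2
    have e2 : sectRestrHom U φ M ≫
        (ModSite.sectOn Y.sheaf (φ ⁻¹ᵁ U)).map ((restrictFunctor φ).map g) ≫
        ιZ (φ ⁻¹ᵁ U) ((restrictFunctor φ).obj M') =
        (restrictFunctor φ).map (ιZ U M) ≫ (restrictFunctor φ).map g := by
      rw [← sectRestrHom_ι_assoc]
      exact congrArg _ h1
    exact (Category.assoc _ _ _).trans (e1.trans (e2.symm.trans (Category.assoc _ _ _).symm)))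

end restrict

/-! ### `ℰxt_Z` commutes with restriction -/

section extZ

open Groth.Agent.Lib.Helper21.DerivedComm

attribute [local instance] Groth.Agent.Lib.helper21.ShHomCoh.hasInjRes

variable {Y : Scheme.{u}} (φ : Y ⟶ X) [IsOpenImmersion φ] (F : X.Modules)

/-- the underlying functors commute with restriction, given this for `ℋom` -/
noncomputable def homSectRestrIso
    (eH : ModSite.sheafHom (O := X.sheaf) F ⋙ restrictFunctor φ ≅
      restrictFunctor φ ⋙ ModSite.sheafHom (O := Y.sheaf) ((restrictFunctor φ).obj F)) :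
    (ModSite.sheafHom (O := X.sheaf) F ⋙ ModSite.sectOn X.sheaf U) ⋙ restrictFunctor φ ≅
      restrictFunctor φ ⋙ (ModSite.sheafHom (O := Y.sheaf) ((restrictFunctor φ).obj F) ⋙
        ModSite.sectOn Y.sheaf (φ ⁻¹ᵁ U)) :=
  Functor.associator _ _ _ ≪≫
    Functor.isoWhiskerLeft _ (sectOnRestrIso U φ) ≪≫
    (Functor.associator _ _ _).symm ≪≫
    Functor.isoWhiskerRight eH _ ≪≫
    Functor.associator _ _ _

/-- **`ℰxt^i_Z(F, -)|_V ≅ ℰxt^i_{Z ∩ V}(F|_V, (-)|_V)`** for an open `V` -/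
noncomputable def extZShRestrIso (V : X.Opens) (i : ℕ) :
    ModSite.extZSh (O := X.sheaf) U F i ⋙ restrictFunctor V.ι ≅
      restrictFunctor V.ι ⋙
        ModSite.extZSh (O := (↑V : Scheme.{u}).sheaf) (V.ι ⁻¹ᵁ U)
          ((restrictFunctor V.ι).obj F) i := by
  classical
  let j : ModSite.Mod X.sheaf ⥤ ModSite.Mod (↑V : Scheme.{u}).sheaf :=
    Scheme.Modules.restrictFunctor V.ι
  haveI hR : j.IsRightAdjoint := (Groth.Agent.Lib.helper21.SchShriek.adj V).isRightAdjoint
  haveI hL : j.IsLeftAdjoint := (Scheme.Modules.restrictAdjunction V.ι).isLeftAdjoint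
  haveI : PreservesFiniteLimits j := inferInstance
  haveI : PreservesFiniteColimits j := inferInstance
  haveI : j.Additive := Functor.additive_of_preserves_binary_products j
  haveI : j.PreservesHomology := inferInstance
  haveI : j.PreservesInjectiveObjects :=
    Groth.Agent.Lib.helper21.SchShriek.restrict_preservesInjectiveObjects V
  let T₁ := ModSite.sheafHom (O := X.sheaf) F ⋙ ModSite.sectOn X.sheaf U
  let T₂ := ModSite.sheafHom (O := (↑V : Scheme.{u}).sheaf) ((restrictFunctor V.ι).obj F) ⋙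
    ModSite.sectOn (↑V : Scheme.{u}).sheaf (V.ι ⁻¹ᵁ U)
  have e1 := rightDerivedPostIso j T₁ i
  have e2 := rightDerivedPreIso j T₂ i
  haveI a1 : (T₁ ⋙ j).Additive := inferInstance
  haveI a2 : (j ⋙ T₂).Additive := inferInstance
  have e3 := @rightDerivedIso _ _ _ _ _ _ _ _ _ a1 a2
    (homSectRestrIso U V.ι F (Groth.Agent.Lib.helper21.ShRestr.sheafHomRestrIso V F)) i
  exact e1.symm ≪≫ e3 ≪≫ e2

/-- **`f^* ℰxt^i_Z(F, -) ≅ ℰxt^i_{f⁻¹Z}(f^*F, f^* -)`** for an isomorphism `f` -/
noncomputable def extZShRestrIso' [IsIso φ] (i : ℕ) :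
    ModSite.extZSh (O := X.sheaf) U F i ⋙ restrictFunctor φ ≅
      restrictFunctor φ ⋙
        ModSite.extZSh (O := Y.sheaf) (φ ⁻¹ᵁ U) ((restrictFunctor φ).obj F) i := by
  classical
  let j : ModSite.Mod X.sheaf ⥤ ModSite.Mod Y.sheaf := Scheme.Modules.restrictFunctor φ
  haveI hE : j.IsEquivalence := inferInstanceAs (restrictFunctor φ).IsEquivalence
  haveI : PreservesFiniteLimits j := inferInstance
  haveI : PreservesFiniteColimits j := inferInstance
  haveI : j.Additive := Functor.additive_of_preserves_binary_products j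
  haveI : j.PreservesHomology := inferInstance
  haveI : j.PreservesInjectiveObjects :=
    Functor.preservesInjectiveObjects_of_adjunction_of_preservesMonomorphisms
      (j.asEquivalence.symm.toAdjunction)
  let T₁ := ModSite.sheafHom (O := X.sheaf) F ⋙ ModSite.sectOn X.sheaf U
  let T₂ := ModSite.sheafHom (O := Y.sheaf) ((restrictFunctor φ).obj F) ⋙
    ModSite.sectOn Y.sheaf (φ ⁻¹ᵁ U)
  have e1 := rightDerivedPostIso j T₁ i
  have e2 := rightDerivedPreIso j T₂ i
  haveI a1 : (T₁ ⋙ j).Additive := inferInstance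
  haveI a2 : (j ⋙ T₂).Additive := inferInstance
  have e3 := @rightDerivedIso _ _ _ _ _ _ _ _ _ a1 a2
    (homSectRestrIso U φ F (Groth.Agent.Lib.helper21.ShRestr.sheafHomRestrIso' φ F)) i
  exact e1.symm ≪≫ e3 ≪≫ e2

end extZ

end Groth.Agent.Lib.helper21.ExtY
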