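import Mathlib

/-!
# Derived functors of a kernel functor, two-functor version (helper21)

Abstract setting: additive functors `Γ J₁ J₂ : 𝒜 ⥤ ℬ`, `ι : Γ ⟶ J₁`, `η : J₁ ⟶ J₂` such that on
injective objects `0 ⟶ Γ I ⟶ J₁ I ⟶ J₂ I ⟶ 0` is short exact
(think `Γ = Γ_Z` for `Z = V₁ ∖ V₂` locally closed, `J_k = (j_k)_* (j_k)^*`).
Then for an object property `P` of `ℬ` closed under isomorphisms, kernels, cokernels and
extensions: if `P (R^q J₁ M)` and `P (R^q J₂ M)` for all `q`, then `P (R^q Γ M)` for all `q`.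
-/

set_option autoImplicit false

universe v v' u u'

namespace Groth.Agent.Lib.helper21.KernelLES2

open CategoryTheory CategoryTheory.Limits

section Five

variable {ℬ : Type u'} [Category.{v'} ℬ] [Abelian ℬ]
  (P : ObjectProperty ℬ) [P.IsClosedUnderIsomorphisms]
  (hker : ∀ {A B : ℬ} (φ : A ⟶ B), P A → P B → P (kernel φ))
  (hcoker : ∀ {A B : ℬ} (φ : A ⟶ B), P A → P B → P (cokernel φ))
  (hext : ∀ (S : ShortComplex ℬ), S.ShortExact → P S.X₁ → P S.X₃ → P S.X₂)

include hker hcoker hext in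
/-- middle term of a five term exact sequence -/
lemma prop_of_exact {A B C D E : ℬ} (a : A ⟶ B) (b : B ⟶ C) (c : C ⟶ D) (d : D ⟶ E)
    (wab : a ≫ b = 0) (wbc : b ≫ c = 0) (wcd : c ≫ d = 0)
    (h₁ : (ShortComplex.mk a b wab).Exact) (h₂ : (ShortComplex.mk b c wbc).Exact)
    (h₃ : (ShortComplex.mk c d wcd).Exact)
    (hA : P A) (hB : P B) (hD : P D) (hE : P E) : P C := by
  let b' : cokernel a ⟶ C := cokernel.desc a b wab
  let c' : C ⟶ kernel d := kernel.lift d c wcd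
  haveI : Mono b' := (ShortComplex.exact_iff_mono_cokernel_desc _).1 h₁
  haveI : Epi c' := (ShortComplex.exact_iff_epi_kernel_lift _).1 h₃
  have w₁ : b' ≫ c = 0 := by
    rw [← cancel_epi (cokernel.π a)]
    simp [b', wbc]
  have w' : b' ≫ c' = 0 := by
    rw [← cancel_mono (kernel.ι d)]
    simp [c', w₁]
  let φ₁ : ShortComplex.mk b c wbc ⟶ ShortComplex.mk b' c w₁ :=
    { τ₁ := cokernel.π a
      τ₂ := 𝟙 C
      τ₃ := 𝟙 D
      comm₁₂ := by simp [b']
      comm₂₃ := by simp }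
  let φ₂ : ShortComplex.mk b' c' w' ⟶ ShortComplex.mk b' c w₁ :=
    { τ₁ := 𝟙 _
      τ₂ := 𝟙 C
      τ₃ := kernel.ι d
      comm₁₂ := by simp
      comm₂₃ := by simp [c'] }
  haveI : Epi φ₁.τ₁ := by dsimp [φ₁]; infer_instance
  haveI : IsIso φ₁.τ₂ := by dsimp [φ₁]; infer_instance
  haveI : Mono φ₁.τ₃ := by dsimp [φ₁]; infer_instance
  haveI : Epi φ₂.τ₁ := by dsimp [φ₂]; infer_instance
  haveI : IsIso φ₂.τ₂ := by dsimp [φ₂]; infer_instance
  haveI : Mono φ₂.τ₃ := by dsimp [φ₂]; infer_instance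
  have hφ : (ShortComplex.mk b' c' w').Exact :=
    (ShortComplex.exact_iff_of_epi_of_isIso_of_mono φ₂).2
      ((ShortComplex.exact_iff_of_epi_of_isIso_of_mono φ₁).1 h₂)
  exact hext _ { exact := hφ, mono_f := ‹Mono b'›, epi_g := ‹Epi c'› }
    (hcoker a hA hB) (hker d hD hE)

end Five


section KerFunctor

variable {𝒜 : Type u} [Category.{v} 𝒜] {ℬ : Type u'} [Category.{v'} ℬ] [Abelian ℬ]
  {J₁ J₂ : 𝒜 ⥤ ℬ} (η : J₁ ⟶ J₂)

/-- the objectwise kernel of a natural transformation -/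
@[simps]
noncomputable def kerFunctor : 𝒜 ⥤ ℬ where
  obj F := kernel (η.app F)
  map {F G} φ := kernel.map _ _ (J₁.map φ) (J₂.map φ) (η.naturality φ).symm
  map_id F := by
    apply equalizer.hom_ext
    simp
  map_comp φ ψ := by
    apply equalizer.hom_ext
    simp

/-- the inclusion of the kernel functor -/
@[simps]
noncomputable def kerFunctorι : kerFunctor η ⟶ J₁ where
  app F := kernel.ι (η.app F)
  naturality F G φ := kernel.lift_ι _ _ _

lemma kerFunctorι_comp (F : 𝒜) : (kerFunctorι η).app F ≫ η.app F = 0 := kernel.condition _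

lemma kerFunctor_exact (F : 𝒜) :
    (ShortComplex.mk ((kerFunctorι η).app F) (η.app F) (kerFunctorι_comp η F)).Exact :=
  ShortComplex.exact_of_f_is_kernel _ (kernelIsKernel _)

instance (F : 𝒜) : Mono ((kerFunctorι η).app F) :=
  inferInstanceAs (Mono (kernel.ι (η.app F)))

instance kerFunctor_additive [Preadditive 𝒜] [J₁.Additive] : (kerFunctor η).Additive where
  map_add {F G φ ψ} := by
    rw [← cancel_mono ((kerFunctorι η).app G)]
    rw [Preadditive.add_comp]
    simp only [NatTrans.naturality, Functor.map_add, Preadditive.comp_add]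

end KerFunctor


section LeftExact

variable {𝒜 : Type u} [Category.{v} 𝒜] [Abelian 𝒜] {ℬ : Type u'} [Category.{v'} ℬ] [Abelian ℬ]
  {J₁ J₂ : 𝒜 ⥤ ℬ} (η : J₁ ⟶ J₂) [J₁.Additive] [J₂.Additive]
  [PreservesFiniteLimits J₁] [PreservesFiniteLimits J₂]

/-- the kernel of a natural transformation between left exact functors is left exact -/
instance kerFunctor_preservesFiniteLimits : PreservesFiniteLimits (kerFunctor η) := by
  rw [Functor.preservesFiniteLimits_iff_forall_exact_map_and_mono]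
  intro S hS
  obtain ⟨h₁, m₁⟩ := (Functor.preservesFiniteLimits_iff_forall_exact_map_and_mono J₁).1
    inferInstance S hS
  obtain ⟨h₂, m₂⟩ := (Functor.preservesFiniteLimits_iff_forall_exact_map_and_mono J₂).1
    inferInstance S hS
  haveI := m₁
  haveI := m₂
  have hnat : ∀ {A B : 𝒜} (φ : A ⟶ B),
      (kerFunctor η).map φ ≫ kernel.ι (η.app B) = kernel.ι (η.app A) ≫ J₁.map φ :=
    fun φ => (kerFunctorι η).naturality φ
  haveI hm : Mono ((kerFunctor η).map S.f) := by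
    haveI : Mono (kernel.ι (η.app S.X₁) ≫ J₁.map S.f) := mono_comp _ _
    haveI : Mono ((kerFunctor η).map S.f ≫ kernel.ι (η.app S.X₂)) :=
      (hnat S.f).symm ▸ ‹Mono (kernel.ι (η.app S.X₁) ≫ J₁.map S.f)›
    exact mono_of_mono _ (kernel.ι (η.app S.X₂))
  refine ⟨?_, hm⟩
  refine ShortComplex.exact_of_f_is_kernel _ ?_
  haveI : Mono (S.map J₁).f := m₁
  -- the lift
  have key : ∀ {T : ℬ} (t : T ⟶ kernel (η.app S.X₂)) (_ : t ≫ (kerFunctor η).map S.g = 0),
      ∃ l : T ⟶ kernel (η.app S.X₁), l ≫ (kerFunctor η).map S.f = t := by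
    intro T t ht
    have ht' : (t ≫ kernel.ι (η.app S.X₂)) ≫ (S.map J₁).g = 0 :=
      calc (t ≫ kernel.ι (η.app S.X₂)) ≫ J₁.map S.g
          = t ≫ (kernel.ι (η.app S.X₂) ≫ J₁.map S.g) := Category.assoc _ _ _
        _ = t ≫ ((kerFunctor η).map S.g ≫ kernel.ι (η.app S.X₃)) :=
            congrArg (fun z => t ≫ z) (hnat S.g).symm
        _ = (t ≫ (kerFunctor η).map S.g) ≫ kernel.ι (η.app S.X₃) := (Category.assoc _ _ _).symm
        _ = 0 ≫ kernel.ι (η.app S.X₃) := congrArg (fun z => z ≫ kernel.ι (η.app S.X₃)) ht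
        _ = 0 := zero_comp
    have hl : h₁.lift (t ≫ kernel.ι (η.app S.X₂)) ht' ≫ J₁.map S.f =
        t ≫ kernel.ι (η.app S.X₂) := h₁.lift_f _ _
    have hz : h₁.lift (t ≫ kernel.ι (η.app S.X₂)) ht' ≫ η.app S.X₁ = 0 := by
      rw [← cancel_mono (J₂.map S.f)]
      calc (h₁.lift (t ≫ kernel.ι (η.app S.X₂)) ht' ≫ η.app S.X₁) ≫ J₂.map S.f
          = h₁.lift (t ≫ kernel.ι (η.app S.X₂)) ht' ≫ (η.app S.X₁ ≫ J₂.map S.f) :=
            Category.assoc _ _ _
        _ = h₁.lift (t ≫ kernel.ι (η.app S.X₂)) ht' ≫ (J₁.map S.f ≫ η.app S.X₂) :=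
            congrArg (fun z => h₁.lift (t ≫ kernel.ι (η.app S.X₂)) ht' ≫ z)
              (η.naturality S.f).symm
        _ = (h₁.lift (t ≫ kernel.ι (η.app S.X₂)) ht' ≫ J₁.map S.f) ≫ η.app S.X₂ :=
            (Category.assoc _ _ _).symm
        _ = (t ≫ kernel.ι (η.app S.X₂)) ≫ η.app S.X₂ :=
            congrArg (fun z => z ≫ η.app S.X₂) hl
        _ = t ≫ (kernel.ι (η.app S.X₂) ≫ η.app S.X₂) := Category.assoc _ _ _
        _ = t ≫ 0 := congrArg (fun z => t ≫ z) (kernel.condition _)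
        _ = 0 := comp_zero
        _ = 0 ≫ J₂.map S.f := zero_comp.symm
    refine ⟨kernel.lift _ _ hz, ?_⟩
    refine (cancel_mono (kernel.ι (η.app S.X₂))).1 ?_
    calc (kernel.lift _ _ hz ≫ (kerFunctor η).map S.f) ≫ kernel.ι (η.app S.X₂)
        = kernel.lift _ _ hz ≫ ((kerFunctor η).map S.f ≫ kernel.ι (η.app S.X₂)) :=
          Category.assoc _ _ _
      _ = kernel.lift _ _ hz ≫ (kernel.ι (η.app S.X₁) ≫ J₁.map S.f) :=
          congrArg (fun z => kernel.lift _ _ hz ≫ z) (hnat S.f)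
      _ = (kernel.lift _ _ hz ≫ kernel.ι (η.app S.X₁)) ≫ J₁.map S.f :=
          (Category.assoc _ _ _).symm
      _ = h₁.lift (t ≫ kernel.ι (η.app S.X₂)) ht' ≫ J₁.map S.f :=
          congrArg (fun z => z ≫ J₁.map S.f) (kernel.lift_ι _ _ hz)
      _ = t ≫ kernel.ι (η.app S.X₂) := hl
  refine KernelFork.IsLimit.ofι _ _ (fun {T} t ht => (key t ht).choose)
    (fun {T} t ht => (key t ht).choose_spec) (fun {T} t ht m hm' => ?_)
  refine (cancel_mono ((kerFunctor η).map S.f)).1 ?_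
  exact hm'.trans (key t ht).choose_spec.symm

end LeftExact

variable {𝒜 : Type u} [Category.{v} 𝒜] [Abelian 𝒜] {ℬ : Type u'} [Category.{v'} ℬ] [Abelian ℬ]
  (Γ J₁ J₂ : 𝒜 ⥤ ℬ) [Γ.Additive] [J₁.Additive] [J₂.Additive] (ι : Γ ⟶ J₁) (η : J₁ ⟶ J₂)

/-- `ι` termwise on a complex -/
@[simps]
def fK (K : CochainComplex 𝒜 ℕ) :
    (Γ.mapHomologicalComplex _).obj K ⟶ (J₁.mapHomologicalComplex _).obj K where
  f n := ι.app (K.X n)
  comm' i j _ := (ι.naturality (K.d i j)).symm

/-- `η` termwise on a complex -/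
@[simps]
def gK (K : CochainComplex 𝒜 ℕ) :
    (J₁.mapHomologicalComplex _).obj K ⟶ (J₂.mapHomologicalComplex _).obj K where
  f n := η.app (K.X n)
  comm' i j _ := (η.naturality (K.d i j)).symm

variable (w : ∀ F, ι.app F ≫ η.app F = 0)

/-- the short complex of complexes `Γ K ⟶ J₁ K ⟶ J₂ K` -/
@[simps]
def sc (K : CochainComplex 𝒜 ℕ) : ShortComplex (CochainComplex ℬ ℕ) :=
  ShortComplex.mk (fK Γ J₁ ι K) (gK J₁ J₂ η K) (by
    ext n
    exact w (K.X n))

variable (hex : ∀ I, Injective I → (ShortComplex.mk (ι.app I) (η.app I) (w I)).Exact)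
  (hmono : ∀ I, Injective I → Mono (ι.app I))
  (hepi : ∀ I, Injective I → Epi (η.app I))

include hex hmono hepi in
lemma sc_shortExact (K : CochainComplex 𝒜 ℕ) (hK : ∀ n, Injective (K.X n)) :
    (sc Γ J₁ J₂ ι η w K).ShortExact := by
  apply HomologicalComplex.shortExact_of_degreewise_shortExact
  intro n
  haveI := hmono (K.X n) (hK n)
  haveI := hepi (K.X n) (hK n)
  exact { exact := hex (K.X n) (hK n), mono_f := hmono (K.X n) (hK n),
          epi_g := hepi (K.X n) (hK n) }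

variable [HasInjectiveResolutions 𝒜]
  (P : ObjectProperty ℬ) [P.IsClosedUnderIsomorphisms]
  (hker : ∀ {A B : ℬ} (φ : A ⟶ B), P A → P B → P (kernel φ))
  (hcoker : ∀ {A B : ℬ} (φ : A ⟶ B), P A → P B → P (cokernel φ))
  (hext : ∀ (S : ShortComplex ℬ), S.ShortExact → P S.X₁ → P S.X₃ → P S.X₂)

include hex hmono hepi hker hcoker hext in
/-- **main statement** -/
theorem prop_rightDerived (M : 𝒜) (hJ₁ : ∀ q, P ((J₁.rightDerived q).obj M))
    (hJ₂ : ∀ q, P ((J₂.rightDerived q).obj M)) (q : ℕ) :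
    P ((Γ.rightDerived q).obj M) := by
  let I : InjectiveResolution M := injectiveResolution M
  let S := sc Γ J₁ J₂ ι η w I.cocomplex
  have hS : S.ShortExact :=
    sc_shortExact Γ J₁ J₂ ι η w hex hmono hepi I.cocomplex I.injective
  have e₁ : ∀ n, (Γ.rightDerived n).obj M ≅ S.X₁.homology n := fun n => I.isoRightDerivedObj Γ n
  have e₂ : ∀ n, (J₁.rightDerived n).obj M ≅ S.X₂.homology n := fun n => I.isoRightDerivedObj J₁ n
  have e₃ : ∀ n, (J₂.rightDerived n).obj M ≅ S.X₃.homology n := fun n => I.isoRightDerivedObj J₂ n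
  have P₂ : ∀ n, P (S.X₂.homology n) := fun n => P.prop_of_iso (e₂ n) (hJ₁ n)
  have P₃ : ∀ n, P (S.X₃.homology n) := fun n => P.prop_of_iso (e₃ n) (hJ₂ n)
  refine P.prop_of_iso (e₁ q).symm ?_
  match q with
  | 0 =>
    have hex₂ := hS.homology_exact₂ 0
    haveI : Mono S.f := hS.mono_f
    haveI : Mono (HomologicalComplex.homologyMap S.f 0) := by
      have h := CochainComplex.isoHomologyπ₀_inv_naturality S.f
      have h' : HomologicalComplex.homologyMap S.f 0 =
          S.X₁.isoHomologyπ₀.inv ≫ HomologicalComplex.cyclesMap S.f 0 ≫ S.X₂.isoHomologyπ₀.hom := by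
        rw [← Category.assoc, ← h, Category.assoc, Iso.inv_hom_id, Category.comp_id]
      rw [h']
      infer_instance
    have hk := hex₂.fIsKernel
    exact P.prop_of_iso (hk.conePointUniqueUpToIso (kernelIsKernel _)).symm
      (hker _ (P₂ 0) (P₃ 0))
  | (n + 1) =>
    exact prop_of_exact P hker hcoker hext
      (HomologicalComplex.homologyMap S.g n) (hS.δ n (n + 1) (by simp))
      (HomologicalComplex.homologyMap S.f (n + 1)) (HomologicalComplex.homologyMap S.g (n + 1))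
      _ _ _ (hS.homology_exact₃ n (n + 1) (by simp)) (hS.homology_exact₁ n (n + 1) (by simp))
      (hS.homology_exact₂ (n + 1)) (P₂ n) (P₃ n) (P₂ (n + 1)) (P₃ (n + 1))

end Groth.Agent.Lib.helper21.KernelLES2
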