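import Mathlib
import Groth.Agent.Lib.Helper21.RestrPushRange

/-!
# The restriction map `(j₁)_* (j₁)^* ⟶ (j₂)_* (j₂)^*` for opens `V₂ ≤ V₁` (helper21)
-/

set_option autoImplicit false

universe u

namespace Groth.Agent.Lib.helper21.ResNat

open CategoryTheory CategoryTheory.Limits Opposite TopologicalSpace AlgebraicGeometry
open AlgebraicGeometry.Scheme.Modules

variable {Y : Scheme.{u}} {V₂ V₁ : Y.Opens} (h : V₂ ≤ V₁)

include h in
lemma opens_le (U : Y.Opens) : V₂.ι ''ᵁ (V₂.ι ⁻¹ᵁ U) ≤ V₁.ι ''ᵁ (V₁.ι ⁻¹ᵁ U) := by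
  rw [V₁.ι.image_preimage_eq_opensRange_inf, V₂.ι.image_preimage_eq_opensRange_inf,
    Scheme.Opens.opensRange_ι, Scheme.Opens.opensRange_ι]
  exact inf_le_inf_right U h

/-- `(j₁)_* (j₁)^* F ⟶ (j₂)_* (j₂)^* F`, restriction of sections -/
noncomputable def resApp (F : Y.Modules) :
    (pushforward V₁.ι).obj ((restrictFunctor V₁.ι).obj F) ⟶
      (pushforward V₂.ι).obj ((restrictFunctor V₂.ι).obj F) := by
  refine (SheafOfModules.fullyFaithfulForget _).preimage <|
    PresheafOfModules.homMk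
      { app := fun U => F.presheaf.map (homOfLE (opens_le h U.unop)).op
        naturality := ?_ } ?_
  · intro U U' g
    change F.presheaf.map (V₁.ι.opensFunctor.map ((Opens.map V₁.ι.base).map g.unop)).op ≫
        F.presheaf.map (homOfLE (opens_le h U'.unop)).op =
      F.presheaf.map (homOfLE (opens_le h U.unop)).op ≫
        F.presheaf.map (V₂.ι.opensFunctor.map ((Opens.map V₂.ι.base).map g.unop)).op
    rw [← Functor.map_comp, ← Functor.map_comp]
    rfl
  · intro U r x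
    change (F.presheaf.map (homOfLE (opens_le h U.unop)).op).hom
        (@HSMul.hSMul Γ(Y, V₁.ι ''ᵁ (V₁.ι ⁻¹ᵁ U.unop)) Γ(F, V₁.ι ''ᵁ (V₁.ι ⁻¹ᵁ U.unop)) _ _
          (((V₁.ι.appIso (V₁.ι ⁻¹ᵁ U.unop)).inv).hom ((V₁.ι.app U.unop).hom r)) x) =
      @HSMul.hSMul Γ(Y, V₂.ι ''ᵁ (V₂.ι ⁻¹ᵁ U.unop)) Γ(F, V₂.ι ''ᵁ (V₂.ι ⁻¹ᵁ U.unop)) _ _
        (((V₂.ι.appIso (V₂.ι ⁻¹ᵁ U.unop)).inv).hom ((V₂.ι.app U.unop).hom r))
        ((F.presheaf.map (homOfLE (opens_le h U.unop)).op).hom x)
    rw [RestrPushRange.smul_eq, RestrPushRange.smul_eq]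
    refine Eq.trans (Scheme.Modules.map_smul F (homOfLE (opens_le h U.unop)) _ x) ?_
    congr 1
    rw [← ConcreteCategory.comp_apply, ← Functor.map_comp]
    rfl

lemma resApp_app (F : Y.Modules) (U : Y.Opens) :
    (resApp h F).app U = F.presheaf.map (homOfLE (opens_le h U)).op := rfl

/-- the natural transformation `(j₁)_* (j₁)^* ⟶ (j₂)_* (j₂)^*` -/
noncomputable def res :
    restrictFunctor V₁.ι ⋙ pushforward V₁.ι ⟶ restrictFunctor V₂.ι ⋙ pushforward V₂.ι where
  app F := resApp h F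
  naturality M N φ := by
    refine Scheme.Modules.hom_ext _ _ fun V => ?_
    rw [Scheme.Modules.Hom.comp_app, Scheme.Modules.Hom.comp_app, resApp_app, resApp_app]
    exact (φ.mapPresheaf.naturality (homOfLE (opens_le h V)).op).symm

/-- compatibility with the units -/
lemma unit_res (F : Y.Modules) :
    (restrictAdjunction V₁.ι).unit.app F ≫ (res h).app F =
      (restrictAdjunction V₂.ι).unit.app F := by
  refine Scheme.Modules.hom_ext _ _ fun V => ?_
  rw [Scheme.Modules.Hom.comp_app, restrictAdjunction_unit_app_app,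
    restrictAdjunction_unit_app_app]
  show F.presheaf.map _ ≫ F.presheaf.map (homOfLE (opens_le h V)).op = _
  rw [← Functor.map_comp]
  rfl

end Groth.Agent.Lib.helper21.ResNat
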