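import Mathlib
import Groth.Agent.Lib.Helper21.KernelLES2
import Groth.Agent.Lib.Helper21.ResNat
import Groth.Agent.Lib.Helper21.LocCohQCoh
import Groth.Agent.Lib.Helper7.QCohExt

/-!
# Local cohomology sheaves with supports in a locally closed subset, module level (helper21)

For opens `V₂ ≤ V₁` of a scheme `Y` (inclusions quasi-compact), `Γ^M = ker (j₁_* j₁^* ⟶ j₂_* j₂^*)`
on `O_Y`-modules has quasi-coherent right derived functors on quasi-coherent modules.
-/

set_option autoImplicit false

universe u

namespace Groth.Agent.Lib.helper21.LocClosedQCoh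

open CategoryTheory CategoryTheory.Limits Opposite TopologicalSpace AlgebraicGeometry
open AlgebraicGeometry.Scheme.Modules

variable {Y : Scheme.{u}} {V₂ V₁ : Y.Opens} (h : V₂ ≤ V₁)

/-- sections with supports in the locally closed subset `V₁ ∖ V₂`, module level -/
noncomputable abbrev gammaLC : Y.Modules ⥤ Y.Modules := KernelLES2.kerFunctor (ResNat.res h)

instance : (restrictFunctor V₁.ι ⋙ pushforward V₁.ι).Additive := inferInstance

/-- `R^q Γ^M_{V₁ ∖ V₂} M` is quasi-coherent -/
theorem isQuasicoherent_rightDerived_gammaLC [QuasiCompact V₁.ι] [QuasiCompact V₂.ι]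
    [HasInjectiveResolutions Y.Modules] (M : Y.Modules) [M.IsQuasicoherent] (q : ℕ) :
    (((gammaLC h).rightDerived q).obj M).IsQuasicoherent := by
  refine KernelLES2.prop_rightDerived (gammaLC h) (restrictFunctor V₁.ι ⋙ pushforward V₁.ι)
    (restrictFunctor V₂.ι ⋙ pushforward V₂.ι) (KernelLES2.kerFunctorι (ResNat.res h))
    (ResNat.res h) (KernelLES2.kerFunctorι_comp (ResNat.res h)) ?_ ?_ ?_
    (LocCohQCoh.qc Y) ?_ ?_ ?_ M
    (fun n => LocCohQCoh.isQuasicoherent_rightDerived_restrPush V₁.ι M n)
    (fun n => LocCohQCoh.isQuasicoherent_rightDerived_restrPush V₂.ι M n) q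
  · intro I _
    exact KernelLES2.kerFunctor_exact (ResNat.res h) I
  · intro I _
    infer_instance
  · intro I hI
    haveI := hI
    haveI : Epi ((restrictAdjunction V₂.ι).unit.app I) := LocCohQCoh.epi_unit_of_injective V₂.ι I
    haveI : Epi ((restrictAdjunction V₁.ι).unit.app I ≫ (ResNat.res h).app I) := by
      rw [ResNat.unit_res]
      infer_instance
    exact epi_of_epi ((restrictAdjunction V₁.ι).unit.app I) _
  · intro A B φ hA hB
    haveI : A.IsQuasicoherent := hA
    haveI : B.IsQuasicoherent := hB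
    exact Groth.Agent.Lib.helper7.CohKer.isQuasicoherent_kernel φ
  · intro A B φ hA hB
    haveI : A.IsQuasicoherent := hA
    haveI : B.IsQuasicoherent := hB
    exact Groth.Agent.Lib.helper7.CohKer.isQuasicoherent_cokernel φ
  · intro S hS h₁ h₃
    haveI : S.X₁.IsQuasicoherent := h₁
    haveI : S.X₃.IsQuasicoherent := h₃
    exact Groth.Agent.Lib.helper7.QCohExt.isQuasicoherent_of_extension S hS

end Groth.Agent.Lib.helper21.LocClosedQCoh
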