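import Mathlib
import Groth.Prelude.Def_SuppFam
import Groth.Agent.Lib.Helper27.SectSupp4
import Groth.Agent.Lib.Helper27.RpushSheafify
import Groth.Agent.Lib.Helper21.TopRestr

/-!
# Local cohomology sheaves for a locally closed subset as sheafified presheaves of Ext groups
-/

set_option autoImplicit false

open CategoryTheory Limits Opposite TopologicalSpace Abelian
open Groth.Agent.Lib.helper27

universe u

namespace Groth.Agent.Lib.helper21.LocCohSh

variable {X : TopCat.{u}} {W V : Opens X} (h : W ≤ V)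

/-- the functor `V' ↦ ℤ_{V ⊓ V'}/ℤ_{W ⊓ V'}` -/
noncomputable def G : Opens X ⥤ CohTop.Ab X where
  obj V' := LocCohZ.zq (inf_le_inf_right V' h)
  map {V' V''} g := LocCohZ.zqMap (inf_le_inf_right V'' h) (inf_le_inf_right V' h)
    (inf_le_inf_left W (leOfHom g)) (inf_le_inf_left V (leOfHom g))
  map_id V' := SuppFam.zqMap_id _
  map_comp g g' := (SuppFam.zqMap_comp _ _ _ _ _ _ _).symm

/-- the presheaf of Ext groups is `HZpre` -/
noncomputable def tpIso (F : CohTop.Ab X) (q : ℕ) :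
    (ExtPsh.Tp (G h) q).obj F ≅ SuppFam.HZpre F q h :=
  NatIso.ofComponents (fun _ => Iso.refl _) (by
    intro V' V'' g
    exact (Category.comp_id _).trans (Category.id_comp _).symm)

section e0

variable (F : CohTop.Ab X) (V' : Opens X)

/-- `Ext^0(ℤ_{V ⊓ V'}/ℤ_{W ⊓ V'}, F) → F(V ⊓ V')` -/
noncomputable def aHom :
    Ext.{u} (LocCohZ.zq (inf_le_inf_right V' h)) F 0 →+ F.obj.obj (op (V ⊓ V')) :=
  (LocCohZ.sectZ F (inf_le_inf_right V' h)).subtype.comp
    (LocCohZ.sect0Equiv F (inf_le_inf_right V' h)).toAddMonoidHom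

lemma aHom_injective : Function.Injective (aHom h F V') :=
  Subtype.val_injective.comp (LocCohZ.sect0Equiv F (inf_le_inf_right V' h)).injective

lemma aHom_range (s : F.obj.obj (op (V ⊓ V'))) :
    (∃ x, aHom h F V' x = s) ↔
      (F.obj.map (homOfLE (inf_le_inf_right V' h)).op).hom s = 0 := by
  constructor
  · rintro ⟨x, rfl⟩
    exact (LocCohZ.sect0Equiv F (inf_le_inf_right V' h) x).2
  · intro hs
    exact ⟨(LocCohZ.sect0Equiv F (inf_le_inf_right V' h)).symm ⟨s, hs⟩,
      congrArg Subtype.val ((LocCohZ.sect0Equiv F (inf_le_inf_right V' h)).apply_symm_apply ⟨s, hs⟩)⟩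

lemma aHom_mk₀ (b : LocCohZ.zq (inf_le_inf_right V' h) ⟶ F) :
    aHom h F V' (Ext.mk₀ b) =
      CohFree.evalGen (Opens.grothendieckTopology X) (V ⊓ V') F (cokernel.π _ ≫ b) := by
  show CohFree.evalGen (Opens.grothendieckTopology X) (V ⊓ V') F
    (cokernel.π _ ≫ Ext.addEquiv₀ (Ext.mk₀ b)) = _
  rw [show Ext.addEquiv₀ (Ext.mk₀ b) = b from Ext.addEquiv₀.apply_symm_apply b]

/-- the open `V' ∩ V` of the subspace `V` -/
abbrev pre : Opens (TopCat.of V) := (Opens.map (CohCx.incl V)).obj V'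

lemma le_jj_inf : V ⊓ V' ≤ SectSupp.jj V V' := SectSupp.le_jj V V' (V ⊓ V') inf_le_right inf_le_left

lemma jj_le_inf : SectSupp.jj V V' ≤ V ⊓ V' := le_inf (SectSupp.jj_le' V V') (SectSupp.jj_le V V')

/-- `Γ(V', j_* Γ_Z(F|_V)) → F(V ⊓ V')` -/
noncomputable def bHom :
    ((SuppFam.sectSuppLC h).obj F).obj.obj (op V') →+ F.obj.obj (op (V ⊓ V')) :=
  (F.obj.map (homOfLE (le_jj_inf (V := V) V')).op).hom.comp
    ((SectSupp.ιZ (SuppFam.inOpen V W) ((CohTop.restrFunctor V).obj F)).hom.app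
      (op (pre (V := V) V'))).hom

lemma map_self_apply (A : CohTop.Ab X) {U₁ : Opens X} (h₁ : U₁ ≤ U₁) (s : A.obj.obj (op U₁)) :
    (A.obj.map (homOfLE h₁).op).hom s = s := by
  have : A.obj.map (homOfLE h₁).op = 𝟙 _ := by
    rw [show homOfLE h₁ = 𝟙 U₁ from Subsingleton.elim _ _, op_id, A.obj.map_id]
  rw [this]
  rfl

lemma map_injective_of_le (A : CohTop.Ab X) {U₁ U₂ : Opens X} (h₁ : U₁ ≤ U₂) (h₂ : U₂ ≤ U₁) :
    Function.Injective (A.obj.map (homOfLE h₁).op).hom := by
  intro s t hst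
  have := congrArg (A.obj.map (homOfLE h₂).op).hom hst
  rwa [SectSupp.map_map_apply, SectSupp.map_map_apply, map_self_apply, map_self_apply] at this

lemma bHom_injective : Function.Injective (bHom h F V') :=
  (map_injective_of_le F (le_jj_inf V') (jj_le_inf V')).comp
    (SectSupp.ιZ_app_injective (SuppFam.inOpen V W) ((CohTop.restrFunctor V).obj F) (pre V'))

/-- the open `W ∩ V'` of `X`, as an iterated image -/
noncomputable abbrev Q : Opens X :=
  (SectSupp.hj V).isOpenMap.functor.obj (SectSupp.jj (SuppFam.inOpen V W) (pre (V := V) V'))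

lemma Q_le_jj : Q (W := W) (V := V) V' ≤ SectSupp.jj V V' :=
  leOfHom ((SectSupp.hj V).isOpenMap.functor.map (homOfLE (SectSupp.jj_le (SuppFam.inOpen V W) (pre V'))))

include h in
lemma le_Q : W ⊓ V' ≤ Q (W := W) (V := V) V' := by
  rintro x ⟨hW, hV'⟩
  exact ⟨⟨x, h hW⟩, ⟨⟨⟨x, h hW⟩, hW⟩, hV', rfl⟩, rfl⟩

lemma Q_le : Q (W := W) (V := V) V' ≤ W ⊓ V' := by
  rintro _ ⟨_, ⟨y, hy, rfl⟩, rfl⟩
  exact ⟨y.2, hy⟩

lemma restr_map_apply {U₁ U₂ : Opens (TopCat.of V)} (h₁ : U₁ ≤ U₂)
    (t : F.obj.obj (op ((SectSupp.hj V).isOpenMap.functor.obj U₂))) :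
    (((CohTop.restrFunctor V).obj F).obj.map (homOfLE h₁).op).hom t =
      (F.obj.map (homOfLE (leOfHom ((SectSupp.hj V).isOpenMap.functor.map (homOfLE h₁)))).op).hom t :=
  rfl

lemma bHom_range (s : F.obj.obj (op (V ⊓ V'))) :
    (∃ y, bHom h F V' y = s) ↔
      (F.obj.map (homOfLE (inf_le_inf_right V' h)).op).hom s = 0 := by
  constructor
  · rintro ⟨y, rfl⟩
    have h0 := (SectSupp.exists_ιZ_app_eq_iff (SuppFam.inOpen V W) ((CohTop.restrFunctor V).obj F)
      (pre V') _).1 ⟨y, rfl⟩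
    rw [restr_map_apply] at h0
    show (F.obj.map (homOfLE (inf_le_inf_right V' h)).op).hom
      ((F.obj.map (homOfLE (le_jj_inf (V := V) V')).op).hom _) = 0
    rw [SectSupp.map_map_apply]
    have := congrArg (F.obj.map (homOfLE (le_Q h V')).op).hom h0
    rw [SectSupp.map_map_apply] at this
    exact this.trans (map_zero _)
  · intro hs
    have h0 : (((CohTop.restrFunctor V).obj F).obj.map
        (homOfLE (SectSupp.jj_le (SuppFam.inOpen V W) (pre V'))).op).hom
        ((F.obj.map (homOfLE (jj_le_inf (V := V) V')).op).hom s) = 0 := by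
      rw [restr_map_apply, SectSupp.map_map_apply]
      have := congrArg (F.obj.map (homOfLE (Q_le (W := W) (V := V) V')).op).hom hs
      rw [SectSupp.map_map_apply] at this
      exact this.trans (map_zero _)
    obtain ⟨y, hy⟩ := (SectSupp.exists_ιZ_app_eq_iff (SuppFam.inOpen V W)
      ((CohTop.restrFunctor V).obj F) (pre V') _).2 h0
    refine ⟨y, ?_⟩
    refine (congrArg (F.obj.map (homOfLE (le_jj_inf (V := V) V')).op).hom hy).trans ?_
    rw [SectSupp.map_map_apply, map_self_apply]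

lemma range_eq : (aHom h F V').range = (bHom h F V').range := by
  ext s
  rw [AddMonoidHom.mem_range, AddMonoidHom.mem_range, aHom_range, bHom_range]

/-- `Ext^0(ℤ_{V ⊓ V'}/ℤ_{W ⊓ V'}, F) ≃ Γ(V', Γ_Z F)` -/
noncomputable def eEquiv : Ext.{u} (LocCohZ.zq (inf_le_inf_right V' h)) F 0 ≃+
    ((SuppFam.sectSuppLC h).obj F).obj.obj (op V') :=
  (AddMonoidHom.ofInjective (aHom_injective h F V')).trans
    ((AddEquiv.addSubgroupCongr (range_eq h F V')).trans
      (AddMonoidHom.ofInjective (bHom_injective h F V')).symm)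

lemma bHom_eEquiv (x : Ext.{u} (LocCohZ.zq (inf_le_inf_right V' h)) F 0) :
    bHom h F V' (eEquiv h F V' x) = aHom h F V' x := by
  have h1 : (AddMonoidHom.ofInjective (bHom_injective h F V')) (eEquiv h F V' x) =
      AddEquiv.addSubgroupCongr (range_eq h F V')
        (AddMonoidHom.ofInjective (aHom_injective h F V') x) :=
    (AddMonoidHom.ofInjective (bHom_injective h F V')).apply_symm_apply _
  exact congrArg Subtype.val h1

lemma aHom_natV {V'' : Opens X} (hle : V'' ≤ V')
    (x : Ext.{u} (LocCohZ.zq (inf_le_inf_right V' h)) F 0) :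
    aHom h F V'' ((Ext.mk₀ (LocCohZ.zqMap (inf_le_inf_right V' h) (inf_le_inf_right V'' h)
      (inf_le_inf_left W hle) (inf_le_inf_left V hle))).comp x (zero_add 0)) =
      (F.obj.map (homOfLE (inf_le_inf_left V hle)).op).hom (aHom h F V' x) := by
  obtain ⟨b, rfl⟩ := (Ext.mk₀_bijective _ _).2 x
  rw [Ext.mk₀_comp_mk₀, aHom_mk₀, aHom_mk₀, ← CohFree.evalGen_freeSheafMap_comp]
  congr 1
  rw [← Category.assoc, ← Category.assoc]
  congr 1
  exact cokernel.π_desc _ _ _

lemma aHom_natF {F' : CohTop.Ab X} (φ : F ⟶ F')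
    (x : Ext.{u} (LocCohZ.zq (inf_le_inf_right V' h)) F 0) :
    aHom h F' V' (x.comp (Ext.mk₀ φ) (add_zero 0)) =
      (φ.hom.app (op (V ⊓ V'))).hom (aHom h F V' x) := by
  obtain ⟨b, rfl⟩ := (Ext.mk₀_bijective _ _).2 x
  rw [Ext.mk₀_comp_mk₀, aHom_mk₀, aHom_mk₀, ← Category.assoc, SectSupp.evalGen_comp]

lemma bHom_natV {V'' : Opens X} (hle : V'' ≤ V')
    (y : ((SuppFam.sectSuppLC h).obj F).obj.obj (op V')) :
    bHom h F V'' ((((SuppFam.sectSuppLC h).obj F).obj.map (homOfLE hle).op).hom y) =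
      (F.obj.map (homOfLE (inf_le_inf_left V hle)).op).hom (bHom h F V' y) := by
  have hle' : pre (V := V) V'' ≤ pre (V := V) V' := fun x hx => hle hx
  have nat := ConcreteCategory.congr_hom
    ((SectSupp.ιZ (SuppFam.inOpen V W) ((CohTop.restrFunctor V).obj F)).hom.naturality
      (homOfLE hle').op) y
  have e1 : bHom h F V'' ((((SuppFam.sectSuppLC h).obj F).obj.map (homOfLE hle).op).hom y) =
      (F.obj.map (homOfLE (le_jj_inf (V := V) V'')).op).hom
        ((((CohTop.restrFunctor V).obj F).obj.map (homOfLE hle').op).hom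
          (((SectSupp.ιZ (SuppFam.inOpen V W) ((CohTop.restrFunctor V).obj F)).hom.app
            (op (pre (V := V) V'))).hom y)) :=
    congrArg (F.obj.map (homOfLE (le_jj_inf (V := V) V'')).op).hom nat
  rw [e1, restr_map_apply, SectSupp.map_map_apply]
  exact (SectSupp.map_map_apply F _ _ _).symm

lemma bHom_natF {F' : CohTop.Ab X} (φ : F ⟶ F')
    (y : ((SuppFam.sectSuppLC h).obj F).obj.obj (op V')) :
    bHom h F' V' ((((SuppFam.sectSuppLC h).map φ).hom.app (op V')).hom y) =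
      (φ.hom.app (op (V ⊓ V'))).hom (bHom h F V' y) := by
  have nat := congrArg (fun k => (k.hom.app (op (pre (V := V) V'))).hom y)
    (SectSupp.map_ι (SuppFam.inOpen V W) ((CohTop.restrFunctor V).map φ))
  have e1 : bHom h F' V' ((((SuppFam.sectSuppLC h).map φ).hom.app (op V')).hom y) =
      (F'.obj.map (homOfLE (le_jj_inf (V := V) V')).op).hom
        ((φ.hom.app (op (SectSupp.jj V V'))).hom
          (((SectSupp.ιZ (SuppFam.inOpen V W) ((CohTop.restrFunctor V).obj F)).hom.app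
            (op (pre (V := V) V'))).hom y)) :=
    congrArg (F'.obj.map (homOfLE (le_jj_inf (V := V) V')).op).hom nat
  rw [e1]
  exact (ConcreteCategory.congr_hom (φ.hom.naturality (homOfLE (le_jj_inf (V := V) V')).op) _).symm

end e0

/-- the presheaf `V' ↦ Ext^0(ℤ_{V ⊓ V'}/ℤ_{W ⊓ V'}, F)` is the sheaf `Γ_Z F` -/
noncomputable def tp₀ObjIso (F : CohTop.Ab X) :
    (ExtPsh.Tp (G h) 0).obj F ≅ ((SuppFam.sectSuppLC h).obj F).obj :=
  NatIso.ofComponents (fun V' => (eEquiv h F V'.unop).toAddCommGrpIso) (by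
    intro V' V'' g
    apply AddCommGrpCat.hom_ext
    apply AddMonoidHom.ext
    intro x
    apply bHom_injective h F V''.unop
    have hle : V''.unop ≤ V'.unop := leOfHom g.unop
    show bHom h F V''.unop (eEquiv h F V''.unop
        ((Ext.mk₀ (LocCohZ.zqMap (inf_le_inf_right V'.unop h) (inf_le_inf_right V''.unop h)
          (inf_le_inf_left W hle) (inf_le_inf_left V hle))).comp x (zero_add 0))) =
      bHom h F V''.unop ((((SuppFam.sectSuppLC h).obj F).obj.map (homOfLE hle).op).hom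
        (eEquiv h F V'.unop x))
    rw [bHom_eEquiv, bHom_natV, bHom_eEquiv]
    exact aHom_natV h F V'.unop hle x)

/-- `F ↦ (V' ↦ Ext^0(ℤ_{V ⊓ V'}/ℤ_{W ⊓ V'}, F))` is `Γ_Z` followed by the inclusion of sheaves in
presheaves -/
noncomputable def tp₀Iso :
    ExtPsh.Tp (G h) 0 ≅ SuppFam.sectSuppLC h ⋙
      sheafToPresheaf (Opens.grothendieckTopology X) AddCommGrpCat.{u} :=
  NatIso.ofComponents (fun F => tp₀ObjIso h F) (by
    intro F F' φ
    apply NatTrans.ext
    funext V'
    apply AddCommGrpCat.hom_ext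
    apply AddMonoidHom.ext
    intro x
    apply bHom_injective h F' V'.unop
    show bHom h F' V'.unop (eEquiv h F' V'.unop (x.comp (Ext.mk₀ φ) (add_zero 0))) =
      bHom h F' V'.unop ((((SuppFam.sectSuppLC h).map φ).hom.app (op V'.unop)).hom
        (eEquiv h F V'.unop x))
    rw [bHom_eEquiv, bHom_natF, bHom_eEquiv]
    exact aHom_natF h F V'.unop φ x)

/-- sheafifying the degree-zero presheaf gives `Γ_Z` -/
noncomputable def e₀ :
    ExtPsh.Tp (G h) 0 ⋙ presheafToSheaf (Opens.grothendieckTopology X) AddCommGrpCat.{u} ≅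
      SuppFam.sectSuppLC h :=
  Functor.isoWhiskerRight (tp₀Iso h) (presheafToSheaf _ _) ≪≫
    (Functor.isoWhiskerLeft (SuppFam.sectSuppLC h)
      (asIso (sheafificationAdjunction (Opens.grothendieckTopology X) AddCommGrpCat.{u}).counit) : _) ≪≫
    Functor.rightUnitor _

instance push_incl_preservesFiniteLimits :
    PreservesFiniteLimits (CohTop.push (CohCx.incl V)) := by
  have : (CohTop.push (CohCx.incl V)).IsRightAdjoint :=
    (TopCat.Sheaf.pullbackPushforwardAdjunction AddCommGrpCat.{u} (CohCx.incl V)).isRightAdjoint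
  infer_instance

instance sectSuppLC_preservesFiniteLimits : PreservesFiniteLimits (SuppFam.sectSuppLC h) := by
  unfold SuppFam.sectSuppLC
  have h1 : PreservesFiniteLimits (CohTop.restrFunctor V) :=
    Groth.Agent.Lib.Helper21.TopRestr.restr_preservesFiniteLimits V
  have h2 : PreservesFiniteLimits (LocCohZ.sectSuppF (X := TopCat.of V) (SuppFam.inOpen V W)) :=
    SectSupp.instPreservesFiniteLimitsAbSectSuppF _
  have h3 : PreservesFiniteLimits (CohTop.push (CohCx.incl V)) := push_incl_preservesFiniteLimits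
  have h4 : PreservesFiniteLimits
      (LocCohZ.sectSuppF (X := TopCat.of V) (SuppFam.inOpen V W) ⋙ CohTop.push (CohCx.incl V)) :=
    comp_preservesFiniteLimits _ _
  exact comp_preservesFiniteLimits _ _

theorem main (F : CohTop.Ab X) (q : ℕ) :
    Nonempty ((SuppFam.HZshLC h q).obj F ≅
      (presheafToSheaf (Opens.grothendieckTopology X) AddCommGrpCat.{u}).obj
        (SuppFam.HZpre F q h)) := by
  obtain ⟨e⟩ := DeltaSeq.rightDerived_iso (SuppFam.sectSuppLC h)
    ((ExtPsh.isExSeq_Tp (G h)).comp (presheafToSheaf (Opens.grothendieckTopology X) AddCommGrpCat.{u}))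
    (e₀ h) q F
  exact ⟨e ≪≫ (presheafToSheaf (Opens.grothendieckTopology X) AddCommGrpCat.{u}).mapIso (tpIso h F q)⟩

end Groth.Agent.Lib.helper21.LocCohSh
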