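import Mathlib
import Groth.Prelude.Def_SuppFam
import Groth.Agent.Lib.Helper21.LocClosedQCoh
import Groth.Agent.Lib.Helper21.InjFlasque
import Groth.Agent.Lib.Helper21.LocCohSh
import Groth.Agent.Lib.Helper27.LocCohLES
import Groth.Agent.Lib.Helper27.DeltaSeq
import Groth.Agent.Lib.Helper21.InjAcyc2

/-!
# Comparison of module level and abelian level local cohomology sheaves, locally closed supports
(helper21)
-/

set_option autoImplicit false

universe u

namespace Groth.Agent.Lib.helper21.LocClosedCmp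

open CategoryTheory CategoryTheory.Limits Opposite TopologicalSpace AlgebraicGeometry
open AlgebraicGeometry.Scheme.Modules Groth.Agent.Lib.helper27

variable {Y : Scheme.{u}} {V₂ V₁ : Y.Opens} (h : V₂ ≤ V₁)

/-- injective `O_Y`-modules are acyclic for the abelian sections-with-supports functor -/
theorem isZero_HZshLC_succ_toAb (I : Y.Modules) [Injective I] (i : ℕ) :
    IsZero ((SuppFam.HZshLC (X := Y.carrier) h (i + 1)).obj (Coh.toAb I)) := by
  haveI := InjFlasque.isFlasque_toAb I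
  obtain ⟨e⟩ := LocCohSh.main (X := Y.carrier) h (Coh.toAb I) (i + 1)
  refine IsZero.of_iso ?_ e
  refine Functor.map_isZero _ ?_
  refine Functor.isZero _ (fun V' => ?_)
  have hs := LocCohLES.subsingleton_HZ_succ (X := Y.carrier) (Coh.toAb I)
    (inf_le_inf_right V'.unop h) i
  exact @AddCommGrpCat.isZero_of_subsingleton
    (AddCommGrpCat.of (LocCohZ.HZ (X := Y.carrier) (Coh.toAb I) (i + 1)
      (inf_le_inf_right V'.unop h))) hs


/-! ### the degree zero comparison -/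

/-- the underlying abelian sheaf functor -/
noncomputable abbrev Φ (Y : Scheme.{u}) : Y.Modules ⥤ CohTop.Ab Y.carrier :=
  SheafOfModules.toSheaf Y.ringCatSheaf

instance (Y : Scheme.{u}) : (Φ Y).Additive := { map_add := by intros; rfl }

instance (Y : Scheme.{u}) : PreservesFiniteLimits (Φ Y) :=
  Groth.Agent.Lib.helper21.InjAcyc.toSheaf_preservesFiniteLimits Y.ringCatSheaf

instance (Y : Scheme.{u}) : PreservesFiniteColimits (Φ Y) :=
  Groth.Agent.Lib.helper21.InjAcyc.toSheaf_preservesFiniteColimits Y.ringCatSheaf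

section Generic

variable {𝒞 : Type*} [Category 𝒞] [HasZeroMorphisms 𝒞]

/-- two kernels of maps out of the same object, each killed by the other map, are isomorphic -/
noncomputable def isoOfKernels {A B K L₁ L₂ : 𝒞} (α : A ⟶ K) (g₁ : K ⟶ L₁) (w₁ : α ≫ g₁ = 0)
    (h₁ : IsLimit (KernelFork.ofι α w₁)) (β : B ⟶ K) (g₂ : K ⟶ L₂) (w₂ : β ≫ g₂ = 0)
    (h₂ : IsLimit (KernelFork.ofι β w₂)) (h12 : α ≫ g₂ = 0) (h21 : β ≫ g₁ = 0) : A ≅ B where
  hom := KernelFork.IsLimit.lift' h₂ α h12 |>.1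
  inv := KernelFork.IsLimit.lift' h₁ β h21 |>.1
  hom_inv_id := by
    apply Fork.IsLimit.hom_ext h₁
    have e1 := (KernelFork.IsLimit.lift' h₂ α h12).2
    have e2 := (KernelFork.IsLimit.lift' h₁ β h21).2
    simp only [Fork.ofι_pt, Fork.ι_ofι] at e1 e2
    simp only [Fork.ofι_pt, Fork.ι_ofι, Category.assoc, Category.id_comp]
    rw [e2, e1]
  inv_hom_id := by
    apply Fork.IsLimit.hom_ext h₂
    have e1 := (KernelFork.IsLimit.lift' h₂ α h12).2
    have e2 := (KernelFork.IsLimit.lift' h₁ β h21).2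
    simp only [Fork.ofι_pt, Fork.ι_ofι] at e1 e2
    simp only [Fork.ofι_pt, Fork.ι_ofι, Category.assoc, Category.id_comp]
    rw [e1, e2]

lemma isoOfKernels_hom_comp {A B K L₁ L₂ : 𝒞} (α : A ⟶ K) (g₁ : K ⟶ L₁) (w₁ : α ≫ g₁ = 0)
    (h₁ : IsLimit (KernelFork.ofι α w₁)) (β : B ⟶ K) (g₂ : K ⟶ L₂) (w₂ : β ≫ g₂ = 0)
    (h₂ : IsLimit (KernelFork.ofι β w₂)) (h12 : α ≫ g₂ = 0) (h21 : β ≫ g₁ = 0) :
    (isoOfKernels α g₁ w₁ h₁ β g₂ w₂ h₂ h12 h21).hom ≫ β = α :=
  (KernelFork.IsLimit.lift' h₂ α h12).2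

end Generic


section Cmp

variable (M : Y.Modules)

/-- the abelian sheaf `j₁_* j₁^* M` -/
noncomputable abbrev K : CohTop.Ab Y.carrier :=
  (Φ Y).obj ((pushforward V₁.ι).obj ((restrictFunctor V₁.ι).obj M))

/-- `M|_{V₁}` as an abelian sheaf -/
noncomputable abbrev GV : CohTop.Ab (TopCat.of V₁) :=
  (CohTop.restrFunctor (X := Y.carrier) V₁).obj ((Φ Y).obj M)

/-- module side: the inclusion of the kernel -/
noncomputable def α : (Φ Y).obj ((LocClosedQCoh.gammaLC h).obj M) ⟶ K (V₁ := V₁) M :=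
  (Φ Y).map (kernel.ι ((ResNat.res h).app M))

/-- module side: the map whose kernel is taken -/
noncomputable def gA : K (V₁ := V₁) M ⟶
    (Φ Y).obj ((pushforward V₂.ι).obj ((restrictFunctor V₂.ι).obj M)) :=
  (Φ Y).map ((ResNat.res h).app M)

lemma α_gA : α h M ≫ gA h M = 0 :=
  ((Φ Y).map_comp _ _).symm.trans
    ((congrArg (Φ Y).map (kernel.condition ((ResNat.res h).app M))).trans ((Φ Y).map_zero _ _))

/-- `α` is a kernel of `gA` -/
noncomputable def isLimitα : IsLimit (KernelFork.ofι (α h M) (α_gA h M)) :=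
  KernelFork.mapIsLimit _ (kernelIsKernel ((ResNat.res h).app M)) (Φ Y)

/-- abelian side: the inclusion of the kernel -/
noncomputable def β : (SuppFam.sectSuppLC (X := Y.carrier) h).obj ((Φ Y).obj M) ⟶
    K (V₁ := V₁) M :=
  (CohTop.push (CohCx.incl (X := Y.carrier) V₁)).map
    (SectSupp.ιZ (SuppFam.inOpen (X := Y.carrier) V₁ V₂) (GV (V₁ := V₁) M))

/-- abelian side: the map whose kernel is taken -/
noncomputable def gB : K (V₁ := V₁) M ⟶
    (CohTop.push (CohCx.incl (X := Y.carrier) V₁)).obj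
      ((CohTop.push (CohCx.incl (SuppFam.inOpen (X := Y.carrier) V₁ V₂))).obj
        ((CohTop.pull (CohCx.incl (SuppFam.inOpen (X := Y.carrier) V₁ V₂))).obj
          (GV (V₁ := V₁) M))) :=
  (CohTop.push (CohCx.incl (X := Y.carrier) V₁)).map
    (SectSupp.η (SuppFam.inOpen (X := Y.carrier) V₁ V₂) (GV (V₁ := V₁) M))

lemma β_gB : β h M ≫ gB (V₂ := V₂) M = 0 :=
  ((CohTop.push (CohCx.incl (X := Y.carrier) V₁)).map_comp _ _).symm.trans
    ((congrArg (CohTop.push (CohCx.incl (X := Y.carrier) V₁)).map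
      (SectSupp.ιZ_η (SuppFam.inOpen (X := Y.carrier) V₁ V₂) (GV (V₁ := V₁) M))).trans
      ((CohTop.push (CohCx.incl (X := Y.carrier) V₁)).map_zero _ _))

end Cmp


section Cmp2

variable (M : Y.Modules)

/-- `β` is a kernel of `gB` -/
noncomputable def isLimitβ : IsLimit (KernelFork.ofι (β h M) (β_gB h M)) :=
  KernelFork.mapIsLimit _
    (kernelIsKernel (SectSupp.η (SuppFam.inOpen (X := Y.carrier) V₁ V₂) (GV (V₁ := V₁) M)))
    (CohTop.push (CohCx.incl (X := Y.carrier) V₁))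

lemma V₂_image_le (U : Y.Opens) : V₂.ι ''ᵁ (V₂.ι ⁻¹ᵁ U) ≤ V₂ ⊓ U := by
  rw [V₂.ι.image_preimage_eq_opensRange_inf, Scheme.Opens.opensRange_ι]

lemma le_V₂_image (U : Y.Opens) : V₂ ⊓ U ≤ V₂.ι ''ᵁ (V₂.ι ⁻¹ᵁ U) := by
  rw [V₂.ι.image_preimage_eq_opensRange_inf, Scheme.Opens.opensRange_ι]

lemma gA_app_eq_zero_iff (U : Y.Opens) (x : (K (V₁ := V₁) M).obj.obj (op U)) :
    ((gA h M).hom.app (op U)).hom x = 0 ↔
      (((Φ Y).obj M).obj.map (homOfLE (ResNat.opens_le h U)).op).hom x = 0 := Iff.rfl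

lemma gB_app_eq_zero_iff (U : Y.Opens) (x : (K (V₁ := V₁) M).obj.obj (op U)) :
    ((gB (V₂ := V₂) M).hom.app (op U)).hom x = 0 ↔
      (((Φ Y).obj M).obj.map
        (homOfLE (LocCohSh.Q_le_jj (X := Y.carrier) (W := V₂) (V := V₁) U)).op).hom x = 0 :=
  SectSupp.η_app_eq_zero_iff (SuppFam.inOpen (X := Y.carrier) V₁ V₂) (GV (V₁ := V₁) M)
    (LocCohSh.pre (X := Y.carrier) (V := V₁) U) x

include h in
lemma gA_iff_gB (U : Y.Opens) (x : (K (V₁ := V₁) M).obj.obj (op U)) :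
    ((gA h M).hom.app (op U)).hom x = 0 ↔ ((gB (V₂ := V₂) M).hom.app (op U)).hom x = 0 := by
  rw [gA_app_eq_zero_iff, gB_app_eq_zero_iff]
  have h1 : LocCohSh.Q (X := Y.carrier) (W := V₂) (V := V₁) U ≤ V₂.ι ''ᵁ (V₂.ι ⁻¹ᵁ U) :=
    (LocCohSh.Q_le (X := Y.carrier) (W := V₂) (V := V₁) U).trans (le_V₂_image U)
  have h2 : V₂.ι ''ᵁ (V₂.ι ⁻¹ᵁ U) ≤ LocCohSh.Q (X := Y.carrier) (W := V₂) (V := V₁) U :=
    (V₂_image_le U).trans (LocCohSh.le_Q (X := Y.carrier) h U)
  constructor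
  · intro hx
    have := congrArg (((Φ Y).obj M).obj.map (homOfLE h1).op).hom hx
    rw [SectSupp.map_map_apply] at this
    exact this.trans (map_zero _)
  · intro hx
    have := congrArg (((Φ Y).obj M).obj.map (homOfLE h2).op).hom hx
    rw [SectSupp.map_map_apply] at this
    exact this.trans (map_zero _)

lemma α_gB : α h M ≫ gB (V₂ := V₂) M = 0 := by
  apply Sheaf.hom_ext
  ext U s
  have h0 := congrArg (fun k => (k.hom.app U).hom s) (α_gA h M)
  exact (gA_iff_gB h M U.unop _).1 h0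

lemma β_gA : β h M ≫ gA h M = 0 := by
  apply Sheaf.hom_ext
  ext U s
  have h0 := congrArg (fun k => (k.hom.app U).hom s) (β_gB h M)
  exact (gA_iff_gB h M U.unop _).2 h0

/-- the comparison isomorphism in degree zero, objectwise -/
noncomputable def ε : (Φ Y).obj ((LocClosedQCoh.gammaLC h).obj M) ≅
    (SuppFam.sectSuppLC (X := Y.carrier) h).obj ((Φ Y).obj M) :=
  isoOfKernels (α h M) (gA h M) (α_gA h M) (isLimitα h M) (β h M) (gB (V₂ := V₂) M) (β_gB h M)
    (isLimitβ h M) (α_gB h M) (β_gA h M)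

lemma ε_hom_β : (ε h M).hom ≫ β h M = α h M := isoOfKernels_hom_comp _ _ _ _ _ _ _ _ _ _

instance : Mono (β h M) := by
  have h0 : PreservesFiniteLimits (CohTop.push (CohCx.incl (X := Y.carrier) V₁)) :=
    LocCohSh.push_incl_preservesFiniteLimits
  have h1 : (CohTop.push (CohCx.incl (X := Y.carrier) V₁)).PreservesMonomorphisms :=
    preservesMonomorphisms_of_preservesLimitsOfShape _
  have h2 : Mono (SectSupp.ιZ (SuppFam.inOpen (X := Y.carrier) V₁ V₂) (GV (V₁ := V₁) M)) := by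
    unfold SectSupp.ιZ
    exact equalizer.ι_mono
  exact @Functor.map_mono _ _ _ _ _ h1 _ _ _ h2

end Cmp2


section Nat

variable {M N : Y.Modules} (φ : M ⟶ N)

/-- the map induced on `j₁_* j₁^*` -/
noncomputable abbrev Kmap : K (V₁ := V₁) M ⟶ K (V₁ := V₁) N :=
  (Φ Y).map ((pushforward V₁.ι).map ((restrictFunctor V₁.ι).map φ))

lemma α_naturality :
    (Φ Y).map ((LocClosedQCoh.gammaLC h).map φ) ≫ α h N = α h M ≫ Kmap (V₁ := V₁) φ := by
  unfold α
  refine ((Φ Y).map_comp _ _).symm.trans (Eq.trans ?_ ((Φ Y).map_comp _ _))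
  exact congrArg (Φ Y).map ((KernelLES2.kerFunctorι (ResNat.res h)).naturality φ)

lemma β_naturality :
    (SuppFam.sectSuppLC (X := Y.carrier) h).map ((Φ Y).map φ) ≫ β h N =
      β h M ≫ Kmap (V₁ := V₁) φ := by
  unfold β
  show _ = (CohTop.push (CohCx.incl (X := Y.carrier) V₁)).map
      (SectSupp.ιZ (SuppFam.inOpen (X := Y.carrier) V₁ V₂) (GV (V₁ := V₁) M)) ≫
    (CohTop.push (CohCx.incl (X := Y.carrier) V₁)).map
      ((CohTop.restrFunctor (X := Y.carrier) V₁).map ((Φ Y).map φ))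
  refine ((CohTop.push (CohCx.incl (X := Y.carrier) V₁)).map_comp _ _).symm.trans
    (Eq.trans ?_ ((CohTop.push (CohCx.incl (X := Y.carrier) V₁)).map_comp _ _))
  exact congrArg (CohTop.push (CohCx.incl (X := Y.carrier) V₁)).map
    (SectSupp.map_ι (SuppFam.inOpen (X := Y.carrier) V₁ V₂)
      ((CohTop.restrFunctor (X := Y.carrier) V₁).map ((Φ Y).map φ)))

end Nat

/-- the comparison isomorphism in degree zero -/
noncomputable def εNat : LocClosedQCoh.gammaLC h ⋙ Φ Y ≅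
    Φ Y ⋙ SuppFam.sectSuppLC (X := Y.carrier) h :=
  NatIso.ofComponents (fun M => ε h M) (by
    intro M N φ
    refine (cancel_mono (β h N)).1 ?_
    calc ((LocClosedQCoh.gammaLC h ⋙ Φ Y).map φ ≫ (ε h N).hom) ≫ β h N
        = (Φ Y).map ((LocClosedQCoh.gammaLC h).map φ) ≫ ((ε h N).hom ≫ β h N) :=
          Category.assoc _ _ _
      _ = (Φ Y).map ((LocClosedQCoh.gammaLC h).map φ) ≫ α h N := by rw [ε_hom_β]
      _ = α h M ≫ Kmap (V₁ := V₁) φ := α_naturality h φ
      _ = ((ε h M).hom ≫ β h M) ≫ Kmap (V₁ := V₁) φ := by rw [ε_hom_β]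
      _ = (ε h M).hom ≫ (β h M ≫ Kmap (V₁ := V₁) φ) := Category.assoc _ _ _
      _ = (ε h M).hom ≫ ((SuppFam.sectSuppLC (X := Y.carrier) h).map ((Φ Y).map φ) ≫ β h N) := by
          rw [β_naturality]
      _ = ((ε h M).hom ≫ (Φ Y ⋙ SuppFam.sectSuppLC (X := Y.carrier) h).map φ) ≫ β h N :=
          (Category.assoc _ _ _).symm)


instance : PreservesFiniteLimits (restrictFunctor V₁.ι ⋙ pushforward V₁.ι) := by
  haveI : PreservesFiniteLimits (pushforward V₁.ι) := by
    haveI : PreservesLimitsOfSize.{u, u} (pushforward V₁.ι) :=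
      (restrictAdjunction V₁.ι).rightAdjoint_preservesLimits
    exact PreservesLimitsOfSize.preservesFiniteLimits.{u, u} _
  exact comp_preservesFiniteLimits _ _

/-- **comparison**: the underlying abelian sheaf of the module level `R^q Γ_{V₁ ∖ V₂} M` is the
abelian level local cohomology sheaf `ℋ^q_{V₁ ∖ V₂}` of the underlying abelian sheaf of `M` -/
theorem nonempty_toAb_rightDerived_iso (M : Y.Modules) (q : ℕ) :
    Nonempty (Coh.toAb (((LocClosedQCoh.gammaLC h).rightDerived q).obj M) ≅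
      (SuppFam.HZshLC (X := Y.carrier) h q).obj (Coh.toAb M)) := by
  classical
  haveI : EnoughInjectives Y.Modules :=
    Groth.Agent.Lib.Helper21.ModGroth.enoughInjectives_mod _
  haveI : PreservesFiniteLimits (LocClosedQCoh.gammaLC h) :=
    KernelLES2.kerFunctor_preservesFiniteLimits (ResNat.res h)
  haveI : PreservesFiniteLimits (SuppFam.sectSuppLC (X := Y.carrier) h) :=
    LocCohSh.sectSuppLC_preservesFiniteLimits h
  have hT : DeltaSeq.IsExSeq (fun n => (LocClosedQCoh.gammaLC h).rightDerived n ⋙ Φ Y) :=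
    (DeltaSeq.isExSeq_rightDerived (LocClosedQCoh.gammaLC h)).comp (Φ Y)
  have hT' : DeltaSeq.IsExSeq
      (fun n => Φ Y ⋙ (SuppFam.sectSuppLC (X := Y.carrier) h).rightDerived n) :=
    (DeltaSeq.isExSeq_rightDerived (SuppFam.sectSuppLC (X := Y.carrier) h)).precomp (Φ Y)
      (fun I hI i => by
        haveI := hI
        exact isZero_HZshLC_succ_toAb h I i)
  have e₀ : (LocClosedQCoh.gammaLC h).rightDerived 0 ⋙ Φ Y ≅
      Φ Y ⋙ (SuppFam.sectSuppLC (X := Y.carrier) h).rightDerived 0 :=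
    Functor.isoWhiskerRight (LocClosedQCoh.gammaLC h).rightDerivedZeroIsoSelf (Φ Y) ≪≫
      εNat h ≪≫
      (Functor.isoWhiskerLeft (Φ Y)
        (SuppFam.sectSuppLC (X := Y.carrier) h).rightDerivedZeroIsoSelf).symm
  exact DeltaSeq.iso hT hT' e₀ q M

end Groth.Agent.Lib.helper21.LocClosedCmp
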