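import Mathlib
import Groth.Agent.Lib.Helper21.ExtY3
import Groth.Agent.Lib.Helper21.LocClosedCmp
import Groth.Agent.Lib.Helper21.InjFlasque
import Groth.Agent.Lib.Helper21.SSWeakSerre
import Groth.Agent.Lib.Helper27.AcyclicClass2
import Groth.Agent.Lib.Helper16.QCohEpi

/-!
# Flasque modules are acyclic for `Γ_Z`; vanishing of an abutment from an antidiagonal (helper21)
-/

set_option autoImplicit false

universe u

open CategoryTheory CategoryTheory.Limits AlgebraicGeometry Opposite TopologicalSpace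

namespace Groth.Agent.Lib.helper21.ExtY

open Scheme.Modules Groth.Agent.Lib.helper21.SuppAdj

section antidiagonal

variable {C : Type*} [Category C] [Abelian C]

open Groth.Agent.Lib.helper21.SSWeakSerre

lemma weakSerre_isZero : WeakSerre (fun A : C => IsZero A) where
  iso e h := h.of_iso e.symm
  zero Z hZ := hZ
  ker f hA hB := by
    rw [IsZero.iff_id_eq_zero, ← cancel_mono (kernel.ι f)]
    exact hA.eq_of_tgt _ _
  coker f hA hB := by
    rw [IsZero.iff_id_eq_zero, ← cancel_epi (cokernel.π f)]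
    exact hB.eq_of_src _ _
  ext S hS h1 h3 := by
    have := hS.mono_f
    have hf : S.f = 0 := h1.eq_of_src _ _
    have hg : S.g = 0 := h3.eq_of_tgt _ _
    exact hS.exact.isZero_of_both_zeros hf hg

lemma isZero_page {r₀ : ℤ} (E : CohomologicalSpectralSequence C r₀) (pq : ℤ × ℤ)
    (h : IsZero ((E.page r₀ le_rfl).X pq)) :
    ∀ (r : ℤ) (hr : r₀ ≤ r), IsZero ((E.page r hr).X pq) := by
  intro r hr
  induction r, hr using Int.leInduction with
  | base => exact h
  | succ r hr ih =>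
    refine IsZero.of_iso ?_ (E.iso r (r + 1) pq rfl hr).symm
    exact ShortComplex.isZero_homology_of_isZero_X₂ _ ih

/-- if the `E₂`-terms on the antidiagonal `p + q = n` vanish, so does the abutment `H n` -/
theorem isZero_abutment_of_antidiagonal {r₀ : ℤ} (E : CohomologicalSpectralSequence C r₀)
    {H : ℤ → C} (a : SpSeq.Abutment E H) (n : ℤ) (hfin : a.IsFinite n)
    (h : ∀ p : ℤ, IsZero ((E.page r₀ le_rfl).X (p, n - p))) : IsZero (H n) := by
  obtain ⟨⟨a₀, ha₀⟩, ⟨b₀, hb₀⟩⟩ := hfin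
  refine prop_of_filtration weakSerre_isZero (a.fil n) (a.anti n) a₀ b₀ ha₀ hb₀ (fun p => ?_)
  have h1 := isZero_page E (p, n - p) (h p) (a.rk (p, n - p)) (a.stat (p, n - p)).1
  have h2 : IsZero (SpSeq.grPiece (a.fil (p + (n - p))) (a.anti (p + (n - p))) p) :=
    h1.of_iso (a.β (p, n - p)).symm
  have e : p + (n - p) = n := by ring
  have h3 : ∀ (m : ℤ), m = n → IsZero (SpSeq.grPiece (a.fil m) (a.anti m) p) →
      IsZero (SpSeq.grPiece (a.fil n) (a.anti n) p) := by
    intro m hm hq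
    subst hm
    exact hq
  exact h3 _ e h2

end antidiagonal

section flasque

variable {X : Scheme.{u}} (U : X.Opens)

/-- sectionwise flasqueness of an `O_X`-module -/
def Fl (M : X.Modules) : Prop :=
  ∀ (W V : X.Opens) (h : W ≤ V), Function.Surjective (M.presheaf.map (homOfLE h).op)

lemma fl_of_injective (I : X.Modules) [Injective I] : Fl I :=
  fun _ _ h => Groth.Agent.Lib.helper21.InjFlasque.surjective_map I h

lemma isFlasque_toAb_of_fl {M : X.Modules} (h : Fl M) :
    TopCat.Sheaf.IsFlasque (X := X.carrier) (Coh.toAb M) where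
  epi {W V} i := by
    rw [AddCommGrpCat.epi_iff_surjective]
    exact h _ _ (leOfHom i.unop)

open Groth.Agent.Lib.helper21.LocClosedCmp in
lemma surjective_g_app (S : ShortComplex X.Modules) (hS : S.ShortExact) (h1 : Fl S.X₁)
    (W : X.Opens) : Function.Surjective (S.g.app W) := by
  have hS' : (S.map (Φ X)).ShortExact := hS.map_of_exact (Φ X)
  have : TopCat.Sheaf.IsFlasque (X := X.carrier) (S.map (Φ X)).X₁ := isFlasque_toAb_of_fl h1
  have h := TopCat.Sheaf.IsFlasque.epi_of_shortExact (U := W) hS'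
  rw [AddCommGrpCat.epi_iff_surjective] at h
  exact h

lemma fl_X₃ (S : ShortComplex X.Modules) (hS : S.ShortExact) (h1 : Fl S.X₁) (h2 : Fl S.X₂) :
    Fl S.X₃ := by
  intro W V hWV s
  obtain ⟨t, rfl⟩ := surjective_g_app S hS h1 W s
  obtain ⟨t', rfl⟩ := h2 W V hWV t
  exact ⟨S.g.app V t', Groth.Agent.Lib.helper2.ModSec.map_app_apply S.g (homOfLE hWV) t'⟩

lemma preservesFiniteLimits_sectOn : PreservesFiniteLimits (ModSite.sectOn X.sheaf U) := by
  have := (Groth.Agent.Lib.helper21.SuppAdj.adj X.sheaf U).rightAdjoint_preservesLimits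
  exact PreservesLimitsOfSize.preservesFiniteLimits.{u, u} _

lemma epi_sectOn_map_g (S : ShortComplex X.Modules) (hS : S.ShortExact) (h1 : Fl S.X₁) :
    Epi ((ModSite.sectOn X.sheaf U).map S.g) := by
  have hm := hS.mono_f
  let γ : GZ U S.X₂ ⟶ GZ U S.X₃ := (ModSite.sectOn X.sheaf U).map S.g
  have hnat : γ ≫ ιZ U S.X₃ = ιZ U S.X₂ ≫ S.g := (ModSite.sectOnι X.sheaf U).naturality S.g
  refine Groth.Agent.Lib.helper16.QCohEpi.epi_of_surjective_on_basis γ Set.univ ?_ ?_
  · exact Opens.isBasis_iff_nbhd.2 fun {W x} hx => ⟨W, trivial, hx, le_rfl⟩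
  · intro W _ t
    let s₃ : Γ(S.X₃, W) := (ιZ U S.X₃).app W t
    have hs₃ := (exists_sectOnι_app_eq_iff U S.X₃ W s₃).1 ⟨t, rfl⟩
    obtain ⟨s₂, hs₂⟩ := surjective_g_app S hS h1 W s₃
    let i : W ⊓ U ⟶ W := homOfLE inf_le_left
    -- the restriction of `s₂` to `W ∩ U` comes from `X₁`
    have h4 : S.g.app (W ⊓ U) (S.X₂.presheaf.map i.op s₂) = 0 := by
      rw [← Groth.Agent.Lib.helper2.ModSec.map_app_apply, hs₂]
      exact hs₃
    obtain ⟨-, hex⟩ := Groth.Agent.Lib.helper7.KerSections.sections_leftExact S hS.exact (W ⊓ U)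
    obtain ⟨r₁, hr₁⟩ := hex _ h4
    obtain ⟨r, hr⟩ := h1 (W ⊓ U) W inf_le_left r₁
    let s₂' : Γ(S.X₂, W) := s₂ - S.f.app W r
    have h5 : S.X₂.presheaf.map i.op s₂' = 0 := by
      show S.X₂.presheaf.map i.op (s₂ - S.f.app W r) = 0
      rw [map_sub, Groth.Agent.Lib.helper2.ModSec.map_app_apply]
      have : S.X₁.presheaf.map i.op r = r₁ := hr
      rw [this]
      have : S.f.app (W ⊓ U) r₁ = S.X₂.presheaf.map i.op s₂ := hr₁
      rw [this, sub_self]
    obtain ⟨t₂, ht₂⟩ := (exists_sectOnι_app_eq_iff U S.X₂ W s₂').2 h5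
    refine ⟨t₂, ?_⟩
    apply (Groth.Agent.Lib.helper2.ModSec.mono_iff_injective_app (ιZ U S.X₃)).1 inferInstance W
    have h6 : (ιZ U S.X₃).app W (γ.app W t₂) = S.g.app W ((ιZ U S.X₂).app W t₂) :=
      congrArg (fun ψ : GZ U S.X₂ ⟶ S.X₃ => ψ.app W t₂) hnat
    show (ιZ U S.X₃).app W (γ.app W t₂) = s₃
    rw [h6, ht₂]
    show S.g.app W (s₂ - S.f.app W r) = s₃
    rw [map_sub, hs₂]
    have h7 : S.g.app W (S.f.app W r) = 0 :=
      congrArg (fun ψ : S.X₁ ⟶ S.X₃ => ψ.app W r) S.zero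
    rw [h7, sub_zero]

attribute [local instance] Groth.Agent.Lib.helper21.ShHomCoh.hasInjRes in
/-- **flasque modules are acyclic for `Γ_Z`** -/
theorem isZero_HZsh_succ_of_fl (M : X.Modules) (hM : Fl M) (b : ℕ) :
    IsZero ((ModSite.HZsh X.sheaf U (b + 1)).obj M) := by
  have : EnoughInjectives (ModSite.Mod X.sheaf) :=
    Groth.Agent.Lib.Helper21.ModGroth.enoughInjectives_mod _
  have := preservesFiniteLimits_sectOn U
  refine Groth.Agent.Lib.helper27.Horseshoe.isZero_rightDerived_succ_of_class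
    (C := ModSite.Mod X.sheaf) (D := ModSite.Mod X.sheaf) (ModSite.sectOn X.sheaf U)
    (fun N : X.Modules => Fl N) ?_ ?_ b M hM
  · intro (N : ModSite.Mod X.sheaf)
    let Y : ModSite.Mod X.sheaf := Injective.under N
    have hI : Injective Y := Injective.injective_under N
    exact ⟨Y, Injective.ι N, @fl_of_injective X Y hI, Injective.ι_mono N⟩
  · intro S hS h1 h2
    refine ⟨fl_X₃ S hS h1 h2, ?_⟩
    have := hS.mono_f
    have := epi_sectOn_map_g U S hS h1
    refine ShortComplex.ShortExact.mk' ?_ ?_ ?_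
    · exact (hS.exact.map_of_mono_of_preservesKernel (ModSite.sectOn X.sheaf U)
        inferInstance inferInstance)
    · exact inferInstanceAs (Mono ((ModSite.sectOn X.sheaf U).map S.f))
    · exact inferInstanceAs (Epi ((ModSite.sectOn X.sheaf U).map S.g))

end flasque

end Groth.Agent.Lib.helper21.ExtY
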