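import Mathlib
import Groth.Agent.Lib.Helper21.SuppAdj2
import Groth.Agent.Lib.Helper21.TensorRestr
import Groth.Agent.Lib.Helper21.ExtZeroHom
import Groth.Agent.Lib.Helper21.FlatSES

/-!
# `quotOn` and `sectOn` versus tensor product and internal hom (helper21)
-/

set_option autoImplicit false

universe u

open CategoryTheory CategoryTheory.Limits Opposite

namespace Groth.Agent.Lib.helper21.SuppAdj

open Groth.Agent.Lib.Helper21.TensorW Groth.Agent.Lib.Helper21.TensorAdj
  Groth.Agent.Lib.Helper21.TensorMon Groth.Agent.Lib.Helper21.TensorRestr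
  Groth.Agent.Lib.Helper21.FlatSES Groth.Agent.Lib.Helper21.ExtZeroHom

variable {C : Type u} [SmallCategory C] {J : GrothendieckTopology C} (O : Sheaf J CommRingCat.{u})
  (U : C)

/-- a module null on `U` tensored with anything is null on `U` -/
lemma isNullOn_tens {N : ModSite.Mod O} (hN : ModSite.IsNullOn O U N) (A : ModSite.Mod O) :
    ModSite.IsNullOn O U ((tens O A).obj N) := by
  have e := restrTensorIso O U N A
  haveI := additive_tens (O := O.over U) ((ModSite.restr O U).obj A)
  have hz : IsZero ((tens (O.over U) ((ModSite.restr O U).obj A)).obj ((ModSite.restr O U).obj N)) :=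
    Functor.map_isZero _ hN
  exact hz.of_iso e

/-- the internal hom into a module null on `U` is null on `U` -/
lemma isNullOn_sheafHom {N : ModSite.Mod O} (hN : ModSite.IsNullOn O U N) (M : ModSite.Mod O)
    [ModSite.HasSheafHom M] : ModSite.IsNullOn O U ((ModSite.sheafHom M).obj N) := by
  rw [ExtSupp.isNullOn_iff]
  intro V g x
  apply (sectSheafHomAddEquiv O V M N).injective
  rw [map_zero]
  exact (ExtSupp.isNullOn_of_hom O g hN).eq_of_tgt _ _

variable [ModSite.HasPushOver O U]

/-- the comparison `(M ⊗ A)/(M ⊗ A)_U ⟶ (M/M_U) ⊗ A` -/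
noncomputable def θ (M A : ModSite.Mod O) :
    (ModSite.quotOn O U).obj ((tens O A).obj M) ⟶ (tens O A).obj ((ModSite.quotOn O U).obj M) :=
  quotDesc (isNullOn_tens O U (ExtSupp.isNullOn_quotOn O U M) A)
    ((tens O A).map ((ModSite.quotOnπ O U).app M))

@[reassoc]
lemma π_θ (M A : ModSite.Mod O) :
    (ModSite.quotOnπ O U).app ((tens O A).obj M) ≫ θ O U M A =
      (tens O A).map ((ModSite.quotOnπ O U).app M) :=
  π_quotDesc _ _

/-- the inverse comparison -/
noncomputable def θ' (M A : ModSite.Mod O) :
    (tens O A).obj ((ModSite.quotOn O U).obj M) ⟶ (ModSite.quotOn O U).obj ((tens O A).obj M) :=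
  haveI : ModSite.HasSheafHom A := isLeftAdjoint_tens O A
  ((ModSite.sheafHomAdj A).homEquiv _ _).symm
    (quotDesc (isNullOn_sheafHom O U (ExtSupp.isNullOn_quotOn O U _) A)
      ((ModSite.sheafHomAdj A).homEquiv _ _ ((ModSite.quotOnπ O U).app ((tens O A).obj M))))

@[reassoc]
lemma tens_π_θ' (M A : ModSite.Mod O) :
    (tens O A).map ((ModSite.quotOnπ O U).app M) ≫ θ' O U M A =
      (ModSite.quotOnπ O U).app ((tens O A).obj M) := by
  haveI : ModSite.HasSheafHom A := isLeftAdjoint_tens O A
  rw [θ', ← Adjunction.homEquiv_naturality_left_symm, π_quotDesc]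
  exact Equiv.symm_apply_apply _ _

instance epi_tens_π (M A : ModSite.Mod O) :
    Epi ((tens O A).map ((ModSite.quotOnπ O U).app M)) := by
  haveI := isLeftAdjoint_tens O A
  exact (tens O A).map_epi _

/-- `(M ⊗ A)/(M ⊗ A)_U ≅ (M/M_U) ⊗ A` -/
noncomputable def θIso (M A : ModSite.Mod O) :
    (ModSite.quotOn O U).obj ((tens O A).obj M) ≅ (tens O A).obj ((ModSite.quotOn O U).obj M) where
  hom := θ O U M A
  inv := θ' O U M A
  hom_inv_id := by
    apply quot_hom_ext
    rw [π_θ_assoc, tens_π_θ', Category.comp_id]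
  inv_hom_id := by
    rw [← cancel_epi ((tens O A).map ((ModSite.quotOnπ O U).app M)), Category.comp_id]
    exact (tens_π_θ'_assoc O U M A (θ O U M A)).trans (π_θ O U M A)

/-- naturality in the first variable -/
noncomputable def quotTensIso (A : ModSite.Mod O) :
    tens O A ⋙ ModSite.quotOn O U ≅ ModSite.quotOn O U ⋙ tens O A :=
  NatIso.ofComponents (fun M => θIso O U M A) (by
    intro M M' g
    apply quot_hom_ext
    have n1 := (ModSite.quotOnπ O U).naturality ((tens O A).map g)
    have n2 := (ModSite.quotOnπ O U).naturality g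
    simp only [Functor.id_obj, Functor.id_map] at n1 n2
    dsimp only [Functor.comp_obj, Functor.comp_map, θIso]
    rw [← reassoc_of% n1, π_θ, π_θ_assoc, ← Functor.map_comp, ← Functor.map_comp, n2])

/-- naturality in the second variable -/
noncomputable def quotTensLIso (M : ModSite.Mod O) :
    tensL O M ⋙ ModSite.quotOn O U ≅ tensL O ((ModSite.quotOn O U).obj M) :=
  NatIso.ofComponents (fun A => θIso O U M A) (by
    intro A A' h
    apply quot_hom_ext
    have n1 := (ModSite.quotOnπ O U).naturality ((tensL O M).map h)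
    simp only [Functor.id_obj, Functor.id_map] at n1
    dsimp only [Functor.comp_obj, Functor.comp_map, θIso]
    rw [← reassoc_of% n1]
    erw [π_θ, π_θ_assoc]
    exact (((ModSite.tensorBi O).map ((ModSite.quotOnπ O U).app M)).naturality h))

end Groth.Agent.Lib.helper21.SuppAdj
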