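import Mathlib
import Groth.Agent.Lib.Helper21.SuppTensor
import Groth.Agent.Lib.Helper21.HomAcyc2

/-!
# `Γ_Z` commutes with the internal hom; `O/O_U` is flat (helper21)
-/

set_option autoImplicit false

universe u

open CategoryTheory CategoryTheory.Limits Opposite Groth.Agent.Lib.helper27

namespace Groth.Agent.Lib.helper21.SuppAdj

open Groth.Agent.Lib.Helper21.TensorW Groth.Agent.Lib.Helper21.TensorAdj
  Groth.Agent.Lib.Helper21.TensorMon Groth.Agent.Lib.Helper21.TensorRestr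
  Groth.Agent.Lib.Helper21.FlatSES Groth.Agent.Lib.Helper21.ExtZeroHom

variable {C : Type u} [SmallCategory C] {J : GrothendieckTopology C} (O : Sheaf J CommRingCat.{u})
  (U : C) [ModSite.HasPushOver O U]

/-- `ℋom(M, Γ_Z -) ≅ Γ_Z ℋom(M, -)` -/
noncomputable def sectHomIso (M : ModSite.Mod O) [ModSite.HasSheafHom M] :
    ModSite.sectOn O U ⋙ ModSite.sheafHom M ≅ ModSite.sheafHom M ⋙ ModSite.sectOn O U :=
  ((ModSite.sheafHomAdj M).comp (adj O U)).rightAdjointUniq
    (((adj O U).comp (ModSite.sheafHomAdj M)).ofNatIsoLeft (quotTensIso O U M).symm)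

/-- `(-) ⊗ (M/M_U) ≅ ((-)/(-)_U) ⊗ M` -/
noncomputable def tensQuotIso (M : ModSite.Mod O) :
    tens O ((ModSite.quotOn O U).obj M) ≅ ModSite.quotOn O U ⋙ tens O M :=
  (braidIso O ((ModSite.quotOn O U).obj M)).symm ≪≫ (quotTensLIso O U M).symm ≪≫
    Functor.isoWhiskerRight (braidIso O M) (ModSite.quotOn O U) ≪≫ quotTensIso O U M

/-- `Γ_Z ℋom(M, -) ≅ ℋom(M/M_U, -)` -/
noncomputable def sheafHomQuotIso (M : ModSite.Mod O) [ModSite.HasSheafHom M]
    [ModSite.HasSheafHom ((ModSite.quotOn O U).obj M)] :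
    ModSite.sheafHom M ⋙ ModSite.sectOn O U ≅ ModSite.sheafHom ((ModSite.quotOn O U).obj M) :=
  (((adj O U).comp (ModSite.sheafHomAdj M)).ofNatIsoLeft (tensQuotIso O U M).symm).rightAdjointUniq
    (ModSite.sheafHomAdj ((ModSite.quotOn O U).obj M))

/-- `(-) ⊗ O/O_U ≅ (-)/(-)_U` -/
noncomputable def tensQuotUnitIso :
    tens O ((ModSite.quotOn O U).obj (ModSite.unit O)) ≅ ModSite.quotOn O U :=
  (braidIso O ((ModSite.quotOn O U).obj (ModSite.unit O))).symm ≪≫
    (quotTensLIso O U (ModSite.unit O)).symm ≪≫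
    Functor.isoWhiskerRight (unitIso O) (ModSite.quotOn O U) ≪≫ Functor.leftUnitor _

/-- `O/O_U` is flat -/
theorem isFlat_quotOn_unit : ModSite.IsFlat ((ModSite.quotOn O U).obj (ModSite.unit O)) := by
  haveI : (tens O ((ModSite.quotOn O U).obj (ModSite.unit O))).PreservesMonomorphisms :=
    Functor.preservesMonomorphisms.of_iso (tensQuotUnitIso O U).symm
  exact isFlat_of_mono _ (fun f _ => inferInstance)

instance quotOn_additive : (ModSite.quotOn O U).Additive := (adj O U).left_adjoint_additive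

variable {O}

/-- `Hom(M/M_U, -) ≅ Hom(O, Γ_Z ℋom(M, -))` -/
noncomputable def coyQuotIso (M : ModSite.Mod O) [ModSite.HasSheafHom M] :
    preadditiveCoyoneda.obj (op ((ModSite.quotOn O U).obj M)) ≅
      ModSite.sheafHom M ⋙ ModSite.sectOn O U ⋙ preadditiveCoyoneda.obj (op (ModSite.unit O)) :=
  (ExtCoy.adjCoyIso (adj O U) M).symm ≪≫
    Functor.isoWhiskerLeft (ModSite.sectOn O U) (HomAcyc.coyHomIso M) ≪≫
    (Functor.associator _ _ _).symm ≪≫
    Functor.isoWhiskerRight (sectHomIso O U M) _ ≪≫ Functor.associator _ _ _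

/-- `Hom(M/M_U, -) ≅ Hom(O/O_U, ℋom(M, -))` -/
noncomputable def coyQuotIso' (M : ModSite.Mod O) [ModSite.HasSheafHom M] :
    preadditiveCoyoneda.obj (op ((ModSite.quotOn O U).obj M)) ≅
      ModSite.sheafHom M ⋙
        preadditiveCoyoneda.obj (op ((ModSite.quotOn O U).obj (ModSite.unit O))) :=
  coyQuotIso U M ≪≫
    Functor.isoWhiskerLeft (ModSite.sheafHom M) (ExtCoy.adjCoyIso (adj O U) (ModSite.unit O))

end Groth.Agent.Lib.helper21.SuppAdj
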