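import Mathlib
import Groth.Agent.Lib.Helper21.SuppTensor2
import Groth.Agent.Lib.Helper21.SuppAdj2
import Groth.Agent.Lib.Helper21.DerivedComm
import Groth.Agent.Lib.Helper27.SSGroth4

/-!
# The spectral sequence `ℰxt^p(M, ℋ^q_Z(N)) ⇒ ℰxt^{p+q}_Z(M, N)` (helper21)
-/

set_option autoImplicit false
universe u

open CategoryTheory CategoryTheory.Limits Opposite

namespace Groth.Agent.Lib.helper21.ExtZShSS

open Groth.Agent.Lib.Helper21.DerivedComm

variable {C : Type u} [SmallCategory C] {J : GrothendieckTopology C} (O : Sheaf J CommRingCat.{u})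
  (U : C) [ModSite.HasPushOver O U] [HasInjectiveResolutions (ModSite.Mod O)]

theorem exists_ss (M N : ModSite.Mod O) [ModSite.HasSheafHom M]
    (Z₁ Z₂ : ModSite.Mod O) (hZ₁ : IsZero Z₁) (hZ₂ : IsZero Z₂) :
    ∃ (E : E₂CohomologicalSpectralSequence (ModSite.Mod O))
      (a : SpSeq.Abutment E (fun n : ℤ =>
        if 0 ≤ n then (ModSite.extZSh U M n.toNat).obj N else Z₁)),
      (∀ n, a.IsFinite n) ∧ SpSeq.IsBounded E ∧
      ∀ p q : ℤ, Nonempty ((E.page 2 le_rfl).X (p, q) ≅
        (if 0 ≤ p ∧ 0 ≤ q then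
          (ModSite.extSh M p.toNat).obj ((ModSite.HZsh O U q.toNat).obj N) else Z₂)) := by
  classical
  haveI hlimS : PreservesFiniteLimits (ModSite.sheafHom M) := by
    haveI := (ModSite.sheafHomAdj M).rightAdjoint_preservesLimits
    exact PreservesLimitsOfSize.preservesFiniteLimits.{u, u} _
  refine Groth.Agent.Lib.helper27.SSGroth.grothendieck_ss_nat (ModSite.sectOn O U)
    (ModSite.sheafHom M) ?_ N
    (fun n => (ModSite.extZSh U M n).obj N) ?_
    (fun p q => (ModSite.extSh M p).obj ((ModSite.HZsh O U q).obj N)) ?_ _ _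
    hZ₁ hZ₂
  · intro Q hQ q hq
    obtain ⟨j, rfl⟩ : ∃ j, q = j + 1 := ⟨q - 1, by omega⟩
    haveI := hQ
    haveI : Injective ((ModSite.sectOn O U).obj Q) :=
      Groth.Agent.Lib.helper21.SuppAdj.injective_sectOn O U Q
    exact Functor.isZero_rightDerived_obj_injective_succ _ j _
  · intro k
    exact ⟨(rightDerivedIso (Groth.Agent.Lib.helper21.SuppAdj.sectHomIso O U M).symm k).app N⟩
  · intro k l
    exact ⟨Iso.refl _⟩

end Groth.Agent.Lib.helper21.ExtZShSS
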