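import Mathlib
import Groth.Agent.Lib.Helper21.ExtY1
import Groth.Agent.Lib.Helper21.ExtY4
import Groth.Agent.Lib.Helper21.ExtShAffine
import Groth.Agent.Lib.Helper25.LTensorCoh
import Groth.Agent.Lib.Helper21.ExtZShSS
import Groth.Agent.S11329

set_option autoImplicit false

universe u

open CategoryTheory CategoryTheory.Limits AlgebraicGeometry Opposite TopologicalSpace

namespace Groth.Agent.Lib.helper21.ExtY

open Scheme.Modules Groth.Agent.Lib.helper21.SuppAdj Groth.Agent.Lib.helper21.ExtShDelta
  Groth.Agent.Lib.helper21.TildeHom Abelian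

attribute [local instance] Groth.Agent.Lib.helper21.ShHomCoh.hasInjRes

variable (R : CommRingCat.{u}) [IsNoetherianRing R]

/-- `ℰxt^{a+1}(K, N') = 0` on `Spec R` for `K` coherent and `N'` quasi-coherent with injective
module of global sections -/
theorem isZero_extSh_of_injective_sections (K N' : (Spec R).Modules) (hK : Coh.IsCoh K)
    (hN : N'.IsQuasicoherent)
    (hinj : Injective ((moduleSpecΓFunctor (R := R)).obj N')) (a : ℕ) :
    IsZero ((ModSite.extSh (O := (Spec R).sheaf) K (a + 1)).obj N') := by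
  haveI : K.IsQuasicoherent := hK.1
  let M : ModuleCat.{u} R := (modulesSpecToSheaf.obj K).presheaf.obj (.op ⊤)
  haveI : Module.Finite R M := Groth.Agent.Lib.Helper25.LTensorCoh.finite_moduleSpecΓ R K hK
  have hiso : IsIso (Scheme.Modules.fromTildeΓ (R := R) K) :=
    Scheme.Modules.isIso_fromTildeΓ_of_isQuasicoherent K
  have i2 : tilde (ModuleCat.of R M) ≅ K :=
    @asIso _ _ _ _ (Scheme.Modules.fromTildeΓ (R := R) K) hiso
  have i3 : (ModSite.extSh (O := (Spec R).sheaf) K (a + 1)).obj N' ≅
      T (O := (Spec R).sheaf) N' (a + 1) (tilde (ModuleCat.of R M)) :=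
    Groth.Agent.Lib.helper21.AcycRes.isoOfIso (cd (O := (Spec R).sheaf) N') (cd_map_id N')
      (a + 1) i2
  obtain ⟨i4⟩ := Groth.Agent.Lib.helper21.TildeHom.main R N' hN (a + 1) M
  refine IsZero.of_iso ?_ (i3 ≪≫ i4)
  refine (tilde.functor R).map_isZero ?_
  haveI : Subsingleton (Ext (ModuleCat.of R M) ((moduleSpecΓFunctor (R := R)).obj N') (a + 1)) :=
    subsingleton_of_forall_eq 0 fun x => Abelian.Ext.eq_zero_of_injective x
  exact ModuleCat.isZero_of_subsingleton _

/-! ### sections of `Γ_Z(J^~)` -/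

section supp

variable {R}
variable (U : Opens (PrimeSpectrum R)) (J : ModuleCat.{u} R)

/-- the ideal of functions vanishing on the complement of `U` -/
def idealOf : Ideal R := PrimeSpectrum.vanishingIdeal ((U : Set (PrimeSpectrum R))ᶜ)

omit [IsNoetherianRing R] in
lemma mem_iff_exists_basicOpen (x : PrimeSpectrum R) :
    x ∈ (U : Set (PrimeSpectrum R)) ↔ ∃ g ∈ idealOf U, x ∈ PrimeSpectrum.basicOpen g := by
  have hcl : IsClosed ((U : Set (PrimeSpectrum R))ᶜ) := U.2.isClosed_compl
  have h1 : PrimeSpectrum.zeroLocus (idealOf U : Set R) = (U : Set (PrimeSpectrum R))ᶜ := by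
    unfold idealOf
    rw [PrimeSpectrum.zeroLocus_vanishingIdeal_eq_closure, hcl.closure_eq]
  constructor
  · intro hx
    have h2 : x ∉ PrimeSpectrum.zeroLocus (idealOf U : Set R) := by
      rw [h1]
      exact fun h => h hx
    rw [PrimeSpectrum.mem_zeroLocus, Set.not_subset] at h2
    obtain ⟨g, hg, hgx⟩ := h2
    exact ⟨g, hg, hgx⟩
  · rintro ⟨g, hg, hgx⟩
    by_contra hx
    have h2 : x ∈ PrimeSpectrum.zeroLocus (idealOf U : Set R) := by
      rw [h1]
      exact hx
    exact hgx (h2 hg)

omit [IsNoetherianRing R] in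
lemma basicOpen_le_of_mem {g : R} (hg : g ∈ idealOf U) :
    PrimeSpectrum.basicOpen g ≤ U :=
  fun x hx => (mem_iff_exists_basicOpen U x).2 ⟨g, hg, hx⟩

open tilde in
omit [IsNoetherianRing R] in
/-- `m ∈ J` restricts to zero on `U` iff `m` is killed by a power of every `g ∈ I(U)` -/
lemma toOpen_eq_zero_iff (m : J) :
    (toOpen J U).hom m = 0 ↔ m ∈ suppSub (idealOf U) J := by
  have key : ∀ g : R, (toOpen J (PrimeSpectrum.basicOpen g)).hom m = 0 ↔ ∃ k : ℕ, g ^ k • m = 0 := by
    intro g
    rw [IsLocalizedModule.eq_zero_iff (Submonoid.powers g)]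
    constructor
    · rintro ⟨⟨_, k, rfl⟩, hk⟩
      exact ⟨k, hk⟩
    · rintro ⟨k, hk⟩
      exact ⟨⟨g ^ k, k, rfl⟩, hk⟩
  rw [mem_suppSub_iff]
  constructor
  · intro h g hg
    rw [← key g]
    have h1 := toOpen_res J U (PrimeSpectrum.basicOpen g)
      (homOfLE (basicOpen_le_of_mem U hg))
    have h2 := congr($(h1).hom m)
    rw [← h2]
    show ((modulesSpecToSheaf.obj (tilde J)).presheaf.map _).hom ((toOpen J U).hom m) = 0
    rw [h]
    exact _root_.map_zero _
  · intro h
    let ι := {g : R // g ∈ idealOf U}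
    refine (modulesSpecToSheaf.obj (tilde J)).eq_of_locally_eq'
      (fun g : ι => PrimeSpectrum.basicOpen g.1) U
      (fun g => homOfLE (basicOpen_le_of_mem U g.2)) ?_ _ _ ?_
    · intro x hx
      obtain ⟨g, hg, hxg⟩ := (mem_iff_exists_basicOpen U x).1 hx
      exact Opens.mem_iSup.2 ⟨⟨g, hg⟩, hxg⟩
    · intro g
      have h1 := toOpen_res J U
        (PrimeSpectrum.basicOpen g.1) (homOfLE (basicOpen_le_of_mem U g.2))
      have h2 := congr($(h1).hom m)
      exact (h2.trans ((key g.1).2 (h g.1 g.2))).trans (_root_.map_zero _).symm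

/-- **the global sections of `Γ_Z(J^~)` form an injective module** for `J` injective -/
theorem injective_sections_sectOn_tilde [Injective J] :
    Injective ((moduleSpecΓFunctor (R := R)).obj (GZ (X := Spec R) U (tilde J))) := by
  classical
  haveI : Module.Injective R J := Module.injective_module_of_injective_object R J
  let N' : (Spec R).Modules := GZ (X := Spec R) U (tilde J)
  let G : ModuleCat.{u} R := (moduleSpecΓFunctor (R := R)).obj N'
  let f : G ⟶ (moduleSpecΓFunctor (R := R)).obj (tilde J) :=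
    (moduleSpecΓFunctor (R := R)).map (ιZ (X := Spec R) U (tilde J))
  let φ : G →ₗ[R] J := (tilde.isoTop J).inv.hom ∘ₗ f.hom
  have hf : Function.Injective f.hom :=
    (Groth.Agent.Lib.helper2.ModSec.mono_iff_injective_app
      (ιZ (X := Spec R) U (tilde J))).1 inferInstance ⊤
  have hφ : Function.Injective φ := by
    intro a b hab
    apply hf
    have h1 : Function.Injective (tilde.isoTop J).inv.hom :=
      ((ModuleCat.mono_iff_injective _).1 inferInstance)
    exact h1 hab
  have hrange : LinearMap.range φ = suppSub (idealOf U) J := by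
    ext m
    have hI : idealOf ((⊤ : Opens (PrimeSpectrum R)) ⊓ U) = idealOf U := by rw [top_inf_eq]
    rw [← hI, ← toOpen_eq_zero_iff]
    have h2 := exists_sectOnι_app_eq_iff (X := Spec R) U (tilde J) ⊤
      ((tilde.toOpen J ⊤).hom m)
    constructor
    · rintro ⟨r, rfl⟩
      have h3 : (tilde.toOpen J ⊤).hom (φ r) = f.hom r := by
        have := congr($((tilde.isoTop J).inv_hom_id).hom (f.hom r))
        exact this
      rw [h3] at h2
      have h4 := h2.1 ⟨r, rfl⟩
      have h5 := tilde.toOpen_res J ⊤ ((⊤ : Opens (PrimeSpectrum R)) ⊓ U) (homOfLE inf_le_left)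
      have h6 := congr($(h5).hom (φ r))
      refine h6.symm.trans ?_
      show ((modulesSpecToSheaf.obj (tilde J)).presheaf.map _).hom ((tilde.toOpen J ⊤).hom (φ r)) = 0
      rw [h3]
      exact h4
    · intro hm
      have h5 := tilde.toOpen_res J ⊤ ((⊤ : Opens (PrimeSpectrum R)) ⊓ U) (homOfLE inf_le_left)
      have h6 := congr($(h5).hom m)
      obtain ⟨r, hr⟩ := h2.2 (h6.trans hm)
      refine ⟨r, ?_⟩
      show (tilde.isoTop J).inv.hom (f.hom r) = m
      have h7 : f.hom r = (tilde.toOpen J ⊤).hom m := hr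
      rw [h7]
      exact congr($((tilde.isoTop J).hom_inv_id).hom m)
  let e : G ≃ₗ[R] suppSub (idealOf U) J :=
    (LinearEquiv.ofInjective φ hφ).trans (LinearEquiv.ofEq _ _ hrange)
  haveI := injective_suppSub (idealOf U) J
  have hB : Module.Baer R (suppSub (idealOf U) J) := Module.Baer.of_injective inferInstance
  haveI : Module.Injective R G := Module.Baer.injective (Module.Baer.of_equiv e.symm hB)
  exact Module.injective_object_of_injective_module R G

end supp

/-! ### acyclicity of `J^~` for `ℰxt_Z(K, -)` -/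

section acyclic

variable (U : (Spec R).Opens) (J : ModuleCat.{u} R) [Injective J]

omit [IsNoetherianRing R] in
lemma isQuasicoherent_of_iso' {A B : (Spec R).Modules} (e : A ≅ B) (hA : A.IsQuasicoherent) :
    B.IsQuasicoherent :=
  Groth.Agent.Lib.helper16.QCohFibre.isQuasicoherent_of_iso (hA := hA) e

include R in
lemma fl_tilde : Fl (X := Spec R) (tilde J) := by
  haveI : Module.Injective R J := Module.injective_module_of_injective_object R J
  intro W V hWV
  exact Groth.Agent.S11329.result R J W V hWV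

open ZeroObject in
/-- **`ℰxt^{p+1}_Z(K, J^~) = 0`** on `Spec R` (`R` Noetherian) for `K` coherent, `J` injective -/
theorem isZero_extZSh_tilde (K : (Spec R).Modules) (hK : Coh.IsCoh K) (p : ℕ) :
    IsZero ((ModSite.extZSh (O := (Spec R).sheaf) U K (p + 1)).obj (tilde J)) := by
  classical
  haveI : QuasiCompact U.ι := inferInstance
  obtain ⟨E, a, hfin, -, hE⟩ := Groth.Agent.Lib.helper21.ExtZShSS.exists_ss (Spec R).sheaf U K
    (tilde J) (0 : (Spec R).Modules) (0 : (Spec R).Modules) (isZero_zero _) (isZero_zero _)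
  have h := isZero_abutment_of_antidiagonal E a ((p + 1 : ℕ) : ℤ) (hfin _) ?_
  · have h0 : (0 : ℤ) ≤ ((p + 1 : ℕ) : ℤ) := Int.natCast_nonneg _
    rw [if_pos h0] at h
    simpa using h
  · intro q
    obtain ⟨e⟩ := hE q (((p + 1 : ℕ) : ℤ) - q)
    refine IsZero.of_iso ?_ e
    split_ifs with hpq
    · obtain ⟨hq, hb⟩ := hpq
      by_cases hb0 : ((p + 1 : ℕ) : ℤ) - q = 0
      · -- `b = 0`, `a = p + 1`
        have hq' : q.toNat = p + 1 := by omega
        rw [hb0, hq']
        have e0 : (ModSite.HZsh (Spec R).sheaf U (0 : ℤ).toNat).obj (tilde J) ≅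
            GZ (X := Spec R) U (tilde J) := by
          haveI := preservesFiniteLimits_sectOn (X := Spec R) U
          exact (ModSite.sectOn (Spec R).sheaf U).rightDerivedZeroIsoSelf.app (tilde J)
        have hqc : (GZ (X := Spec R) U (tilde J)).IsQuasicoherent :=
          isQuasicoherent_of_iso' R e0
            (Groth.Agent.Lib.helper21.HZshQCoh.isQuasicoherent_HZsh U (tilde J) 0)
        refine IsZero.of_iso ?_ ((ModSite.extSh (O := (Spec R).sheaf) K (p + 1)).mapIso e0)
        exact isZero_extSh_of_injective_sections R K _ hK hqc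
          (injective_sections_sectOn_tilde U J) p
      · -- `b ≥ 1`
        obtain ⟨b', hb'⟩ : ∃ b' : ℕ, (((p + 1 : ℕ) : ℤ) - q).toNat = b' + 1 :=
          ⟨(((p + 1 : ℕ) : ℤ) - q).toNat - 1, by omega⟩
        rw [hb']
        have hz : IsZero ((ModSite.HZsh (Spec R).sheaf U (b' + 1)).obj (tilde J)) :=
          isZero_HZsh_succ_of_fl (X := Spec R) U (tilde J) (fl_tilde R J) b'
        exact (ModSite.extSh (O := (Spec R).sheaf) K q.toNat).map_isZero hz
    · exact isZero_zero _

end acyclic

end Groth.Agent.Lib.helper21.ExtY
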