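import Mathlib
import Groth.Prelude.Def_RDerDelta
import Groth.Agent.Lib.Helper27.Horseshoe5
import Groth.Agent.Lib.Helper27.FunLES

/-!
# Naturality of the connecting morphisms of right derived functors in the functor (helper21)
-/

set_option autoImplicit false

universe v u v' u'

open CategoryTheory CategoryTheory.Limits

namespace Groth.Agent.Lib.helper21.ExtY

variable {C : Type u} [Category.{v} C] [Abelian C] [HasInjectiveResolutions C]
  {D : Type u'} [Category.{v'} D] [Abelian D] {F F' : C ⥤ D} [F.Additive] [F'.Additive]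
  (τ : F ⟶ F')

/-- the morphism of short complexes of complexes induced by `τ` -/
noncomputable def cxMap {S : ShortComplex C} (T : RDer.SESRes S) :
    T.cx.map (F.mapHomologicalComplex (ComplexShape.up ℕ)) ⟶
      T.cx.map (F'.mapHomologicalComplex (ComplexShape.up ℕ)) where
  τ₁ := (NatTrans.mapHomologicalComplex τ _).app T.I₁.cocomplex
  τ₂ := (NatTrans.mapHomologicalComplex τ _).app T.I₂.cocomplex
  τ₃ := (NatTrans.mapHomologicalComplex τ _).app T.I₃.cocomplex
  comm₁₂ := ((NatTrans.mapHomologicalComplex τ _).naturality T.f).symm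
  comm₂₃ := ((NatTrans.mapHomologicalComplex τ _).naturality T.g).symm

/-- `T.delta` is natural in the functor -/
theorem delta_natTrans {S : ShortComplex C} (T : RDer.SESRes S) (n₀ n₁ : ℕ) (h : n₀ + 1 = n₁) :
    (NatTrans.rightDerived τ n₀).app S.X₃ ≫ T.delta F' n₀ n₁ h =
      T.delta F n₀ n₁ h ≫ (NatTrans.rightDerived τ n₁).app S.X₁ := by
  rw [InjectiveResolution.rightDerived_app_eq τ T.I₃ n₀,
    InjectiveResolution.rightDerived_app_eq τ T.I₁ n₁]
  have hnat := HomologicalComplex.HomologySequence.δ_naturality (cxMap τ T)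
    (T.map_shortExact F) (T.map_shortExact F') n₀ n₁ h
  have hnat' : (HomologicalComplex.homologyFunctor D (ComplexShape.up ℕ) n₀).map
        ((NatTrans.mapHomologicalComplex τ (ComplexShape.up ℕ)).app T.I₃.cocomplex) ≫
        Groth.Agent.Lib.helper27.Horseshoe.δT F' T n₀ n₁ h =
      Groth.Agent.Lib.helper27.Horseshoe.δT F T n₀ n₁ h ≫
        (HomologicalComplex.homologyFunctor D (ComplexShape.up ℕ) n₁).map
          ((NatTrans.mapHomologicalComplex τ (ComplexShape.up ℕ)).app T.I₁.cocomplex) :=
    hnat.symm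
  rw [Groth.Agent.Lib.helper27.Horseshoe.delta_eq F' T, Groth.Agent.Lib.helper27.Horseshoe.delta_eq F T]
  simp only [Category.assoc, Iso.inv_hom_id_assoc]
  rw [reassoc_of% hnat']

/-- the connecting morphisms of `Horseshoe.derivedLES` are natural in the functor -/
theorem derivedLES_δ_natTrans (S : ShortComplex C) (hS : S.ShortExact) (n₀ n₁ : ℕ)
    (h : n₀ + 1 = n₁) :
    (NatTrans.rightDerived τ n₀).app S.X₃ ≫
        (Groth.Agent.Lib.helper27.Horseshoe.derivedLES F').δ S hS n₀ n₁ h =
      (Groth.Agent.Lib.helper27.Horseshoe.derivedLES F).δ S hS n₀ n₁ h ≫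
        (NatTrans.rightDerived τ n₁).app S.X₁ :=
  delta_natTrans τ (Groth.Agent.Lib.helper27.Horseshoe.chosenRes S hS) n₀ n₁ h

end Groth.Agent.Lib.helper21.ExtY
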