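import Mathlib
import Groth.Agent.Lib.Helper21.ExtY6
import Groth.Agent.Lib.Helper21.ExtShDelta
import Groth.Agent.Lib.Helper21.SheafHomExact
import Groth.Agent.Lib.Helper21.TermSec

/-!
# `ℰxt` in the first variable: sections of `ℋom`, naturality of connecting maps (helper21)
-/

set_option autoImplicit false

universe u

open CategoryTheory CategoryTheory.Limits Opposite

namespace Groth.Agent.Lib.helper21.ExtY

open Groth.Agent.Lib.Helper21.TensorW Groth.Agent.Lib.Helper21.TensorAdj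
  Groth.Agent.Lib.Helper21.TensorMon Groth.Agent.Lib.helper21.ExtShDelta
  Groth.Agent.Lib.helper21.SheafHomExact

variable {C : Type u} [SmallCategory C] {J : GrothendieckTopology C} {O : Sheaf J CommRingCat.{u}}

/-- morphisms `M ⟶ Q` are the morphisms `O ⟶ ℋom(M, Q)` -/
noncomputable def homU (M Q : ModSite.Mod O) [ModSite.HasSheafHom M] :
    (M ⟶ Q) ≃ (ModSite.unit O ⟶ (ModSite.sheafHom M).obj Q) :=
  (((unitIso O).app M).homCongr (Iso.refl Q)).symm.trans
    ((ModSite.sheafHomAdj M).homEquiv (ModSite.unit O) Q)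

lemma homU_apply (M Q : ModSite.Mod O) [ModSite.HasSheafHom M] (s : M ⟶ Q) :
    homU M Q s = (ModSite.sheafHomAdj M).homEquiv (ModSite.unit O) Q
      ((unitIso O).hom.app M ≫ s) := by
  unfold homU
  simp [Iso.homCongr]

/-- naturality of `homU` in the first variable -/
lemma homU_comp {P K Q : ModSite.Mod O} [ModSite.HasSheafHom P] [ModSite.HasSheafHom K]
    (ρ : P ⟶ K) (ι : K ⟶ Q) :
    homU K Q ι ≫ (ExtSupp.sheafHomMap ρ).app Q = homU P Q (ρ ≫ ι) := by
  rw [homU_apply, homU_apply, homEquiv_comp_sheafHomMap, flip_map_app]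
  congr 1
  have h := (unitIso O).hom.naturality ρ
  simp only [Functor.id_map] at h
  rw [← Category.assoc, h, Category.assoc]

section derived

variable [HasInjectiveResolutions (ModSite.Mod O)]

/-- `ℰxt^0(M, Q) ≅ ℋom(M, Q)` -/
noncomputable def zIso (M Q : ModSite.Mod O) :
    T Q 0 M ≅ (haveI := hasSheafHom O M; (ModSite.sheafHom M).obj Q) :=
  haveI := hasSheafHom O M
  haveI := preservesFiniteLimits_sheafHom O M
  (ModSite.sheafHom M).rightDerivedZeroIsoSelf.app Q

lemma Tmap_zero_comp (Q : ModSite.Mod O) {P K : ModSite.Mod O} (ρ : P ⟶ K) :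
    Tmap Q 0 ρ ≫ (zIso P Q).hom =
      (zIso K Q).hom ≫ (haveI := hasSheafHom O P; haveI := hasSheafHom O K;
        (ExtSupp.sheafHomMap ρ).app Q) := by
  haveI := hasSheafHom O P
  haveI := hasSheafHom O K
  haveI := preservesFiniteLimits_sheafHom O P
  haveI := preservesFiniteLimits_sheafHom O K
  have h := Groth.Agent.Lib.helper27.FunLES.toRightDerivedZero_naturality
    (ExtSupp.sheafHomMap ρ)
  have h1 := congrArg (fun τ => τ.app Q) h
  simp only [NatTrans.comp_app] at h1
  -- `h1 : γ_Q ≫ τ_P = τ_K ≫ Tmap`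
  rw [← cancel_epi (zIso K Q).inv, ← cancel_mono (zIso P Q).inv]
  simp only [Category.assoc, Iso.hom_inv_id, Category.comp_id, Iso.inv_hom_id_assoc]
  exact h1.symm

/-- naturality of the connecting morphisms of `ℰxt^•(M, -)` in `M` -/
lemma Tmap_δ {P K : ModSite.Mod O} (ρ : P ⟶ K) (S : ShortComplex (ModSite.Mod O))
    (hS : S.ShortExact) (n₀ n₁ : ℕ) (h : n₀ + 1 = n₁) :
    Tmap S.X₃ n₀ ρ ≫ (haveI := hasSheafHom O P;
        (Groth.Agent.Lib.helper27.Horseshoe.derivedLES (ModSite.sheafHom P)).δ S hS n₀ n₁ h) =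
      (haveI := hasSheafHom O K;
        (Groth.Agent.Lib.helper27.Horseshoe.derivedLES (ModSite.sheafHom K)).δ S hS n₀ n₁ h) ≫
        Tmap S.X₁ n₁ ρ := by
  haveI := hasSheafHom O P
  haveI := hasSheafHom O K
  exact derivedLES_δ_natTrans (ExtSupp.sheafHomMap ρ) S hS n₀ n₁ h

end derived

end Groth.Agent.Lib.helper21.ExtY
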