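import Mathlib
import Groth.Agent.Lib.Helper21.ExtY2
import Groth.Agent.Lib.Helper21.ExtY5
import Groth.Agent.Lib.Helper21.ExtY7
import Groth.Agent.Lib.Helper21.ExtShQCoh
import Groth.Agent.Lib.Helper7.CohKer
import Groth.Agent.Lib.Helper7.QCohExt
import Groth.Agent.S9498

/-!
# The stalks of `ℰxt^i(P, G)` for a (non quasi-coherent) quotient `P` of a coherent module (helper21)
-/

set_option autoImplicit false

universe u

open CategoryTheory CategoryTheory.Limits AlgebraicGeometry Opposite TopologicalSpace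

namespace Groth.Agent.Lib.helper21.ExtY

open Scheme.Modules Groth.Agent.Lib.helper21.ExtShDelta

attribute [local instance] Groth.Agent.Lib.helper21.ShHomCoh.hasInjRes

section factor

variable {X : Scheme.{u}} [IsLocallyNoetherian X]

omit [IsLocallyNoetherian X] in
/-- a global section of `ℰxt^0(P, Q) = ℋom(P, Q)` comes from a coherent quotient of `P` -/
theorem exists_factor (F P Q : ModSite.Mod X.sheaf) (hF : Coh.IsCoh (X := X) F) (q : F ⟶ P) [Epi q]
    (hQ : SheafOfModules.IsQuasicoherent (R := X.ringCatSheaf) Q)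
    (σ : ModSite.unit X.sheaf ⟶ T (O := X.sheaf) Q 0 P) :
    ∃ (K : ModSite.Mod X.sheaf) (_ : Coh.IsCoh (X := X) K) (ρ : P ⟶ K) (_ : Epi ρ)
      (σK : ModSite.unit X.sheaf ⟶ T (O := X.sheaf) Q 0 K), σK ≫ Tmap Q 0 ρ = σ := by
  haveI := hasSheafHom X.sheaf P
  let s : P ⟶ Q := (homU P Q).symm (σ ≫ (zIso P Q).hom)
  let f : F ⟶ Q := q ≫ s
  let K : ModSite.Mod X.sheaf := Abelian.image f
  let πF : F ⟶ K := Abelian.factorThruImage f
  let ι : K ⟶ Q := Abelian.image.ι f
  have hfac : πF ≫ ι = q ≫ s := Abelian.image.fac f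
  have hK : Coh.IsCoh (X := X) K := by
    have hFq : SheafOfModules.IsQuasicoherent (R := X.ringCatSheaf) F := hF.1
    have hc : SheafOfModules.IsQuasicoherent (R := X.ringCatSheaf) (cokernel f) :=
      @Groth.Agent.Lib.helper7.CohKer.isQuasicoherent_cokernel X F Q hFq hQ f
    refine ⟨@Groth.Agent.Lib.helper7.CohKer.isQuasicoherent_kernel X Q (cokernel f) hQ hc
      (cokernel.π f), ?_⟩
    have hepi : Epi πF := inferInstanceAs (Epi (Abelian.factorThruImage f))
    exact @Groth.Agent.Lib.helper7.CohKer.isFiniteType_of_epi X F K πF hepi hF.2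
  have sq : CommSq πF q ι s := ⟨hfac⟩
  haveI : Mono ι := inferInstanceAs (Mono (Abelian.image.ι f))
  haveI : StrongEpi q := strongEpi_of_epi q
  let ρ : P ⟶ K := sq.lift
  have h1 : q ≫ ρ = πF := sq.fac_left
  have h2 : ρ ≫ ι = s := sq.fac_right
  have hρ : Epi ρ := by
    haveI : Epi (q ≫ ρ) := by
      rw [h1]
      exact inferInstanceAs (Epi (Abelian.factorThruImage f))
    exact epi_of_epi q ρ
  haveI := hasSheafHom X.sheaf K
  refine ⟨K, hK, ρ, hρ, homU K Q ι ≫ (zIso K Q).inv, ?_⟩
  rw [← cancel_mono (zIso P Q).hom, Category.assoc, Category.assoc, Tmap_zero_comp,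
    Iso.inv_hom_id_assoc, homU_comp, h2]
  exact Equiv.apply_symm_apply _ _

end factor

/-! ### global sections as morphisms from the unit -/

section unit

open Groth.Agent.Lib.Helper21.TermSec

variable {X : Scheme.{u}}

/-- `⊤` is terminal in the opens -/
def hTop : IsTerminal (⊤ : X.Opens) := isTerminalTop

/-- the section of `σ : O ⟶ E` has zero germ at `x` -/
def VanishAt {E : ModSite.Mod X.sheaf} (σ : ModSite.unit X.sheaf ⟶ E) (x : X) : Prop :=
  (Scheme.Modules.presheaf (X := X) E).germ ⊤ x trivial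
    (show Γ((show X.Modules from E), ⊤) from ev (X := (⊤ : X.Opens)) E σ) = 0

lemma vanishAt_comp {E E' : ModSite.Mod X.sheaf} (σ : ModSite.unit X.sheaf ⟶ E) (φ : E ⟶ E')
    (x : X) (h : VanishAt σ x) : VanishAt (σ ≫ φ) x :=
  subsingleton_stalk_of_hom (X := X) (E := E) (E' := E') φ x (W := ⊤) trivial _ h

lemma vanishAt_of_subsingleton {E : ModSite.Mod X.sheaf} (σ : ModSite.unit X.sheaf ⟶ E) (x : X)
    (h : Subsingleton ((Scheme.Modules.presheaf (X := X) E).stalk x)) : VanishAt σ x :=
  Subsingleton.elim _ _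

lemma subsingleton_of_vanishAt [IsAffine X] (E : ModSite.Mod X.sheaf)
    (hE : SheafOfModules.IsQuasicoherent (R := X.ringCatSheaf) E) (x : X)
    (h : ∀ σ : ModSite.unit X.sheaf ⟶ E, VanishAt σ x) :
    Subsingleton ((Scheme.Modules.presheaf (X := X) E).stalk x) := by
  refine @subsingleton_stalk_of_affine X E hE ⊤ (isAffineOpen_top X) x trivial (fun t => ?_)
  have h1 := h (ofEv hTop E t)
  unfold VanishAt at h1
  rw [ev_ofEv] at h1
  exact h1

lemma exists_lift_unit [IsAffine X] (S : ShortComplex (ModSite.Mod X.sheaf)) (hS : S.ShortExact)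
    (h1 : SheafOfModules.IsQuasicoherent (R := X.ringCatSheaf) S.X₁)
    (σ : ModSite.unit X.sheaf ⟶ S.X₃) : ∃ σ' : ModSite.unit X.sheaf ⟶ S.X₂, σ' ≫ S.g = σ := by
  obtain ⟨t, ht⟩ := @Groth.Agent.Lib.helper7.QCohExt.surjective_app_of_shortExact X S hS h1 ⊤
    (isAffineOpen_top X) (ev (X := (⊤ : X.Opens)) S.X₃ σ)
  refine ⟨ofEv hTop S.X₂ t, ?_⟩
  apply ev_injective hTop
  rw [ev_comp_right, ev_ofEv]
  exact ht

end unit

/-! ### the induction on `Spec R` -/

section spec

open Groth.Agent.Lib.helper27 Groth.Agent.Lib.Helper21.TermSec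

variable (R : CommRingCat.{u}) [IsNoetherianRing R]

omit [IsNoetherianRing R] in
/-- a quasi-coherent module on `Spec R` embeds into `J^~` with `J` injective -/
theorem exists_mono_tilde (G : (Spec R).Modules) (hG : G.IsQuasicoherent) :
    ∃ (J : ModuleCat.{u} R) (_ : Injective J) (a : G ⟶ tilde J), Mono a := by
  haveI := hG
  haveI : IsIso G.fromTildeΓ := Scheme.Modules.isIso_fromTildeΓ_of_isQuasicoherent G
  let M : ModuleCat.{u} R := moduleSpecΓFunctor.obj G
  let I : ModuleCat.{u} R := Injective.under M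
  let e : M ⟶ I := Injective.ι M
  haveI : Mono e := inferInstance
  have hI : Injective I := Injective.injective_under M
  let te : tilde M ⟶ tilde I := tilde.map e
  haveI hte : Mono te :=
    Groth.Agent.S9498.mono_tilde_map e ((ModuleCat.mono_iff_injective e).mp inferInstance)
  refine ⟨I, hI, inv G.fromTildeΓ ≫ te, ?_⟩
  haveI h1 : Mono (inv G.fromTildeΓ) := inferInstance
  exact @mono_comp _ _ _ _ _ (inv G.fromTildeΓ) h1 te hte

/-- `ℰxt^{p+1}(K, J^~) = 0` for `K` coherent and `J` injective -/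
theorem isZero_T_tilde (K : (Spec R).Modules) (hK : Coh.IsCoh K) (J : ModuleCat.{u} R)
    [Injective J] (p : ℕ) : IsZero (T (O := (Spec R).sheaf) (tilde J) (p + 1) K) := by
  have hinj : Injective ((moduleSpecΓFunctor (R := R)).obj (tilde J)) :=
    Injective.of_iso ((tilde.toTildeΓNatIso (R := R)).app J) inferInstance
  exact isZero_extSh_of_injective_sections R K (tilde J) hK inferInstance hinj p

variable (x : Spec R) (F P : ModSite.Mod (Spec R).sheaf) (hF : Coh.IsCoh (X := Spec R) F)
  (q : F ⟶ P) [Epi q]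
  (hP2 : ∀ (J : ModuleCat.{u} R) [Injective J] (p : ℕ),
    IsZero (T (O := (Spec R).sheaf) (tilde J) (p + 1) P))
  (hP3 : ∀ (G : ModSite.Mod (Spec R).sheaf), SheafOfModules.IsQuasicoherent
    (R := (Spec R).ringCatSheaf) G → ∀ p : ℕ, SheafOfModules.IsQuasicoherent
    (R := (Spec R).ringCatSheaf) (T (O := (Spec R).sheaf) G p P))

include hF hP2 hP3 q in
/-- **key induction**: if the stalks at `x` of `ℰxt^i(K, G)` vanish for all coherent quotients `K`
of `P`, then so does the stalk of `ℰxt^i(P, G)` -/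
theorem subsingleton_stalk_T : ∀ (i : ℕ) (G : ModSite.Mod (Spec R).sheaf),
    SheafOfModules.IsQuasicoherent (R := (Spec R).ringCatSheaf) G →
    (∀ (K : ModSite.Mod (Spec R).sheaf), Coh.IsCoh (X := Spec R) K → ∀ (ρ : P ⟶ K), Epi ρ →
      Subsingleton ((Scheme.Modules.presheaf (X := Spec R)
        (T (O := (Spec R).sheaf) G i K)).stalk x)) →
    Subsingleton ((Scheme.Modules.presheaf (X := Spec R)
      (T (O := (Spec R).sheaf) G i P)).stalk x) := by
  intro i
  induction i with
  | zero =>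
    intro G hG hyp
    refine subsingleton_of_vanishAt _ (hP3 G hG 0) x (fun σ => ?_)
    obtain ⟨K, hK, ρ, hρ, σK, hσ⟩ := exists_factor F P G hF q hG σ
    rw [← hσ]
    exact vanishAt_comp σK _ x (vanishAt_of_subsingleton σK x (hyp K hK ρ hρ))
  | succ i ih =>
    intro G hG hyp
    obtain ⟨J, hJ, a, ha⟩ := exists_mono_tilde R G hG
    let Q : ModSite.Mod (Spec R).sheaf := cokernel a
    have hQ : SheafOfModules.IsQuasicoherent (R := (Spec R).ringCatSheaf) Q :=
      @Groth.Agent.Lib.helper7.CohKer.isQuasicoherent_cokernel (Spec R) G (tilde J) hG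
        inferInstance a
    let S : ShortComplex (ModSite.Mod (Spec R).sheaf) := cokerSES a
    have hS : S.ShortExact := cokerSES_shortExact a
    haveI := hasSheafHom (Spec R).sheaf P
    let ΔP := Horseshoe.derivedLES (ModSite.sheafHom (O := (Spec R).sheaf) P)
    cases i with
    | zero =>
      -- `i = 1`
      let δP : T (O := (Spec R).sheaf) Q 0 P ⟶ T (O := (Spec R).sheaf) G 1 P := ΔP.δ S hS 0 1 rfl
      have hepi : Epi δP :=
        (ΔP.exact₁ S hS 0 1 rfl).epi_f ((hP2 J 0).eq_of_tgt _ _)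
      refine subsingleton_of_vanishAt _ (hP3 G hG 1) x (fun σ => ?_)
      -- lift `σ` through `δP`
      let S' : ShortComplex (ModSite.Mod (Spec R).sheaf) :=
        ShortComplex.mk (kernel.ι δP) δP (kernel.condition δP)
      have hS' : S'.ShortExact :=
        { exact := ShortComplex.exact_of_f_is_kernel _ (kernelIsKernel δP)
          mono_f := inferInstanceAs (Mono (kernel.ι δP))
          epi_g := hepi }
      have hker : SheafOfModules.IsQuasicoherent (R := (Spec R).ringCatSheaf) S'.X₁ :=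
        @Groth.Agent.Lib.helper7.CohKer.isQuasicoherent_kernel (Spec R) _ _ (hP3 Q hQ 0)
          (hP3 G hG 1) δP
      obtain ⟨σ', hσ'⟩ := exists_lift_unit S' hS' hker σ
      obtain ⟨K, hK, ρ, hρ, σK, hσK⟩ := exists_factor F P Q hF q hQ σ'
      haveI := hasSheafHom (Spec R).sheaf K
      let δK : T (O := (Spec R).sheaf) Q 0 K ⟶ T (O := (Spec R).sheaf) G 1 K :=
        (Horseshoe.derivedLES (ModSite.sheafHom (O := (Spec R).sheaf) K)).δ S hS 0 1 rfl
      have hnat : Tmap Q 0 ρ ≫ δP = δK ≫ Tmap G 1 ρ := Tmap_δ ρ S hS 0 1 rfl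
      have e1 : σ = (σK ≫ δK) ≫ Tmap G 1 ρ := by
        rw [Category.assoc, ← hnat, ← Category.assoc, hσK]
        exact hσ'.symm
      rw [e1]
      exact vanishAt_comp _ _ x (vanishAt_of_subsingleton _ x (hyp K hK ρ hρ))
    | succ m =>
      -- `i = m + 2`
      have key : ∀ (M : ModSite.Mod (Spec R).sheaf),
          IsZero (T (O := (Spec R).sheaf) (tilde J) (m + 1) M) →
          IsZero (T (O := (Spec R).sheaf) (tilde J) (m + 2) M) →
          Nonempty (T (O := (Spec R).sheaf) Q (m + 1) M ≅ T (O := (Spec R).sheaf) G (m + 2) M) := by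
        intro M h1 h2
        haveI := hasSheafHom (Spec R).sheaf M
        let Δ := Horseshoe.derivedLES (ModSite.sheafHom (O := (Spec R).sheaf) M)
        let δ : T (O := (Spec R).sheaf) Q (m + 1) M ⟶ T (O := (Spec R).sheaf) G (m + 2) M :=
          Δ.δ S hS (m + 1) (m + 2) rfl
        have hm : Mono δ := (Δ.exact₃ S hS (m + 1) (m + 2) rfl).mono_g (h1.eq_of_src _ _)
        have he : Epi δ := (Δ.exact₁ S hS (m + 1) (m + 2) rfl).epi_f (h2.eq_of_tgt _ _)
        exact ⟨@asIso _ _ _ _ δ (isIso_of_mono_of_epi δ)⟩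
      obtain ⟨eP⟩ := key P (hP2 J m) (hP2 J (m + 1))
      refine subsingleton_stalk_of_iso (X := Spec R) eP x ?_
      refine ih Q hQ (fun K hK ρ hρ => ?_)
      obtain ⟨eK⟩ := key K (isZero_T_tilde R K hK J m) (isZero_T_tilde R K hK J (m + 1))
      exact subsingleton_stalk_of_iso (X := Spec R) eK.symm x (hyp K hK ρ hρ)

end spec

end Groth.Agent.Lib.helper21.ExtY
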