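import Mathlib
import Groth.Agent.Lib.Helper21.SuppTensor2
import Groth.Agent.Lib.Helper21.FLFDualExt
import Groth.Agent.Lib.Helper21.LocZero
import Groth.Agent.Lib.Helper21.ExtShDelta

/-!
# `ℰxt^i_Z(F, -) ≅ ℰxt^i(F/F_U, -)`, and `ℰxt^i_Z(F, -) ≅ ℰxt^i(F, -)` when `F|_U = 0` (helper21)
-/

set_option autoImplicit false
universe u

open CategoryTheory CategoryTheory.Limits Opposite

namespace Groth.Agent.Lib.helper21.ExtZShSupp

open Groth.Agent.Lib.Helper21.TensorW Groth.Agent.Lib.Helper21.TensorAdj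
open Groth.Agent.Lib.Helper21.DerivedComm

variable {C : Type u} [SmallCategory C] {J : GrothendieckTopology C} (O : Sheaf J CommRingCat.{u})
  (U : C)

/-- if `F|_U = 0` the projection `F ⟶ F/F_U` is an isomorphism -/
theorem isIso_quotOnπ (F : ModSite.Mod O) (h : ModSite.IsNullOn O U F) :
    IsIso ((ModSite.quotOnπ O U).app F) := by
  have hz : IsZero ((ModSite.extZero O U).obj ((ModSite.restr O U).obj F)) :=
    (ModSite.extZero O U).map_isZero h
  have hf : (ModSite.extZeroAdj O U).counit.app F = 0 := hz.eq_of_src _ _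
  refine ⟨cokernel.desc _ (𝟙 F) (by rw [hf, zero_comp]), ?_, ?_⟩
  · exact cokernel.π_desc _ _ _
  · apply coequalizer.hom_ext
    erw [cokernel.π_desc_assoc]
    simp
    rfl

variable [ModSite.HasPushOver O U] [HasInjectiveResolutions (ModSite.Mod O)]

/-- `ℰxt^i_Z(F, -) ≅ ℰxt^i(F/F_U, -)` -/
noncomputable def extZShQuotIso (F : ModSite.Mod O) [ModSite.HasSheafHom F]
    [ModSite.HasSheafHom ((ModSite.quotOn O U).obj F)] (i : ℕ) :
    ModSite.extZSh U F i ≅ ModSite.extSh ((ModSite.quotOn O U).obj F) i :=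
  rightDerivedIso (Groth.Agent.Lib.helper21.SuppAdj.sheafHomQuotIso O U F) i

/-- `ℰxt^i_Z(F, -) ≅ ℰxt^i(F, -)` when `F|_U = 0` -/
noncomputable def extZShIsoOfNull (F : ModSite.Mod O) [ModSite.HasSheafHom F]
    [ModSite.HasSheafHom ((ModSite.quotOn O U).obj F)] (h : ModSite.IsNullOn O U F) (i : ℕ) :
    ModSite.extZSh U F i ≅ ModSite.extSh F i :=
  haveI := isIso_quotOnπ O U F h
  extZShQuotIso O U F i ≪≫
    (Groth.Agent.Lib.helper21.FLFDual.extShCongr (asIso ((ModSite.quotOnπ O U).app F)) i).symm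

end Groth.Agent.Lib.helper21.ExtZShSupp
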