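import Mathlib
import Groth.Agent.Lib.Helper21.ExtY8
import Groth.Agent.Lib.Helper21.ExtZShSupp
import Groth.Agent.S12879
import Groth.Agent.S2249
import Groth.Agent.Lib.Helper16.QCohPullback2

/-!
# Stalks of `ℰxt^i_Z(F, G)`: reduction to the coherent quotients of `F` supported on `Z` (helper21)
-/

set_option autoImplicit false

universe u

open CategoryTheory CategoryTheory.Limits AlgebraicGeometry Opposite TopologicalSpace

namespace Groth.Agent.Lib.helper21.ExtY

open Scheme.Modules Groth.Agent.Lib.helper21.ExtShDelta Groth.Agent.Lib.helper21.SuppAdj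

attribute [local instance] Groth.Agent.Lib.helper21.ShHomCoh.hasInjRes

section null

variable {X : Scheme.{u}} (U : X.Opens)

lemma isNullOn_of_epi {P K : ModSite.Mod X.sheaf} (ρ : P ⟶ K) [Epi ρ]
    (h : ModSite.IsNullOn X.sheaf U P) : ModSite.IsNullOn X.sheaf U K := by
  unfold ModSite.IsNullOn at h ⊢
  haveI : (ModSite.restr X.sheaf U).IsLeftAdjoint :=
    (ModSite.restrPushOverAdj X.sheaf U).isLeftAdjoint
  haveI : Epi ((ModSite.restr X.sheaf U).map ρ) := inferInstance
  rw [IsZero.iff_id_eq_zero, ← cancel_epi ((ModSite.restr X.sheaf U).map ρ)]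
  exact h.eq_of_src _ _

lemma isNullOn_of_mono {K N : X.Modules} (ι : K ⟶ N) [Mono ι]
    (h : ModSite.IsNullOn X.sheaf U N) : ModSite.IsNullOn X.sheaf U K := by
  rw [isNullOn_iff_sections] at h ⊢
  intro W hW s
  apply (Groth.Agent.Lib.helper2.ModSec.mono_iff_injective_app ι).1 inferInstance W
  rw [h W hW (ι.app W s), map_zero]

end null

section spec

variable (R : CommRingCat.{u}) [IsNoetherianRing R] (U : (Spec R).Opens) (x : Spec R)

/-- **on `Spec R`**: the stalk of `ℰxt^i_Z(F, G)` at `x` vanishes if the stalks of `ℰxt^i(K, G)`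
vanish for all coherent quotients `K` of `F` supported on `Z` -/
theorem subsingleton_stalk_extZSh_spec (F : (Spec R).Modules) (hF : Coh.IsCoh F) (i : ℕ)
    (G : (Spec R).Modules) (hG : G.IsQuasicoherent)
    (hyp : ∀ (K : (Spec R).Modules), Coh.IsCoh K → ∀ π : F ⟶ K, Epi π →
      ModSite.IsNullOn (Spec R).sheaf U K →
      Subsingleton ((Scheme.Modules.presheaf (X := Spec R)
        (T (O := (Spec R).sheaf) G i K)).stalk x)) :
    Subsingleton ((Scheme.Modules.presheaf (X := Spec R)
      ((ModSite.extZSh (O := (Spec R).sheaf) U F i).obj G)).stalk x) := by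
  let P : ModSite.Mod (Spec R).sheaf := (ModSite.quotOn (Spec R).sheaf U).obj F
  let q : F ⟶ P := (ModSite.quotOnπ (Spec R).sheaf U).app F
  haveI : Epi q := inferInstanceAs (Epi ((ModSite.quotOnπ (Spec R).sheaf U).app F))
  haveI := hasSheafHom (Spec R).sheaf P
  have e : ∀ (p : ℕ) (G' : (Spec R).Modules),
      (ModSite.extZSh (O := (Spec R).sheaf) U F p).obj G' ≅ T (O := (Spec R).sheaf) G' p P :=
    fun p G' => (Groth.Agent.Lib.helper21.ExtZShSupp.extZShQuotIso (Spec R).sheaf U F p).app G'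
  refine subsingleton_stalk_of_iso (X := Spec R) (e i G).symm x ?_
  refine subsingleton_stalk_T R x F P hF q ?_ ?_ i G hG ?_
  · intro J _ p
    exact (isZero_extZSh_tilde R U J F hF p).of_iso (e (p + 1) (tilde J)).symm
  · intro G' hG' p
    exact Groth.Agent.Lib.helper16.QCohFibre.isQuasicoherent_of_iso
      (hA := Groth.Agent.S12879.isQC_extZSh (Spec R) U F G' hF hG' p) (e p G')
  · intro K hK ρ hρ
    have hq : Epi q := inferInstance
    exact hyp K hK (q ≫ ρ) (@epi_comp _ _ _ _ _ q hq ρ hρ)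
      (@isNullOn_of_epi _ U P K ρ hρ (ExtSupp.isNullOn_quotOn (Spec R).sheaf U F))

end spec

/-! ### extension of coherent quotients along an open immersion -/

section transfer

variable {X Y : Scheme.{u}} (φ : Y ⟶ X) [IsOpenImmersion φ]

lemma isCoh_restrict' {F : X.Modules} (hF : Coh.IsCoh F) :
    Coh.IsCoh ((restrictFunctor φ).obj F) := by
  have hq : F.IsQuasicoherent := hF.1
  refine ⟨inferInstanceAs (F.restrict φ).IsQuasicoherent, ?_⟩
  have h1 := Groth.Agent.Lib.helper16.QCohPullback2.isFiniteType_pullback φ F hF.2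
  exact Groth.Agent.Lib.helper7.CohKer.isFiniteType_of_epi
    ((restrictFunctorIsoPullback φ).inv.app F) h1

lemma mono_restrict_map {A B : X.Modules} (ι : A ⟶ B) [Mono ι] :
    Mono ((restrictFunctor φ).map ι) := by
  rw [Groth.Agent.Lib.helper2.ModSec.mono_iff_injective_app]
  intro W
  exact (Groth.Agent.Lib.helper2.ModSec.mono_iff_injective_app ι).1 inferInstance (φ ''ᵁ W)

omit [IsOpenImmersion φ] in
lemma isNullOn_pushforward (U : X.Opens) (K' : Y.Modules)
    (h : ModSite.IsNullOn Y.sheaf (φ ⁻¹ᵁ U) K') :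
    ModSite.IsNullOn X.sheaf U ((pushforward φ).obj K') := by
  rw [isNullOn_iff_sections] at h ⊢
  intro W hW s
  exact h (φ ⁻¹ᵁ W) (fun y hy => hW hy) s

/-- a coherent quotient of `F|_Y` supported on `Z ∩ Y` extends to a coherent quotient of `F`
supported on `Z` -/
theorem exists_extension [QuasiCompact φ] (U : X.Opens) (F : ModSite.Mod X.sheaf)
    (hF : Coh.IsCoh (X := X) F) (K' : ModSite.Mod Y.sheaf) (hK' : Coh.IsCoh (X := Y) K')
    (π' : (restrictFunctor φ).obj F ⟶ K') (hπ' : Epi π')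
    (hnull : ModSite.IsNullOn Y.sheaf (φ ⁻¹ᵁ U) K') :
    ∃ (K : ModSite.Mod X.sheaf) (_ : Coh.IsCoh (X := X) K) (π : F ⟶ K) (_ : Epi π)
      (_ : ModSite.IsNullOn X.sheaf U K), Nonempty ((restrictFunctor φ).obj K ≅ K') := by
  let adj := restrictAdjunction φ
  let N : ModSite.Mod X.sheaf := (pushforward φ).obj K'
  let f : F ⟶ N := adj.homEquiv F K' π'
  let K : ModSite.Mod X.sheaf := Abelian.image f
  let πK : F ⟶ K := Abelian.factorThruImage f
  let ιK : K ⟶ N := Abelian.image.ι f
  have hfac : πK ≫ ιK = f := Abelian.image.fac f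
  have hepi : Epi πK := inferInstanceAs (Epi (Abelian.factorThruImage f))
  have hmono : Mono ιK := inferInstanceAs (Mono (Abelian.image.ι f))
  have hFq : SheafOfModules.IsQuasicoherent (R := X.ringCatSheaf) F := hF.1
  have hNq : SheafOfModules.IsQuasicoherent (R := X.ringCatSheaf) N := by
    haveI : Coh.IsQCoh (X := Y) K' := hK'.1
    exact Groth.Agent.S2249.result φ K'
  have hK : Coh.IsCoh (X := X) K := by
    have hc : SheafOfModules.IsQuasicoherent (R := X.ringCatSheaf) (cokernel f) :=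
      @Groth.Agent.Lib.helper7.CohKer.isQuasicoherent_cokernel X F N hFq hNq f
    refine ⟨@Groth.Agent.Lib.helper7.CohKer.isQuasicoherent_kernel X N (cokernel f) hNq hc
      (cokernel.π f), ?_⟩
    exact @Groth.Agent.Lib.helper7.CohKer.isFiniteType_of_epi X F K πK hepi hF.2
  have hKnull : ModSite.IsNullOn X.sheaf U K :=
    @isNullOn_of_mono X U K N ιK hmono (isNullOn_pushforward φ U K' hnull)
  -- the comparison `K|_Y ≅ K'`
  let θ : (restrictFunctor φ).obj K ⟶ K' := (restrictFunctor φ).map ιK ≫ adj.counit.app K'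
  have h1 : (restrictFunctor φ).map πK ≫ θ = π' := by
    have e1 : (restrictFunctor φ).map πK ≫ (restrictFunctor φ).map ιK =
        (restrictFunctor φ).map f := by
      rw [← Functor.map_comp]
      exact congrArg _ hfac
    have e2 : (restrictFunctor φ).map f ≫ adj.counit.app K' = π' := by
      have := adj.homEquiv_counit (X := F) (Y := K') (g := f)
      rw [← this]
      exact Equiv.symm_apply_apply _ _
    exact (Category.assoc _ _ _).symm.trans ((congrArg (· ≫ adj.counit.app K') e1).trans e2)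
  have hθm : Mono θ := by
    haveI := @mono_restrict_map X Y φ _ K N ιK hmono
    exact mono_comp _ _
  have hθe : Epi θ := by
    haveI : Epi ((restrictFunctor φ).map πK ≫ θ) := by rw [h1]; exact hπ'
    exact epi_of_epi ((restrictFunctor φ).map πK) θ
  exact ⟨K, hK, πK, hepi, hKnull, ⟨@asIso _ _ _ _ θ (isIso_of_mono_of_epi θ)⟩⟩

/-- the statement: vanishing of the stalks of `ℰxt^i(K, G)` at `x` for the coherent quotients `K`
of `F` supported on `Z` implies the vanishing of the stalk of `ℰxt^i_Z(F, G)` at `x` -/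
def Master (X : Scheme.{u}) (U : X.Opens) (F G : X.Modules) (x : X) (i : ℕ) : Prop :=
  (∀ (K : X.Modules), Coh.IsCoh K → ∀ π : F ⟶ K, Epi π → ModSite.IsNullOn X.sheaf U K →
      Subsingleton ((Scheme.Modules.presheaf (X := X) (T (O := X.sheaf) G i K)).stalk x)) →
    Subsingleton ((Scheme.Modules.presheaf (X := X)
      ((ModSite.extZSh (O := X.sheaf) U F i).obj G)).stalk x)

theorem master_transfer [QuasiCompact φ] (U : X.Opens) (F G : X.Modules) (hF : Coh.IsCoh F)
    (y : Y) (i : ℕ)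
    (rE : ∀ K : X.Modules, Nonempty ((restrictFunctor φ).obj (T (O := X.sheaf) G i K) ≅
      T (O := Y.sheaf) ((restrictFunctor φ).obj G) i ((restrictFunctor φ).obj K)))
    (rZ : Nonempty ((restrictFunctor φ).obj ((ModSite.extZSh (O := X.sheaf) U F i).obj G) ≅
      (ModSite.extZSh (O := Y.sheaf) (φ ⁻¹ᵁ U) ((restrictFunctor φ).obj F) i).obj
        ((restrictFunctor φ).obj G)))
    (h : Master Y (φ ⁻¹ᵁ U) ((restrictFunctor φ).obj F) ((restrictFunctor φ).obj G) y i) :
    Master X U F G (φ y) i := by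
  intro hyp
  obtain ⟨eZ⟩ := rZ
  rw [← subsingleton_stalk_restrict_iff φ]
  refine subsingleton_stalk_of_iso (X := Y) eZ.symm y (h ?_)
  intro K' hK' π' hπ' hnull
  obtain ⟨K, hK, π, hπ, hKnull, ⟨θ⟩⟩ := exists_extension φ U F hF K' hK' π' hπ' hnull
  obtain ⟨eE⟩ := rE K
  have h1 := hyp K hK π hπ hKnull
  rw [← subsingleton_stalk_restrict_iff φ] at h1
  have h2 := subsingleton_stalk_of_iso (X := Y) eE y h1
  exact subsingleton_stalk_of_iso (X := Y)
    (Groth.Agent.Lib.helper21.AcycRes.isoOfIso (cd (O := Y.sheaf) ((restrictFunctor φ).obj G))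
      (cd_map_id ((restrictFunctor φ).obj G)) i θ.symm) y h2

end transfer

/-- **master lemma**: on a locally Noetherian scheme `X`, for `F` coherent and `G` quasi-coherent,
the stalk of `ℰxt^i_Z(F, G)` at `x` vanishes as soon as the stalks at `x` of `ℰxt^i(K, G)` vanish
for all coherent quotients `K` of `F` which are supported on `Z` -/
theorem master {X : Scheme.{u}} [IsLocallyNoetherian X] (U : X.Opens) (F G : X.Modules)
    (hF : Coh.IsCoh F) (hG : G.IsQuasicoherent) (x : X) (i : ℕ) : Master X U F G x i := by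
  obtain ⟨V, hV, hx, -⟩ : ∃ V : X.Opens, IsAffineOpen V ∧ x ∈ V ∧ V ≤ ⊤ :=
    exists_isAffineOpen_mem_and_subset (U := ⊤) (x := x) (by simp)
  haveI : IsNoetherianRing Γ(X, V) := IsLocallyNoetherian.component_noetherian ⟨V, hV⟩
  let R : CommRingCat.{u} := Γ(X, V)
  let e : Spec R ⟶ (↑V : Scheme.{u}) := hV.isoSpec.inv
  let xV : (↑V : Scheme.{u}) := ⟨x, hx⟩
  let x₂ : Spec R := hV.isoSpec.hom xV
  have hx₂ : e x₂ = xV := by
    show hV.isoSpec.inv (hV.isoSpec.hom xV) = xV
    rw [← Scheme.Hom.comp_apply, Iso.hom_inv_id]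
    rfl
  haveI := hG
  let FV : (↑V : Scheme.{u}).Modules := (restrictFunctor V.ι).obj F
  let GV : (↑V : Scheme.{u}).Modules := (restrictFunctor V.ι).obj G
  have hFV : Coh.IsCoh FV := isCoh_restrict' V.ι hF
  let F₂ : (Spec R).Modules := (restrictFunctor e).obj FV
  let G₂ : (Spec R).Modules := (restrictFunctor e).obj GV
  have hG₂ : G₂.IsQuasicoherent := inferInstanceAs ((GV.restrict e).IsQuasicoherent)
  have m2 : Master (Spec R) (e ⁻¹ᵁ (V.ι ⁻¹ᵁ U)) F₂ G₂ x₂ i := fun hyp =>
    subsingleton_stalk_extZSh_spec R _ x₂ F₂ (isCoh_restrict' e hFV) i G₂ hG₂ hyp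
  have mV : Master (↑V : Scheme.{u}) (V.ι ⁻¹ᵁ U) FV GV (e x₂) i :=
    master_transfer e (V.ι ⁻¹ᵁ U) FV GV hFV x₂ i
      (fun K => ⟨(Groth.Agent.Lib.helper21.ShRestr.extShRestrIso' e K i).app GV⟩)
      ⟨(extZShRestrIso' (V.ι ⁻¹ᵁ U) e FV i).app GV⟩ m2
  rw [hx₂] at mV
  haveI : QuasiCompact V.ι := inferInstance
  exact master_transfer V.ι U F G hF xV i
    (fun K => ⟨(Groth.Agent.Lib.helper21.ShHomCoh.extShRestrIso V K i).app G⟩)
    ⟨(extZShRestrIso U F V i).app G⟩ mV

end Groth.Agent.Lib.helper21.ExtY
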