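import Mathlib
import Groth.Agent.Lib.Helper21.ExtY9
import Groth.Agent.Lib.Helper21.ExtStalk
import Groth.Agent.Lib.Helper25.StalkEpi
import Groth.Agent.Lib.Helper26.ProjDimRegular

/-!
# Stalkwise vanishing of `ℰxt^i_Z(F, G)` via `Ext` over the local rings (helper21)

* `subsingleton_stalk_extZSh_of_ext`: `X` locally Noetherian, `F` coherent, `G` quasi-coherent:
  `(ℰxt^i_Z(F, G))_x = 0` as soon as `Ext^i_{O_x}(K_x, G_x) = 0` for all coherent quotients `K` of `F`
  supported on `Z` with `K_x ≠ 0` (for those: `x ∈ Z ∩ Supp F`).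
* `isZero_extZSh_of_regular`: the regular case (statement S12882).
-/

set_option autoImplicit false

universe u

open CategoryTheory CategoryTheory.Limits AlgebraicGeometry Opposite TopologicalSpace

namespace Groth.Agent.Lib.helper21.ExtY

open Scheme.Modules Groth.Agent.Lib.helper21.ExtShDelta Groth.Agent.Lib.helper21.SuppAdj
open Abelian

attribute [local instance] Groth.Agent.Lib.helper21.ShHomCoh.hasInjRes

variable {X : Scheme.{u}}

/-- stalks of a module null on `U` vanish at the points of `U` -/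
lemma subsingleton_stalk_of_isNullOn (U : X.Opens) {K : X.Modules}
    (h : ModSite.IsNullOn X.sheaf U K) (x : X) (hx : x ∈ U) :
    Subsingleton (K.presheaf.stalk x) := by
  rw [subsingleton_stalk_iff]
  intro W hxW s
  refine ⟨W ⊓ U, inf_le_left, ⟨hxW, hx⟩, ?_⟩
  exact (isNullOn_iff_sections U K).1 h (W ⊓ U) inf_le_right _

/-- the support of a quotient is contained in the support -/
lemma subsingleton_stalk_of_epi {F K : X.Modules} (π : F ⟶ K) [Epi π] (x : X)
    (h : Subsingleton (F.presheaf.stalk x)) : Subsingleton (K.presheaf.stalk x) := by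
  have hs := Groth.Agent.Lib.helper25.StalkEpi.stalkAdd_surjective_of_epi π x
  refine ⟨fun a b => ?_⟩
  obtain ⟨a', rfl⟩ := hs a
  obtain ⟨b', rfl⟩ := hs b
  rw [Subsingleton.elim a' b']

variable [IsLocallyNoetherian X]

/-- **stalkwise criterion** for the vanishing of `ℰxt^i_Z(F, G)` -/
theorem subsingleton_stalk_extZSh_of_ext (U : X.Opens) (F G : X.Modules) (hF : Coh.IsCoh F)
    (hG : G.IsQuasicoherent) (x : X) (i : ℕ)
    (h : ∀ K : X.Modules, Coh.IsCoh K → ∀ π : F ⟶ K, Epi π → ModSite.IsNullOn X.sheaf U K →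
      ¬ Subsingleton (K.presheaf.stalk x) →
      Subsingleton (Ext.{u} (ModuleCat.of (X.presheaf.stalk x) (K.presheaf.stalk x))
        (ModuleCat.of (X.presheaf.stalk x) (G.presheaf.stalk x)) i)) :
    Subsingleton ((Scheme.Modules.presheaf (X := X)
      ((ModSite.extZSh (O := X.sheaf) U F i).obj G)).stalk x) := by
  refine master U F G hF hG x i ?_
  intro K hK π hπ hnull
  refine (Groth.Agent.Lib.helper21.ExtStalk.subsingleton_stalk_extSh_iff K G hK hG i x).2 ?_
  by_cases hKx : Subsingleton (K.presheaf.stalk x)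
  · have hz : IsZero (ModuleCat.of (X.presheaf.stalk x) (K.presheaf.stalk x)) :=
      ModuleCat.isZero_of_subsingleton _
    haveI := hz.hasProjectiveDimensionLT_zero
    exact HasProjectiveDimensionLT.subsingleton _ 0 i (Nat.zero_le _) _
  · exact h K hK π hπ hnull hKx

omit [IsLocallyNoetherian X] in
/-- for a coherent quotient `K` of `F` supported on `Z` with `K_x ≠ 0`: `x ∈ Z ∩ Supp F` -/
lemma mem_of_not_subsingleton (U : X.Opens) {F K : X.Modules} (π : F ⟶ K) [Epi π]
    (hnull : ModSite.IsNullOn X.sheaf U K) (x : X)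
    (hKx : ¬ Subsingleton (K.presheaf.stalk x)) :
    x ∈ CohB1.support F ∧ x ∉ (U : Set X) :=
  ⟨fun hFx => hKx (subsingleton_stalk_of_epi π x hFx),
    fun hxU => hKx (subsingleton_stalk_of_isNullOn U hnull x hxU)⟩

/-- **statement S12882**: over a regular scheme, `ℰxt^i_Z(F, G) = 0` when `dim O_x < i` on
`Z ∩ Supp F` -/
theorem isZero_extZSh_of_regular
    (hreg : ∀ x : X, IsRegularLocalRing (X.presheaf.stalk x)) (U : X.Opens)
    (F G : X.Modules) (hF : Coh.IsCoh F) (hG : G.IsQuasicoherent) (i : ℕ) (x : X)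
    (hi : x ∈ CohB1.support F → x ∉ (U : Set X) →
      ringKrullDim (X.presheaf.stalk x) < (i : WithBot ℕ∞)) :
    Subsingleton ((Scheme.Modules.presheaf (X := X)
      ((ModSite.extZSh (O := X.sheaf) U F i).obj G)).stalk x) := by
  refine subsingleton_stalk_extZSh_of_ext U F G hF hG x i ?_
  intro K hK π hπ hnull hKx
  obtain ⟨h1, h2⟩ := mem_of_not_subsingleton U π hnull x hKx
  have hlt := hi h1 h2
  haveI := hreg x
  haveI : Module.Finite (X.presheaf.stalk x) (K.presheaf.stalk x) :=
    Groth.Agent.Lib.helper16.CohStalk.finite_stalk_of_isCoh K hK x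
  set d := (IsLocalRing.maximalIdeal (X.presheaf.stalk x)).spanFinrank with hd
  have hdim : ((d : ℕ) : WithBot ℕ∞) = ringKrullDim (X.presheaf.stalk x) :=
    IsRegularLocalRing.spanFinrank_maximalIdeal
  rw [← hdim] at hlt
  have hdi : d < i := by exact_mod_cast hlt
  haveI : HasProjectiveDimensionLT (ModuleCat.of (X.presheaf.stalk x) (K.presheaf.stalk x))
      (d + 1) :=
    Groth.Agent.Lib.helper26.PDReg.hasProjectiveDimensionLE_of_isRegularLocalRing d
      (X.presheaf.stalk x) rfl (K.presheaf.stalk x)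
  exact HasProjectiveDimensionLT.subsingleton _ (d + 1) i hdi _

end Groth.Agent.Lib.helper21.ExtY
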