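import Mathlib
import Groth.Agent.Lib.Helper21.ExtY10
import Groth.Agent.Lib.Helper21.SuppTensor2
import Groth.Agent.S12880
import Groth.Agent.S0046
import Groth.Agent.Lib.Helper21.DepthExt

/-!
# Coherence of `ℰxt^i_Z(F, G)` via `0 → Γ_Z F → F → F/Γ_Z F → 0` (helper21)

* `shortExact_map_quotOn`: `M ↦ M/M_U` is exact.
* `support_cokernel_ιZ_subset`: `Supp (F/Γ_Z F) ⊆ closure (Supp F ∩ U)`.
* `isCoh_extZSh_of_isZero`: if `ℰxt^i_Z(F/Γ_Z F, G) = 0` then `ℰxt^i_Z(F, G)` is coherent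
  (`F`, `G` coherent, `X` locally Noetherian).
-/

set_option autoImplicit false

universe u

open CategoryTheory CategoryTheory.Limits AlgebraicGeometry Opposite TopologicalSpace

namespace Groth.Agent.Lib.helper21.ExtY

open Scheme.Modules Groth.Agent.Lib.helper21.ExtShDelta Groth.Agent.Lib.helper21.SuppAdj
open Abelian

attribute [local instance] Groth.Agent.Lib.helper21.ShHomCoh.hasInjRes

section site

variable {C : Type u} [SmallCategory C] {J : GrothendieckTopology C} (O : Sheaf J CommRingCat.{u})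
  (U : C) [ModSite.HasPushOver O U]

/-- `M ↦ M/M_U` is exact -/
theorem shortExact_map_quotOn (S : ShortComplex (ModSite.Mod O)) (hS : S.ShortExact) :
    (S.map (ModSite.quotOn O U)).ShortExact := by
  haveI := hS.mono_f
  haveI := hS.epi_g
  haveI : PreservesColimitsOfSize.{0, 0} (ModSite.quotOn O U) :=
    (adj O U).leftAdjoint_preservesColimits
  haveI : (ModSite.quotOn O U).PreservesEpimorphisms :=
    Functor.preservesEpimorphisms_of_adjunction (adj O U)
  have hex : (S.map (ModSite.quotOn O U)).Exact :=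
    hS.exact.map_of_epi_of_preservesCokernel (ModSite.quotOn O U) hS.epi_g inferInstance
  exact
    { exact := hex
      mono_f := inferInstanceAs (Mono ((ModSite.quotOn O U).map S.f))
      epi_g := inferInstanceAs (Epi ((ModSite.quotOn O U).map S.g)) }

end site

variable {X : Scheme.{u}} (U : X.Opens)

/-- `Supp (F/Γ_Z F) ⊆ closure (Supp F ∩ U)` -/
theorem support_cokernel_ιZ_subset (F : X.Modules) :
    CohB1.support (cokernel (ιZ U F)) ⊆ closure (CohB1.support F ∩ (U : Set X)) := by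
  intro x hx
  by_contra hcl
  apply hx
  -- an open neighbourhood of `x` missing `Supp F ∩ U`
  obtain ⟨W, hxW, hW⟩ : ∃ W : X.Opens, x ∈ W ∧
      ∀ y ∈ W, y ∈ (U : Set X) → Subsingleton (F.presheaf.stalk y) := by
    rw [mem_closure_iff] at hcl
    push Not at hcl
    obtain ⟨o, ho, hxo, hdis⟩ := hcl
    refine ⟨⟨o, ho⟩, hxo, fun y hy hyU => ?_⟩
    by_contra hne
    exact Set.not_nonempty_iff_eq_empty.2 hdis ⟨y, hy, hne, hyU⟩
  have hs := Groth.Agent.Lib.helper25.StalkEpi.stalkAdd_surjective_of_epi (cokernel.π (ιZ U F)) x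
  have key : ∀ t : (cokernel (ιZ U F)).presheaf.stalk x, t = 0 := by
    intro t
    obtain ⟨r₀, rfl⟩ := hs t
    obtain ⟨W₁, hxW₁, r₁, rfl⟩ := TopCat.Presheaf.exists_germ_eq F.presheaf (x := x) r₀
    -- restrict to `W₂ = W₁ ⊓ W`
    let W₂ : X.Opens := W₁ ⊓ W
    have hxW₂ : x ∈ W₂ := ⟨hxW₁, hxW⟩
    let r : Γ(F, W₂) := F.presheaf.map (homOfLE (inf_le_left : W₂ ≤ W₁)).op r₁
    have hr : (F.presheaf.germ W₁ x hxW₁).hom r₁ = (F.presheaf.germ W₂ x hxW₂).hom r :=
      (TopCat.Presheaf.germ_res_apply F.presheaf (homOfLE (inf_le_left : W₂ ≤ W₁)) x hxW₂ r₁).symm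
    rw [hr, Groth.Agent.Lib.helper17.FlatOver7.stalkAdd_germ]
    -- `r` vanishes on `W₂ ⊓ U`
    have hr0 : F.presheaf.map (homOfLE (inf_le_left : W₂ ⊓ U ≤ W₂)).op r = 0 := by
      refine TopCat.Presheaf.section_ext ⟨F.presheaf, F.isSheaf⟩ (W₂ ⊓ U) _ 0 (fun y hy => ?_)
      haveI : Subsingleton (F.presheaf.stalk y) := hW y hy.1.2 hy.2
      exact Subsingleton.elim _ _
    obtain ⟨r', hr'⟩ := (exists_sectOnι_app_eq_iff U F W₂ r).2 hr0
    have h0 : ((cokernel.π (ιZ U F)).app W₂).hom r = 0 := by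
      rw [← hr']
      have hc := congrArg (fun φ : GZ U F ⟶ cokernel (ιZ U F) =>
        (Scheme.Modules.Hom.app φ W₂).hom r') (cokernel.condition (ιZ U F))
      exact hc
    rw [h0, map_zero]
  exact ⟨fun a b => (key a).trans (key b).symm⟩

variable [IsLocallyNoetherian X]

/-- `Γ_Z F` is quasi-coherent -/
lemma isQuasicoherent_GZ (F : X.Modules) (hF : F.IsQuasicoherent) :
    (GZ U F).IsQuasicoherent := by
  haveI : QuasiCompact U.ι := inferInstance
  haveI : F.IsQuasicoherent := hF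
  have e0 : (ModSite.HZsh X.sheaf U 0).obj F ≅ GZ U F := by
    haveI := preservesFiniteLimits_sectOn (X := X) U
    exact (ModSite.sectOn X.sheaf U).rightDerivedZeroIsoSelf.app F
  exact Groth.Agent.Lib.helper16.QCohFibre.isQuasicoherent_of_iso
    (hA := Groth.Agent.Lib.helper21.HZshQCoh.isQuasicoherent_HZsh U F 0) e0

/-- `Γ_Z F` is coherent for `F` coherent -/
lemma isCoh_GZ (F : X.Modules) (hF : Coh.IsCoh F) : Coh.IsCoh (GZ U F) :=
  Groth.Agent.S0046.result X F (GZ U F) (ιZ U F) hF (isQuasicoherent_GZ U F hF.1)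

/-- `F/Γ_Z F` is coherent for `F` coherent -/
lemma isCoh_cokernel_ιZ (F : X.Modules) (hF : Coh.IsCoh F) : Coh.IsCoh (cokernel (ιZ U F)) :=
  Groth.Agent.Lib.helper7.CohKer.isCoh_cokernel (isCoh_GZ U F hF) hF (ιZ U F)

/-- **coherence criterion**: if `ℰxt^i_Z(F/Γ_Z F, G) = 0` then `ℰxt^i_Z(F, G)` is coherent -/
theorem isCoh_extZSh_of_isZero (F G : X.Modules) (hF : Coh.IsCoh F) (hG : Coh.IsCoh G) (i : ℕ)
    (hz : haveI := hasSheafHom X.sheaf (cokernel (ιZ U F))
      IsZero ((ModSite.extZSh (O := X.sheaf) U (cokernel (ιZ U F)) i).obj G)) :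
    haveI := hasSheafHom X.sheaf F
    Coh.IsCoh ((ModSite.extZSh (O := X.sheaf) U F i).obj G) := by
  haveI := hasSheafHom X.sheaf F
  let F' : X.Modules := GZ U F
  let F'' : X.Modules := cokernel (ιZ U F)
  haveI := hasSheafHom X.sheaf F'
  haveI := hasSheafHom X.sheaf F''
  let S : ShortComplex (ModSite.Mod X.sheaf) :=
    ShortComplex.mk (ιZ U F) (cokernel.π (ιZ U F)) (cokernel.condition _)
  have hS : S.ShortExact :=
    { exact := ShortComplex.exact_cokernel (ιZ U F)
      mono_f := inferInstanceAs (Mono (ιZ U F))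
      epi_g := inferInstanceAs (Epi (cokernel.π (ιZ U F))) }
  have hSq := shortExact_map_quotOn X.sheaf U S hS
  let Q := ModSite.quotOn X.sheaf U
  haveI := hasSheafHom X.sheaf (Q.obj F)
  haveI := hasSheafHom X.sheaf (Q.obj F')
  haveI := hasSheafHom X.sheaf (Q.obj F'')
  have e : (ModSite.extZSh (O := X.sheaf) U F i).obj G ≅ T (O := X.sheaf) G i (Q.obj F) :=
    (Groth.Agent.Lib.helper21.ExtZShSupp.extZShQuotIso X.sheaf U F i).app G
  have e' : (ModSite.extZSh (O := X.sheaf) U F' i).obj G ≅ T (O := X.sheaf) G i (Q.obj F') :=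
    (Groth.Agent.Lib.helper21.ExtZShSupp.extZShQuotIso X.sheaf U F' i).app G
  have e'' : (ModSite.extZSh (O := X.sheaf) U F'' i).obj G ≅ T (O := X.sheaf) G i (Q.obj F'') :=
    (Groth.Agent.Lib.helper21.ExtZShSupp.extZShQuotIso X.sheaf U F'' i).app G
  obtain ⟨-, hmid, -⟩ := les (O := X.sheaf) G (S.map Q) hSq
  obtain ⟨w, hex⟩ := hmid i
  have hz' : IsZero (T (O := X.sheaf) G i (Q.obj F'')) := hz.of_iso e''.symm
  have hmono : Mono (Tmap (O := X.sheaf) G i (Q.map (ιZ U F))) :=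
    hex.mono_g (hz'.eq_of_src _ _)
  -- coherence of `ℰxt^i_Z(Γ_Z F, G)`
  have hF' : Coh.IsCoh F' := isCoh_GZ U F hF
  have hcoh : Coh.IsCoh ((ModSite.extZSh (O := X.sheaf) U F' i).obj G) := by
    refine Groth.Agent.S12880.result X U F' G hF' hG ?_ i
    intro y hy hyU
    exact hy (subsingleton_stalk_of_isNullOn U (isNullOn_sectOn X.sheaf U F) y hyU)
  have hqc := Groth.Agent.S12879.isQC_extZSh X U F G hF hG.1 i
  let m : (ModSite.extZSh (O := X.sheaf) U F i).obj G ⟶
      (ModSite.extZSh (O := X.sheaf) U F' i).obj G :=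
    e.hom ≫ Tmap (O := X.sheaf) G i (Q.map (ιZ U F)) ≫ e'.inv
  haveI hm : Mono m := by
    haveI := hmono
    exact mono_comp _ _
  exact @Groth.Agent.S0046.result X _ _ _ m hm hcoh hqc

/-- **statement S12883**: regular case -/
theorem isCoh_extZSh_of_regular (hreg : ∀ x : X, IsRegularLocalRing (X.presheaf.stalk x))
    (F G : X.Modules) (hF : Coh.IsCoh F) (hG : Coh.IsCoh G) (i : ℕ)
    (hi : ∀ x ∈ closure (CohB1.support F ∩ (U : Set X)), x ∉ (U : Set X) →
      ringKrullDim (X.presheaf.stalk x) < (i : WithBot ℕ∞)) :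
    haveI := hasSheafHom X.sheaf F
    Coh.IsCoh ((ModSite.extZSh (O := X.sheaf) U F i).obj G) := by
  haveI := hasSheafHom X.sheaf (cokernel (ιZ U F))
  refine isCoh_extZSh_of_isZero U F G hF hG i ?_
  refine (Groth.Agent.Lib.helper21.ExtStalk.isZero_iff_forall_subsingleton_stalk
    (X := X) ((ModSite.extZSh (O := X.sheaf) U (cokernel (ιZ U F)) i).obj G)).2 fun x => ?_
  exact isZero_extZSh_of_regular hreg U _ G (isCoh_cokernel_ιZ U F hF) hG.1 i x
    (fun h1 h2 => hi x (support_cokernel_ιZ_subset U F h1) h2)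

/-- **statement S12881**: depth case -/
theorem isCoh_extZSh_of_depth (F G : X.Modules) (hF : Coh.IsCoh F) (hG : Coh.IsCoh G) (n : ℕ)
    (hdepth : ∀ x ∈ closure (CohB1.support F ∩ (U : Set X)), x ∉ (U : Set X) →
      (n : ℕ∞) ≤ LocCoh.depth (X.presheaf.stalk x) (G.presheaf.stalk x))
    (i : ℕ) (hi : i < n) :
    haveI := hasSheafHom X.sheaf F
    Coh.IsCoh ((ModSite.extZSh (O := X.sheaf) U F i).obj G) := by
  haveI := hasSheafHom X.sheaf (cokernel (ιZ U F))
  refine isCoh_extZSh_of_isZero U F G hF hG i ?_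
  refine (Groth.Agent.Lib.helper21.ExtStalk.isZero_iff_forall_subsingleton_stalk
    (X := X) ((ModSite.extZSh (O := X.sheaf) U (cokernel (ιZ U F)) i).obj G)).2 fun x => ?_
  refine master U (cokernel (ιZ U F)) G (isCoh_cokernel_ιZ U F hF) hG.1 x i ?_
  intro K hK π hπ hnull
  have hzK : IsZero (T (O := X.sheaf) G i K) := by
    refine Groth.Agent.Lib.helper21.DepthExt.isZero_extSh_of_depth G K hG hK n ?_ i hi
    intro y hy
    haveI := hπ
    obtain ⟨h1, h2⟩ := mem_of_not_subsingleton U π hnull y hy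
    exact hdepth y (support_cokernel_ιZ_subset U F h1) h2
  exact (Groth.Agent.Lib.helper21.ExtStalk.isZero_iff_forall_subsingleton_stalk
    (X := X) (T (O := X.sheaf) G i K)).1 hzK x

end Groth.Agent.Lib.helper21.ExtY
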