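import Mathlib
import Groth.Agent.Lib.Helper24.CatEquidim
import Groth.Agent.Lib.Helper24.CplCatenary
import Groth.Agent.Lib.Helper24.FormalEquidimLoc2
import Groth.Agent.Lib.Helper15.Regular
import Groth.Agent.Lib.Helper26.Depth7
import Groth.Agent.Lib.Helper26.DepthLoc3
import Groth.Agent.Lib.Helper19.Boot2

/-!
# Regular local rings: primes of every intermediate height; `Ext^n(M, A) = 0` below the
codimension of the support (helper21)

* `exists_le_height_eq`: in a regular local ring `A`, above a prime of height `≤ n ≤ dim A` there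
  is a prime of height exactly `n`.
* `subsingleton_ext_of_height`: `A` Noetherian, `M` finite, `N ≃ A`; if `A_q` is regular of
  dimension `> n` for all `q ∈ Supp M`, then `Ext^n_A(M, N) = 0`.
-/

set_option autoImplicit false

universe u

open CategoryTheory IsLocalRing LocCoh

namespace Groth.Agent.Lib.helper21.ExtY

section chain

variable (A : Type u) [CommRing A] [IsRegularLocalRing A]

/-- dimension formula for a regular local ring: `ht p + coheight p = dim A` -/
lemma height_add_coheight (p : PrimeSpectrum A) :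
    (p.asIdeal.height : WithBot ℕ∞) + ((Order.coheight p : ℕ∞) : WithBot ℕ∞) =
      ringKrullDim A := by
  haveI := Groth.Agent.Lib.helper15.isDomain_of_isRegularLocalRing A
  have hcat := Groth.Agent.Lib.Helper24.CplCatenary.isCatenary_of_isRegularLocalRing A
  have heq := Groth.Agent.Lib.Helper24.FormalEquidimLoc.isEquidim_of_isDomain A
  rw [Groth.Agent.Lib.Helper24.CatEquidim.coheight_eq_ringKrullDim_quotient p]
  exact Groth.Agent.Lib.Helper24.CatEquidim.height_add_dim_quotient_eq A hcat heq p.asIdeal

/-- natural-number version of the dimension formula -/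
lemma exists_height_coheight (p : PrimeSpectrum A) :
    ∃ h c d : ℕ, p.asIdeal.height = h ∧ Order.coheight p = c ∧
      ringKrullDim A = ((d : ℕ) : WithBot ℕ∞) ∧ h + c = d := by
  obtain ⟨h, hh⟩ := ENat.ne_top_iff_exists.mp (Ideal.height_ne_top_of_isPrime (I := p.asIdeal))
  obtain ⟨c, hc⟩ := ENat.ne_top_iff_exists.mp (Order.coheight_lt_top p).ne
  have hd : ((maximalIdeal A).spanFinrank : WithBot ℕ∞) = ringKrullDim A :=
    IsRegularLocalRing.spanFinrank_maximalIdeal
  refine ⟨h, c, (maximalIdeal A).spanFinrank, hh.symm, hc.symm, hd.symm, ?_⟩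
  have h1 := height_add_coheight A p
  rw [← hh, ← hc, ← hd] at h1
  exact_mod_cast h1

/-- one step up: a prime of height `h < dim A` is strictly contained in one of height `h + 1` -/
lemma exists_lt_height_succ (p : PrimeSpectrum A) (h : ℕ) (hp : p.asIdeal.height = h)
    (hlt : ((h : ℕ) : WithBot ℕ∞) < ringKrullDim A) :
    ∃ y : PrimeSpectrum A, p < y ∧ y.asIdeal.height = ((h + 1 : ℕ) : ℕ∞) := by
  obtain ⟨h', c, d, hh, hc, hd, hsum⟩ := exists_height_coheight A p
  have hh' : h' = h := by
    rw [hh] at hp
    exact_mod_cast hp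
  subst hh'
  rw [hd] at hlt
  have hlt' : h' < d := by exact_mod_cast hlt
  obtain ⟨c', rfl⟩ : ∃ c', c = c' + 1 := ⟨c - 1, by omega⟩
  have hc' : Order.coheight p = (c' : ℕ∞) + 1 := by
    rw [hc]
    push_cast
    rfl
  rw [Order.coheight_eq_coe_add_one_iff] at hc'
  obtain ⟨-, ⟨y, hpy, hy⟩, -⟩ := hc'
  refine ⟨y, hpy, ?_⟩
  obtain ⟨h₂, c₂, d₂, hh₂, hc₂, hd₂, hsum₂⟩ := exists_height_coheight A y
  have hdd : d₂ = d := by
    rw [hd] at hd₂
    exact_mod_cast hd₂.symm
  have hcc : c₂ = c' := by
    rw [hc₂] at hy
    exact_mod_cast hy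
  rw [hh₂]
  have : h₂ = h' + 1 := by omega
  rw [this]

/-- **primes of every intermediate height** -/
theorem exists_le_height_eq (p : PrimeSpectrum A) (n : ℕ)
    (hp : p.asIdeal.height ≤ (n : ℕ∞)) (hn : ((n : ℕ) : WithBot ℕ∞) ≤ ringKrullDim A) :
    ∃ q : PrimeSpectrum A, p ≤ q ∧ q.asIdeal.height = (n : ℕ∞) := by
  have key : ∀ (k : ℕ) (p : PrimeSpectrum A) (h : ℕ), p.asIdeal.height = (h : ℕ∞) → h + k = n →
      ∃ q : PrimeSpectrum A, p ≤ q ∧ q.asIdeal.height = (n : ℕ∞) := by
    intro k
    induction k with
    | zero =>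
      intro p h hph hk
      refine ⟨p, le_rfl, ?_⟩
      rw [hph]
      have : h = n := by omega
      rw [this]
    | succ k ih =>
      intro p h hph hk
      have hlt : ((h : ℕ) : WithBot ℕ∞) < ringKrullDim A := by
        refine lt_of_lt_of_le ?_ hn
        have : h < n := by omega
        exact_mod_cast this
      obtain ⟨y, hpy, hy⟩ := exists_lt_height_succ A p h hph hlt
      obtain ⟨q, hyq, hq⟩ := ih y (h + 1) hy (by omega)
      exact ⟨q, hpy.le.trans hyq, hq⟩
  obtain ⟨h, hh⟩ := ENat.ne_top_iff_exists.mp (Ideal.height_ne_top_of_isPrime (I := p.asIdeal))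
  have hle : h ≤ n := by
    rw [← hh] at hp
    exact_mod_cast hp
  exact key (n - h) p h hh.symm (by omega)

end chain

section ext

open Abelian

variable (A : Type u) [CommRing A] [IsNoetherianRing A]

/-- the depth of `(A_q)`-module `(A)_q` is the depth of the ring `A_q` -/
lemma depth_localizedModule_self (q : Ideal A) [q.IsPrime] :
    depth (Localization.AtPrime q) (LocalizedModule q.primeCompl A) =
      depth (Localization.AtPrime q) (Localization.AtPrime q) := by
  haveI : IsLocalizedModule q.primeCompl (Algebra.linearMap A (Localization.AtPrime q)) :=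
    (isLocalizedModule_iff_isLocalization).2 inferInstance
  exact (Groth.Agent.Lib.helper26.Depth.depth_eq_of_isLocalizedModule q A
    (Localization.AtPrime q) (Localization.AtPrime q)
    (Algebra.linearMap A (Localization.AtPrime q))).symm

/-- **`Ext^n_A(M, A) = 0` below the codimension of `Supp M`** (at the regular points) -/
theorem subsingleton_ext_of_height (M : Type u) [AddCommGroup M] [Module A M] [Module.Finite A M]
    (n : ℕ)
    (hreg : ∀ q : PrimeSpectrum A, q ∈ Module.support A M →
      IsRegularLocalRing (Localization.AtPrime q.asIdeal))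
    (h : ∀ q : PrimeSpectrum A, q ∈ Module.support A M → ((n + 1 : ℕ) : ℕ∞) ≤ q.asIdeal.height)
    (N : Type u) [AddCommGroup N] [Module A N] (e : N ≃ₗ[A] A) :
    Subsingleton (Ext.{u} (ModuleCat.of A M) (ModuleCat.of A N) n) := by
  haveI : Module.Finite A N := Module.Finite.equiv e.symm
  have hN : Module.support A (ModuleCat.of A M) ⊆
      PrimeSpectrum.zeroLocus (Module.annihilator A M) :=
    (Module.support_eq_zeroLocus).le
  have hdepth : ((n + 1 : ℕ) : ℕ∞) ≤ idealDepth (Module.annihilator A M) N := by
    rw [Groth.Agent.Lib.helper26.Depth.idealDepth_eq_iInf_depth_localization]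
    refine le_iInf₂ fun q hq => ?_
    have hqs : q ∈ Module.support A M := Module.mem_support_iff_of_finite.2 hq
    haveI := hreg q hqs
    rw [Groth.Agent.Lib.helper19.Boot2.depth_congr_loc q.asIdeal e,
      depth_localizedModule_self A q.asIdeal]
    have h1 := Groth.Agent.Lib.helper26.Depth.depth_eq_ringKrullDim_of_isRegularLocalRing
      (Localization.AtPrime q.asIdeal)
    rw [IsLocalization.AtPrime.ringKrullDim_eq_height q.asIdeal] at h1
    have h2 : depth (Localization.AtPrime q.asIdeal) (Localization.AtPrime q.asIdeal) =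
        q.asIdeal.height := by exact_mod_cast h1
    rw [h2]
    exact h q hqs
  exact Groth.Agent.Lib.helper26.Depth.subsingleton_ext_of_lt_idealDepth
    (Module.annihilator A M) N (ModuleCat.of A M) hN n
    (lt_of_lt_of_le (by exact_mod_cast Nat.lt_succ_self n) hdepth)

end ext

end Groth.Agent.Lib.helper21.ExtY
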