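import Mathlib
import Groth.Agent.Lib.Helper21.ExtY11
import Groth.Agent.Lib.Helper21.ExtY12
import Groth.Agent.Lib.Helper8.StalkLen
import Groth.Agent.Lib.Helper24.QGorSk3
import Groth.Agent.Lib.Helper11.AmpleInv

/-!
# `ℰxt^n_Z(F, O_X)` on a regular scheme when `n` is not a dimension on `Z ∩ closure(Supp F ∩ U)`
(helper21; statement S12884)

* `exists_point_of_mem_support`: a prime `q` of `O_{X,x}` in the support of `K_x` comes from a point
  `z` with `K_z ≠ 0` and `O_{X,z} ≃ (O_{X,x})_q`.
* `isCoh_extZSh_structure_of_dim_ne`: statement S12884.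
-/

set_option autoImplicit false

universe u

open CategoryTheory CategoryTheory.Limits AlgebraicGeometry Opposite TopologicalSpace

namespace Groth.Agent.Lib.helper21.ExtY

open Scheme.Modules Groth.Agent.Lib.helper21.ExtShDelta Groth.Agent.Lib.helper21.SuppAdj
open Groth.Agent.Lib.helper16.CohStalk
open Abelian

attribute [local instance] Groth.Agent.Lib.helper21.ShHomCoh.hasInjRes

noncomputable section

variable {X : Scheme.{u}}

/-- **dictionary**: primes of `O_{X,x}` in the support of `K_x` are points of the support of `K` -/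
theorem exists_point_of_mem_support (K : X.Modules) [K.IsQuasicoherent] (x : X)
    (q : PrimeSpectrum (X.presheaf.stalk x))
    (hq : q ∈ Module.support (X.presheaf.stalk x) (K.presheaf.stalk x)) :
    ∃ z : X, ¬ Subsingleton (K.presheaf.stalk z) ∧
      Nonempty (Localization.AtPrime q.asIdeal ≃+* X.presheaf.stalk z) := by
  obtain ⟨V, hV, hx, -⟩ : ∃ V : X.Opens, IsAffineOpen V ∧ x ∈ V ∧ V ≤ ⊤ :=
    exists_isAffineOpen_mem_and_subset (U := ⊤) (x := x) (by simp)
  letI := TopCat.Presheaf.algebra_section_stalk X.presheaf (⟨x, hx⟩ : V)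
  letI := modStalk K x hx
  haveI := isScalarTower_stalk K x hx
  haveI hloc : IsLocalization.AtPrime (X.presheaf.stalk x) (hV.primeIdealOf ⟨x, hx⟩).asIdeal :=
    hV.isLocalization_stalk ⟨x, hx⟩
  haveI := isLocalizedModule_stalk K hV x hx
  let P : Ideal Γ(X, V) := (hV.primeIdealOf ⟨x, hx⟩).asIdeal
  let Q : PrimeSpectrum Γ(X, V) :=
    ⟨q.asIdeal.comap (algebraMap Γ(X, V) (X.presheaf.stalk x)), inferInstance⟩
  obtain ⟨z, hz, hzQ⟩ := Groth.Agent.Lib.helper8.StalkLen.exists_primeIdealOf_eq hV Q
  refine ⟨z, ?_, ?_⟩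
  · -- support
    have h1 : hV.primeIdealOf ⟨z, hz⟩ ∈ Module.support Γ(X, V) Γ(K, V) := by
      rw [hzQ, Module.mem_support_iff']
      rw [Module.mem_support_iff'] at hq
      obtain ⟨t, ht⟩ := hq
      obtain ⟨⟨m, s⟩, hms⟩ := IsLocalizedModule.surj P.primeCompl (germLin K x hx) t
      refine ⟨m, fun r hr hrm => ?_⟩
      have hr' : algebraMap Γ(X, V) (X.presheaf.stalk x) r ∉ q.asIdeal := hr
      have hs' : algebraMap Γ(X, V) (X.presheaf.stalk x) (s : Γ(X, V)) ∉ q.asIdeal := by
        intro hmem
        have hu : IsUnit (algebraMap Γ(X, V) (X.presheaf.stalk x) (s : Γ(X, V))) :=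
          IsLocalization.map_units (X.presheaf.stalk x) s
        exact q.isPrime.ne_top (Ideal.eq_top_of_isUnit_mem _ hmem hu)
      have hrs : algebraMap Γ(X, V) (X.presheaf.stalk x) r *
          algebraMap Γ(X, V) (X.presheaf.stalk x) (s : Γ(X, V)) ∉ q.asIdeal := by
        intro hmem
        rcases q.isPrime.mem_or_mem hmem with h | h
        · exact hr' h
        · exact hs' h
      apply ht _ hrs
      have h2 : (s : Γ(X, V)) • t = germLin K x hx m := hms
      rw [mul_smul, algebraMap_smul, algebraMap_smul, h2, ← LinearMap.map_smul, hrm, map_zero]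
    have h2 := (Groth.Agent.Lib.helper8.StalkLen.nontrivial_stalk_iff K hV z hz).2 h1
    exact not_subsingleton_iff_nontrivial.2 h2
  · -- the local rings
    letI := TopCat.Presheaf.algebra_section_stalk X.presheaf (⟨z, hz⟩ : V)
    haveI hlocz : IsLocalization.AtPrime (X.presheaf.stalk z) (hV.primeIdealOf ⟨z, hz⟩).asIdeal :=
      hV.isLocalization_stalk ⟨z, hz⟩
    rw [hzQ] at hlocz
    haveI hq2 : IsLocalization.AtPrime (Localization.AtPrime q.asIdeal)
        (q.asIdeal.comap (algebraMap Γ(X, V) (X.presheaf.stalk x))) :=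
      IsLocalization.isLocalization_isLocalization_atPrime_isLocalization P.primeCompl
        (Localization.AtPrime q.asIdeal) q.asIdeal
    exact ⟨(IsLocalization.algEquiv
      (q.asIdeal.comap (algebraMap Γ(X, V) (X.presheaf.stalk x))).primeCompl
      (Localization.AtPrime q.asIdeal) (X.presheaf.stalk z)).toRingEquiv⟩

/-- over a regular local ring `Ext^i` vanishes above the dimension -/
lemma subsingleton_ext_of_dim_lt (A : Type u) [CommRing A] [IsRegularLocalRing A]
    (M N : Type u) [AddCommGroup M] [Module A M] [Module.Finite A M] [AddCommGroup N] [Module A N]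
    (i : ℕ) (hlt : ringKrullDim A < (i : WithBot ℕ∞)) :
    Subsingleton (Ext.{u} (ModuleCat.of A M) (ModuleCat.of A N) i) := by
  set d := (IsLocalRing.maximalIdeal A).spanFinrank with hd
  have hdim : ((d : ℕ) : WithBot ℕ∞) = ringKrullDim A :=
    IsRegularLocalRing.spanFinrank_maximalIdeal
  rw [← hdim] at hlt
  have hdi : d < i := by exact_mod_cast hlt
  haveI : HasProjectiveDimensionLT (ModuleCat.of A M) (d + 1) :=
    Groth.Agent.Lib.helper26.PDReg.hasProjectiveDimensionLE_of_isRegularLocalRing d A rfl M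
  exact HasProjectiveDimensionLT.subsingleton _ (d + 1) i hdi _

variable [IsLocallyNoetherian X]

/-- **statement S12884**: `ℰxt^n_Z(F, O_X)` is coherent on a regular scheme when `n` is not the
dimension of a local ring at a point of `Z ∩ closure (Supp F ∩ U)` -/
theorem isCoh_extZSh_structure_of_dim_ne
    (hreg : ∀ x : X, IsRegularLocalRing (X.presheaf.stalk x)) (U : X.Opens)
    (F : X.Modules) (hF : Coh.IsCoh F) (n : ℕ)
    (hn : ∀ x ∈ closure (CohB1.support F ∩ (U : Set X)), x ∉ (U : Set X) →
      ringKrullDim (X.presheaf.stalk x) ≠ (n : WithBot ℕ∞)) :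
    haveI := hasSheafHom X.sheaf F
    Coh.IsCoh ((ModSite.extZSh (O := X.sheaf) U F n).obj (Coh.structureModule X)) := by
  haveI := hasSheafHom X.sheaf (cokernel (ιZ U F))
  have hO : Coh.IsCoh (Coh.structureModule X) :=
    Groth.Agent.Lib.helper11.AmpleInv.isCoh_structureModule X
  refine isCoh_extZSh_of_isZero U F (Coh.structureModule X) hF hO n ?_
  refine (Groth.Agent.Lib.helper21.ExtStalk.isZero_iff_forall_subsingleton_stalk (X := X)
    ((ModSite.extZSh (O := X.sheaf) U (cokernel (ιZ U F)) n).obj (Coh.structureModule X))).2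
    fun x => ?_
  refine subsingleton_stalk_extZSh_of_ext U (cokernel (ιZ U F)) (Coh.structureModule X)
    (isCoh_cokernel_ιZ U F hF) hO.1 x n ?_
  intro K hK π hπ hnull hKx
  haveI := hπ
  haveI : K.IsQuasicoherent := hK.1
  -- points of the support of `K` lie in `Z ∩ closure (Supp F ∩ U)`
  have hsupp : ∀ z : X, ¬ Subsingleton (K.presheaf.stalk z) →
      ringKrullDim (X.presheaf.stalk z) ≠ (n : WithBot ℕ∞) := by
    intro z hz
    obtain ⟨h1, h2⟩ := mem_of_not_subsingleton U π hnull z hz
    exact hn z (support_cokernel_ιZ_subset U F h1) h2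
  haveI := hreg x
  haveI : Module.Finite (X.presheaf.stalk x) (K.presheaf.stalk x) :=
    Groth.Agent.Lib.helper16.CohStalk.finite_stalk_of_isCoh K hK x
  rcases lt_or_gt_of_ne (hsupp x hKx) with hlt | hgt
  · exact subsingleton_ext_of_dim_lt _ _ _ n hlt
  · obtain ⟨e⟩ := Groth.Agent.Lib.Helper24.QGorSk.nonempty_stalk_structureModule_equiv (X := X) x
    refine subsingleton_ext_of_height (X.presheaf.stalk x) (K.presheaf.stalk x) n ?_ ?_ _ e
    · intro q hq
      obtain ⟨z, -, ⟨σ⟩⟩ := exists_point_of_mem_support K x q hq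
      haveI := hreg z
      exact IsRegularLocalRing.of_ringEquiv σ.symm
    · intro q hq
      by_contra hlt
      have hle : q.asIdeal.height ≤ (n : ℕ∞) := by
        have h1 : q.asIdeal.height < ((n + 1 : ℕ) : ℕ∞) := not_le.1 hlt
        have h2 : ((n + 1 : ℕ) : ℕ∞) = (n : ℕ∞) + 1 := by push_cast; rfl
        rw [h2] at h1
        exact Order.le_of_lt_add_one h1
      obtain ⟨q', hqq', hq'⟩ := exists_le_height_eq (X.presheaf.stalk x) q n hle hgt.le
      have hq's : q' ∈ Module.support (X.presheaf.stalk x) (K.presheaf.stalk x) :=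
        Module.mem_support_mono hqq' hq
      obtain ⟨z, hz, ⟨σ⟩⟩ := exists_point_of_mem_support K x q' hq's
      apply hsupp z hz
      rw [← ringKrullDim_eq_of_ringEquiv σ,
        IsLocalization.AtPrime.ringKrullDim_eq_height q'.asIdeal, hq']
      rfl

end

end Groth.Agent.Lib.helper21.ExtY
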