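import Mathlib

/-!
Helper library (helper21): the explicit extension by zero `p_!` on presheaves of modules over a
presheaf of (not necessarily commutative) rings `R : Cᵒᵖ ⥤ RingCat`,
`(p_! N)(Y) = ⨁_{f : Y ⟶ X} N(f)`, left adjoint to restriction to `C/X`; it is exact.
(Port of `ExtZeroP` from `CommRingCat` to `RingCat`.)
-/

set_option autoImplicit false
universe u
open CategoryTheory Opposite Limits

namespace Groth.Agent.Lib.Helper21.ExtZeroPR

open scoped Classical DirectSum

section basics

variable {D : Type u} [SmallCategory D] {S : Dᵒᵖ ⥤ RingCat.{u}}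

/-- the restriction map of `P` as an additive map -/
noncomputable def rmap (P : PresheafOfModules.{u} S) {X Y : Dᵒᵖ} (g : X ⟶ Y) :
    P.obj X →+ P.obj Y := (P.presheaf.map g).hom

theorem rmap_smul (P : PresheafOfModules.{u} S) {X Y : Dᵒᵖ} (g : X ⟶ Y) (a : S.obj X)
    (m : P.obj X) : rmap P g (a • m) = (S.map g).hom a • rmap P g m :=
  P.map_smul g a m

theorem rmap_comp (P : PresheafOfModules.{u} S) {X Y Z : Dᵒᵖ}
    (g : X ⟶ Y) (h : Y ⟶ Z) (p : P.obj X) : rmap P (g ≫ h) p = rmap P h (rmap P g p) := by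
  unfold rmap
  have e := P.presheaf.map_comp g h
  exact (congrArg (fun φ => φ.hom p) e).trans rfl

/-- the components of a morphism as additive maps -/
noncomputable def amap {P P' : PresheafOfModules.{u} S} (f : P ⟶ P') (X : Dᵒᵖ) :
    P.obj X →+ P'.obj X :=
  (((PresheafOfModules.toPresheaf _).map f).app X).hom

theorem amap_rmap {P P' : PresheafOfModules.{u} S} (f : P ⟶ P') {X Y : Dᵒᵖ} (g : X ⟶ Y)
    (p : P.obj X) : amap f Y (rmap P g p) = rmap P' g (amap f X p) :=
  PresheafOfModules.naturality_apply f g p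

end basics

variable {C : Type u} [SmallCategory C] (R : Cᵒᵖ ⥤ RingCat.{u}) (X : C)

/-- the restricted presheaf of rings on `C/X` -/
abbrev RX : (Over X)ᵒᵖ ⥤ RingCat.{u} := (Over.forget X).op ⋙ R

/-- presheaves of modules on `C` -/
abbrev PMC := PresheafOfModules.{u} R

/-- presheaves of modules on `C/X` -/
abbrev PMX := PresheafOfModules.{u} (RX R X)

/-- restriction to `C/X` -/
noncomputable abbrev restrP : PMC R ⥤ PMX R X :=
  PresheafOfModules.pushforward.{u} (F := Over.forget X) (R := R) (S := RX R X) (𝟙 _)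

variable {R X}

section obj

variable (N : PMX R X)

/-- the summand of `(p_! N)(Y)` at `f : Y ⟶ X` -/
abbrev comp (Y : Cᵒᵖ) (f : Y.unop ⟶ X) : Type u := N.obj (op (Over.mk f))

noncomputable instance (Y : Cᵒᵖ) (f : Y.unop ⟶ X) : Module (R.obj Y) (comp N Y f) :=
  (N.obj (op (Over.mk f))).isModule

/-- sections of `p_! N` over `Y` -/
abbrev T (Y : Cᵒᵖ) : Type u := ⨁ f : (Y.unop ⟶ X), comp N Y f

/-- the canonical arrow `(Z, g ≫ f) ⟶ (Y, f)` of `C/X` -/
abbrev ovHom {Y Z : Cᵒᵖ} (g : Y ⟶ Z) (f : Y.unop ⟶ X) :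
    (op (Over.mk f) : (Over X)ᵒᵖ) ⟶ op (Over.mk (g.unop ≫ f)) :=
  (Over.homMk g.unop rfl : Over.mk (g.unop ≫ f) ⟶ Over.mk f).op

/-- restriction maps of `p_! N` -/
noncomputable def resT {Y Z : Cᵒᵖ} (g : Y ⟶ Z) : T N Y →+ T N Z :=
  DirectSum.toAddMonoid fun f =>
    (DirectSum.of (fun f' : (Z.unop ⟶ X) => comp N Z f') (g.unop ≫ f)).comp (rmap N (ovHom g f))

@[simp]
lemma resT_of {Y Z : Cᵒᵖ} (g : Y ⟶ Z) (f : Y.unop ⟶ X) (n : comp N Y f) :
    resT N g (DirectSum.of _ f n) =
      DirectSum.of (fun f' : (Z.unop ⟶ X) => comp N Z f') (g.unop ≫ f) (rmap N (ovHom g f) n) := by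
  simp [resT]

end obj

section functoriality

variable (N : PMX R X)

/-- transport of summands along equal indices -/
lemma of_congr {Z : Cᵒᵖ} {A : (Over X)ᵒᵖ} {f₁ f₂ : Z.unop ⟶ X} (e : f₁ = f₂)
    (a : A ⟶ op (Over.mk f₁)) (b : A ⟶ op (Over.mk f₂)) (hab : a.unop.left = b.unop.left)
    (n : N.obj A) :
    DirectSum.of (fun f' : (Z.unop ⟶ X) => comp N Z f') f₁ (rmap N a n) =
      DirectSum.of (fun f' : (Z.unop ⟶ X) => comp N Z f') f₂ (rmap N b n) := by
  subst e
  have : a = b := Quiver.Hom.unop_inj (Over.OverMorphism.ext hab)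
  rw [this]

lemma rmap_id (A : (Over X)ᵒᵖ) (n : N.obj A) : rmap N (𝟙 A) n = n := by
  unfold rmap
  have h := N.presheaf.map_id A
  exact (congrArg (fun φ => φ.hom n) h).trans rfl

lemma resT_id (Y : Cᵒᵖ) (t : T N Y) : resT N (𝟙 Y) t = t := by
  induction t using DirectSum.induction_on with
  | zero => exact map_zero _
  | of f n =>
    rw [resT_of]
    have h := of_congr N (Z := Y) (A := op (Over.mk f)) (f₁ := (𝟙 Y).unop ≫ f) (f₂ := f)
      (by simp) (ovHom (𝟙 Y) f) (𝟙 _) (by simp) n
    rw [h, rmap_id]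
  | add t t' ht ht' => rw [map_add, ht, ht']

lemma resT_comp {Y Z W : Cᵒᵖ} (g : Y ⟶ Z) (h : Z ⟶ W) (t : T N Y) :
    resT N (g ≫ h) t = resT N h (resT N g t) := by
  induction t using DirectSum.induction_on with
  | zero => simp
  | of f n =>
    rw [resT_of, resT_of, resT_of, ← rmap_comp]
    exact of_congr N (by simp) _ _ (by simp) n
  | add t t' ht ht' => rw [map_add, map_add, map_add, ht, ht']

lemma resT_smul {Y Z : Cᵒᵖ} (g : Y ⟶ Z) (r : R.obj Y) (t : T N Y) :
    resT N g (r • t) = (R.map g).hom r • resT N g t := by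
  induction t using DirectSum.induction_on with
  | zero => simp
  | of f n =>
    rw [← DirectSum.of_smul, resT_of, resT_of, ← DirectSum.of_smul]
    congr 1
    exact rmap_smul N (ovHom g f) r n
  | add t t' ht ht' => rw [smul_add, map_add, map_add, smul_add, ht, ht']

end functoriality

section extObj

variable (N : PMX R X)

/-- the underlying presheaf of abelian groups of `p_! N` -/
noncomputable def abPsh : Cᵒᵖ ⥤ Ab.{u} where
  obj Y := AddCommGrpCat.of (T N Y)
  map g := AddCommGrpCat.ofHom (resT N g)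
  map_id Y := AddCommGrpCat.hom_ext (AddMonoidHom.ext fun t => resT_id N Y t)
  map_comp g h := AddCommGrpCat.hom_ext (AddMonoidHom.ext fun t => resT_comp N g h t)

noncomputable instance (Y : Cᵒᵖ) :
    Module (R.obj Y) ((abPsh N).obj Y) :=
  inferInstanceAs (Module (R.obj Y) (T N Y))

/-- `p_! N` as a presheaf of modules -/
noncomputable def extObj : PMC R :=
  PresheafOfModules.ofPresheaf (abPsh N) (fun _ _ g r t => resT_smul N g r t)

end extObj

section extMap

variable {N N' N'' : PMX R X} (a : N ⟶ N') (b : N' ⟶ N'')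

/-- the action of `p_!` on morphisms, on sections -/
noncomputable def mapT (Y : Cᵒᵖ) : T N Y →+ T N' Y :=
  DirectSum.map (fun f => amap a (op (Over.mk f)))

@[simp]
lemma mapT_of (Y : Cᵒᵖ) (f : Y.unop ⟶ X) (n : comp N Y f) :
    mapT a Y (DirectSum.of _ f n) =
      DirectSum.of (fun f' : (Y.unop ⟶ X) => comp N' Y f') f (amap a (op (Over.mk f)) n) := by
  simp [mapT]

lemma amap_smul (A : (Over X)ᵒᵖ) (r : (RX R X).obj A) (n : N.obj A) :
    amap a A (r • n) = r • amap a A n :=
  (a.app A).hom.map_smul r n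

lemma mapT_resT {Y Z : Cᵒᵖ} (g : Y ⟶ Z) (t : T N Y) :
    mapT a Z (resT N g t) = resT N' g (mapT a Y t) := by
  induction t using DirectSum.induction_on with
  | zero => simp
  | of f n =>
    rw [resT_of, mapT_of, mapT_of, resT_of, amap_rmap]
  | add t t' ht ht' => rw [map_add, map_add, map_add, map_add, ht, ht']

lemma mapT_smul (Y : Cᵒᵖ) (r : R.obj Y) (t : T N Y) :
    mapT a Y (r • t) = r • mapT a Y t := by
  induction t using DirectSum.induction_on with
  | zero => simp
  | of f n =>
    rw [← DirectSum.of_smul, mapT_of, mapT_of, ← DirectSum.of_smul]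
    congr 1
    exact amap_smul a (op (Over.mk f)) r n
  | add t t' ht ht' => rw [smul_add, map_add, map_add, smul_add, ht, ht']

/-- `p_!` on morphisms -/
noncomputable def extMap : extObj N ⟶ extObj N' :=
  PresheafOfModules.homMk
    (M₁ := extObj N) (M₂ := extObj N')
    { app := fun Y => AddCommGrpCat.ofHom (mapT a Y)
      naturality := fun Y Z g =>
        AddCommGrpCat.hom_ext (AddMonoidHom.ext fun t => mapT_resT a g t) }
    (fun Y r t => mapT_smul a Y r t)

lemma extMap_app_apply (Y : Cᵒᵖ) (t : T N Y) :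
    (extMap a).app Y t = mapT a Y t := rfl

end extMap

section extF

lemma mapT_id (N : PMX R X) (Y : Cᵒᵖ) (t : T N Y) : mapT (𝟙 N) Y t = t := by
  induction t using DirectSum.induction_on with
  | zero => simp
  | of f n => rw [mapT_of]; rfl
  | add t t' ht ht' => rw [map_add, ht, ht']

lemma mapT_comp {N N' N'' : PMX R X} (a : N ⟶ N') (b : N' ⟶ N'') (Y : Cᵒᵖ) (t : T N Y) :
    mapT (a ≫ b) Y t = mapT b Y (mapT a Y t) := by
  induction t using DirectSum.induction_on with
  | zero => simp
  | of f n => rw [mapT_of, mapT_of, mapT_of]; rfl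
  | add t t' ht ht' => rw [map_add, map_add, map_add, ht, ht']

variable (R X) in
/-- the functor `p_!` -/
noncomputable def extF : PMX R X ⥤ PMC R where
  obj := extObj
  map := extMap
  map_id N := PresheafOfModules.hom_ext (fun Y =>
    ModuleCat.hom_ext (LinearMap.ext fun t => mapT_id N Y t))
  map_comp a b := PresheafOfModules.hom_ext (fun Y =>
    ModuleCat.hom_ext (LinearMap.ext fun t => mapT_comp a b Y t))

end extF

section adjunction

variable {N : PMX R X} {Q : PMC R}

/-- the summand inclusion at an object `A` of `C/X` -/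
noncomputable def ofA (N : PMX R X) (A : (Over X)ᵒᵖ) : N.obj A →+ T N (op A.unop.left) :=
  DirectSum.of (fun f' : (A.unop.left ⟶ X) => comp N (op A.unop.left) f') A.unop.hom

lemma ofA_mk (N : PMX R X) (Y : Cᵒᵖ) (f : Y.unop ⟶ X) (n : comp N Y f) :
    ofA N (op (Over.mk f)) n = DirectSum.of (fun f' : (Y.unop ⟶ X) => comp N Y f') f n := rfl

lemma ofA_rmap (N : PMX R X) {A B : (Over X)ᵒᵖ} (φ : A ⟶ B) (n : N.obj A) :
    ofA N B (rmap N φ n) = resT N (φ.unop.left.op : op A.unop.left ⟶ op B.unop.left) (ofA N A n) := by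
  unfold ofA
  rw [resT_of]
  exact of_congr N (Z := op B.unop.left) (Over.w φ.unop).symm _ _ rfl n

/-- the components of a morphism out of `p_! N`, as additive maps on `T N Y` -/
noncomputable def amapT (α : extObj N ⟶ Q) (Y : Cᵒᵖ) : T N Y →+ Q.obj Y := amap α Y

lemma amapT_resT (α : extObj N ⟶ Q) {Y Z : Cᵒᵖ} (g : Y ⟶ Z) (t : T N Y) :
    amapT α Z (resT N g t) = rmap Q g (amapT α Y t) :=
  amap_rmap α g t

lemma amapT_smul (α : extObj N ⟶ Q) (Y : Cᵒᵖ) (r : R.obj Y) (t : T N Y) :
    amapT α Y (r • t) = r • amapT α Y t :=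
  (α.app Y).hom.map_smul r t

/-- adjunction, forward direction on sections -/
noncomputable def toRApp (α : extObj N ⟶ Q) (A : (Over X)ᵒᵖ) :
    N.obj A →+ Q.obj (op A.unop.left) :=
  (amapT α (op A.unop.left)).comp (ofA N A)

lemma toRApp_smul (α : extObj N ⟶ Q) (Y : Cᵒᵖ) (f : Y.unop ⟶ X) (r : R.obj Y) (n : comp N Y f) :
    toRApp α (op (Over.mk f)) (r • n) = r • toRApp α (op (Over.mk f)) n := by
  unfold toRApp
  simp only [AddMonoidHom.comp_apply]
  rw [ofA_mk, ofA_mk, DirectSum.of_smul]
  exact amapT_smul α Y r _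

/-- adjunction, forward direction -/
noncomputable def toR (α : extObj N ⟶ Q) : N ⟶ (restrP R X).obj Q :=
  PresheafOfModules.homMk (M₁ := N) (M₂ := (restrP R X).obj Q)
    { app := fun A => AddCommGrpCat.ofHom (toRApp α A)
      naturality := fun A B φ => AddCommGrpCat.hom_ext (AddMonoidHom.ext fun n =>
        (congrArg (amapT α (op B.unop.left)) (ofA_rmap N φ n)).trans
          (amapT_resT α (φ.unop.left.op : op A.unop.left ⟶ op B.unop.left) (ofA N A n))) }
    (fun A r n => by
      obtain ⟨⟨Y, ⟨⟨⟩⟩, f⟩⟩ := A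
      exact toRApp_smul α (op Y) f r n)

lemma toR_app_apply (α : extObj N ⟶ Q) (A : (Over X)ᵒᵖ) (n : N.obj A) :
    (toR α).app A n = amapT α (op A.unop.left) (ofA N A n) := rfl

/-- adjunction, backward direction on sections -/
noncomputable def fromRApp (β : N ⟶ (restrP R X).obj Q) (Y : Cᵒᵖ) : T N Y →+ Q.obj Y :=
  DirectSum.toAddMonoid (fun f => amap β (op (Over.mk f)))

lemma fromRApp_of (β : N ⟶ (restrP R X).obj Q) (Y : Cᵒᵖ) (f : Y.unop ⟶ X) (n : comp N Y f) :
    fromRApp β Y (DirectSum.of _ f n) = amap β (op (Over.mk f)) n :=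
  DirectSum.toAddMonoid_of _ _ _

lemma fromRApp_resT (β : N ⟶ (restrP R X).obj Q) {Y Z : Cᵒᵖ} (g : Y ⟶ Z) (t : T N Y) :
    fromRApp β Z (resT N g t) = rmap Q g (fromRApp β Y t) := by
  induction t using DirectSum.induction_on with
  | zero => simp
  | of f n =>
    rw [resT_of, fromRApp_of, fromRApp_of]
    exact amap_rmap β (ovHom g f) n
  | add t t' ht ht' => rw [map_add, map_add, map_add, map_add, ht, ht']

lemma amap_smul' (β : N ⟶ (restrP R X).obj Q) (Y : Cᵒᵖ) (f : Y.unop ⟶ X) (r : R.obj Y)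
    (n : comp N Y f) :
    (amap β (op (Over.mk f)) (r • n) : Q.obj Y) = r • (amap β (op (Over.mk f)) n : Q.obj Y) :=
  (β.app (op (Over.mk f))).hom.map_smul r n

lemma fromRApp_smul (β : N ⟶ (restrP R X).obj Q) (Y : Cᵒᵖ) (r : R.obj Y) (t : T N Y) :
    fromRApp β Y (r • t) = r • fromRApp β Y t := by
  induction t using DirectSum.induction_on with
  | zero => simp
  | of f n =>
    rw [← DirectSum.of_smul, fromRApp_of, fromRApp_of]
    exact amap_smul' β Y f r n
  | add t t' ht ht' => rw [smul_add, map_add, map_add, smul_add, ht, ht']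

/-- adjunction, backward direction -/
noncomputable def fromR (β : N ⟶ (restrP R X).obj Q) : extObj N ⟶ Q :=
  PresheafOfModules.homMk (M₁ := extObj N) (M₂ := Q)
    { app := fun Y => AddCommGrpCat.ofHom (fromRApp β Y)
      naturality := fun Y Z g => AddCommGrpCat.hom_ext (AddMonoidHom.ext fun t =>
        fromRApp_resT β g t) }
    (fun Y r t => fromRApp_smul β Y r t)

lemma fromR_app_apply (β : N ⟶ (restrP R X).obj Q) (Y : Cᵒᵖ) (t : T N Y) :
    (fromR β).app Y t = fromRApp β Y t := rfl

end adjunction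

section adj

lemma fromR_toR {N : PMX R X} {Q : PMC R} (α : extObj N ⟶ Q) : fromR (toR α) = α := by
  refine PresheafOfModules.hom_ext (fun Y => ModuleCat.hom_ext (LinearMap.ext fun t => ?_))
  show fromRApp (toR α) Y t = amapT α Y t
  induction t using DirectSum.induction_on with
  | zero => simp
  | of f n => rw [fromRApp_of]; rfl
  | add t t' ht ht' => rw [map_add, map_add, ht, ht']

lemma toR_fromR {N : PMX R X} {Q : PMC R} (β : N ⟶ (restrP R X).obj Q) : toR (fromR β) = β := by
  refine PresheafOfModules.hom_ext (fun A => ModuleCat.hom_ext (LinearMap.ext fun n => ?_))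
  obtain ⟨⟨Y, ⟨⟨⟩⟩, f⟩⟩ := A
  exact fromRApp_of β (op Y) f n

/-- the hom-set bijection of the adjunction `p_! ⊣ restriction` -/
noncomputable def homEquiv (N : PMX R X) (Q : PMC R) :
    ((extF R X).obj N ⟶ Q) ≃ (N ⟶ (restrP R X).obj Q) where
  toFun := toR
  invFun := fromR
  left_inv := fromR_toR
  right_inv := toR_fromR

variable (R X) in
/-- the adjunction `p_! ⊣ restriction` -/
noncomputable def adj : extF R X ⊣ restrP R X :=
  Adjunction.mkOfHomEquiv
    { homEquiv := homEquiv
      homEquiv_naturality_left_symm := by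
        intro N N' Q a β
        refine PresheafOfModules.hom_ext (fun Y => ModuleCat.hom_ext (LinearMap.ext fun t => ?_))
        show fromRApp (a ≫ β) Y t = fromRApp β Y (mapT a Y t)
        induction t using DirectSum.induction_on with
        | zero => simp
        | of f n => rw [fromRApp_of, mapT_of, fromRApp_of]; rfl
        | add t t' ht ht' => rw [map_add, map_add, map_add, ht, ht']
      homEquiv_naturality_right := by
        intro N Q Q' α q
        refine PresheafOfModules.hom_ext (fun A => ModuleCat.hom_ext (LinearMap.ext fun n => ?_))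
        rfl }

end adj

section exact

instance : (extF R X).IsLeftAdjoint := (adj R X).isLeftAdjoint

instance : (restrP R X).IsRightAdjoint := (adj R X).isRightAdjoint

instance additive_extF : (extF R X).Additive := by
  have := preservesBinaryBiproducts_of_preservesBinaryCoproducts (extF R X)
  exact Functor.additive_of_preservesBinaryBiproducts _

lemma mono_extMap {N N' : PMX R X} (a : N ⟶ N') [Mono a] : Mono ((extF R X).map a) := by
  refine PresheafOfModules.mono_of_injective (fun Y => ?_)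
  show Function.Injective (mapT a Y)
  unfold mapT
  rw [DirectSum.map_injective]
  intro f
  exact PresheafOfModules.injective_of_mono a (op (Over.mk f))

/-- `p_!` is exact -/
instance preservesFiniteLimits_extF : PreservesFiniteLimits (extF R X) := by
  rw [Functor.preservesFiniteLimits_iff_forall_exact_map_and_mono]
  intro S hS
  have := hS.mono_f
  have := hS.epi_g
  exact ⟨hS.exact.map_of_epi_of_preservesCokernel (extF R X) inferInstance inferInstance,
    mono_extMap S.f⟩

end exact

section extra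

lemma resT_mapT_of {N N' : PMX R X} (a : N ⟶ N') {Y Z : Cᵒᵖ} (l : Y ⟶ Z) (f : Y.unop ⟶ X)
    (n : comp N Y f) :
    resT N' l (mapT a Y (DirectSum.of (fun f' : (Y.unop ⟶ X) => comp N Y f') f n)) =
      DirectSum.of (fun f' : (Z.unop ⟶ X) => comp N' Z f') (l.unop ≫ f)
        (rmap N' (ovHom l f) (amap a (op (Over.mk f)) n)) := by
  rw [mapT_of, resT_of]

lemma of_inj (N : PMX R X) (Y : Cᵒᵖ) (f : Y.unop ⟶ X) {n n' : comp N Y f}
    (h : DirectSum.of (fun f' : (Y.unop ⟶ X) => comp N Y f') f n =
      DirectSum.of (fun f' : (Y.unop ⟶ X) => comp N Y f') f n') : n = n' :=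
  DirectSum.of_injective (β := fun f' : (Y.unop ⟶ X) => comp N Y f') f h

end extra

end Groth.Agent.Lib.Helper21.ExtZeroPR
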