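import Mathlib
import Groth.Agent.Lib.Helper21.ExtZeroPR

/-!
Helper library (helper21): for a sheaf of (not necessarily commutative) rings `A` on a small site
and an object `X`, any left adjoint `j_!` of the restriction functor
`SheafOfModules.overFunctor A X` is `forget ⋙ p_! ⋙ sheafify`; it is exact and faithful.
(Port of `ExtZeroS` from `CommRingCat` to `RingCat`.)
-/

set_option autoImplicit false
universe u
open CategoryTheory Opposite Limits

namespace Groth.Agent.Lib.Helper21.ExtZeroSR

open Groth.Agent.Lib.Helper21.ExtZeroPR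
open scoped Classical

variable {C : Type u} [SmallCategory C] {J : GrothendieckTopology C} (A : Sheaf J RingCat.{u})
  (X : C)

/-- presheaves of modules over `A` -/
abbrev PM := PresheafOfModules.{u} A.obj

/-- sheaves of modules over `A` -/
abbrev SM := SheafOfModules.{u} A

/-- sheafification -/
noncomputable abbrev shf : PM A ⥤ SM A := PresheafOfModules.sheafification.{u} (𝟙 A.obj)

/-- the sheafification adjunction -/
noncomputable abbrev shfAdj : shf A ⊣ SheafOfModules.forget.{u} A :=
  PresheafOfModules.sheafificationAdjunction (𝟙 A.obj)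

/-- the forgetful functor -/
abbrev fPM : SM A ⥤ PM A := SheafOfModules.forget.{u} A

variable {A} in
/-- the underlying presheaf of modules -/
abbrev pv (M : SM A) : PM A := M.val

variable {A} in
/-- the underlying morphism of presheaves of modules -/
abbrev pvMap {M M' : SM A} (φ : M ⟶ M') : pv M ⟶ pv M' := φ.val

instance isIso_shf_map_unit (M : PM A) : IsIso ((shf A).map ((shfAdj A).unit.app M)) := by
  have h := (shfAdj A).left_triangle_components M
  have : IsIso ((shfAdj A).counit.app ((shf A).obj M)) := inferInstance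
  have h2 : IsIso ((shf A).map ((shfAdj A).unit.app M) ≫
      (shfAdj A).counit.app ((shf A).obj M)) := by
    rw [h]; infer_instance
  exact IsIso.of_isIso_comp_right _ ((shfAdj A).counit.app ((shf A).obj M))

/-- the unit of sheafification -/
noncomputable abbrev unitP (P : PM A) : P ⟶ pv ((shf A).obj P) := (shfAdj A).unit.app P

instance (P : PM A) : IsIso ((shf A).map (unitP A P)) := isIso_shf_map_unit A P

lemma unitP_naturality {P P' : PM A} (g : P ⟶ P') :
    g ≫ unitP A P' = unitP A P ≫ pvMap ((shf A).map g) :=
  (shfAdj A).unit.naturality g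

variable {A} in
theorem isIso_shf_map_iff {P P' : PM A} (f : P ⟶ P') :
    IsIso ((shf A).map f) ↔
      Presheaf.IsLocallyInjective J ((PresheafOfModules.toPresheaf _).map f) ∧
        Presheaf.IsLocallySurjective J ((PresheafOfModules.toPresheaf _).map f) := by
  rw [← isIso_iff_of_reflects_iso _ (SheafOfModules.toSheaf.{u} A),
    ← GrothendieckTopology.W_iff_isLocallyBijective]
  exact (GrothendieckTopology.W_iff (J := J) (A := AddCommGrpCat.{u})
    ((PresheafOfModules.toPresheaf _).map f)).symm

/-- the counit of sheafification at a sheaf, as an isomorphism -/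
noncomputable def shfValIso (M : SM A) : (shf A).obj (pv M) ≅ M :=
  @asIso _ _ _ _ ((shfAdj A).counit.app M) (NatIso.isIso_app_of_isIso _ _)

lemma shfValIso_naturality {M M' : SM A} (φ : M ⟶ M') :
    (shf A).map (pvMap φ) ≫ (shfValIso A M').hom = (shfValIso A M).hom ≫ φ :=
  (shfAdj A).counit.naturality φ

/-- `p_!` on presheaves of modules over `A` -/
noncomputable abbrev extP : PM (A.over X) ⥤ PM A := ExtZeroPR.extF A.obj X

/-- restriction on presheaves of modules over `A` -/
noncomputable abbrev resP : PM A ⥤ PM (A.over X) := ExtZeroPR.restrP A.obj X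

/-- the adjunction `p_! ⊣ restriction` -/
noncomputable abbrev adjP : extP A X ⊣ resP A X := ExtZeroPR.adj A.obj X

/-- restriction commutes with the forgetful functors -/
noncomputable def restrForgetIso :
    SheafOfModules.overFunctor.{u} A X ⋙ fPM (A.over X) ≅ fPM A ⋙ resP A X :=
  NatIso.ofComponents (fun M => PresheafOfModules.isoMk (fun _ => Iso.refl _)) (by
    intro M M' φ
    rfl)

variable {A X} in
/-- the two descriptions of the left adjoint of `restr ⋙ forget` -/
noncomputable def shfExtZeroIso {L : SM (A.over X) ⥤ SM A}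
    (adj : L ⊣ SheafOfModules.overFunctor.{u} A X) :
    shf (A.over X) ⋙ L ≅ extP A X ⋙ shf A :=
  ((shfAdj (A.over X)).comp adj).leftAdjointUniq
    (((adjP A X).comp (shfAdj A)).ofNatIsoRight (restrForgetIso A X).symm)

/-- the counit of sheafification as a natural isomorphism -/
noncomputable def shfCounitIso : fPM A ⋙ shf A ≅ 𝟭 (SM A) :=
  NatIso.ofComponents (fun M => shfValIso A M) (fun φ => shfValIso_naturality A φ)

variable {A X} in
/-- `j_! ≅ forget ⋙ p_! ⋙ sheafify` -/
noncomputable def extZeroIso {L : SM (A.over X) ⥤ SM A}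
    (adj : L ⊣ SheafOfModules.overFunctor.{u} A X) :
    L ≅ fPM (A.over X) ⋙ extP A X ⋙ shf A :=
  (Functor.leftUnitor _).symm ≪≫
    Functor.isoWhiskerRight (shfCounitIso (A.over X)).symm L ≪≫
    Functor.associator _ _ _ ≪≫
    Functor.isoWhiskerLeft (fPM (A.over X)) (shfExtZeroIso adj)

variable {A X} in
/-- `j_!` is exact -/
theorem preservesFiniteLimits_of_adj {L : SM (A.over X) ⥤ SM A}
    (adj : L ⊣ SheafOfModules.overFunctor.{u} A X) : PreservesFiniteLimits L := by
  have h1 : PreservesFiniteLimits (fPM (A.over X)) :=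
    (inferInstance : PreservesFiniteLimits (SheafOfModules.forget.{u} (A.over X)))
  have h2 : PreservesFiniteLimits (extP A X) := ExtZeroPR.preservesFiniteLimits_extF
  have h3 : PreservesFiniteLimits (shf A) :=
    (inferInstance : PreservesFiniteLimits (PresheafOfModules.sheafification.{u} (𝟙 A.obj)))
  have h4 : PreservesFiniteLimits (extP A X ⋙ shf A) := comp_preservesFiniteLimits _ _
  have h5 : PreservesFiniteLimits (fPM (A.over X) ⋙ extP A X ⋙ shf A) :=
    comp_preservesFiniteLimits _ _
  exact preservesFiniteLimits_of_natIso (extZeroIso adj).symm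

section faithful

open ExtZeroPR in
/-- `p_! ⋙ sheafify` is faithful on sheaves -/
theorem eq_of_shf_extP_eq {M M' : SM (A.over X)} (a b : M ⟶ M')
    (hab : (shf A).map ((extP A X).map (pvMap a)) = (shf A).map ((extP A X).map (pvMap b))) :
    a = b := by
  apply SheafOfModules.hom_ext
  refine PresheafOfModules.hom_ext (fun B => ModuleCat.hom_ext (LinearMap.ext fun n => ?_))
  obtain ⟨⟨Y, ⟨⟨⟩⟩, f⟩⟩ := B
  -- the two morphisms agree after composing with the unit of sheafification
  have e1 : (extP A X).map (pvMap a) ≫ unitP A ((extP A X).obj (pv M')) =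
      (extP A X).map (pvMap b) ≫ unitP A ((extP A X).obj (pv M')) := by
    rw [unitP_naturality, unitP_naturality, hab]
  have li : Presheaf.IsLocallyInjective J
      ((PresheafOfModules.toPresheaf _).map (unitP A ((extP A X).obj (pv M')))) :=
    ((isIso_shf_map_iff (unitP A ((extP A X).obj (pv M')))).1 inferInstance).1
  let t : T (pv M) (op Y) := DirectSum.of (fun f' : (Y ⟶ X) => comp (pv M) (op Y) f') f n
  have e2 : amap (unitP A ((extP A X).obj (pv M'))) (op Y) (mapT (pvMap a) (op Y) t) =
      amap (unitP A ((extP A X).obj (pv M'))) (op Y) (mapT (pvMap b) (op Y) t) :=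
    congrArg (fun φ => amap φ (op Y) t) e1
  have hS := Presheaf.equalizerSieve_mem J
    ((PresheafOfModules.toPresheaf _).map (unitP A ((extP A X).obj (pv M'))))
    (X := op Y) (mapT (pvMap a) (op Y) t) (mapT (pvMap b) (op Y) t) e2
  -- on the equalizer sieve the restrictions agree
  have key : ∀ {Z : C} (l : Z ⟶ Y),
      Presheaf.equalizerSieve (F := ((extP A X).obj (pv M')).presheaf) (X := op Y)
        (mapT (pvMap a) (op Y) t) (mapT (pvMap b) (op Y) t) l →
      rmap (pv M') (ovHom (X := X) l.op f) (amap (pvMap a) (op (Over.mk f)) n) =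
        rmap (pv M') (ovHom (X := X) l.op f) (amap (pvMap b) (op (Over.mk f)) n) := by
    intro Z l hl
    have h1 : resT (pv M') l.op (mapT (pvMap a) (op Y) t) =
        resT (pv M') l.op (mapT (pvMap b) (op Y) t) := hl
    exact of_inj (pv M') (op Z) (l ≫ f)
      ((resT_mapT_of (pvMap a) l.op f n).symm.trans (h1.trans (resT_mapT_of (pvMap b) l.op f n)))
  refine (M'.isSheaf.isSeparated) (Over.mk f) ((Sieve.overEquiv _).symm _)
    (J.overEquiv_symm_mem_over (Over.mk f) _ hS) _ _ (fun B g hg => ?_)
  have hg' := key g.left hg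
  let e : B ≅ Over.mk (g.left ≫ f) := Over.isoMk (Iso.refl _) (by simpa using Over.w g)
  have hge : g = e.hom ≫ Over.homMk g.left rfl := by
    ext
    simp [e]
  have hge' : g.op = ovHom (X := X) g.left.op f ≫ e.hom.op :=
    (congrArg Quiver.Hom.op hge).trans op_comp
  have h2 : ∀ x : (pv M').obj (op (Over.mk f)),
      rmap (pv M') g.op x = rmap (pv M') e.hom.op (rmap (pv M') (ovHom (X := X) g.left.op f) x) :=
    fun x => (congrArg (fun φ => rmap (pv M') φ x) hge').trans (rmap_comp (pv M') _ _ x)
  exact (h2 _).trans ((congrArg (rmap (pv M') e.hom.op) hg').trans (h2 _).symm)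

variable {A X} in
theorem faithful_of_adj {L : SM (A.over X) ⥤ SM A}
    (adj : L ⊣ SheafOfModules.overFunctor.{u} A X) : L.Faithful := by
  have h : (fPM (A.over X) ⋙ extP A X ⋙ shf A).Faithful :=
    ⟨fun {M M'} a b hab => eq_of_shf_extP_eq A X a b hab⟩
  exact Functor.Faithful.of_iso (extZeroIso adj).symm

end faithful

/-- restriction to `C/X` has a left adjoint -/
instance isRightAdjoint_overFunctor : (SheafOfModules.overFunctor.{u} A X).IsRightAdjoint :=
  inferInstanceAs (SheafOfModules.pushforward.{u} (𝟙 (A.over X))).IsRightAdjoint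

end Groth.Agent.Lib.Helper21.ExtZeroSR
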