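import Mathlib
import Groth.Prelude.Def_EtBase
import Groth.Agent.Lib.Helper1.EtSplit
import Groth.Agent.Lib.Helper21.FlcConn

/-!
# Total splitting of a finite étale morphism, étale locally on the base, in the language of the
small étale sites; sections of `(bc f).obj T → T`
-/

set_option autoImplicit false

open CategoryTheory CategoryTheory.Limits Opposite AlgebraicGeometry

namespace Groth.Agent.Lib.helper21.FEtPush1

open Groth.Agent.H1.EtSplit Groth.Agent.H1.FibRank Groth.Agent.Lib.Helper21.FlcConn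
  Groth.Agent.Lib.Helper21.EtGalois

universe u

section Plain

/-- transfer of a total splitting along cartesian squares of the sections -/
theorem psplit_of_isPullback {U T V U₂ T₂ V₂ : Scheme.{u}} (p : U ⟶ T) (e : V ⟶ T) {r : ℕ}
    (σ : Fin r → (V ⟶ U)) (hσ : ∀ i, σ i ≫ p = e)
    (p₂ : U₂ ⟶ T₂) (e₂ : V₂ ⟶ T₂) (σ₂ : Fin r → (V₂ ⟶ U₂)) (hσ₂ : ∀ i, σ₂ i ≫ p₂ = e₂)
    (β : pullback e₂ p₂ ⟶ pullback e p) (γ : V₂ ⟶ V)
    (sq : ∀ i, IsPullback (psec p₂ e₂ (σ₂ i) (hσ₂ i)) γ β (psec p e (σ i) (hσ i)))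
    (h : PSplit p e σ hσ) : PSplit p₂ e₂ σ₂ hσ₂ := by
  have hr : ∀ i, Set.range (psec p₂ e₂ (σ₂ i) (hσ₂ i)) =
      β ⁻¹' Set.range (psec p e (σ i) (hσ i)) :=
    fun i => range_fst_of_isPullback (sq i)
  refine ⟨fun x => ?_, fun i k hik => ?_⟩
  · obtain ⟨i, hi⟩ := h.1 (β x)
    exact ⟨i, by rw [hr i]; exact hi⟩
  · rw [hr i, hr k]
    exact (h.2 i k hik).preimage _

/-- a finite étale morphism splits totally étale locally around every point of the base -/
theorem exists_split {X Y : Scheme.{u}} (f : X ⟶ Y) [IsFinite f] [Etale f] (y : Y) :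
    ∃ (V : Y.Etale) (v : V.left) (r : ℕ) (σ : Fin r → (V.left ⟶ X))
      (hσ : ∀ i, σ i ≫ f = V.hom), V.hom v = y ∧ PSplit f V.hom σ hσ := by
  let r := f.finrank y
  have hlc : IsLocallyConstant f.finrank := Scheme.Hom.isLocallyConstant_finrank f
  let Y₀ : Y.Opens := ⟨f.finrank ⁻¹' {r}, hlc.isOpen_fiber r⟩
  let p' : pullback Y₀.ι f ⟶ Y₀ := pullback.fst Y₀.ι f
  have sq : IsPullback (pullback.snd Y₀.ι f) p' f Y₀.ι := (IsPullback.of_hasPullback Y₀.ι f).flip
  haveI : IsFinite p' := MorphismProperty.pullback_fst (P := @IsFinite) _ _ inferInstance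
  haveI : Etale p' := MorphismProperty.pullback_fst (P := @Etale) _ _ inferInstance
  have hff : FinFib p' := finFib_of_isFinite p'
  have hdeg : ∀ t, deg p' t = r := by
    intro t
    rw [deg_of_isPullback f (finFib_of_isFinite f) sq t, deg_eq_finrank]
    exact t.2
  obtain ⟨V', e, he, v, σ', hσ', hv, hsp⟩ := exists_psplit r p' hff hdeg ⟨y, rfl⟩
  let σ : Fin r → (V' ⟶ X) := fun i => σ' i ≫ pullback.snd Y₀.ι f
  have hσ : ∀ i, σ i ≫ f = e ≫ Y₀.ι := by
    intro i
    show (σ' i ≫ pullback.snd Y₀.ι f) ≫ f = e ≫ Y₀.ι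
    rw [Category.assoc, ← pullback.condition, ← Category.assoc]
    exact congrArg (fun k => k ≫ Y₀.ι) (hσ' i)
  refine ⟨@Scheme.Etale.mk _ _ (e ≫ Y₀.ι) inferInstance, v, r, σ, hσ, ?_, ?_⟩
  · show (e ≫ Y₀.ι) v = y
    rw [Scheme.Hom.comp_apply, hv]
    rfl
  · let c := pullbackRightPullbackFstIso Y₀.ι f e
    refine psplit_of_isPullback p' e σ' hσ' f (e ≫ Y₀.ι) σ hσ c.inv (𝟙 _) (fun i => ?_) hsp
    refine IsPullback.of_vert_isIso ⟨?_⟩
    rw [Iso.comp_inv_eq, Category.id_comp]
    apply pullback.hom_ext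
    · rw [Category.assoc, pullbackRightPullbackFstIso_hom_fst, psec_fst, psec_fst]
    · rw [Category.assoc, pullbackRightPullbackFstIso_hom_snd, psec_snd, psec_snd_assoc]

end Plain

section Site

variable {X Y : Scheme.{u}} (f : X ⟶ Y) [Etale f]

/-- a section `a` of `T ×_Y X → T`, viewed as an object of the small étale site of `X` -/
noncomputable def ov (T : Y.Etale) (a : T.left ⟶ X) (ha : a ≫ f = T.hom) : X.Etale :=
  MorphismProperty.Over.mk ⊤ a (by
    have h1 : Etale T.hom := T.prop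
    have h3 : Etale (a ≫ f) := ha ▸ h1
    exact MorphismProperty.of_postcomp (W := @Etale) (W' := @Etale) a f inferInstance h3)

/-- the section as a morphism of the small étale site of `X` -/
noncomputable def tau (T : Y.Etale) (a : T.left ⟶ X) (ha : a ≫ f = T.hom) :
    ov f T a ha ⟶ (EtCoh.bc f).obj T :=
  MorphismProperty.Over.homMk (psec f T.hom a ha) (psec_snd f T.hom a ha) trivial

/-- functoriality of `ov` in `T` -/
noncomputable def ovMap {T T' : Y.Etale} (g : T' ⟶ T) (a : T.left ⟶ X) (ha : a ≫ f = T.hom) :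
    ov f T' (g.left ≫ a) (by rw [Category.assoc, ha]; exact MorphismProperty.Over.w g) ⟶
      ov f T a ha :=
  MorphismProperty.Over.homMk g.left rfl trivial

lemma bc_map_fst {T T' : Y.Etale} (g : T' ⟶ T) :
    ((EtCoh.bc f).map g).left ≫ pullback.fst T.hom f = pullback.fst T'.hom f ≫ g.left :=
  (EtCoh.isPullback_bc_map f g).w

lemma bc_map_snd {T T' : Y.Etale} (g : T' ⟶ T) :
    ((EtCoh.bc f).map g).left ≫ pullback.snd T.hom f = pullback.snd T'.hom f :=
  MorphismProperty.Over.w ((EtCoh.bc f).map g)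

lemma psec_bc_map {T T' : Y.Etale} (g : T' ⟶ T) (a : T.left ⟶ X) (ha : a ≫ f = T.hom) :
    psec f T'.hom (g.left ≫ a) (by rw [Category.assoc, ha]; exact MorphismProperty.Over.w g) ≫
      ((EtCoh.bc f).map g).left = g.left ≫ psec f T.hom a ha := by
  apply pullback.hom_ext
  · refine (Category.assoc _ _ _).trans ?_
    refine (congrArg (fun k => _ ≫ k) (bc_map_fst f g)).trans ?_
    refine (Category.assoc _ _ _).symm.trans ?_
    refine (congrArg (fun k => k ≫ g.left) (psec_fst f T'.hom _ _)).trans ?_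
    refine (Category.id_comp _).trans ?_
    refine Eq.trans ?_ (Category.assoc _ _ _).symm
    refine Eq.trans ?_ (congrArg (fun k => g.left ≫ k) (psec_fst f T.hom a ha)).symm
    exact (Category.comp_id _).symm
  · refine (Category.assoc _ _ _).trans ?_
    refine (congrArg (fun k => _ ≫ k) (bc_map_snd f g)).trans ?_
    refine (psec_snd f T'.hom _ _).trans ?_
    refine Eq.trans ?_ (Category.assoc _ _ _).symm
    exact (congrArg (fun k => g.left ≫ k) (psec_snd f T.hom a ha)).symm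

lemma tau_nat {T T' : Y.Etale} (g : T' ⟶ T) (a : T.left ⟶ X) (ha : a ≫ f = T.hom) :
    tau f T' (g.left ≫ a) (by rw [Category.assoc, ha]; exact MorphismProperty.Over.w g) ≫
      (EtCoh.bc f).map g = ovMap f g a ha ≫ tau f T a ha := by
  apply MorphismProperty.Over.Hom.ext
  exact psec_bc_map f g a ha

/-- the sections cut out cartesian squares over `(bc f).map g` -/
lemma isPullback_psec {T T' : Y.Etale} (g : T' ⟶ T) (a : T.left ⟶ X) (ha : a ≫ f = T.hom) :
    IsPullback
      (psec f T'.hom (g.left ≫ a) (by rw [Category.assoc, ha]; exact MorphismProperty.Over.w g))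
      g.left ((EtCoh.bc f).map g).left (psec f T.hom a ha) := by
  refine IsPullback.of_right (h₁₂ := pullback.fst T'.hom f) (h₂₂ := pullback.fst T.hom f)
    (v₁₃ := g.left) ?_ (psec_bc_map f g a ha) (EtCoh.isPullback_bc_map f g).flip
  rw [psec_fst, psec_fst]
  exact IsPullback.id_horiz g.left

/-- total splittings are stable under base change in the small étale site -/
theorem psplit_bc {V T : Y.Etale} (q : T ⟶ V) {r : ℕ} (σ : Fin r → (V.left ⟶ X))
    (hσ : ∀ i, σ i ≫ f = V.hom) (h : PSplit f V.hom σ hσ) :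
    PSplit f T.hom (fun i => q.left ≫ σ i)
      (fun i => by rw [Category.assoc, hσ i]; exact MorphismProperty.Over.w q) :=
  psplit_of_isPullback f V.hom σ hσ f T.hom _ _ ((EtCoh.bc f).map q).left q.left
    (fun i => isPullback_psec f q (σ i) (hσ i)) h

end Site

section Site2

variable {X Y : Scheme.{u}} (f : X ⟶ Y) [Etale f]

/-- functoriality of `ov` in `T`, general form -/
noncomputable def ovMap' {T T' : Y.Etale} (g : T' ⟶ T) {a : T.left ⟶ X} (ha : a ≫ f = T.hom)
    {a' : T'.left ⟶ X} (ha' : a' ≫ f = T'.hom) (h : g.left ≫ a = a') :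
    ov f T' a' ha' ⟶ ov f T a ha :=
  MorphismProperty.Over.homMk g.left h trivial

lemma tau_nat' {T T' : Y.Etale} (g : T' ⟶ T) {a : T.left ⟶ X} (ha : a ≫ f = T.hom)
    {a' : T'.left ⟶ X} (ha' : a' ≫ f = T'.hom) (h : g.left ≫ a = a') :
    tau f T' a' ha' ≫ (EtCoh.bc f).map g = ovMap' f g ha ha' h ≫ tau f T a ha := by
  subst h
  exact tau_nat f g a ha

/-- `tau` is a monomorphism -/
lemma tau_mono (T : Y.Etale) (a : T.left ⟶ X) (ha : a ≫ f = T.hom) {Z : X.Etale}
    (g₁ g₂ : Z ⟶ ov f T a ha) (h : g₁ ≫ tau f T a ha = g₂ ≫ tau f T a ha) : g₁ = g₂ := by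
  apply MorphismProperty.Over.Hom.ext
  have h1 : g₁.left ≫ psec f T.hom a ha = g₂.left ≫ psec f T.hom a ha :=
    congrArg (fun k => k.left) h
  have e : ∀ k : Z.left ⟶ T.left, (k ≫ psec f T.hom a ha) ≫ pullback.fst T.hom f = k := fun k =>
    (Category.assoc _ _ _).trans
      ((congrArg (fun m => k ≫ m) (psec_fst f T.hom a ha)).trans (Category.comp_id _))
  exact (e g₁.left).symm.trans
    ((congrArg (fun k => k ≫ pullback.fst T.hom f) h1).trans (e g₂.left))

end Site2

/-- common refinement of finitely many pointed étale neighbourhoods -/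
lemma exists_common_fin {X : Scheme.{u}} {T : X.Etale} (t : T.left) :
    ∀ (r : ℕ) (A : Fin r → X.Etale) (g : ∀ i, A i ⟶ T) (a : ∀ i, (A i).left)
      (_ : ∀ i, (g i).left.base (a i) = t),
      ∃ (P : X.Etale) (k : P ⟶ T) (z : P.left) (h : ∀ i, P ⟶ A i),
        k.left.base z = t ∧ ∀ i, h i ≫ g i = k ∧ (h i).left.base z = a i := by
  intro r
  induction r with
  | zero =>
    intro A g a ha
    exact ⟨T, 𝟙 T, t, fun i => Fin.elim0 i, rfl, fun i => Fin.elim0 i⟩
  | succ r ih =>
    intro A g a ha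
    obtain ⟨P₀, k₀, z₀, h₀, hz₀, hh₀⟩ := ih (fun i => A i.castSucc) (fun i => g i.castSucc)
      (fun i => a i.castSucc) (fun i => ha i.castSucc)
    obtain ⟨P, k, k', z, hk, hz, hz'⟩ := exists_common k₀ (g (Fin.last r)) z₀ (a (Fin.last r))
      (hz₀.trans (ha (Fin.last r)).symm)
    refine ⟨P, k ≫ k₀, z, fun i => Fin.lastCases (motive := fun i => P ⟶ A i) k'
      (fun i => k ≫ h₀ i) i, ?_, fun i => ?_⟩
    · show k₀.left.base (k.left.base z) = t
      rw [hz, hz₀]
    · refine Fin.lastCases (motive := fun i =>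
        Fin.lastCases (motive := fun i => P ⟶ A i) k' (fun i => k ≫ h₀ i) i ≫ g i = k ≫ k₀ ∧
        (Fin.lastCases (motive := fun i => P ⟶ A i) k' (fun i => k ≫ h₀ i) i).left.base z = a i)
        ?_ (fun i => ?_) i
      · rw [Fin.lastCases_last]
        exact ⟨hk.symm, hz'⟩
      · rw [Fin.lastCases_castSucc]
        refine ⟨?_, ?_⟩
        · rw [Category.assoc, (hh₀ i).1]
        · show (h₀ i).left.base (k.left.base z) = a i.castSucc
          rw [hz, (hh₀ i).2]

end Groth.Agent.Lib.helper21.FEtPush1
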