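import Mathlib
import Groth.Prelude.Def_EtBase
import Groth.Agent.Lib.Helper1.EtGerm
import Groth.Agent.Lib.Helper21.FEtPush1
import Groth.Agent.Lib.Helper21.CardCrit1
import Groth.Agent.Lib.Helper21.FlcSerre

/-!
# The direct image of a finite locally constant sheaf along a totally split morphism
-/

set_option autoImplicit false

open CategoryTheory CategoryTheory.Limits Opposite AlgebraicGeometry

namespace Groth.Agent.Lib.helper21.FEtPush2

open Groth.Agent.H1.EtSplit Groth.Agent.Lib.Helper21.ConstGerm Groth.Agent.Lib.Helper21.FlcConn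
  Groth.Agent.Lib.Helper21.EtGalois Groth.Agent.Lib.Helper21.FlcExt
  Groth.Agent.Lib.helper21.FEtPush1

universe u

section Sec0

variable {X : Scheme.{u}} (F : EtCoh.Ab X) {U : X.Etale} {M : AddCommGrpCat.{u + 1}}
  (e : EtCoh.restr F U ≅ cst.{u + 1, u, u + 1} (X.smallEtaleTopology.over U) M)

/-- `sec0` as a homomorphism -/
noncomputable def sec0Hom {V : X.Etale} (q : V ⟶ U) : M →+ F.obj.obj (op V) :=
  AddMonoidHom.mk' (fun m => sec0 F e q m) (fun a a' => sec0_add F e q a a')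

lemma sec0_zero {V : X.Etale} (q : V ⟶ U) : sec0 F e q 0 = 0 :=
  (sec0Hom F e q).map_zero

lemma sec0_neg {V : X.Etale} (q : V ⟶ U) (m : M) : sec0 F e q (-m) = -sec0 F e q m :=
  (sec0Hom F e q).map_neg m

lemma map_eq_of_comp_eq {A B B' C : X.Etale} (f : A ⟶ B) (g : B ⟶ C) (f' : A ⟶ B') (g' : B' ⟶ C)
    (h : f ≫ g = f' ≫ g') (s : F.obj.obj (op C)) :
    F.obj.map f.op (F.obj.map g.op s) = F.obj.map f'.op (F.obj.map g'.op s) := by
  rw [← map_comp_apply, ← map_comp_apply, h]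

end Sec0

section Core

variable {X Y : Scheme.{u}} (f : X ⟶ Y) [Etale f] (F : EtCoh.Ab X) {V : Y.Etale} {r : ℕ}
  (σ : Fin r → (V.left ⟶ X)) (hσ : ∀ i, σ i ≫ f = V.hom)
  (hsp : PSplit f V.hom σ hσ)

include hsp in
/-- joint surjectivity of the sections -/
lemma tau_cover (x : ((EtCoh.bc f).obj V).left) :
    ∃ (i : Fin r) (y : (ov f V (σ i) (hσ i)).left), (tau f V (σ i) (hσ i)).left.base y = x := by
  obtain ⟨i, y, hy⟩ := hsp.1 x
  exact ⟨i, y, hy⟩

include hsp in
lemma sep_tau (s t : F.obj.obj (op ((EtCoh.bc f).obj V)))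
    (h : ∀ i, F.obj.map (tau f V (σ i) (hσ i)).op s = F.obj.map (tau f V (σ i) (hσ i)).op t) :
    s = t :=
  sep_arrows F (fun i => ov f V (σ i) (hσ i)) (fun i => tau f V (σ i) (hσ i))
    (tau_cover f σ hσ hsp) s t h

include hsp in
lemma glue_tau (x : ∀ i, F.obj.obj (op (ov f V (σ i) (hσ i)))) :
    ∃ t : F.obj.obj (op ((EtCoh.bc f).obj V)),
      ∀ i, F.obj.map (tau f V (σ i) (hσ i)).op t = x i := by
  obtain ⟨t, ht, -⟩ := glue_arrows' F (fun i => ov f V (σ i) (hσ i))
    (fun i => tau f V (σ i) (hσ i)) (tau_cover f σ hσ hsp) x (by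
      intro i j Z gi gj hg
      by_cases hij : i = j
      · subst hij
        rw [tau_mono f V (σ i) (hσ i) gi gj hg]
      · haveI : IsEmpty Z.left := by
          constructor
          intro z
          have h1 : (psec f V.hom (σ i) (hσ i)) (gi.left z) =
              (psec f V.hom (σ j) (hσ j)) (gj.left z) :=
            congrArg (fun k => k.left.base z) hg
          exact (Set.disjoint_left.1 (hsp.2 i j hij)) ⟨gi.left z, rfl⟩ ⟨gj.left z, h1.symm⟩
        haveI := Groth.Agent.H1.EtGerm.subsingleton_of_isEmpty F Z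
        exact Subsingleton.elim _ _)
  exact ⟨t, ht⟩

variable {U : Fin r → X.Etale} {M : Fin r → AddCommGrpCat.{u + 1}}
  (e : ∀ i, EtCoh.restr F (U i) ≅ cst.{u + 1, u, u + 1} (X.smallEtaleTopology.over (U i)) (M i))
  (b : ∀ i, ov f V (σ i) (hσ i) ⟶ U i)

/-- the subgroup of sections of `f_* F` over `V` all of whose components are constant -/
noncomputable def EE : AddSubgroup (F.obj.obj (op ((EtCoh.bc f).obj V))) where
  carrier := {s | ∀ i, ∃ m : M i, F.obj.map (tau f V (σ i) (hσ i)).op s = sec0 F (e i) (b i) m}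
  zero_mem' := fun i => ⟨0, by rw [map_zero, sec0_zero]⟩
  add_mem' := by
    intro s t hs ht i
    obtain ⟨m, hm⟩ := hs i
    obtain ⟨m', hm'⟩ := ht i
    exact ⟨m + m', by rw [map_add, hm, hm', sec0_add]⟩
  neg_mem' := by
    intro s hs i
    obtain ⟨m, hm⟩ := hs i
    exact ⟨-m, by rw [map_neg, hm, sec0_neg]⟩

lemma mem_EE (s : F.obj.obj (op ((EtCoh.bc f).obj V))) :
    s ∈ EE f F σ hσ e b ↔
      ∀ i, ∃ m : M i, F.obj.map (tau f V (σ i) (hσ i)).op s = sec0 F (e i) (b i) m :=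
  Iff.rfl

include hsp in
lemma finite_EE [∀ i, Finite (M i)] : Finite (EE f F σ hσ e b) := by
  classical
  let φ : EE f F σ hσ e b → (∀ i, M i) := fun s i => ((mem_EE f F σ hσ e b s.1).1 s.2 i).choose
  have hφ : ∀ (s : EE f F σ hσ e b) (i : Fin r),
      F.obj.map (tau f V (σ i) (hσ i)).op s.1 = sec0 F (e i) (b i) (φ s i) :=
    fun s i => ((mem_EE f F σ hσ e b s.1).1 s.2 i).choose_spec
  refine Finite.of_injective φ ?_
  intro s t hst
  apply Subtype.ext
  apply sep_tau f F σ hσ hsp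
  intro i
  rw [hφ s i, hφ t i, hst]

end Core

section Main

variable {X Y : Scheme.{u}} (f : X ⟶ Y) [Etale f] [EtCoh.BCCont f] (F : EtCoh.Ab X)
  {V : Y.Etale} {r : ℕ}
  (σ : Fin r → (V.left ⟶ X)) (hσ : ∀ i, σ i ≫ f = V.hom)
  (hsp : PSplit f V.hom σ hσ)
  {U : Fin r → X.Etale} {M : Fin r → AddCommGrpCat.{u + 1}}
  (e : ∀ i, EtCoh.restr F (U i) ≅ cst.{u + 1, u, u + 1} (X.smallEtaleTopology.over (U i)) (M i))
  (b : ∀ i, ov f V (σ i) (hσ i) ⟶ U i)

include hσ in
lemma hσq {T : Y.Etale} (q : T ⟶ V) (i : Fin r) : (q.left ≫ σ i) ≫ f = T.hom :=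
  (Category.assoc _ _ _).trans
    ((congrArg (fun k => q.left ≫ k) (hσ i)).trans (MorphismProperty.Over.w q))

/-- restriction of the components along `q : T ⟶ V` -/
lemma cmp_res {T : Y.Etale} (q : T ⟶ V) (i : Fin r) (t : F.obj.obj (op ((EtCoh.bc f).obj V))) :
    F.obj.map (tau f T (q.left ≫ σ i) (hσq f σ hσ q i)).op
      (F.obj.map ((EtCoh.bc f).map q).op t) =
    F.obj.map (ovMap f q (σ i) (hσ i)).op (F.obj.map (tau f V (σ i) (hσ i)).op t) :=
  map_eq_of_comp_eq F _ _ _ _ (tau_nat f q (σ i) (hσ i)) t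

include hsp in
theorem isIso_psi_EE :
    IsIso (psi ((EtCoh.push f).obj F) (U := V) (EE f F σ hσ e b)) := by
  apply Groth.Agent.Lib.helper21.CardCrit1.isIso_psi
  · intro T q hT t ht
    obtain ⟨p⟩ := hT
    apply Subtype.ext
    show t.1 = (0 : F.obj.obj (op ((EtCoh.bc f).obj V)))
    apply sep_tau f F σ hσ hsp
    intro i
    obtain ⟨m, hm⟩ := (mem_EE f F σ hσ e b t.1).1 t.2 i
    have h1 := cmp_res f F σ hσ q i t.1
    have ht' : F.obj.map ((EtCoh.bc f).map q).op t.1 = 0 := ht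
    rw [ht', map_zero, hm, sec0_nat] at h1
    have hm0 : m = 0 :=
      sec0_inj F (e i) (ovMap f q (σ i) (hσ i) ≫ b i) p m 0 (h1.symm.trans (sec0_zero F (e i) _).symm)
    rw [hm, hm0, sec0_zero, map_zero]
  · intro T q s p
    have key : ∀ i, ∃ (Z : X.Etale) (g : Z ⟶ ov f T (q.left ≫ σ i) (hσq f σ hσ q i))
        (z : Z.left), g.left.base z = p ∧ ∃ m : M i,
          F.obj.map g.op (F.obj.map (tau f T (q.left ≫ σ i) (hσq f σ hσ q i)).op s) =
            sec0 F (e i) (g ≫ ovMap f q (σ i) (hσ i) ≫ b i) m :=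
      fun i => exists_sec0 F (e i) (ovMap f q (σ i) (hσ i) ≫ b i) _ p
    choose Z gZ z hz m hm using key
    let A : Fin r → Y.Etale := fun i => MorphismProperty.Over.mk ⊤ ((gZ i).left ≫ T.hom) (by
      have h1 : Etale (gZ i).left := etale_left (gZ i)
      have h2 : Etale T.hom := T.prop
      exact MorphismProperty.comp_mem (W := @Etale) _ _ h1 h2)
    let gA : ∀ i, A i ⟶ T := fun i => MorphismProperty.Over.homMk (gZ i).left rfl trivial
    obtain ⟨T', g, p', h, hp', hh⟩ := exists_common_fin p r A gA z hz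
    obtain ⟨t, ht⟩ := glue_tau f F σ hσ hsp (fun i => sec0 F (e i) (b i) (m i))
    refine ⟨T', g, p', hp', ⟨t, (mem_EE f F σ hσ e b t).2 (fun i => ⟨m i, ht i⟩)⟩, ?_⟩
    show F.obj.map ((EtCoh.bc f).map g).op s = F.obj.map ((EtCoh.bc f).map (g ≫ q)).op t
    apply sep_tau f F (fun i => (g ≫ q).left ≫ σ i) (fun i => hσq f σ hσ (g ≫ q) i)
      (psplit_bc f (g ≫ q) σ hσ hsp)
    intro i
    -- the right-hand side
    have hR := cmp_res f F σ hσ (g ≫ q) i t
    rw [ht i, sec0_nat] at hR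
    -- the left-hand side
    have hgl : (h i).left ≫ (gZ i).left = g.left :=
      congrArg (fun k => k.left) (hh i).1
    have hc : g.left ≫ (q.left ≫ σ i) = (g ≫ q).left ≫ σ i := (Category.assoc _ _ _).symm
    let hhi : ov f T' ((g ≫ q).left ≫ σ i) (hσq f σ hσ (g ≫ q) i) ⟶ Z i :=
      MorphismProperty.Over.homMk (h i).left (by
        have e1 : (gZ i).left ≫ (q.left ≫ σ i) = (Z i).hom := MorphismProperty.Over.w (gZ i)
        show (h i).left ≫ (Z i).hom = (g ≫ q).left ≫ σ i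
        exact (congrArg (fun k => (h i).left ≫ k) e1.symm).trans
          ((Category.assoc _ _ _).symm.trans
            ((congrArg (fun k => k ≫ (q.left ≫ σ i)) hgl).trans hc))) trivial
    have hfac : ovMap' f g (hσq f σ hσ q i) (hσq f σ hσ (g ≫ q) i) hc = hhi ≫ gZ i := by
      apply MorphismProperty.Over.Hom.ext
      exact hgl.symm
    have hL : F.obj.map (tau f T' ((g ≫ q).left ≫ σ i) (hσq f σ hσ (g ≫ q) i)).op
        (F.obj.map ((EtCoh.bc f).map g).op s) =
        F.obj.map hhi.op (F.obj.map (gZ i).op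
          (F.obj.map (tau f T (q.left ≫ σ i) (hσq f σ hσ q i)).op s)) := by
      rw [← map_comp_apply F hhi (gZ i), ← hfac]
      exact map_eq_of_comp_eq F _ _ _ _
        (tau_nat' f g (hσq f σ hσ q i) (hσq f σ hσ (g ≫ q) i) hc) s
    rw [hm i, sec0_nat] at hL
    refine hL.trans (Eq.trans ?_ hR.symm)
    congr 1
    apply MorphismProperty.Over.Hom.ext
    show (h i).left ≫ (gZ i).left ≫ q.left ≫ (b i).left = (g ≫ q).left ≫ (b i).left
    rw [← Category.assoc, hgl]
    rfl

end Main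

section Final

open Groth.Agent.Lib.Helper21.FlcSerre

/-- around every point of the base, the direct image of a finite locally constant sheaf along a
finite étale morphism becomes constant with finite value group -/
theorem exists_triv_push {X Y : Scheme.{u}} (f : X ⟶ Y) [IsFinite f] [Etale f] [EtCoh.BCCont f]
    (F : EtCoh.Ab X) (hF : EtCoh.IsFiniteLocallyConstant F) (y : Y) :
    ∃ (Q : Y.Etale) (z : Q.left), Q.hom.base z = y ∧
      ∃ (K : Type) (_ : AddCommGroup K) (_ : Finite K),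
        Nonempty (EtCoh.restr ((EtCoh.push f).obj F) Q ≅
          (constantSheaf (Y.smallEtaleTopology.over Q) AddCommGrpCat.{u + 1}).obj
            (AddCommGrpCat.of (ULift.{u + 1} K))) := by
  obtain ⟨V₀, v₀, r, σ₀, hσ₀, hv₀, hsp₀⟩ := exists_split f y
  obtain ⟨ι, U, hU, hM⟩ := hF
  choose j u hu using fun i : Fin r => hU ((σ₀ i) v₀)
  choose M instM finM eM using fun i : Fin r => hM (j i)
  let W : Fin r → Y.Etale := fun i =>
    MorphismProperty.Over.mk ⊤ (pullback.fst (σ₀ i) (U (j i)).hom ≫ V₀.hom) (by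
      have h0 : Etale (U (j i)).hom := (U (j i)).prop
      have h1 : Etale (pullback.fst (σ₀ i) (U (j i)).hom) :=
        MorphismProperty.pullback_fst (P := @Etale) _ _ h0
      have h2 : Etale V₀.hom := V₀.prop
      exact MorphismProperty.comp_mem (W := @Etale) _ _ h1 h2)
  let gW : ∀ i, W i ⟶ V₀ := fun i =>
    MorphismProperty.Over.homMk (pullback.fst (σ₀ i) (U (j i)).hom) rfl trivial
  have hw : ∀ i, ∃ w : (W i).left, (gW i).left.base w = v₀ := by
    intro i
    obtain ⟨w, h1, -⟩ := Scheme.Pullback.exists_preimage_pullback (f := σ₀ i)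
      (g := (U (j i)).hom) v₀ (u i) (hu i).symm
    exact ⟨w, h1⟩
  choose w hw1 using hw
  obtain ⟨V, k, z, h, hz, hh⟩ := exists_common_fin v₀ r W gW w hw1
  let σ : Fin r → (V.left ⟶ X) := fun i => k.left ≫ σ₀ i
  have hσ : ∀ i, σ i ≫ f = V.hom := fun i => hσq f σ₀ hσ₀ k i
  have hsp : PSplit f V.hom σ hσ := psplit_bc f k σ₀ hσ₀ hsp₀
  let b : ∀ i, ov f V (σ i) (hσ i) ⟶ U (j i) := fun i =>
    MorphismProperty.Over.homMk ((h i).left ≫ pullback.snd (σ₀ i) (U (j i)).hom) (by
      show ((h i).left ≫ pullback.snd (σ₀ i) (U (j i)).hom) ≫ (U (j i)).hom = k.left ≫ σ₀ i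
      have e1 : (h i).left ≫ pullback.fst (σ₀ i) (U (j i)).hom = k.left :=
        congrArg (fun m => m.left) (hh i).1
      refine (Category.assoc _ _ _).trans ?_
      refine (congrArg (fun m => (h i).left ≫ m) pullback.condition.symm).trans ?_
      refine (Category.assoc _ _ _).symm.trans ?_
      exact congrArg (fun m => m ≫ σ₀ i) e1) trivial
  let e : ∀ i, EtCoh.restr F (U (j i)) ≅ cst.{u + 1, u, u + 1}
      (X.smallEtaleTopology.over (U (j i))) (AddCommGrpCat.of (ULift.{u + 1} (M i))) :=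
    fun i => (eM i).some
  haveI : ∀ i, Finite (AddCommGrpCat.of (ULift.{u + 1} (M i))) := fun i =>
    inferInstanceAs (Finite (ULift.{u + 1} (M i)))
  haveI hiso := isIso_psi_EE f F σ hσ hsp e b
  haveI hfin : Finite (EE f F σ hσ e b) := finite_EE f F σ hσ hsp e b
  haveI : Finite (AddCommGrpCat.of (EE f F σ hσ e b)) := hfin
  obtain ⟨K, i1, i2, ⟨eK⟩⟩ := exists_type0_model (AddCommGrpCat.of (EE f F σ hσ e b))
  refine ⟨V, z, ?_, K, i1, i2, ⟨(asIso (psi ((EtCoh.push f).obj F) (U := V)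
    (EE f F σ hσ e b))).symm ≪≫
      (constantSheaf (Y.smallEtaleTopology.over V) AddCommGrpCat.{u + 1}).mapIso eK⟩⟩
  have e1 : k.left ≫ V₀.hom = V.hom := MorphismProperty.Over.w k
  rw [← e1]
  show V₀.hom.base (k.left.base z) = y
  rw [hz]
  exact hv₀

/-- the direct image of a finite locally constant sheaf along a finite étale morphism is finite
locally constant -/
theorem flc_push {X Y : Scheme.{u}} (f : X ⟶ Y) [IsFinite f] [Etale f] [EtCoh.BCCont f]
    (F : EtCoh.Ab X) (hF : EtCoh.IsFiniteLocallyConstant F) :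
    EtCoh.IsFiniteLocallyConstant ((EtCoh.push f).obj F) := by
  choose Q z hz hK using exists_triv_push f F hF
  exact ⟨Y, Q, fun y => ⟨y, z y, hz y⟩, hK⟩

end Final

end Groth.Agent.Lib.helper21.FEtPush2
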