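import Mathlib
import Groth.Prelude.Def_EtBase
import Groth.Prelude.Def_EtShriek2
import Groth.Agent.Lib.Helper1.ExtZeroToPush
import Groth.Agent.Lib.Helper18.JCont
import Groth.Agent.S0650
import Groth.Agent.Lib.Helper21.FEtPush2
import Groth.Agent.Lib.Helper21.ConstVal

/-!
# `f_! ≅ f_*` for a finite étale morphism: preparations
-/

set_option autoImplicit false

open CategoryTheory CategoryTheory.Limits Opposite AlgebraicGeometry

namespace Groth.Agent.Lib.helper21.FEtTrace1

open Groth.Agent.H1.EtSplit Groth.Agent.H1.FibRank Groth.Agent.Lib.Helper21.FlcConn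
  Groth.Agent.Lib.Helper21.EtGalois Groth.Agent.Lib.helper21.FEtPush1
  Groth.Agent.Lib.helper21.FEtPush2 Groth.Agent.H1.ClopenExt Groth.Agent.H1.ExtZeroToPush

universe u

section Split

/-- a finite étale morphism splits totally étale locally around every point of the base, with as
many sheets as the rank at that point -/
theorem exists_split' {X Y : Scheme.{u}} (f : X ⟶ Y) [IsFinite f] [Etale f] (y : Y) :
    ∃ (V : Y.Etale) (v : V.left) (σ : Fin (f.finrank y) → (V.left ⟶ X))
      (hσ : ∀ i, σ i ≫ f = V.hom), V.hom v = y ∧ PSplit f V.hom σ hσ := by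
  let r := f.finrank y
  have hlc : IsLocallyConstant f.finrank := Scheme.Hom.isLocallyConstant_finrank f
  let Y₀ : Y.Opens := ⟨f.finrank ⁻¹' {r}, hlc.isOpen_fiber r⟩
  let p' : pullback Y₀.ι f ⟶ Y₀ := pullback.fst Y₀.ι f
  have sq : IsPullback (pullback.snd Y₀.ι f) p' f Y₀.ι := (IsPullback.of_hasPullback Y₀.ι f).flip
  haveI : IsFinite p' := MorphismProperty.pullback_fst (P := @IsFinite) _ _ inferInstance
  haveI : Etale p' := MorphismProperty.pullback_fst (P := @Etale) _ _ inferInstance
  have hff : FinFib p' := finFib_of_isFinite p'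
  have hdeg : ∀ t, deg p' t = r := by
    intro t
    rw [deg_of_isPullback f (finFib_of_isFinite f) sq t, deg_eq_finrank]
    exact t.2
  obtain ⟨V', e, he, v, σ', hσ', hv, hsp⟩ := exists_psplit r p' hff hdeg ⟨y, rfl⟩
  let σ : Fin r → (V' ⟶ X) := fun i => σ' i ≫ pullback.snd Y₀.ι f
  have hσ : ∀ i, σ i ≫ f = e ≫ Y₀.ι := by
    intro i
    show (σ' i ≫ pullback.snd Y₀.ι f) ≫ f = e ≫ Y₀.ι
    rw [Category.assoc, ← pullback.condition, ← Category.assoc]
    exact congrArg (fun k => k ≫ Y₀.ι) (hσ' i)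
  refine ⟨@Scheme.Etale.mk _ _ (e ≫ Y₀.ι) inferInstance, v, σ, hσ, ?_, ?_⟩
  · show (e ≫ Y₀.ι) v = y
    rw [Scheme.Hom.comp_apply, hv]
    rfl
  · let c := pullbackRightPullbackFstIso Y₀.ι f e
    refine psplit_of_isPullback p' e σ' hσ' f (e ≫ Y₀.ι) σ hσ c.inv (𝟙 _) (fun i => ?_) hsp
    refine IsPullback.of_vert_isIso ⟨?_⟩
    rw [Iso.comp_inv_eq, Category.id_comp]
    apply pullback.hom_ext
    · rw [Category.assoc, pullbackRightPullbackFstIso_hom_fst, psec_fst, psec_fst]
    · rw [Category.assoc, pullbackRightPullbackFstIso_hom_snd, psec_snd, psec_snd_assoc]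

/-- total splitting over an étale neighbourhood refining a given one -/
theorem exists_split_over {X Y : Scheme.{u}} (f : X ⟶ Y) [IsFinite f] [Etale f] (V₀ : Y.Etale)
    (x : V₀.left) :
    ∃ (V : Y.Etale) (g : V ⟶ V₀) (v : V.left) (σ : Fin (f.finrank (V₀.hom x)) → (V.left ⟶ X))
      (hσ : ∀ i, σ i ≫ f = V.hom), g.left.base v = x ∧ PSplit f V.hom σ hσ := by
  obtain ⟨V₁, v₁, σ₁, hσ₁, hv₁, hsp₁⟩ := exists_split' f (V₀.hom x)
  let f₁ : V₁ ⟶ EtCoh.top Y := MorphismProperty.Over.homMk V₁.hom (Category.comp_id _) trivial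
  let f₂ : V₀ ⟶ EtCoh.top Y := MorphismProperty.Over.homMk V₀.hom (Category.comp_id _) trivial
  obtain ⟨P, k, k', z, -, hz, hz'⟩ := exists_common f₁ f₂ v₁ x hv₁
  exact ⟨P, k', z, fun i => k.left ≫ σ₁ i, fun i => hσq f σ₁ hσ₁ k i, hz',
    psplit_bc f k σ₁ hσ₁ hsp₁⟩

end Split

section Clopen

variable {X Y : Scheme.{u}} (f : X ⟶ Y) [Etale f] [IsSeparated f]

/-- sections of `T ×_Y X → T` are open and closed immersions -/
theorem isClopen_tau (T : Y.Etale) (a : T.left ⟶ X) (ha : a ≫ f = T.hom) :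
    IsClopen (tau f T a ha) where
  open_imm := by
    haveI : Etale (pullback.fst T.hom f) :=
      MorphismProperty.pullback_fst (P := @Etale) _ _ inferInstance
    exact Groth.Agent.S0660.isOpenImmersion_of_section (psec f T.hom a ha) (pullback.fst T.hom f)
      (psec_fst f T.hom a ha)
  closed_range := by
    haveI : IsSeparated (pullback.fst T.hom f) :=
      MorphismProperty.pullback_fst (P := @IsSeparated) _ _ inferInstance
    have h1 : IsClosedImmersion (psec f T.hom a ha ≫ pullback.fst T.hom f) := by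
      rw [psec_fst]
      infer_instance
    have h2 : IsClosedImmersion (psec f T.hom a ha) :=
      IsClosedImmersion.of_comp _ (pullback.fst T.hom f)
    exact (psec f T.hom a ha).isClosedEmbedding.isClosed_range

end Clopen

section Decomp

variable {X Y : Scheme.{u}} (f : X ⟶ Y) [Etale f] [IsSeparated f] (G : EtCoh.Ab X)
  {V : Y.Etale} {r : ℕ}
  (σ : Fin r → (V.left ⟶ X)) (hσ : ∀ i, σ i ≫ f = V.hom)
  (hsp : PSplit f V.hom σ hσ)

include hsp in
/-- over a total splitting every section of `f_* G` is the sum of the extensions by zero of its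
components -/
theorem decomp (u : G.obj.obj (op ((EtCoh.bc f).obj V))) :
    u = ∑ i, extZ G (isClopen_tau f V (σ i) (hσ i)) (G.obj.map (tau f V (σ i) (hσ i)).op u) := by
  classical
  apply sep_tau f G σ hσ hsp
  intro k
  rw [map_sum]
  rw [Finset.sum_eq_single k]
  · rw [map_extZ]
  · intro i _ hik
    apply map_extZ_of_disjoint
    intro x hx
    obtain ⟨y, hy⟩ := hx
    exact (Set.disjoint_left.1 (hsp.2 k i (Ne.symm hik))) ⟨x, rfl⟩ ⟨y, hy⟩
  · intro hk
    exact (hk (Finset.mem_univ k)).elim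

end Decomp

section Key

variable {X Y : Scheme.{u}} (f : X ⟶ Y) [Etale f] [IsSeparated f] [EtShriek.JCont f]
  [EtCoh.BCCont f] (G : EtCoh.Ab X)

/-- the identification of `compEtale f (ov f T a)` with `T` -/
noncomputable def θ (T : Y.Etale) (a : T.left ⟶ X) (ha : a ≫ f = T.hom) :
    (EtShriek.compEtale f).obj (ov f T a ha) ≅ T :=
  MorphismProperty.Over.isoMk (Iso.refl _) ((Category.id_comp _).trans ha.symm)

lemma Γ_θ (T : Y.Etale) (a : T.left ⟶ X) (ha : a ≫ f = T.hom) :
    Γ f (ov f T a ha) ≫ (EtCoh.bc f).map (θ f T a ha).hom = tau f T a ha := by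
  apply MorphismProperty.Over.Hom.ext
  apply pullback.hom_ext
  · refine (Category.assoc _ _ _).trans ?_
    refine (congrArg (fun k => _ ≫ k) (bc_map_fst f (θ f T a ha).hom)).trans ?_
    refine (Category.assoc _ _ _).symm.trans ?_
    refine (congrArg (fun k => k ≫ (θ f T a ha).hom.left) (Γ_pr f (ov f T a ha))).trans ?_
    refine (Category.id_comp _).trans ?_
    exact (psec_fst f T.hom a ha).symm
  · refine (Category.assoc _ _ _).trans ?_
    refine (congrArg (fun k => _ ≫ k) (bc_map_snd f (θ f T a ha).hom)).trans ?_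
    refine (Γ_snd f (ov f T a ha)).trans ?_
    exact (psec_snd f T.hom a ha).symm

lemma tau_θ_inv (T : Y.Etale) (a : T.left ⟶ X) (ha : a ≫ f = T.hom) :
    tau f T a ha ≫ (EtCoh.bc f).map (θ f T a ha).inv = Γ f (ov f T a ha) := by
  rw [← Γ_θ, Category.assoc, ← Functor.map_comp, Iso.hom_inv_id, CategoryTheory.Functor.map_id,
    Category.comp_id]

/-- the key computation: `τ` sends the unit sections to extensions by zero -/
theorem tau_unit (T : Y.Etale) (a : T.left ⟶ X) (ha : a ≫ f = T.hom)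
    (t : G.obj.obj (op (ov f T a ha))) :
    ((τ f).app G).hom.app (op T)
      (((EtShriek.extZero f).obj G).obj.map (θ f T a ha).inv.op
        (((EtShriek.extZeroAdj f).unit.app G).hom.app (op (ov f T a ha)) t)) =
    extZ G (isClopen_tau f T a ha) t := by
  have nat := ConcreteCategory.congr_hom (((τ f).app G).hom.naturality (θ f T a ha).inv.op)
    (((EtShriek.extZeroAdj f).unit.app G).hom.app (op (ov f T a ha)) t)
  rw [ConcreteCategory.comp_apply, ConcreteCategory.comp_apply] at nat
  refine nat.trans ?_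
  have hu := congrArg (fun k : G ⟶ (EtShriek.restrAlong f).obj ((EtCoh.push f).obj G) =>
    k.hom.app (op (ov f T a ha)) t) (unit_τ f G)
  have hu' : ((τ f).app G).hom.app (op ((EtShriek.compEtale f).obj (ov f T a ha)))
      (((EtShriek.extZeroAdj f).unit.app G).hom.app (op (ov f T a ha)) t) =
      extZ G (isClopen_Γ f (ov f T a ha)) t := hu
  rw [hu']
  have h := map_extZ_of_square G (isClopen_Γ f (ov f T a ha)) (isClopen_tau f T a ha)
    ((EtCoh.bc f).map (θ f T a ha).inv) (𝟙 _)
    ((tau_θ_inv f T a ha).trans (Category.id_comp _).symm) (by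
      intro x hx
      obtain ⟨w, hw⟩ := hx
      refine ⟨w, ?_⟩
      have e1 := congrArg (fun k => k.left.base w) (Γ_θ f T a ha)
      have e2 : ((EtCoh.bc f).map (θ f T a ha).hom).left.base
          (((EtCoh.bc f).map (θ f T a ha).inv).left.base x) = x := by
        have e3 : (EtCoh.bc f).map (θ f T a ha).inv ≫ (EtCoh.bc f).map (θ f T a ha).hom = 𝟙 _ := by
          rw [← Functor.map_comp, Iso.inv_hom_id, CategoryTheory.Functor.map_id]
        exact congrArg (fun k => k.left.base x) e3
      rw [← e2, ← hw]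
      exact e1.symm) t
  refine h.trans ?_
  rw [map_id_apply]

end Key

section Iso

variable {X Y : Scheme.{u}} (f : X ⟶ Y) [IsFinite f] [Etale f] [EtShriek.JCont f]
  [EtCoh.BCCont f]

/-- for a finite étale morphism the comparison `f_! ⟶ f_*` is an epimorphism -/
theorem epi_tau (G : EtCoh.Ab X) : Epi ((τ f).app G) := by
  rw [← Sheaf.isLocallySurjective_iff_epi' (A := AddCommGrpCat.{u + 1}) (φ := (τ f).app G)]
  constructor
  intro V₀ u
  apply Groth.Agent.Lib.helper21.ConstVal.mem_of_pointwise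
  intro x
  obtain ⟨V, g, v, σ, hσ, hv, hsp⟩ := exists_split_over f V₀ x
  refine ⟨V, g, v, ?_, hv⟩
  let u' : G.obj.obj (op ((EtCoh.bc f).obj V)) := ((EtCoh.push f).obj G).obj.map g.op u
  refine ⟨∑ i, ((EtShriek.extZero f).obj G).obj.map (θ f V (σ i) (hσ i)).inv.op
    (((EtShriek.extZeroAdj f).unit.app G).hom.app (op (ov f V (σ i) (hσ i)))
      (G.obj.map (tau f V (σ i) (hσ i)).op u')), ?_⟩
  rw [map_sum]
  refine Eq.trans ?_ (decomp f G σ hσ hsp u').symm
  exact Finset.sum_congr rfl (fun i _ => tau_unit f G V (σ i) (hσ i) _)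

instance isIso_tau_app (G : EtCoh.Ab X) : IsIso ((τ f).app G) := by
  haveI : Mono ((τ f).app G) :=
    Groth.Agent.H1.EtStalk.mono_of_stalk _ (fun s => Groth.Agent.S0650.injective_stalk_τ
      (ξ := Groth.Agent.H1.EtStalk.geomPt Y s) G)
  haveI := epi_tau f G
  exact isIso_of_mono_of_epi _

instance isIso_tau : IsIso (τ f) := NatIso.isIso_of_isIso_app _

end Iso

end Groth.Agent.Lib.helper21.FEtTrace1
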