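import Mathlib
import Groth.Agent.Lib.Helper21.FEtTrace1
import Groth.Agent.Lib.Helper1.EtStalkPull

/-!
# `f_* ⊣ f^*` for a finite étale morphism, and the trace identity
-/

set_option autoImplicit false

open CategoryTheory CategoryTheory.Limits Opposite AlgebraicGeometry

namespace Groth.Agent.Lib.helper21.FEtTrace2

open Groth.Agent.H1.EtSplit Groth.Agent.Lib.Helper21.FlcConn
  Groth.Agent.Lib.Helper21.EtGalois Groth.Agent.Lib.helper21.FEtPush1
  Groth.Agent.Lib.helper21.FEtPush2 Groth.Agent.H1.ClopenExt Groth.Agent.H1.ExtZeroToPush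
  Groth.Agent.Lib.helper21.FEtTrace1

universe u

variable {X' X : Scheme.{u}} (π : X' ⟶ X) [IsFinite π] [Etale π] [EtShriek.JCont π]
  [EtCoh.BCCont π]

/-- the endomorphism `F → π_* π⁻¹ F ≅ π_! π⁻¹ F → F` -/
noncomputable def Φ (F : EtCoh.Ab X) : F ⟶ F :=
  (Groth.Agent.S0651.adj3 π).unit.app F ≫ (inv (τ π)).app ((EtShriek.restrAlong π).obj F) ≫
    (EtShriek.extZeroAdj π).counit.app F

lemma inv_tau_apply (G : EtCoh.Ab X') (V : X.Etale)
    (b : ((EtShriek.extZero π).obj G).obj.obj (op V)) :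
    ((inv (τ π)).app G).hom.app (op V) (((τ π).app G).hom.app (op V) b) = b := by
  have h : (τ π).app G ≫ (inv (τ π)).app G = 𝟙 _ := by
    rw [← NatTrans.comp_app, IsIso.hom_inv_id]
    rfl
  exact congrArg (fun k : (EtShriek.extZero π).obj G ⟶ (EtShriek.extZero π).obj G =>
    k.hom.app (op V) b) h

section Local

variable (F : EtCoh.Ab X) {V : X.Etale} {r : ℕ}
  (σ : Fin r → (V.left ⟶ X')) (hσ : ∀ i, σ i ≫ π = V.hom)
  (hsp : PSplit π V.hom σ hσ)

/-- the unit of `π⁻¹ ⊣ π_*` on sections -/
lemma unit3_apply (s : F.obj.obj (op V)) :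
    ((Groth.Agent.S0651.adj3 π).unit.app F).hom.app (op V) s =
      F.obj.map ((Groth.Agent.S0651.adj0 π).counit.app V).op s := by
  rfl

lemma comp_counit (i : Fin r) :
    (EtShriek.compEtale π).map (tau π V (σ i) (hσ i)) ≫ (Groth.Agent.S0651.adj0 π).counit.app V =
      (θ π V (σ i) (hσ i)).hom := by
  apply MorphismProperty.Over.Hom.ext
  exact psec_fst π V.hom (σ i) (hσ i)

end Local

section LocalMain

variable (F : EtCoh.Ab X) {V : X.Etale} {r : ℕ}
  (σ : Fin r → (V.left ⟶ X')) (hσ : ∀ i, σ i ≫ π = V.hom)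
  (hsp : PSplit π V.hom σ hσ)

/-- the `i`-th component of the pulled back section -/
lemma component_unit3 (s : F.obj.obj (op V)) (i : Fin r) :
    ((EtShriek.restrAlong π).obj F).obj.map (tau π V (σ i) (hσ i)).op
      (((Groth.Agent.S0651.adj3 π).unit.app F).hom.app (op V) s) =
    F.obj.map (θ π V (σ i) (hσ i)).hom.op s := by
  rw [unit3_apply]
  show F.obj.map ((EtShriek.compEtale π).map (tau π V (σ i) (hσ i))).op
    (F.obj.map ((Groth.Agent.S0651.adj0 π).counit.app V).op s) = _
  rw [← map_comp_apply, comp_counit]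

/-- the counit of `π_! ⊣ π⁻¹` on unit sections -/
lemma counit_unit0 (W : X'.Etale)
    (t : ((EtShriek.restrAlong π).obj F).obj.obj (op W)) :
    ((EtShriek.extZeroAdj π).counit.app F).hom.app (op ((EtShriek.compEtale π).obj W))
      (((EtShriek.extZeroAdj π).unit.app ((EtShriek.restrAlong π).obj F)).hom.app (op W) t) = t := by
  have h := (EtShriek.extZeroAdj π).right_triangle_components F
  exact congrArg (fun k : (EtShriek.restrAlong π).obj F ⟶ (EtShriek.restrAlong π).obj F =>
    k.hom.app (op W) t) h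

include hsp in
/-- over a total splitting with `r` sheets, `Φ` is multiplication by `r` -/
theorem Phi_apply_of_split (s : F.obj.obj (op V)) :
    (Φ π F).hom.app (op V) s = r • s := by
  classical
  let RF := (EtShriek.restrAlong π).obj F
  let p : RF.obj.obj (op ((EtCoh.bc π).obj V)) :=
    ((Groth.Agent.S0651.adj3 π).unit.app F).hom.app (op V) s
  let b : Fin r → ((EtShriek.extZero π).obj RF).obj.obj (op V) := fun i =>
    ((EtShriek.extZero π).obj RF).obj.map (θ π V (σ i) (hσ i)).inv.op
      (((EtShriek.extZeroAdj π).unit.app RF).hom.app (op (ov π V (σ i) (hσ i)))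
        (RF.obj.map (tau π V (σ i) (hσ i)).op p))
  have hp : p = ((τ π).app RF).hom.app (op V) (∑ i, b i) := by
    rw [map_sum]
    refine (decomp π RF σ hσ hsp p).trans ?_
    exact Finset.sum_congr rfl (fun i _ => (tau_unit π RF V (σ i) (hσ i) _).symm)
  have h1 : ((inv (τ π)).app RF).hom.app (op V) p = ∑ i, b i := by
    rw [hp, inv_tau_apply]
  have h2 : ∀ i, ((EtShriek.extZeroAdj π).counit.app F).hom.app (op V) (b i) = s := by
    intro i
    have nat := ConcreteCategory.congr_hom
      (((EtShriek.extZeroAdj π).counit.app F).hom.naturality (θ π V (σ i) (hσ i)).inv.op)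
      (((EtShriek.extZeroAdj π).unit.app RF).hom.app (op (ov π V (σ i) (hσ i)))
        (RF.obj.map (tau π V (σ i) (hσ i)).op p))
    rw [ConcreteCategory.comp_apply, ConcreteCategory.comp_apply] at nat
    refine nat.trans ?_
    rw [counit_unit0, component_unit3]
    show F.obj.map (θ π V (σ i) (hσ i)).inv.op (F.obj.map (θ π V (σ i) (hσ i)).hom.op s) = s
    rw [← map_comp_apply, Iso.inv_hom_id, map_id_apply]
  show ((EtShriek.extZeroAdj π).counit.app F).hom.app (op V)
    (((inv (τ π)).app RF).hom.app (op V) p) = r • s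
  rw [h1, map_sum]
  rw [Finset.sum_congr rfl (fun i _ => h2 i)]
  simp

end LocalMain

section Global

lemma nsmul_id_apply {Z : Scheme.{u}} (F : EtCoh.Ab Z) (d : ℕ) (V : Z.Etaleᵒᵖ)
    (s : F.obj.obj V) : (d • 𝟙 F : F ⟶ F).hom.app V s = d • s := by
  induction d with
  | zero =>
    rw [zero_smul, zero_smul]
    rfl
  | succ n ih =>
    rw [succ_nsmul, succ_nsmul, ← ih]
    rfl

/-- the trace identity: `F → π_* π⁻¹ F ≅ π_! π⁻¹ F → F` is multiplication by the degree -/
theorem Phi_eq (d : ℕ) (hd : ∀ x : X, π.finrank x = d) (F : EtCoh.Ab X) :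
    Φ π F = d • 𝟙 F := by
  apply Sheaf.hom_ext
  apply NatTrans.ext
  funext V₀
  induction V₀ using Opposite.rec with | _ V₀ => ?_
  ext s
  refine Eq.trans ?_ (nsmul_id_apply F d (op V₀) s).symm
  choose Vx g v σ hσ hv hsp using exists_split_over π V₀
  apply sep_arrows F (fun x : V₀.left => Vx x) g (fun x => ⟨x, v x, hv x⟩)
  intro x
  have nat := ConcreteCategory.congr_hom ((Φ π F).hom.naturality (g x).op) s
  rw [ConcreteCategory.comp_apply, ConcreteCategory.comp_apply] at nat
  refine nat.symm.trans ?_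
  rw [Phi_apply_of_split π F (σ x) (hσ x) (hsp x), hd, map_nsmul]

end Global

section Adj

/-- for a finite étale morphism `π_*` is left adjoint to `π⁻¹` -/
noncomputable def adj : EtCoh.push π ⊣ EtCoh.pull π :=
  ((EtShriek.extZeroAdj π).ofNatIsoLeft (asIso (τ π))).ofNatIsoRight
    (Groth.Agent.H1.EtStalkPull.restrIsoPull π)

lemma adj_counit_app (F : EtCoh.Ab X) :
    (adj π).counit.app F =
      (EtCoh.push π).map ((Groth.Agent.H1.EtStalkPull.restrIsoPull π).inv.app F) ≫
        (inv (τ π)).app ((EtShriek.restrAlong π).obj F) ≫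
          (EtShriek.extZeroAdj π).counit.app F := by
  simp [adj]

/-- the composite of the unit of `π⁻¹ ⊣ π_*` with the counit of `π_* ⊣ π⁻¹` is multiplication by
the degree -/
theorem unit_counit (d : ℕ) (hd : ∀ x : X, π.finrank x = d) (F : EtCoh.Ab X) :
    (EtCoh.pullPushAdj π).unit.app F ≫ (adj π).counit.app F = d • 𝟙 F := by
  rw [← Phi_eq π d hd F]
  have h1 : (EtCoh.pullPushAdj π).unit.app F =
      (Groth.Agent.S0651.adj3 π).unit.app F ≫
        (EtCoh.push π).map ((Groth.Agent.H1.EtStalkPull.restrIsoPull π).hom.app F) :=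
    (Adjunction.unit_leftAdjointUniq_hom_app (Groth.Agent.S0651.adj3 π)
      (EtCoh.pullPushAdj π) F).symm
  rw [h1, adj_counit_app, Category.assoc]
  unfold Φ
  congr 1
  rw [← Category.assoc, ← Functor.map_comp, Iso.hom_inv_id_app, CategoryTheory.Functor.map_id]
  exact Category.id_comp _

end Adj

end Groth.Agent.Lib.helper21.FEtTrace2
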