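import Mathlib
import Groth.Prelude.Def_EtBase
import Groth.Prelude.Def_EtCore
import Groth.Agent.S0101
import Groth.Agent.Lib.Helper1.EtGerm
import Groth.Agent.Lib.Helper21.EtGalois
import Groth.Agent.Lib.Helper21.ConstVal
import Groth.Agent.Lib.Helper21.DerivedComm

/-!
# Direct image from the spectrum of a separably closed field is exact
-/

set_option autoImplicit false

open CategoryTheory CategoryTheory.Limits Opposite AlgebraicGeometry

namespace Groth.Agent.Lib.helper21.SepClosedPush

open Groth.Agent.H1.EtGerm Groth.Agent.Lib.Helper21.EtGalois Groth.Agent.Lib.helper21.ConstVal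

universe u

variable {Ω : Type u} [Field Ω] [IsSepClosed Ω]

/-- every point of an étale scheme over a separably closed field lies on a section -/
lemma exists_section (T : (Spec (CommRingCat.of Ω)).Etale) (p : T.left) :
    ∃ σ : EtCoh.top (Spec (CommRingCat.of Ω)) ⟶ T,
      σ.left.base (default : Spec (CommRingCat.of Ω)) = p := by
  haveI : Etale T.hom := T.prop
  obtain ⟨l, hl, hp⟩ := Scheme.exists_fac_of_etale_of_isSepClosed T.hom
    (𝟙 (Spec (CommRingCat.of Ω))) p (Subsingleton.elim (α := ↥(Spec (CommRingCat.of Ω))) _ _)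
  exact ⟨MorphismProperty.Over.homMk l hl trivial, hp⟩

omit [IsSepClosed Ω] in
lemma hom_top_ext {Z : (Spec (CommRingCat.of Ω)).Etale}
    (a b : Z ⟶ EtCoh.top (Spec (CommRingCat.of Ω))) : a = b :=
  (EtCore.topIsTerminal _).hom_ext a b

/-- gluing sections of a sheaf on `Spec Ω` along sections through all points -/
lemma exists_glue (F : EtCoh.Ab (Spec (CommRingCat.of Ω))) (T : (Spec (CommRingCat.of Ω)).Etale)
    (σ : T.left → (EtCoh.top (Spec (CommRingCat.of Ω)) ⟶ T))
    (hσ : ∀ p, (σ p).left.base (default : Spec (CommRingCat.of Ω)) = p)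
    (x : T.left → F.obj.obj (op (EtCoh.top (Spec (CommRingCat.of Ω))))) :
    ∃ y : F.obj.obj (op T), ∀ p, F.obj.map (σ p).op y = x p := by
  obtain ⟨y, hy, -⟩ := glue_arrows' F (fun _ : T.left => EtCoh.top (Spec (CommRingCat.of Ω))) σ
    (fun b => ⟨b, (default : ↥(Spec (CommRingCat.of Ω))), hσ b⟩) x (by
      intro p q Z gi gj hg
      by_cases hZ : IsEmpty Z.left
      · haveI := hZ
        haveI := subsingleton_of_isEmpty F Z
        exact Subsingleton.elim _ _
      · rw [not_isEmpty_iff] at hZ
        obtain ⟨z⟩ := hZ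
        have h1 := congrArg (fun k : Z ⟶ T => k.left.base z) hg
        have h2 : (σ p).left.base (gi.left.base z) = (σ q).left.base (gj.left.base z) := h1
        rw [Subsingleton.elim (α := ↥(Spec (CommRingCat.of Ω))) (gi.left.base z) default,
          Subsingleton.elim (α := ↥(Spec (CommRingCat.of Ω))) (gj.left.base z) default,
          hσ, hσ] at h2
        subst h2
        rw [hom_top_ext gi gj])
  exact ⟨y, hy⟩

/-- an epimorphism of abelian sheaves on `Spec Ω` is surjective on all sections -/
theorem surjective_of_epi {F F'' : EtCoh.Ab (Spec (CommRingCat.of Ω))} (φ : F ⟶ F'') [Epi φ]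
    (T : (Spec (CommRingCat.of Ω)).Etale) : Function.Surjective (φ.hom.app (op T)) := by
  intro t
  haveI : Sheaf.IsLocallySurjective φ :=
    (Sheaf.isLocallySurjective_iff_epi' (A := AddCommGrpCat.{u + 1}) φ).2 inferInstance
  have hcov := Presheaf.imageSieve_mem (Spec (CommRingCat.of Ω)).smallEtaleTopology φ.hom t
  -- for each point a section through it and a lift over it
  have key : ∀ p : T.left, ∃ (σ : EtCoh.top (Spec (CommRingCat.of Ω)) ⟶ T)
      (x : F.obj.obj (op (EtCoh.top (Spec (CommRingCat.of Ω))))),
      σ.left.base (default : Spec (CommRingCat.of Ω)) = p ∧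
        φ.hom.app (op (EtCoh.top (Spec (CommRingCat.of Ω)))) x = F''.obj.map σ.op t := by
    intro p
    obtain ⟨T', k, p', ⟨y, hy⟩, hp'⟩ := pointwise_of_mem T _ hcov p
    obtain ⟨τ, hτ⟩ := exists_section T' p'
    refine ⟨τ ≫ k, F.obj.map τ.op y, ?_, ?_⟩
    · show k.left.base (τ.left.base (default : ↥(Spec (CommRingCat.of Ω)))) = p
      rw [hτ, hp']
    · have h1 := NatTrans.naturality_apply φ.hom τ.op y
      refine h1.trans ?_
      rw [hy]
      exact (Groth.Agent.Lib.Helper21.EtGalois.map_comp_apply F'' τ k t).symm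
  choose σ x hσ hx using key
  obtain ⟨y, hy⟩ := exists_glue F T σ hσ x
  refine ⟨y, ?_⟩
  refine sep_arrows F'' (fun _ : T.left => EtCoh.top (Spec (CommRingCat.of Ω))) σ
    (fun b => ⟨b, (default : ↥(Spec (CommRingCat.of Ω))), hσ b⟩) _ _ (fun p => ?_)
  have h1 := NatTrans.naturality_apply φ.hom (σ p).op y
  refine h1.symm.trans ?_
  rw [hy p]
  exact hx p

/-- direct images preserve injective objects -/
instance preservesInjectiveObjects_push {X Y : Scheme.{u}} (f : X ⟶ Y) :
    (EtCoh.push f).PreservesInjectiveObjects :=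
  haveI : PreservesFiniteLimits (EtCoh.pull f) := Groth.Agent.S0101.result f
  Functor.preservesInjectiveObjects_of_adjunction_of_preservesMonomorphisms (EtCoh.pullPushAdj f)

variable {Y : Scheme.{u}} (g : Spec (CommRingCat.of Ω) ⟶ Y)

/-- the direct image from the spectrum of a separably closed field preserves epimorphisms -/
instance preservesEpi_push : (EtCoh.push g).PreservesEpimorphisms where
  preserves φ _ := by
    refine (Sheaf.isLocallySurjective_iff_epi' (A := AddCommGrpCat.{u + 1})
      ((EtCoh.push g).map φ)).1 ?_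
    exact Presheaf.isLocallySurjective_of_surjective _ _
      (fun U => surjective_of_epi φ ((EtCoh.bc g).obj U.unop))

/-- the direct image from the spectrum of a separably closed field is exact -/
instance preservesHomology_push : (EtCoh.push g).PreservesHomology := by
  haveI : PreservesLimitsOfSize.{0, 0} (EtCoh.push g) :=
    (EtCoh.pullPushAdj g).rightAdjoint_preservesLimits
  exact Functor.preservesHomology_of_preservesEpis_and_kernels _

/-- higher direct images of a sheaf pushed forward from the spectrum of a separably closed field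
vanish -/
theorem isZero_Rpush_push {X : Scheme.{u}} (f : X ⟶ Y) (g : Spec (CommRingCat.of Ω) ⟶ X)
    (F : EtCoh.Ab (Spec (CommRingCat.of Ω))) (q : ℕ) :
    IsZero ((EtCoh.Rpush f (q + 1)).obj ((EtCoh.push g).obj F)) := by
  have e1 := (Groth.Agent.Lib.Helper21.DerivedComm.rightDerivedPreIso (EtCoh.push g)
    (EtCoh.push f) (q + 1)).app F
  have e2 := (Groth.Agent.Lib.Helper21.DerivedComm.rightDerivedIso (EtCoh.pushComp f g)
    (q + 1)).app F
  have hz := Groth.Agent.Lib.Helper21.DerivedComm.isZero_rightDerived_of_exact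
    (EtCoh.push (g ≫ f)) q F
  exact (hz.of_iso e2).of_iso e1.symm

end Groth.Agent.Lib.helper21.SepClosedPush
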