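import Groth.Agent.Lib.Helper21.QCohColim
import Groth.Agent.Lib.Helper28.RestrictCover

/-!
# Colimits of quasi-coherent modules are quasi-coherent (helper21)
-/

set_option autoImplicit false
universe u
open CategoryTheory Limits AlgebraicGeometry Opposite

namespace Groth.Agent.Lib.helper21.QCohColim

variable {X : Scheme.{u}}

/-- a colimit of quasi-coherent modules is quasi-coherent -/
theorem isQuasicoherent_of_isColimit {J : Type u} [Category.{u} J] (D : J ⥤ X.Modules)
    (hD : ∀ j, (D.obj j).IsQuasicoherent) {c : Cocone D} (hc : IsColimit c) :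
    c.pt.IsQuasicoherent := by
  refine Groth.Agent.Lib.helper28.RestrictCover.isQuasicoherent_of_restrict_cover c.pt
    (ι := X.affineOpens) (fun U => Spec Γ(X, U.1)) (fun U => U.2.fromSpec) (fun x => ?_)
    (fun U => ?_)
  · obtain ⟨U, hU, hxU, -⟩ := TopologicalSpace.Opens.isBasis_iff_nbhd.mp X.isBasis_affineOpens
      (show x ∈ (⊤ : X.Opens) from trivial)
    refine ⟨⟨U, hU⟩, ?_⟩
    rw [hU.range_fromSpec]
    exact hxU
  · have h1 : IsColimit ((Scheme.Modules.restrictFunctor U.2.fromSpec).mapCocone c) :=
      isColimitOfPreserves _ hc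
    exact isQuasicoherent_of_isColimit_Spec (D ⋙ Scheme.Modules.restrictFunctor U.2.fromSpec)
      (fun j => by
        haveI := hD j
        exact Scheme.Modules.isQuasicoherent_restrictFunctor U.2.fromSpec (D.obj j)) h1

/-- the colimit of a diagram of quasi-coherent modules is quasi-coherent -/
theorem isQuasicoherent_colimit {J : Type u} [Category.{u} J] (D : J ⥤ X.Modules)
    (hD : ∀ j, (D.obj j).IsQuasicoherent) : (colimit D).IsQuasicoherent :=
  isQuasicoherent_of_isColimit D hD (colimit.isColimit D)

end Groth.Agent.Lib.helper21.QCohColim
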