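import Groth.Prelude.Def_QCohCat
import Groth.Prelude.Def_DDual2
import Groth.Agent.Lib.Helper21.QCohColim2
import Groth.Agent.Lib.Helper11.TensorACocont
import Groth.Agent.Lib.Helper16.QCohPullback
import Groth.Agent.Lib.Helper2.TensorQCoh

/-!
# Fourier–Mukai functors with quasi-coherent kernel from an affine source are cocontinuous (helper21)

* `isClosedUnderColimitsOfShape_isQCoh`: quasi-coherent modules are closed under small colimits.
* `preservesColimit_FM`: for `p : Z ⟶ X`, `q : Z ⟶ Y` with `q` affine and `K` quasi-coherent on `Z`,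
  `M ↦ q_*(p^* M ⊗ K)` on quasi-coherent modules preserves small colimits.
-/

set_option autoImplicit false
universe u
open CategoryTheory Limits AlgebraicGeometry Opposite

namespace Groth.Agent.Lib.helper21.FMAffine

instance isClosedUnderColimitsOfShape_isQCoh (X : Scheme.{u}) (J : Type u) [Category.{u} J] :
    (QCohCat.isQCoh X).IsClosedUnderColimitsOfShape J where
  colimitsOfShape_le := by
    rintro M ⟨h⟩
    exact Groth.Agent.Lib.helper21.QCohColim.isQuasicoherent_of_isColimit h.diag
      h.prop_diag_obj h.isColimit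

variable {X Y Z : Scheme.{u}} (p : Z ⟶ X) (q : Z ⟶ Y) (K : Z.Modules)

/-- the Fourier–Mukai functor with kernel `K` along the correspondence `X ← Z → Y` -/
noncomputable abbrev FM : (QCohCat.isQCoh X).FullSubcategory ⥤ Y.Modules :=
  ObjectProperty.ι (QCohCat.isQCoh X) ⋙ Scheme.Modules.pullback p ⋙ DCoh.tensorRightMod K ⋙
    Coh.push q

theorem preservesColimit_FM [IsAffineHom q] [K.IsQuasicoherent] {J : Type u} [Category.{u} J]
    (D : J ⥤ (QCohCat.isQCoh X).FullSubcategory) : PreservesColimit D (FM p q K) := by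
  haveI : PreservesColimitsOfSize.{u, u} (Scheme.Modules.pullback p) :=
    (Scheme.Modules.pullbackPushforwardAdjunction p).leftAdjoint_preservesColimits
  haveI : PreservesColimit D (ObjectProperty.ι (QCohCat.isQCoh X)) := inferInstance
  haveI : PreservesColimit (((D ⋙ ObjectProperty.ι (QCohCat.isQCoh X)) ⋙ Scheme.Modules.pullback p) ⋙
      DCoh.tensorRightMod K) (Coh.push q) := by
    refine Groth.Agent.Lib.helper21.QCohColim.preservesColimit_pushforward q _ (fun j => ?_)
    haveI : (D.obj j).obj.IsQuasicoherent := (D.obj j).property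
    haveI : ((Scheme.Modules.pullback p).obj (D.obj j).obj).IsQuasicoherent :=
      Groth.Agent.Lib.helper16.QCohPullback.isQuasicoherent_pullback p _
    exact Groth.Agent.Lib.helper2.TensorQCoh.isQuasicoherent_tensorMod
      ((Scheme.Modules.pullback p).obj (D.obj j).obj) K
  infer_instance

variable (R : Type u) [CommRing R] (X Y : Scheme.{u}) [X.Over (Spec (.of R))] [Y.Over (Spec (.of R))]
  [IsAffine X]

theorem main (K : (Limits.pullback (X ↘ Spec (.of R)) (Y ↘ Spec (.of R))).Modules)
    (hK : Coh.IsQCoh K) :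
    PreservesFiniteColimits (FM (Limits.pullback.fst (X ↘ Spec (.of R)) (Y ↘ Spec (.of R)))
      (Limits.pullback.snd (X ↘ Spec (.of R)) (Y ↘ Spec (.of R))) K) ∧
    ∀ J : Type u, PreservesColimitsOfShape (Discrete J)
      (FM (Limits.pullback.fst (X ↘ Spec (.of R)) (Y ↘ Spec (.of R)))
        (Limits.pullback.snd (X ↘ Spec (.of R)) (Y ↘ Spec (.of R))) K) := by
  haveI : K.IsQuasicoherent := hK
  haveI : IsAffineHom (X ↘ Spec (.of R)) := inferInstance
  haveI : IsAffineHom (Limits.pullback.snd (X ↘ Spec (.of R)) (Y ↘ Spec (.of R))) :=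
    MorphismProperty.pullback_snd _ _ ‹_›
  have key : PreservesColimitsOfSize.{u, u}
      (FM (Limits.pullback.fst (X ↘ Spec (.of R)) (Y ↘ Spec (.of R)))
        (Limits.pullback.snd (X ↘ Spec (.of R)) (Y ↘ Spec (.of R))) K) :=
    ⟨fun {J} _ => ⟨fun {D} => preservesColimit_FM _ _ K D⟩⟩
  refine ⟨?_, fun J => inferInstance⟩
  haveI : PreservesColimitsOfSize.{0, 0}
      (FM (Limits.pullback.fst (X ↘ Spec (.of R)) (Y ↘ Spec (.of R)))
        (Limits.pullback.snd (X ↘ Spec (.of R)) (Y ↘ Spec (.of R))) K) :=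
    preservesColimitsOfSize_shrink.{0, u, 0, u} _
  exact PreservesColimitsOfSize.preservesFiniteColimits _

end Groth.Agent.Lib.helper21.FMAffine
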