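import Mathlib

/-!
# Bounding the dimension of a module over a finite-dimensional algebra by its fibres

`K` a field, `B` a finite-dimensional commutative `K`-algebra, `M` a `B`-module.  If for every maximal
ideal `𝔪` of `B` the quotient `M / 𝔪 M` is generated by `n` elements, then `M` is finite-dimensional
over `K` of dimension at most `n * dim_K B`.
-/

set_option autoImplicit false

namespace Groth.Agent.Lib.helper21.FibDeg

open Module

variable {K B M : Type*} [Field K] [CommRing B] [Algebra K B] [AddCommGroup M] [Module B M]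
  [Module K M] [IsScalarTower K B M]

/-- `M / 𝔪 M` is generated by `n` elements. -/
def GenMod (𝔪 : Ideal B) (M : Type*) [AddCommGroup M] [Module B M] (n : ℕ) : Prop :=
  ∃ s : Fin n → M, ∀ x : M, ∃ c : Fin n → B, x - ∑ i, c i • s i ∈ (𝔪 • ⊤ : Submodule B M)

/-- The statement proved by induction. -/
def P (K : Type*) {B : Type*} (M : Type*) [Field K] [CommRing B] [Algebra K B] [AddCommGroup M]
    [Module B M] [Module K M] [IsScalarTower K B M] (n : ℕ) (J : Ideal B) : Prop :=
  FiniteDimensional K ((J • ⊤ : Submodule B M).restrictScalars K) ∧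
    finrank K ((J • ⊤ : Submodule B M).restrictScalars K) ≤ n * finrank K (J.restrictScalars K)

theorem step [Module.Finite K B] (n : ℕ) (𝔪 I : Ideal B) (hgen : GenMod 𝔪 M n)
    (h : P K M n (𝔪 * I)) : P K M n I := by
  obtain ⟨s, hs⟩ := hgen
  obtain ⟨hfd, hrk⟩ := h
  set A : Submodule K B := (𝔪 * I).restrictScalars K with hA
  set A' : Submodule K B := I.restrictScalars K with hA'
  have hAA' : A ≤ A' := fun x hx => (Ideal.mul_le_right : 𝔪 * I ≤ I) hx
  obtain ⟨V', hV'⟩ := Submodule.exists_isCompl A
  set V : Submodule K B := V' ⊓ A' with hV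
  have hsup : A ⊔ V = A' := by
    rw [hV, ← sup_inf_assoc_of_le _ hAA', hV'.sup_eq_top, top_inf_eq]
  have hinf : A ⊓ V = ⊥ := by
    rw [hV, ← inf_assoc, hV'.inf_eq_bot, bot_inf_eq]
  have hdim : finrank K A' = finrank K A + finrank K V := by
    have := Submodule.finrank_sup_add_finrank_inf_eq A V
    rw [hsup, hinf, finrank_bot, add_zero] at this
    exact this
  -- the map `(Fin n → V) → M`
  let Ψ : (Fin n → V) →ₗ[K] M :=
    ∑ i, ((LinearMap.toSpanSingleton B M (s i)).restrictScalars K ∘ₗ V.subtype) ∘ₗ
      LinearMap.proj i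
  have hΨ : ∀ v : Fin n → V, Ψ v = ∑ i, (v i : B) • s i := by
    intro v
    simp [Ψ, LinearMap.sum_apply]
  have hle : (I • ⊤ : Submodule B M).restrictScalars K ≤
      ((𝔪 * I) • ⊤ : Submodule B M).restrictScalars K ⊔ LinearMap.range Ψ := by
    intro x hx
    rw [Submodule.restrictScalars_mem] at hx
    refine Submodule.smul_induction_on hx ?_ ?_
    · intro a ha m _
      obtain ⟨c, hc⟩ := hs m
      have h1 : a • (m - ∑ i, c i • s i) ∈ ((𝔪 * I) • ⊤ : Submodule B M) := by
        rw [mul_comm, Submodule.mul_smul]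
        exact Submodule.smul_mem_smul ha hc
      have h2 : ∀ i, ∃ α ∈ 𝔪 * I, ∃ v ∈ V, a * c i = α + v := by
        intro i
        have : a * c i ∈ A' := I.mul_mem_right _ ha
        rw [← hsup] at this
        obtain ⟨α, hα, v, hv, e⟩ := Submodule.mem_sup.mp this
        exact ⟨α, hα, v, hv, e.symm⟩
      choose α hα v hv e using h2
      have h3 : a • m = (a • (m - ∑ i, c i • s i) + ∑ i, α i • s i) +
          Ψ (fun i => ⟨v i, hv i⟩) := by
        rw [hΨ, add_assoc, ← Finset.sum_add_distrib]
        simp only [← add_smul, ← e, mul_smul]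
        rw [← Finset.smul_sum, ← smul_add, sub_add_cancel]
      rw [h3]
      refine Submodule.add_mem _ (Submodule.mem_sup_left ?_) (Submodule.mem_sup_right ⟨_, rfl⟩)
      rw [Submodule.restrictScalars_mem]
      refine Submodule.add_mem _ h1 (Submodule.sum_mem _ fun i _ => ?_)
      exact Submodule.smul_mem_smul (hα i) Submodule.mem_top
    · intro x y hx hy
      exact Submodule.add_mem _ hx hy
  haveI := hfd
  haveI : FiniteDimensional K V := inferInstance
  haveI : FiniteDimensional K (LinearMap.range Ψ) := inferInstance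
  haveI : FiniteDimensional K
      ↥(((𝔪 * I) • ⊤ : Submodule B M).restrictScalars K ⊔ LinearMap.range Ψ) :=
    Submodule.finiteDimensional_sup _ _
  refine ⟨Submodule.finiteDimensional_of_le hle, ?_⟩
  calc finrank K ((I • ⊤ : Submodule B M).restrictScalars K)
      ≤ finrank K ↥(((𝔪 * I) • ⊤ : Submodule B M).restrictScalars K ⊔ LinearMap.range Ψ) :=
        Submodule.finrank_mono hle
    _ ≤ finrank K (((𝔪 * I) • ⊤ : Submodule B M).restrictScalars K) +
          finrank K (LinearMap.range Ψ) := Submodule.finrank_add_le_finrank_add_finrank _ _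
    _ ≤ n * finrank K A + n * finrank K V := by
        refine add_le_add hrk ?_
        refine (LinearMap.finrank_range_le Ψ).trans ?_
        rw [Module.finrank_pi_fintype]
        simp
    _ = n * finrank K A' := by rw [hdim, mul_add]

theorem P_bot (n : ℕ) : P K M n (⊥ : Ideal B) := by
  have : ((⊥ : Ideal B) • ⊤ : Submodule B M) = ⊥ := Submodule.bot_smul _
  unfold P
  rw [this, Submodule.restrictScalars_bot]
  exact ⟨inferInstance, by simp⟩

/-- Main algebraic bound. -/
theorem finite_and_finrank_le [Module.Finite K B] (n : ℕ)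
    (h : ∀ 𝔪 : Ideal B, 𝔪.IsMaximal → GenMod 𝔪 M n) :
    Module.Finite K M ∧ finrank K M ≤ n * finrank K B := by
  haveI : IsArtinianRing B := IsArtinianRing.of_finite K B
  haveI : IsNoetherianRing B := inferInstance
  obtain ⟨Z, hZ⟩ := PrimeSpectrum.exists_primeSpectrum_prod_le B (⊥ : Ideal B)
  have key : ∀ Z : Multiset (PrimeSpectrum B), ∀ I : Ideal B,
      P K M n ((Z.map PrimeSpectrum.asIdeal).prod * I) → P K M n I := by
    intro Z
    induction Z using Multiset.induction_on with
    | empty => intro I hI; simpa using hI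
    | cons 𝔭 Z ih =>
      intro I hI
      rw [Multiset.map_cons, Multiset.prod_cons, mul_assoc] at hI
      haveI : 𝔭.asIdeal.IsMaximal := IsArtinianRing.isMaximal_of_isPrime 𝔭.asIdeal
      exact ih I (step n 𝔭.asIdeal _ (h _ this) hI)
  have hP : P K M n (⊤ : Ideal B) := by
    apply key Z
    rw [Ideal.mul_top, le_bot_iff.mp hZ]
    exact P_bot n
  obtain ⟨h1, h2⟩ := hP
  have e1 : ((⊤ : Ideal B) • ⊤ : Submodule B M) = ⊤ := Submodule.top_smul ⊤
  rw [e1, Submodule.restrictScalars_top] at h1 h2
  have e2 : (⊤ : Ideal B).restrictScalars K = (⊤ : Submodule K B) :=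
    Submodule.restrictScalars_top _ _ _
  rw [e2, finrank_top, finrank_top] at h2
  refine ⟨?_, h2⟩
  exact Module.Finite.equiv (Submodule.topEquiv (R := K) (M := M))

end Groth.Agent.Lib.helper21.FibDeg
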