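import Mathlib
import Groth.Agent.Lib.Helper21.FibDeg1

/-!
# Generators of `M / 𝔪 M` from the fibre `L ⊗[B] M`
-/

set_option autoImplicit false

namespace Groth.Agent.Lib.helper21.FibDeg

open Module TensorProduct

theorem GenMod.mono {B M : Type*} [CommRing B] [AddCommGroup M] [Module B M] {𝔪 : Ideal B}
    {d n : ℕ} (h : GenMod 𝔪 M d) (hd : d ≤ n) : GenMod 𝔪 M n := by
  obtain ⟨k, rfl⟩ := Nat.exists_eq_add_of_le hd
  obtain ⟨s, hs⟩ := h
  refine ⟨Fin.append s (fun _ => 0), fun x => ?_⟩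
  obtain ⟨c, hc⟩ := hs x
  refine ⟨Fin.append c (fun _ => 0), ?_⟩
  simpa [Fin.sum_univ_add] using hc

theorem tmul_one_eq_zero {B L M : Type*} [CommRing B] [Field L] [Algebra B L] [AddCommGroup M]
    [Module B M] (hsurj : Function.Surjective (algebraMap B L)) (y : M)
    (hy : (1 : L) ⊗ₜ[B] y = 0) : y ∈ (RingHom.ker (algebraMap B L) • ⊤ : Submodule B M) := by
  have hker : RingHom.ker (algebraMap B L) = LinearMap.ker (Algebra.linearMap B L) := by
    ext b; simp [RingHom.mem_ker]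
  rw [hker]
  set 𝔪 : Ideal B := LinearMap.ker (Algebra.linearMap B L) with h𝔪
  let e : (B ⧸ 𝔪) ≃ₗ[B] L :=
    LinearMap.quotKerEquivOfSurjective (Algebra.linearMap B L) hsurj
  let E : L ⊗[B] M ≃ₗ[B] M ⧸ (𝔪 • ⊤ : Submodule B M) :=
    (TensorProduct.congr e.symm (LinearEquiv.refl B M)) ≪≫ₗ
      TensorProduct.quotTensorEquivQuotSMul M 𝔪
  have h1 : e.symm (1 : L) = Ideal.Quotient.mk 𝔪 1 := by
    rw [LinearEquiv.symm_apply_eq]
    change (1 : L) = (Algebra.linearMap B L) 1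
    simp
  have h2 : E ((1 : L) ⊗ₜ[B] y) = Submodule.Quotient.mk y := by
    simp only [E, LinearEquiv.trans_apply, TensorProduct.congr_tmul, LinearEquiv.refl_apply, h1]
    rw [TensorProduct.quotTensorEquivQuotSMul_mk_tmul, one_smul]
  rw [hy, map_zero] at h2
  exact (Submodule.Quotient.mk_eq_zero _).mp h2.symm

theorem genMod_of_tensor {B L M : Type*} [CommRing B] [Field L] [Algebra B L] [AddCommGroup M]
    [Module B M] (hsurj : Function.Surjective (algebraMap B L)) (n : ℕ)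
    [Module.Finite L (L ⊗[B] M)] (hrk : finrank L (L ⊗[B] M) ≤ n) :
    GenMod (RingHom.ker (algebraMap B L)) M n := by
  classical
  refine GenMod.mono ?_ hrk
  let b := Module.finBasis L (L ⊗[B] M)
  have h1 : ∀ v : L ⊗[B] M, ∃ m : M, v = (1 : L) ⊗ₜ[B] m := by
    intro v
    induction v using TensorProduct.induction_on with
    | zero => exact ⟨0, by simp⟩
    | tmul l m =>
      obtain ⟨β, rfl⟩ := hsurj l
      refine ⟨β • m, ?_⟩
      rw [Algebra.algebraMap_eq_smul_one, TensorProduct.smul_tmul]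
    | add x y hx hy =>
      obtain ⟨a, rfl⟩ := hx
      obtain ⟨c, rfl⟩ := hy
      exact ⟨a + c, by rw [TensorProduct.tmul_add]⟩
  choose s' hs' using fun j => h1 (b j)
  refine ⟨s', fun x => ?_⟩
  choose β hβ using fun j => hsurj (b.repr ((1 : L) ⊗ₜ[B] x) j)
  refine ⟨β, tmul_one_eq_zero hsurj _ ?_⟩
  rw [TensorProduct.tmul_sub, TensorProduct.tmul_sum, sub_eq_zero]
  conv_lhs => rw [← b.sum_repr ((1 : L) ⊗ₜ[B] x)]
  refine Finset.sum_congr rfl fun j _ => ?_
  rw [← hβ j, hs' j, TensorProduct.tmul_smul, Algebra.algebraMap_eq_smul_one,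
    TensorProduct.smul_tmul', smul_assoc, one_smul]
  exact (TensorProduct.smul_tmul' _ _ _).symm

end Groth.Agent.Lib.helper21.FibDeg
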