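import Mathlib
import Groth.Prelude.Def_W4stkschemesremainderFib
import Groth.Agent.Lib.Helper1.FibreDeg
import Groth.Agent.Lib.Helper21.FibDeg2

/-!
# Fibre degrees: scheme-level lemmas
-/

set_option autoImplicit false
universe u
open CategoryTheory CategoryTheory.Limits AlgebraicGeometry TensorProduct

namespace Groth.Agent.Lib.helper21.FibDeg

/-- A scheme finite over a field is finite and discrete. -/
theorem finite_discrete_of_finiteOfDegLE (k : Type u) [Field k] {T : Scheme.{u}}
    (p : T ⟶ Spec (CommRingCat.of k)) (n : ℕ) (h : BddFib.FiniteOfDegLE (CommRingCat.of k) p n) :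
    Finite T ∧ DiscreteTopology T := by
  obtain ⟨haff, hfin, -⟩ := h
  letI : Algebra k Γ(T, ⊤) := BddFib.secAlgebra (CommRingCat.of k) p
  haveI : Module.Finite k Γ(T, ⊤) := hfin
  haveI : IsArtinianRing Γ(T, ⊤) := IsArtinianRing.of_finite k Γ(T, ⊤)
  haveI : IsArtinianScheme (Spec Γ(T, ⊤)) := inferInstance
  let e : T ≃ₜ Spec Γ(T, ⊤) := T.isoSpec.hom.homeomorph
  exact ⟨Finite.of_equiv _ e.symm.toEquiv, e.symm.discreteTopology⟩

/-- If the base is finite discrete and all fibres are finite over the residue fields, the source is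
finite and discrete. -/
theorem finite_discrete_of_fibreDegLE {W T : Scheme.{u}} (q : W ⟶ T) (n : ℕ)
    (hq : BddFib.FibreDegLE q n) [Finite T] [DiscreteTopology T] :
    Finite W ∧ DiscreteTopology W := by
  have hfib : ∀ t : T, Finite (q ⁻¹' {t}) ∧ DiscreteTopology (q ⁻¹' {t}) := by
    intro t
    obtain ⟨h1, h2⟩ := finite_discrete_of_finiteOfDegLE
      (IsLocalRing.ResidueField (T.presheaf.stalk t)) _ n (hq t)
    exact ⟨Finite.of_equiv _ (q.fiberHomeo t).toEquiv, (q.fiberHomeo t).discreteTopology⟩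
  constructor
  · rw [← Set.finite_univ_iff]
    refine Set.Finite.of_finite_fibers (f := q) (Set.toFinite _) ?_
    intro t _
    rw [Set.univ_inter]
    exact Set.finite_coe_iff.mp (hfib t).1
  · rw [discreteTopology_iff_isOpen_singleton]
    intro w
    have h1 : IsOpen (q ⁻¹' {q w}) := (isOpen_discrete {q w}).preimage q.continuous
    haveI := (hfib (q w)).2
    have h2 : IsOpen ({⟨w, rfl⟩} : Set (q ⁻¹' {q w})) := isOpen_discrete _
    have := h1.isOpenMap_subtype_val _ h2
    simpa using this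

/-- Evaluation at a point of an affine scheme with Artinian coordinate ring is surjective. -/
theorem Γevaluation_surjective (T : Scheme.{u}) [IsAffine T] [IsArtinianRing Γ(T, ⊤)] (t : T) :
    Function.Surjective (T.Γevaluation t) := by
  letI : Algebra Γ(T, ⊤) (T.presheaf.stalk t) :=
    TopCat.Presheaf.algebra_section_stalk T.presheaf (U := ⊤) ⟨t, trivial⟩
  haveI hloc : IsLocalization.AtPrime (T.presheaf.stalk t)
      ((isAffineOpen_top T).primeIdealOf ⟨t, trivial⟩).asIdeal :=
    (isAffineOpen_top T).isLocalization_stalk ⟨t, trivial⟩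
  have h1 : Function.Surjective (T.presheaf.germ ⊤ t trivial) :=
    IsArtinianRing.localization_surjective
      ((isAffineOpen_top T).primeIdealOf ⟨t, trivial⟩).asIdeal.primeCompl (T.presheaf.stalk t)
  intro a
  obtain ⟨b, hb⟩ := T.residue_surjective t a
  obtain ⟨c, hc⟩ := h1 b
  exact ⟨c, by rw [← hb, ← hc]; rfl⟩

/-- The kernel of the evaluation at the point of an affine scheme corresponding to a prime. -/
theorem ker_Γevaluation (T : Scheme.{u}) [IsAffine T] (𝔭 : PrimeSpectrum Γ(T, ⊤)) :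
    RingHom.ker (T.Γevaluation (T.isoSpec.inv 𝔭)).hom = 𝔭.asIdeal := by
  ext b
  rw [RingHom.mem_ker]
  change T.evaluation ⊤ _ trivial b = 0 ↔ _
  rw [Scheme.evaluation_eq_zero_iff_notMem_basicOpen, ← Scheme.toSpecΓ_preimage_basicOpen]
  have : T.toSpecΓ (T.isoSpec.inv 𝔭) = 𝔭 := by
    rw [← Scheme.isoSpec_hom, ← Scheme.Hom.comp_apply, Iso.inv_hom_id]
    rfl
  change ¬ (T.toSpecΓ (T.isoSpec.inv 𝔭) ∈ PrimeSpectrum.basicOpen b) ↔ _
  rw [this]
  change ¬ (b ∉ 𝔭.asIdeal) ↔ _
  exact not_not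

/-- Sections of the fibre of a morphism of affine schemes as a tensor product. -/
theorem nonempty_linearEquiv_fiber {W T : Scheme.{u}} (q : W ⟶ T) [IsAffine T] [IsAffine W]
    (t : T) :
    letI := q.appTop.hom.toAlgebra
    letI := (T.Γevaluation t).hom.toAlgebra
    letI := BddFib.secAlgebra (T.residueField t) (q.fiberToSpecResidueField t)
    Nonempty (Γ(q.fiber t, ⊤) ≃ₗ[T.residueField t] (T.residueField t) ⊗[Γ(T, ⊤)] Γ(W, ⊤)) := by
  have H0 : IsPullback (q.fiberι t) (q.fiberToSpecResidueField t) q (T.fromSpecResidueField t) :=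
    IsPullback.of_hasPullback _ _
  have hcomm : T.fromSpecResidueField t ≫ T.toSpecΓ = 𝟙 _ ≫ Spec.map (T.Γevaluation t) := by
    rw [Category.id_comp, Scheme.fromSpecResidueField, Category.assoc, Scheme.fromSpecStalk_toSpecΓ,
      ← Spec.map_comp]
    rfl
  have H1 : IsPullback (T.fromSpecResidueField t) (𝟙 _) T.toSpecΓ (Spec.map (T.Γevaluation t)) :=
    IsPullback.of_vert_isIso ⟨hcomm⟩
  have H := H0.paste_vert H1
  rw [Category.comp_id] at H
  have hpo := Groth.Agent.Lib.helper1.isPushout_sections (T.Γevaluation t) (q ≫ T.toSpecΓ)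
    (q.fiberToSpecResidueField t) (q.fiberι t) H
  have e1 : (Scheme.ΓSpecIso Γ(T, ⊤)).inv ≫ (q ≫ T.toSpecΓ).appTop = q.appTop := by
    rw [Scheme.Hom.comp_appTop, Scheme.toSpecΓ_appTop, Iso.inv_hom_id_assoc]
  rw [e1] at hpo
  exact Groth.Agent.Lib.helper1.nonempty_linearEquiv_of_isPushout hpo

end Groth.Agent.Lib.helper21.FibDeg
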