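import Mathlib
import Groth.Prelude.Def_W4stkschemesremainderFib
import Groth.Agent.Lib.Helper21.FibDeg3
import Groth.Agent.S7437

/-!
# Fibre degrees: composition
-/

set_option autoImplicit false
universe u
open CategoryTheory CategoryTheory.Limits AlgebraicGeometry TensorProduct

namespace Groth.Agent.Lib.helper21.FibDeg

/-- If `T` is finite of degree `≤ m` over the field `k` and `q : W ⟶ T` has all fibres of degree
`≤ n`, then `W` is finite of degree `≤ n * m` over `k`. -/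
theorem finiteOfDegLE_comp (k : Type u) [Field k] {W T : Scheme.{u}}
    (pT : T ⟶ Spec (CommRingCat.of k)) (q : W ⟶ T) (n m : ℕ)
    (hT : BddFib.FiniteOfDegLE (CommRingCat.of k) pT m) (hq : BddFib.FibreDegLE q n) :
    BddFib.FiniteOfDegLE (CommRingCat.of k) (q ≫ pT) (n * m) := by
  obtain ⟨hTfin, hTdisc⟩ := finite_discrete_of_finiteOfDegLE k pT m hT
  obtain ⟨hWfin, hWdisc⟩ := finite_discrete_of_fibreDegLE q n hq
  haveI : IsAffine W := inferInstance
  obtain ⟨haffT, hfinT, hrkT⟩ := hT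
  letI algKB : Algebra k Γ(T, ⊤) := BddFib.secAlgebra (CommRingCat.of k) pT
  letI algBC : Algebra Γ(T, ⊤) Γ(W, ⊤) := q.appTop.hom.toAlgebra
  letI algKC : Algebra k Γ(W, ⊤) := BddFib.secAlgebra (CommRingCat.of k) (q ≫ pT)
  haveI : IsScalarTower k Γ(T, ⊤) Γ(W, ⊤) := IsScalarTower.of_algebraMap_eq' (by
    change (((Scheme.ΓSpecIso (CommRingCat.of k)).inv ≫ (q ≫ pT).appTop).hom : _ →+* _) =
      (q.appTop.hom).comp (((Scheme.ΓSpecIso (CommRingCat.of k)).inv ≫ pT.appTop).hom)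
    rw [Scheme.Hom.comp_appTop, ← CommRingCat.hom_comp, Category.assoc])
  haveI : Module.Finite k Γ(T, ⊤) := hfinT
  haveI : IsArtinianRing Γ(T, ⊤) := IsArtinianRing.of_finite k _
  have hgen : ∀ 𝔪 : Ideal Γ(T, ⊤), 𝔪.IsMaximal → GenMod 𝔪 Γ(W, ⊤) n := by
    intro 𝔪 h𝔪
    let 𝔭 : PrimeSpectrum Γ(T, ⊤) := ⟨𝔪, h𝔪.isPrime⟩
    let t : T := T.isoSpec.inv 𝔭
    obtain ⟨hFaff, hFfin, hFrk⟩ := hq t
    letI algBL : Algebra Γ(T, ⊤) (T.residueField t) := (T.Γevaluation t).hom.toAlgebra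
    letI algLF : Algebra (T.residueField t) Γ(q.fiber t, ⊤) :=
      BddFib.secAlgebra (T.residueField t) (q.fiberToSpecResidueField t)
    obtain ⟨e⟩ := nonempty_linearEquiv_fiber q t
    haveI : Module.Finite (T.residueField t) Γ(q.fiber t, ⊤) := hFfin
    haveI : Module.Finite (T.residueField t) ((T.residueField t) ⊗[Γ(T, ⊤)] Γ(W, ⊤)) :=
      Module.Finite.equiv e
    have hrk : Module.finrank (T.residueField t) ((T.residueField t) ⊗[Γ(T, ⊤)] Γ(W, ⊤)) ≤ n := by
      rw [← e.finrank_eq]; exact hFrk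
    have h3 := genMod_of_tensor (B := Γ(T, ⊤)) (L := T.residueField t) (M := Γ(W, ⊤))
      (Γevaluation_surjective T t) n hrk
    have h4 : RingHom.ker (algebraMap Γ(T, ⊤) (T.residueField t)) = 𝔪 := ker_Γevaluation T 𝔭
    rwa [h4] at h3
  obtain ⟨h1, h2⟩ := finite_and_finrank_le (K := k) (B := Γ(T, ⊤)) (M := Γ(W, ⊤)) n hgen
  exact ⟨inferInstance, h1, h2.trans (Nat.mul_le_mul_left n hrkT)⟩

/-- Fibre degrees multiply under composition. -/
theorem fibreDegLE_comp {X Y Z : Scheme.{u}} (f : X ⟶ Y) (g : Y ⟶ Z) (n m : ℕ)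
    (hf : BddFib.FibreDegLE f n) (hg : BddFib.FibreDegLE g m) :
    BddFib.FibreDegLE (f ≫ g) (n * m) := by
  intro z
  let q : (f ≫ g).fiber z ⟶ g.fiber z :=
    pullback.lift ((f ≫ g).fiberι z ≫ f) ((f ≫ g).fiberToSpecResidueField z)
      (by rw [Category.assoc]; exact (f ≫ g).fiber_fac z)
  have hq1 : q ≫ g.fiberToSpecResidueField z = (f ≫ g).fiberToSpecResidueField z :=
    pullback.lift_snd _ _ _
  have hq2 : q ≫ g.fiberι z = (f ≫ g).fiberι z ≫ f := pullback.lift_fst _ _ _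
  have hpb : IsPullback ((f ≫ g).fiberι z) q f (g.fiberι z) := by
    refine IsPullback.of_bot (v₂₁ := g.fiberToSpecResidueField z) (v₂₂ := g)
      (h₃₁ := Z.fromSpecResidueField z) ?_ hq2.symm
      (IsPullback.of_hasPullback g (Z.fromSpecResidueField z))
    rw [hq1]
    exact IsPullback.of_hasPullback (f ≫ g) _
  have hqdeg : BddFib.FibreDegLE q n :=
    Groth.Agent.S7437.result f (g.fiberι z) q ((f ≫ g).fiberι z) hpb n hf
  have : BddFib.FiniteOfDegLE (Z.residueField z) (q ≫ g.fiberToSpecResidueField z) (n * m) :=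
    finiteOfDegLE_comp (IsLocalRing.ResidueField (Z.presheaf.stalk z))
      (g.fiberToSpecResidueField z) q n m (hg z) hqdeg
  rw [hq1] at this
  exact this

end Groth.Agent.Lib.helper21.FibDeg
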