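import Mathlib
import Groth.Prelude.Def_W4stkschemesremainderFib
import Groth.Agent.Lib.Helper1.FibreDegDescent

/-!
# Fibre degrees of étale morphisms via geometric points
-/

set_option autoImplicit false
universe u
open CategoryTheory CategoryTheory.Limits AlgebraicGeometry TensorProduct

namespace Groth.Agent.Lib.helper21.FibDeg

/-- Étale morphisms are locally quasi-finite. -/
theorem locallyQuasiFinite_of_etale {X Y : Scheme.{u}} (f : X ⟶ Y) [Etale f] :
    LocallyQuasiFinite f where
  quasiFinite_appLE {U} hU {V} hV e := by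
    have h := f.etale_appLE hU hV e
    algebraize [(f.appLE U V e).hom]
    exact (inferInstance : Algebra.QuasiFinite Γ(Y, U) Γ(X, V))

/-- A scheme étale over a separably closed field with finitely many points is finite over the
field, of degree the number of points. -/
theorem finiteOfDegLE_of_etale_of_finite (L : Type u) [Field L] [IsSepClosed L] {T : Scheme.{u}}
    (p : T ⟶ Spec (CommRingCat.of L)) [Etale p] [Finite T] :
    BddFib.FiniteOfDegLE (CommRingCat.of L) p (Nat.card T) := by
  haveI : LocallyQuasiFinite p := locallyQuasiFinite_of_etale p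
  haveI : IsLocallyArtinian (Spec (CommRingCat.of L)) :=
    Scheme.isLocallyArtinianScheme_Spec.mpr (inferInstanceAs (IsArtinianRing L))
  haveI : IsLocallyArtinian T := IsLocallyArtinian.of_locallyQuasiFinite p
  haveI : DiscreteTopology T := inferInstance
  haveI : IsAffine T := inferInstance
  letI alg : Algebra L Γ(T, ⊤) := BddFib.secAlgebra (CommRingCat.of L) p
  have h1 : p.appTop.hom.Etale := (HasRingHomProperty.iff_of_isAffine (P := @Etale)).mp ‹_›
  have h2 : ((Scheme.ΓSpecIso (CommRingCat.of L)).inv ≫ p.appTop).hom.Etale := by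
    rw [CommRingCat.hom_comp]
    exact RingHom.Etale.respectsIso.2 _
      (Scheme.ΓSpecIso (CommRingCat.of L)).symm.commRingCatIsoToRingEquiv h1
  haveI : Algebra.Etale L Γ(T, ⊤) := h2
  let e := Algebra.FormallyEtale.equivPiOfIsSepClosed L Γ(T, ⊤)
  let eT : T ≃ PrimeSpectrum Γ(T, ⊤) := T.isoSpec.hom.homeomorph.toEquiv
  haveI : Finite (PrimeSpectrum Γ(T, ⊤)) := Finite.of_equiv _ eT
  letI := Fintype.ofFinite (PrimeSpectrum Γ(T, ⊤))
  refine ⟨inferInstance, Module.Finite.equiv e.symm.toLinearEquiv, ?_⟩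
  change Module.finrank L Γ(T, ⊤) ≤ Nat.card T
  rw [e.toLinearEquiv.finrank_eq, Module.finrank_fintype_fun_eq_card, Nat.card_congr eT,
    Nat.card_eq_fintype_card]

theorem finiteOfDegLE_mono {K : CommRingCat.{u}} {T : Scheme.{u}} (p : T ⟶ Spec K) {n m : ℕ}
    (h : BddFib.FiniteOfDegLE K p n) (hnm : n ≤ m) : BddFib.FiniteOfDegLE K p m :=
  ⟨h.1, h.2.1, h.2.2.trans hnm⟩

/-- Main theorem: étale with geometric fibres of at most `n` points implies fibre degree `≤ n`. -/
theorem fibreDegLE_of_etale {X Y : Scheme.{u}} (f : X ⟶ Y) [Etale f] (n : ℕ)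
    (h : ∀ (k : Type u) [Field k] (g : Spec (CommRingCat.of k) ⟶ Y),
      Finite ↥(Limits.pullback f g) ∧ Nat.card ↥(Limits.pullback f g) ≤ n) :
    BddFib.FibreDegLE f n := by
  intro y
  let κ := IsLocalRing.ResidueField (Y.presheaf.stalk y)
  let L := AlgebraicClosure κ
  let φ : CommRingCat.of κ ⟶ CommRingCat.of L := CommRingCat.ofHom (algebraMap κ L)
  let p : f.fiber y ⟶ Spec (CommRingCat.of κ) := f.fiberToSpecResidueField y
  refine Groth.Agent.Lib.helper1.finiteOfDegLE_descent_aux κ L φ p (pullback.snd p (Spec.map φ))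
    (pullback.fst p (Spec.map φ)) (IsPullback.of_hasPullback _ _) n ?_
  let g : Spec (CommRingCat.of L) ⟶ Y := Spec.map φ ≫ Y.fromSpecResidueField y
  obtain ⟨hfin, hcard⟩ := h L g
  let i : pullback p (Spec.map φ) ≅ pullback f g :=
    pullbackLeftPullbackSndIso f (Y.fromSpecResidueField y) (Spec.map φ)
  let ei : ↥(pullback p (Spec.map φ)) ≃ ↥(pullback f g) := i.hom.homeomorph.toEquiv
  haveI : Finite ↥(pullback p (Spec.map φ)) := Finite.of_equiv _ ei.symm
  haveI : Etale p := inferInstanceAs (Etale (pullback.snd f (Y.fromSpecResidueField y)))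
  have := finiteOfDegLE_of_etale_of_finite L (pullback.snd p (Spec.map φ))
  refine finiteOfDegLE_mono _ this ?_
  rw [Nat.card_congr ei]
  exact hcard

end Groth.Agent.Lib.helper21.FibDeg
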