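import Mathlib
import Groth.Prelude.Def_W4stkschemesremainderFib
import Groth.Agent.Lib.Helper21.FibDeg3

/-!
# Fibre degrees: descent along flat surjective morphisms
-/

set_option autoImplicit false
universe u
open CategoryTheory CategoryTheory.Limits AlgebraicGeometry TensorProduct

namespace Groth.Agent.Lib.helper21.FibDeg

/-- The comparison of fibres of a composite. -/
theorem exists_fiber_comp {X Y Z : Scheme.{u}} (f : X ⟶ Y) (g : Y ⟶ Z) (z : Z) :
    ∃ q : (f ≫ g).fiber z ⟶ g.fiber z,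
      q ≫ g.fiberToSpecResidueField z = (f ≫ g).fiberToSpecResidueField z ∧
      IsPullback ((f ≫ g).fiberι z) q f (g.fiberι z) := by
  let q : (f ≫ g).fiber z ⟶ g.fiber z :=
    pullback.lift ((f ≫ g).fiberι z ≫ f) ((f ≫ g).fiberToSpecResidueField z)
      (by rw [Category.assoc]; exact (f ≫ g).fiber_fac z)
  have hq1 : q ≫ g.fiberToSpecResidueField z = (f ≫ g).fiberToSpecResidueField z :=
    pullback.lift_snd _ _ _
  have hq2 : q ≫ g.fiberι z = (f ≫ g).fiberι z ≫ f := pullback.lift_fst _ _ _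
  refine ⟨q, hq1, ?_⟩
  refine IsPullback.of_bot (v₂₁ := g.fiberToSpecResidueField z) (v₂₂ := g)
    (h₃₁ := Z.fromSpecResidueField z) ?_ hq2.symm
    (IsPullback.of_hasPullback g (Z.fromSpecResidueField z))
  rw [hq1]
  exact IsPullback.of_hasPullback (f ≫ g) _

/-- Descent of `FiniteOfDegLE` along a flat surjective morphism. -/
theorem finiteOfDegLE_of_flat_surjective (k : Type u) [Field k] {W T : Scheme.{u}}
    (pT : T ⟶ Spec (CommRingCat.of k)) (q : W ⟶ T) [Flat q] [Surjective q] (n : ℕ)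
    (hW : BddFib.FiniteOfDegLE (CommRingCat.of k) (q ≫ pT) n) :
    BddFib.FiniteOfDegLE (CommRingCat.of k) pT n := by
  obtain ⟨hWfin, hWdisc⟩ := finite_discrete_of_finiteOfDegLE k (q ≫ pT) n hW
  haveI : Finite T := Finite.of_surjective q q.surjective
  haveI : QuasiCompact q := ⟨fun U _ _ => (Set.toFinite _).isCompact⟩
  have hquot : Topology.IsQuotientMap q := Flat.isQuotientMap_of_surjective q
  haveI : DiscreteTopology T := by
    rw [discreteTopology_iff_forall_isOpen]
    intro s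
    exact hquot.isOpen_preimage.mp (isOpen_discrete _)
  haveI : IsAffine T := inferInstance
  obtain ⟨haffW, hfinW, hrkW⟩ := hW
  have ff : q.appTop.hom.FaithfullyFlat :=
    (Flat.flat_and_surjective_iff_faithfullyFlat_of_isAffine q).mp ⟨‹_›, ‹_›⟩
  have inj := ff.injective
  letI algKB : Algebra k Γ(T, ⊤) := BddFib.secAlgebra (CommRingCat.of k) pT
  letI algBC : Algebra Γ(T, ⊤) Γ(W, ⊤) := q.appTop.hom.toAlgebra
  letI algKC : Algebra k Γ(W, ⊤) := BddFib.secAlgebra (CommRingCat.of k) (q ≫ pT)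
  haveI : IsScalarTower k Γ(T, ⊤) Γ(W, ⊤) := IsScalarTower.of_algebraMap_eq' (by
    change (((Scheme.ΓSpecIso (CommRingCat.of k)).inv ≫ (q ≫ pT).appTop).hom : _ →+* _) =
      (q.appTop.hom).comp (((Scheme.ΓSpecIso (CommRingCat.of k)).inv ≫ pT.appTop).hom)
    rw [Scheme.Hom.comp_appTop, ← CommRingCat.hom_comp, Category.assoc])
  haveI : Module.Finite k Γ(W, ⊤) := hfinW
  let φ : Γ(T, ⊤) →ₗ[k] Γ(W, ⊤) := (IsScalarTower.toAlgHom k Γ(T, ⊤) Γ(W, ⊤)).toLinearMap
  have hφ : Function.Injective φ := inj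
  refine ⟨inferInstance, Module.Finite.of_injective φ hφ, ?_⟩
  exact (LinearMap.finrank_le_finrank_of_injective hφ).trans hrkW

/-- Fibre degrees descend along flat surjective morphisms. -/
theorem fibreDegLE_of_flat_surjective {X Y Z : Scheme.{u}} (f : X ⟶ Y) (h : Y ⟶ Z) [Flat f]
    [Surjective f] (n : ℕ) (hg : BddFib.FibreDegLE (f ≫ h) n) : BddFib.FibreDegLE h n := by
  intro z
  obtain ⟨q, hq1, hpb⟩ := exists_fiber_comp f h z
  haveI : Flat q := MorphismProperty.of_isPullback (P := @Flat) hpb ‹_›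
  haveI : Surjective q := MorphismProperty.of_isPullback (P := @Surjective) hpb ‹_›
  have h1 : BddFib.FiniteOfDegLE (Z.residueField z) (q ≫ h.fiberToSpecResidueField z) n := by
    rw [hq1]; exact hg z
  exact finiteOfDegLE_of_flat_surjective (IsLocalRing.ResidueField (Z.presheaf.stalk z))
    (h.fiberToSpecResidueField z) q n h1

end Groth.Agent.Lib.helper21.FibDeg
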