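import Mathlib
import Groth.Prelude.Def_W4stkschemesremainderFib
import Groth.Agent.Lib.Helper21.FibDeg6

/-!
# Fibre degrees: finite open covers of the source
-/

set_option autoImplicit false
universe u
open CategoryTheory CategoryTheory.Limits AlgebraicGeometry TensorProduct TopologicalSpace

namespace Groth.Agent.Lib.helper21.FibDeg

/-- `FiniteOfDegLE` for a finite open cover. -/
theorem finiteOfDegLE_of_openCover (k : Type u) [Field k] {T : Scheme.{u}}
    (p : T ⟶ Spec (CommRingCat.of k)) {ι : Type*} [Fintype ι] (W : ι → T.Opens)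
    (hW : IsOpenCover W) (a : ι → ℕ)
    (h : ∀ j, BddFib.FiniteOfDegLE (CommRingCat.of k) ((W j).ι ≫ p) (a j)) :
    BddFib.FiniteOfDegLE (CommRingCat.of k) p (∑ j, a j) := by
  have hfd : ∀ j, Finite (W j).toScheme ∧ DiscreteTopology (W j).toScheme := fun j =>
    finite_discrete_of_finiteOfDegLE k _ _ (h j)
  haveI : Finite T := by
    rw [← Set.finite_univ_iff, ← hW.iSup_set_eq_univ]
    exact Set.finite_iUnion fun j => Set.finite_coe_iff.mp (hfd j).1
  haveI : DiscreteTopology T := by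
    rw [discreteTopology_iff_isOpen_singleton]
    intro t
    obtain ⟨j, hj⟩ := hW.exists_mem t
    haveI : DiscreteTopology {x // x ∈ W j} := (hfd j).2
    have h2 : IsOpen ({⟨t, hj⟩} : Set {x // x ∈ W j}) := isOpen_discrete _
    have h4 := (W j).2.isOpenMap_subtype_val _ h2
    have h3 : (Subtype.val '' ({⟨t, hj⟩} : Set {x // x ∈ W j})) = ({t} : Set T) := by
      ext x
      constructor
      · rintro ⟨z, hz, rfl⟩
        have hz' : z = ⟨t, hj⟩ := hz
        rw [hz']; rfl
      · intro hx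
        have hx' : x = t := hx
        exact ⟨⟨t, hj⟩, rfl, hx'.symm⟩
    rw [← h3]; exact h4
  haveI : IsAffine T := inferInstance
  letI algKB : Algebra k Γ(T, ⊤) := BddFib.secAlgebra (CommRingCat.of k) p
  letI algKC : ∀ j, Algebra k Γ((W j).toScheme, ⊤) := fun j =>
    BddFib.secAlgebra (CommRingCat.of k) ((W j).ι ≫ p)
  haveI : ∀ j, Module.Finite k Γ((W j).toScheme, ⊤) := fun j => (h j).2.1
  have hrk : ∀ j, Module.finrank k Γ((W j).toScheme, ⊤) ≤ a j := fun j => (h j).2.2
  let φj : ∀ j, Γ(T, ⊤) →ₗ[k] Γ((W j).toScheme, ⊤) := fun j =>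
    { toFun := fun s => (W j).ι.appTop s
      map_add' := fun s t => map_add _ s t
      map_smul' := fun c s => by
        simp only [Algebra.smul_def, map_mul, RingHom.id_apply]
        congr 1 }
  let φ : Γ(T, ⊤) →ₗ[k] (∀ j, Γ((W j).toScheme, ⊤)) := LinearMap.pi φj
  have hφ : Function.Injective φ := by
    rw [← LinearMap.ker_eq_bot, LinearMap.ker_eq_bot']
    intro s hs
    refine Scheme.zero_of_zero_cover s (T.openCoverOfIsOpenCover W hW) fun j => ?_
    exact congrFun hs j
  refine ⟨inferInstance, Module.Finite.of_injective φ hφ, ?_⟩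
  refine (LinearMap.finrank_le_finrank_of_injective hφ).trans ?_
  rw [Module.finrank_pi_fintype]
  exact Finset.sum_le_sum fun j _ => hrk j

/-- The fibre of the restriction of `f` to an open `U` is the open `fiberι ⁻¹ U` of the fibre. -/
theorem exists_iso_fiber_restrict {X Y : Scheme.{u}} (f : X ⟶ Y) (U : X.Opens) (y : Y) :
    ∃ e : (U.ι ≫ f).fiber y ≅ ((f.fiberι y) ⁻¹ᵁ U).toScheme,
      e.hom ≫ ((f.fiberι y) ⁻¹ᵁ U).ι ≫ f.fiberToSpecResidueField y =
        (U.ι ≫ f).fiberToSpecResidueField y := by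
  have H1 := isPullback_morphismRestrict (f.fiberι y) U
  have H2 : IsPullback (f.fiberι y) (f.fiberToSpecResidueField y) f
      (Y.fromSpecResidueField y) := IsPullback.of_hasPullback _ _
  have H := H1.paste_vert H2
  refine ⟨(H.isoPullback).symm, ?_⟩
  rw [Iso.symm_hom, Iso.inv_comp_eq]
  exact (H.isoPullback_hom_snd).symm

/-- `FibreDegLE` for a finite open cover of the source. -/
theorem fibreDegLE_of_openCover {X Y : Scheme.{u}} (f : X ⟶ Y) {ι : Type*} [Fintype ι]
    (U : ι → X.Opens) (hU : IsOpenCover U) (a : ι → ℕ)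
    (h : ∀ j, BddFib.FibreDegLE ((U j).ι ≫ f) (a j)) :
    BddFib.FibreDegLE f (∑ j, a j) := by
  intro y
  refine finiteOfDegLE_of_openCover (IsLocalRing.ResidueField (Y.presheaf.stalk y))
    (f.fiberToSpecResidueField y) (fun j => (f.fiberι y) ⁻¹ᵁ (U j)) ?_ a ?_
  · exact hU.comap ⟨_, (f.fiberι y).continuous⟩
  · intro j
    obtain ⟨e, he⟩ := exists_iso_fiber_restrict f (U j) y
    have h1 : BddFib.FiniteOfDegLE (Y.residueField y)
        (e.hom ≫ ((f.fiberι y) ⁻¹ᵁ (U j)).ι ≫ f.fiberToSpecResidueField y) (a j) := by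
      rw [he]; exact h j y
    exact finiteOfDegLE_of_flat_surjective (IsLocalRing.ResidueField (Y.presheaf.stalk y))
      (((f.fiberι y) ⁻¹ᵁ (U j)).ι ≫ f.fiberToSpecResidueField y) e.hom (a j) h1

end Groth.Agent.Lib.helper21.FibDeg
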