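import Mathlib
import Groth.Prelude.Def_W4stkschemesremainderFib
import Groth.Agent.Lib.Helper21.FibDeg4
import Groth.Agent.Lib.Helper21.FibDeg7
import Groth.Agent.S7439

/-!
# Fibre degrees: finite morphisms of affine schemes, and the local structure of quasi-finite morphisms
-/

set_option autoImplicit false
universe u
open CategoryTheory CategoryTheory.Limits AlgebraicGeometry TensorProduct TopologicalSpace

namespace Groth.Agent.Lib.helper21.FibDeg

/-- A morphism of affine schemes whose coordinate ring is generated by `m` elements as a module has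
fibres of degree `≤ m`. -/
theorem fibreDegLE_of_span {W T : Scheme.{u}} (q : W ⟶ T) [IsAffine W] [IsAffine T] (m : ℕ)
    (s : Fin m → Γ(W, ⊤))
    (hs : letI := q.appTop.hom.toAlgebra
      Submodule.span Γ(T, ⊤) (Set.range s) = ⊤) : BddFib.FibreDegLE q m := by
  intro t
  letI algBC : Algebra Γ(T, ⊤) Γ(W, ⊤) := q.appTop.hom.toAlgebra
  letI algBL : Algebra Γ(T, ⊤) (T.residueField t) := (T.Γevaluation t).hom.toAlgebra
  letI algLF : Algebra (T.residueField t) Γ(q.fiber t, ⊤) :=
    BddFib.secAlgebra (T.residueField t) (q.fiberToSpecResidueField t)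
  obtain ⟨e⟩ := nonempty_linearEquiv_fiber q t
  have hspan : Submodule.span (T.residueField t)
      (Set.range fun i => (1 : T.residueField t) ⊗ₜ[Γ(T, ⊤)] s i) = ⊤ := by
    have h1 := Submodule.baseChange_span (R := Γ(T, ⊤)) (A := T.residueField t) (Set.range s)
    rw [hs, Submodule.baseChange_top] at h1
    rw [h1, ← Set.range_comp]
    rfl
  haveI : Module.Finite (T.residueField t) ((T.residueField t) ⊗[Γ(T, ⊤)] Γ(W, ⊤)) :=
    ⟨by rw [← hspan]; exact Submodule.fg_span (Set.finite_range _)⟩
  have hrk : Module.finrank (T.residueField t) ((T.residueField t) ⊗[Γ(T, ⊤)] Γ(W, ⊤)) ≤ m := by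
    have h2 := finrank_range_le_card (R := T.residueField t)
      (fun i => (1 : T.residueField t) ⊗ₜ[Γ(T, ⊤)] s i)
    rw [Set.finrank, hspan, finrank_top, Fintype.card_fin] at h2
    exact h2
  refine ⟨inferInstanceAs (IsAffine (pullback q (T.fromSpecResidueField t))),
    Module.Finite.equiv e.symm, ?_⟩
  change Module.finrank (T.residueField t) Γ(q.fiber t, ⊤) ≤ m
  rw [e.finrank_eq]
  exact hrk

/-- Version for `Spec.map` of a module-finite algebra. -/
theorem fibreDegLE_SpecMap_of_span {A S : Type u} [CommRing A] [CommRing S] [Algebra A S] (m : ℕ)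
    (s : Fin m → S) (hs : Submodule.span A (Set.range s) = ⊤) :
    BddFib.FibreDegLE (Spec.map (CommRingCat.ofHom (algebraMap A S))) m := by
  refine fibreDegLE_of_span _ m (fun i => (Scheme.ΓSpecIso (CommRingCat.of S)).inv (s i)) ?_
  letI alg : Algebra Γ(Spec (CommRingCat.of A), ⊤) Γ(Spec (CommRingCat.of S), ⊤) :=
    (Spec.map (CommRingCat.ofHom (algebraMap A S))).appTop.hom.toAlgebra
  rw [eq_top_iff]
  intro w _
  obtain ⟨w0, rfl⟩ : ∃ w0 : S, (Scheme.ΓSpecIso (CommRingCat.of S)).inv w0 = w :=
    ⟨(Scheme.ΓSpecIso (CommRingCat.of S)).hom w, by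
      rw [← CommRingCat.comp_apply, Iso.hom_inv_id]; rfl⟩
  have hw0 : w0 ∈ Submodule.span A (Set.range s) := hs ▸ Submodule.mem_top
  induction hw0 using Submodule.span_induction with
  | mem x hx =>
    obtain ⟨i, rfl⟩ := hx
    exact Submodule.subset_span ⟨i, rfl⟩
  | zero => rw [map_zero]; exact Submodule.zero_mem _
  | add x y _ _ hx hy => rw [map_add]; exact Submodule.add_mem _ (hx trivial) (hy trivial)
  | smul a x _ hx =>
    have h1 : (Scheme.ΓSpecIso (CommRingCat.of S)).inv (a • x) =
        ((Scheme.ΓSpecIso (CommRingCat.of A)).inv a) •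
          (Scheme.ΓSpecIso (CommRingCat.of S)).inv x := by
      rw [Algebra.smul_def, map_mul, Algebra.smul_def]
      congr 1
      have := Scheme.ΓSpecIso_inv_naturality (CommRingCat.ofHom (algebraMap A S))
      exact congr($this a)
    rw [h1]
    exact Submodule.smul_mem _ _ (hx trivial)

/-- Localization transfer: if `ψ : S' → B` induces a bijection `S'[1/r] → B[1/ψ r]` and `C` is
`B[1/ψ r]`, then `C` is `S'[1/r]`. -/
theorem isLocalization_away_of_awayMap_bijective {S' B C : Type*} [CommRing S'] [CommRing B]
    [CommRing C] [Algebra S' B] [Algebra B C] [Algebra S' C] [IsScalarTower S' B C] (r : S')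
    [IsLocalization.Away (algebraMap S' B r) C]
    (hbij : Function.Bijective (Localization.awayMap (algebraMap S' B) r)) :
    IsLocalization.Away r C := by
  let e1 : Localization.Away r ≃+* Localization.Away (algebraMap S' B r) :=
    RingEquiv.ofBijective _ hbij
  let e2 : Localization.Away (algebraMap S' B r) ≃ₐ[B] C :=
    IsLocalization.algEquiv (.powers (algebraMap S' B r)) _ _
  let e : Localization.Away r ≃ₐ[S'] C :=
    AlgEquiv.ofRingEquiv (f := e1.trans e2.toRingEquiv) (by
      intro x
      change e2 (Localization.awayMap (algebraMap S' B) r (algebraMap S' _ x)) = _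
      rw [Localization.awayMap, IsLocalization.Away.map, IsLocalization.map_eq, e2.commutes,
        ← IsScalarTower.algebraMap_apply])
  exact IsLocalization.isLocalization_of_algEquiv (.powers r) e

end Groth.Agent.Lib.helper21.FibDeg
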