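import Mathlib
import Groth.Prelude.Def_W4stkschemesremainderFib
import Groth.Agent.Lib.Helper21.FibDeg8

/-!
# Quasi-finite morphisms with quasi-compact source have universally bounded fibres
-/

set_option autoImplicit false
universe u
open CategoryTheory CategoryTheory.Limits AlgebraicGeometry TensorProduct TopologicalSpace

namespace Groth.Agent.Lib.helper21.FibDeg

/-- Local structure: every point has an open neighbourhood on which the fibre degrees are
bounded (Zariski's main theorem). -/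
theorem exists_open_fibreDegLE {X Y : Scheme.{u}} (f : X ⟶ Y) [LocallyQuasiFinite f]
    [LocallyOfFiniteType f] (x : X) :
    ∃ (U : X.Opens) (m : ℕ), x ∈ U ∧ BddFib.FibreDegLE (U.ι ≫ f) m := by
  obtain ⟨V, hV, hxV, -⟩ := exists_isAffineOpen_mem_and_subset (x := f x) (U := ⊤) trivial
  obtain ⟨U₀, hU₀, hxU₀, hU₀V⟩ :=
    exists_isAffineOpen_mem_and_subset (x := x) (U := f ⁻¹ᵁ V) hxV
  have hqf : (f.appLE V U₀ hU₀V).hom.QuasiFinite :=
    LocallyQuasiFinite.quasiFinite_appLE hV hU₀ hU₀V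
  have hft : (f.appLE V U₀ hU₀V).hom.FiniteType := f.finiteType_appLE hV hU₀ hU₀V
  algebraize [(f.appLE V U₀ hU₀V).hom]
  let 𝔮 := hU₀.primeIdealOf ⟨x, hxU₀⟩
  obtain ⟨S', hFG, r, hr, hbij⟩ :=
    Algebra.QuasiFiniteAt.exists_fg_and_exists_notMem_and_awayMap_bijective (R := Γ(Y, V))
      𝔮.asIdeal
  have hUU₀ : X.basicOpen (r : Γ(X, U₀)) ≤ U₀ := X.basicOpen_le _
  have hU : IsAffineOpen (X.basicOpen (r : Γ(X, U₀))) := hU₀.basicOpen r.1
  have hxU : x ∈ X.basicOpen (r : Γ(X, U₀)) := by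
    have h1 := hU₀.fromSpec_preimage_basicOpen r.1
    have h2 := hU₀.fromSpec_primeIdealOf ⟨x, hxU₀⟩
    have h3 : 𝔮 ∈ hU₀.fromSpec ⁻¹ᵁ X.basicOpen r.1 := by rw [h1]; exact hr
    have h4 : hU₀.fromSpec 𝔮 ∈ X.basicOpen r.1 := h3
    rwa [h2] at h4
  haveI locBC : IsLocalization.Away (r : Γ(X, U₀)) Γ(X, X.basicOpen (r : Γ(X, U₀))) :=
    hU₀.isLocalization_basicOpen r.1
  haveI : IsScalarTower S' Γ(X, U₀) Γ(X, X.basicOpen (r : Γ(X, U₀))) :=
    IsScalarTower.of_algebraMap_eq' rfl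
  haveI : IsLocalization.Away (algebraMap S' Γ(X, U₀) r) Γ(X, X.basicOpen (r : Γ(X, U₀))) :=
    locBC
  haveI locSC : IsLocalization.Away r Γ(X, X.basicOpen (r : Γ(X, U₀))) :=
    isLocalization_away_of_awayMap_bijective r hbij
  haveI : Module.Finite Γ(Y, V) S' := ⟨(Submodule.fg_top _).mpr hFG⟩
  obtain ⟨m, s, hs⟩ := Module.Finite.exists_fin (R := Γ(Y, V)) (M := S')
  haveI : IsOpenImmersion (Spec.map (CommRingCat.ofHom
      (algebraMap S' Γ(X, X.basicOpen (r : Γ(X, U₀)))))) :=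
    IsOpenImmersion.of_isLocalization r
  let a : (X.basicOpen (r : Γ(X, U₀))).toScheme ⟶ Spec (CommRingCat.of S') :=
    hU.isoSpec.hom ≫ Spec.map (CommRingCat.ofHom
      (algebraMap S' Γ(X, X.basicOpen (r : Γ(X, U₀)))))
  let b : Spec (CommRingCat.of S') ⟶ Spec Γ(Y, V) :=
    Spec.map (CommRingCat.ofHom (algebraMap Γ(Y, V) S'))
  have ha : BddFib.FibreDegLE a 1 := Groth.Agent.S7439.result a
  have hb : BddFib.FibreDegLE b m := fibreDegLE_SpecMap_of_span m s hs
  have hc : BddFib.FibreDegLE hV.fromSpec 1 := Groth.Agent.S7439.result hV.fromSpec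
  have hcomp : (X.basicOpen (r : Γ(X, U₀))).ι ≫ f = a ≫ b ≫ hV.fromSpec := by
    have e1 : CommRingCat.ofHom (algebraMap Γ(Y, V) S') ≫ CommRingCat.ofHom
        (algebraMap S' Γ(X, X.basicOpen (r : Γ(X, U₀)))) =
        f.appLE V (X.basicOpen (r : Γ(X, U₀))) (hUU₀.trans hU₀V) := by
      rw [← Scheme.Hom.appLE_map f hU₀V (homOfLE hUU₀).op]
      rfl
    simp only [a, b, Category.assoc]
    rw [← Spec.map_comp_assoc, e1, IsAffineOpen.SpecMap_appLE_fromSpec f hV hU,
      IsAffineOpen.isoSpec_hom_fromSpec_assoc]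
  refine ⟨X.basicOpen (r : Γ(X, U₀)), 1 * (m * 1), hxU, ?_⟩
  rw [hcomp]
  exact fibreDegLE_comp a (b ≫ hV.fromSpec) 1 (m * 1) ha (fibreDegLE_comp b _ m 1 hb hc)

/-- Locally quasi-finite morphisms, locally of finite type, with quasi-compact source have
universally bounded fibres. -/
theorem univBounded_of_locallyQuasiFinite {X Y : Scheme.{u}} (f : X ⟶ Y) [LocallyQuasiFinite f]
    [LocallyOfFiniteType f] [CompactSpace X] : BddFib.UnivBounded f := by
  choose U m hxU hdeg using exists_open_fibreDegLE f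
  have hcov : IsOpenCover U := IsOpenCover.mk (by
    rw [eq_top_iff]
    intro x _
    exact Opens.mem_iSup.mpr ⟨x, hxU x⟩)
  obtain ⟨s, hs⟩ := hcov.exists_finite_of_compactSpace
  exact ⟨∑ j : s, m j.1, fibreDegLE_of_openCover f (fun j : s => U j.1) hs (fun j => m j.1)
    (fun j => hdeg j.1)⟩

end Groth.Agent.Lib.helper21.FibDeg
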