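import Mathlib
import Groth.Agent.Lib.Helper24.FlatDepth2
import Groth.Agent.Lib.Helper25.StalkExact

/-!
# Regular elements on the closed fibre of a flat module (helper21)

`R → S` a local homomorphism of Noetherian local rings, `N` a finite `S`-module flat over `R`.
* `regular_fibre_iff`: `y ∈ S` is regular on `N/𝔪_R N` iff `y` is regular on `N` and `N/yN` is flat
  over `R` (Stacks 00ME through helper24, and its converse).
* `quotQuotEquiv`: `(N/JN)/y ≃ (N/yN)/J(N/yN)`.
-/

set_option autoImplicit false
universe u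
open TensorProduct IsLocalRing
open scoped Pointwise

namespace Groth.Agent.Lib.helper21.FibReg

open Groth.Agent.Lib.Helper24.FlatDepth Groth.Agent.Lib.Helper25.StalkExact

section QuotQuot

variable {S : Type u} [CommRing S] (N : Type u) [AddCommGroup N] [Module S N]

lemma smul_top_quot (J : Ideal S) (P : Submodule S N) :
    J • (⊤ : Submodule S (N ⧸ P)) = (J • (⊤ : Submodule S N)).map P.mkQ := by
  rw [Submodule.map_smul'', Submodule.map_top, Submodule.range_mkQ]

/-- `(N/JN)/y ≃ (N/yN)/J(N/yN)`. -/
noncomputable def quotQuotEquiv (J : Ideal S) (y : S) :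
    QuotSMulTop y (N ⧸ J • (⊤ : Submodule S N)) ≃ₗ[S]
      (QuotSMulTop y N) ⧸ J • (⊤ : Submodule S (QuotSMulTop y N)) := by
  have hle : J • (⊤ : Submodule S N) ≤
      (J • (⊤ : Submodule S (QuotSMulTop y N))).comap (y • (⊤ : Submodule S N)).mkQ := by
    rw [← Submodule.map_le_iff_le_comap]
    exact (smul_top_quot N J _).ge
  refine quotSMulTopEquivOfSurjective y (Submodule.mapQ _ _ (y • (⊤ : Submodule S N)).mkQ hle) ?_ ?_
  · intro z
    obtain ⟨z, rfl⟩ := Submodule.mkQ_surjective _ z
    obtain ⟨n, rfl⟩ := Submodule.mkQ_surjective _ z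
    exact ⟨Submodule.Quotient.mk n, rfl⟩
  · ext z
    obtain ⟨n, rfl⟩ := Submodule.mkQ_surjective _ z
    rw [LinearMap.mem_ker]
    change Submodule.Quotient.mk ((y • (⊤ : Submodule S N)).mkQ n) = 0 ↔ _
    rw [Submodule.Quotient.mk_eq_zero, smul_top_quot, Submodule.mem_map,
      Submodule.mem_smul_pointwise_iff_exists]
    constructor
    · rintro ⟨n', hn', h⟩
      have h2 : n - n' ∈ y • (⊤ : Submodule S N) := by
        rw [← Submodule.Quotient.mk_eq_zero, Submodule.Quotient.mk_sub]
        change (y • (⊤ : Submodule S N)).mkQ n - (y • (⊤ : Submodule S N)).mkQ n' = 0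
        rw [h, sub_self]
      obtain ⟨w, -, hw⟩ := (Submodule.mem_smul_pointwise_iff_exists _ _ _).1 h2
      refine ⟨Submodule.Quotient.mk w, trivial, ?_⟩
      rw [← Submodule.Quotient.mk_smul, hw]
      change Submodule.Quotient.mk (n - n') = Submodule.Quotient.mk n
      rw [Submodule.Quotient.mk_sub, (Submodule.Quotient.mk_eq_zero _).2 hn', sub_zero]
    · rintro ⟨w, -, hw⟩
      obtain ⟨w, rfl⟩ := Submodule.mkQ_surjective _ w
      change y • Submodule.Quotient.mk w = Submodule.Quotient.mk n at hw
      rw [← Submodule.Quotient.mk_smul, eq_comm, ← sub_eq_zero, ← Submodule.Quotient.mk_sub,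
        Submodule.Quotient.mk_eq_zero] at hw
      refine ⟨n - y • w, hw, ?_⟩
      rw [map_sub, sub_eq_self]
      change (Submodule.Quotient.mk (y • w) : QuotSMulTop y N) = 0
      rw [Submodule.Quotient.mk_eq_zero]
      exact Submodule.smul_mem_pointwise_smul w y ⊤ trivial

end QuotQuot


section Local

variable (R S : Type u) [CommRing R] [CommRing S] [Algebra R S] [IsLocalRing R] [IsLocalRing S]
  [IsNoetherianRing R] [IsNoetherianRing S] [IsLocalHom (algebraMap R S)]
  (N : Type u) [AddCommGroup N] [Module S N] [Module R N] [IsScalarTower R S N]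
  [Module.Finite S N]

/-- converse of Stacks 00ME: if `y` is `N`-regular and `N/yN` is `R`-flat then `y` is regular on
`N ⊗ M` for every `R`-module `M`. -/
theorem isSMulRegular_tensor_of_flat_quot (y : S) (hy : IsSMulRegular N y)
    [Module.Flat R (QuotSMulTop y N)] (M : Type u) [AddCommGroup M] [Module R M] :
    IsSMulRegular (N ⊗[R] M) y := by
  let i : N →ₗ[R] N := (LinearMap.lsmul S N y).restrictScalars R
  let p : N →ₗ[R] QuotSMulTop y N := (y • (⊤ : Submodule S N)).mkQ.restrictScalars R
  have hi : Function.Injective i := hy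
  have hex : Function.Exact i p := by
    intro n
    change Submodule.Quotient.mk n = 0 ↔ n ∈ Set.range i
    rw [Submodule.Quotient.mk_eq_zero, Submodule.mem_smul_pointwise_iff_exists]
    constructor
    · rintro ⟨w, -, hw⟩; exact ⟨w, hw⟩
    · rintro ⟨w, hw⟩; exact ⟨w, trivial, hw⟩
  have hp : Function.Surjective p := Submodule.mkQ_surjective _
  have hinj := lTensor_injective_of_exact_of_flat M i p hi hex hp
  refine IsSMulRegular.of_right_eq_zero_of_smul ?_
  intro z hz
  have key : ∀ w : N ⊗[R] M, i.lTensor M (TensorProduct.comm R N M w) =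
      TensorProduct.comm R N M (y • w) := by
    intro w
    induction w using TensorProduct.induction_on with
    | zero => simp
    | tmul n m => rfl
    | add a b ha hb => rw [map_add, map_add, ha, hb, smul_add, map_add]
  have h0 : i.lTensor M (TensorProduct.comm R N M z) = 0 := by rw [key, hz, map_zero]
  have h1 := hinj (h0.trans (map_zero _).symm)
  exact (TensorProduct.comm R N M).injective (h1.trans (map_zero _).symm)

theorem regular_fibre_iff [Module.Flat R N] (y : S) :
    IsSMulRegular (N ⧸ ((maximalIdeal R).map (algebraMap R S)) • (⊤ : Submodule S N)) y ↔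
      IsSMulRegular N y ∧ Module.Flat R (QuotSMulTop y N) := by
  rw [← LinearEquiv.isSMulRegular_congr (tensorQuotEquiv R S N (maximalIdeal R)) y]
  constructor
  · intro hy
    refine ⟨?_, flat_quotSMulTop R S N y hy⟩
    have h1 := isSMulRegular_tensor R S N y hy R
    exact (LinearEquiv.isSMulRegular_congr (TensorProduct.AlgebraTensorModule.rid R S N) y).1 h1
  · rintro ⟨hy, hfl⟩
    exact isSMulRegular_tensor_of_flat_quot R S N y hy _


/-- transport of `M/JM` along a linear equivalence -/
noncomputable def quotSMulTopCongr {S : Type u} [CommRing S] {A B : Type u} [AddCommGroup A]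
    [Module S A] [AddCommGroup B] [Module S B] (e : A ≃ₗ[S] B) (J : Ideal S) :
    (A ⧸ J • (⊤ : Submodule S A)) ≃ₗ[S] (B ⧸ J • (⊤ : Submodule S B)) :=
  Submodule.Quotient.equiv _ _ e (by
    rw [Submodule.map_smul'', Submodule.map_top, LinearEquiv.range])

open RingTheory.Sequence in
theorem step_iff [Module.Flat R N] (y : S) (ys : List S) (N' : Type u) [AddCommGroup N']
    [Module S N'] [Module R N'] [IsScalarTower R S N'] (e : QuotSMulTop y N ≃ₗ[S] N') :
    IsWeaklyRegular (N ⧸ ((maximalIdeal R).map (algebraMap R S)) • (⊤ : Submodule S N)) (y :: ys) ↔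
      IsSMulRegular N y ∧ Module.Flat R N' ∧
        IsWeaklyRegular (N' ⧸ ((maximalIdeal R).map (algebraMap R S)) • (⊤ : Submodule S N')) ys := by
  rw [isWeaklyRegular_cons_iff, regular_fibre_iff R S N y]
  have h1 : Module.Flat R (QuotSMulTop y N) ↔ Module.Flat R N' :=
    Module.Flat.equiv_iff (e.restrictScalars R)
  have h2 := LinearEquiv.isWeaklyRegular_congr
    ((quotQuotEquiv N ((maximalIdeal R).map (algebraMap R S)) y).trans
      (quotSMulTopCongr e ((maximalIdeal R).map (algebraMap R S)))) ys
  rw [h1, h2, and_assoc]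

end Local

end Groth.Agent.Lib.helper21.FibReg
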