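import Mathlib
import Groth.Prelude.Def_Formal
import Groth.Prelude.Def_DerSch
import Groth.Agent.Lib.Helper25.StalkExact
import Groth.Agent.Lib.Helper16.QCohAss
import Groth.Agent.Lib.Helper24.FlatDepth1

/-!
# Stalks of the kernel and cokernel of multiplication by a global function (helper21)

For `F : X.Modules`, `g ∈ Γ(X, ⊤)` and `x : X`, with `g_x` the germ of `g`:
* `stalk_smulModΓ_apply`: the stalk map of `Formal.smulModΓ F g` is multiplication by `g_x`.
* `stalkCokerEquiv`: `(coker g)_x ≃ F_x / g_x F_x`, linearly over `O_{X,x}`.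
* `isSMulRegular_stalk_iff`: `g_x` is `F_x`-regular iff `(ker g)_x = 0`.
-/

set_option autoImplicit false
universe u
open CategoryTheory CategoryTheory.Limits AlgebraicGeometry Opposite TopologicalSpace
open scoped Pointwise

namespace Groth.Agent.Lib.helper21.FibReg

open Groth.Agent.Lib.Helper25.StalkExact Groth.Agent.Lib.Helper24.FlatDepth

variable {X : Scheme.{u}} (F : X.Modules) (g : Coh.Γtop X) (x : X)

/-- the germ of a global function -/
noncomputable abbrev germTop (g : Coh.Γtop X) (x : X) : X.presheaf.stalk x :=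
  (X.presheaf.germ ⊤ x trivial).hom g

theorem stalk_smulModΓ_apply (m : F.presheaf.stalk x) :
    ((DerSch.stalkFunctor X x).map (Formal.smulModΓ F g)).hom m = germTop g x • m := by
  obtain ⟨U, hxU, s, rfl⟩ := F.presheaf.exists_germ_eq m
  have h0 := DerSch.stalkFunctor_map_germ x (Formal.smulModΓ F g) U hxU s
  refine h0.trans ?_
  have h1 : ((Formal.smulModΓ F g).app U).hom s =
      (X.presheaf.map (homOfLE (le_top : U ≤ ⊤)).op).hom g • s := rfl
  change (F.presheaf.germ U x hxU).hom (((Formal.smulModΓ F g).app U).hom s) = _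
  rw [h1, Groth.Agent.Lib.helper16.QCohAss.germ_smul']
  have e := TopCat.Presheaf.germ_res_apply X.presheaf (homOfLE (le_top : U ≤ ⊤)) x hxU g
  exact congrArg (· • (F.presheaf.germ U x hxU).hom s) e


section Coker

/-- the stalk map of the projection to the cokernel -/
noncomputable abbrev cokerπStalk : F.presheaf.stalk x →ₗ[X.presheaf.stalk x]
    (cokernel (Formal.smulModΓ F g)).presheaf.stalk x :=
  ((DerSch.stalkFunctor X x).map (cokernel.π (Formal.smulModΓ F g))).hom

theorem cokerπStalk_surjective : Function.Surjective (cokerπStalk F g x) := by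
  have : Epi ((DerSch.stalkFunctor X x).map (cokernel.π (Formal.smulModΓ F g))) := inferInstance
  exact (ModuleCat.epi_iff_surjective _).1 this

theorem ker_cokerπStalk :
    LinearMap.ker (cokerπStalk F g x) =
      germTop g x • (⊤ : Submodule (X.presheaf.stalk x) (F.presheaf.stalk x)) := by
  have hex : (ShortComplex.mk (Formal.smulModΓ F g) (cokernel.π (Formal.smulModΓ F g))
      (cokernel.condition _)).Exact := ShortComplex.exact_cokernel _
  have hex' := hex.map (DerSch.stalkFunctor X x)
  rw [ShortComplex.ShortExact.moduleCat_exact_iff_function_exact] at hex'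
  ext m
  rw [LinearMap.mem_ker, Submodule.mem_smul_pointwise_iff_exists]
  have := hex' m
  constructor
  · intro hm
    obtain ⟨w, hw⟩ := this.1 hm
    refine ⟨w, trivial, ?_⟩
    rw [← stalk_smulModΓ_apply]
    exact hw
  · rintro ⟨w, -, hw⟩
    refine this.2 ⟨w, ?_⟩
    rw [← hw, ← stalk_smulModΓ_apply]
    rfl

/-- `(coker g)_x ≃ F_x / g_x F_x` -/
noncomputable def stalkCokerEquiv :
    QuotSMulTop (germTop g x) (F.presheaf.stalk x) ≃ₗ[X.presheaf.stalk x]
      (cokernel (Formal.smulModΓ F g)).presheaf.stalk x :=
  quotSMulTopEquivOfSurjective (germTop g x) (cokerπStalk F g x) (cokerπStalk_surjective F g x)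
    (ker_cokerπStalk F g x)

end Coker

section Ker

theorem isSMulRegular_stalk_iff :
    IsSMulRegular (F.presheaf.stalk x) (germTop g x) ↔
      Subsingleton ((kernel (Formal.smulModΓ F g)).presheaf.stalk x) := by
  have hex : (ShortComplex.mk (kernel.ι (Formal.smulModΓ F g)) (Formal.smulModΓ F g)
      (kernel.condition _)).Exact := ShortComplex.exact_kernel _
  have hex' := hex.map (DerSch.stalkFunctor X x)
  rw [ShortComplex.ShortExact.moduleCat_exact_iff_function_exact] at hex'
  have hmono : Mono ((DerSch.stalkFunctor X x).map (kernel.ι (Formal.smulModΓ F g))) :=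
    inferInstance
  have hinj := (ModuleCat.mono_iff_injective _).1 hmono
  constructor
  · intro hreg
    refine ⟨fun a b => hinj ?_⟩
    have key : ∀ c : (kernel (Formal.smulModΓ F g)).presheaf.stalk x,
        ((DerSch.stalkFunctor X x).map (kernel.ι (Formal.smulModΓ F g))).hom c = 0 := by
      intro c
      apply hreg
      change germTop g x • _ = germTop g x • (0 : F.presheaf.stalk x)
      rw [smul_zero, ← stalk_smulModΓ_apply]
      exact (hex' _).2 ⟨c, rfl⟩
    exact (key a).trans (key b).symm
  · intro hsub
    refine IsSMulRegular.of_right_eq_zero_of_smul ?_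
    intro m hm
    rw [← stalk_smulModΓ_apply] at hm
    obtain ⟨c, hc⟩ := (hex' m).1 hm
    have hc0 : c = 0 := hsub.elim (α := (kernel (Formal.smulModΓ F g)).presheaf.stalk x) c 0
    rw [← hc, hc0]
    exact map_zero _

end Ker

end Groth.Agent.Lib.helper21.FibReg
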