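import Mathlib
import Groth.Prelude.Def_FlatMod2
import Groth.Agent.Lib.Helper21.FibReg1
import Groth.Agent.Lib.Helper21.FibReg2
import Groth.Agent.Lib.Helper8.DevMaster
import Groth.Agent.Lib.Helper7.CohKer
import Groth.Agent.Lib.Helper3.FlatDescJ
import Groth.Agent.Lib.Helper18.NilThickScheme
import Groth.Agent.Lib.Helper16.CohFinite
import Groth.Agent.Lib.Helper16.CohStalk

/-!
# Openness of the locus where a sequence of functions is regular on the fibres (helper21)

`Y` locally Noetherian, `f : X ⟶ Y` locally of finite type, `F` coherent on `X`, `gs` a list of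
global functions.  `isOpen_flat_and_fibreRegular`: the set of points `x` where `F` is `f`-flat and
the germs of `gs` form a weakly regular sequence on `F_x / 𝔪_{f x} F_x` is open (EGA IV 11.3.8-type
statement, Noetherian case).
-/

set_option autoImplicit false
universe u
open CategoryTheory CategoryTheory.Limits AlgebraicGeometry Opposite TopologicalSpace
open scoped Pointwise

namespace Groth.Agent.Lib.helper21.FibReg

variable {X Y : Scheme.{u}} (f : X ⟶ Y)

/-- the fibre module `F_x / 𝔪_{f x} F_x` -/
abbrev Fib (F : X.Modules) (x : X) : Type u :=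
  ↑(F.presheaf.stalk x) ⧸ (Ideal.map (f.stalkMap x).hom
    (IsLocalRing.maximalIdeal ↑(Y.presheaf.stalk (f x))) •
      (⊤ : Submodule ↑(X.presheaf.stalk x) ↑(F.presheaf.stalk x)))

/-- the germs of a list of global functions form a weakly regular sequence on the fibre module -/
def FibreRegular (F : X.Modules) (gs : List (Coh.Γtop X)) (x : X) : Prop :=
  RingTheory.Sequence.IsWeaklyRegular (Fib f F x) (gs.map fun g => germTop g x)

variable [IsLocallyNoetherian Y] [LocallyOfFiniteType f]

include f in
theorem isLocallyNoetherian_source : IsLocallyNoetherian X :=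
  LocallyOfFiniteType.isLocallyNoetherian f

theorem step (F : X.Modules) (hF : Coh.IsCoh F) (g : Coh.Γtop X) (gs : List (Coh.Γtop X)) (x : X)
    (hfl : FlatMod.IsFlatOverAt f F x) :
    FibreRegular f F (g :: gs) x ↔
      x ∉ CohB1.support (kernel (Formal.smulModΓ F g)) ∧
        FlatMod.IsFlatOverAt f (cokernel (Formal.smulModΓ F g)) x ∧
          FibreRegular f (cokernel (Formal.smulModΓ F g)) gs x := by
  haveI : IsLocallyNoetherian X := isLocallyNoetherian_source f
  letI : Algebra (Y.presheaf.stalk (f x)) (X.presheaf.stalk x) := (f.stalkMap x).hom.toAlgebra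
  letI : Module (Y.presheaf.stalk (f x)) (F.presheaf.stalk x) := FlatMod.moduleStalkOver f F x
  haveI : IsScalarTower (Y.presheaf.stalk (f x)) (X.presheaf.stalk x) (F.presheaf.stalk x) :=
    IsScalarTower.of_algebraMap_smul fun r n => rfl
  letI : Module (Y.presheaf.stalk (f x)) ((cokernel (Formal.smulModΓ F g)).presheaf.stalk x) :=
    FlatMod.moduleStalkOver f (cokernel (Formal.smulModΓ F g)) x
  haveI : IsScalarTower (Y.presheaf.stalk (f x)) (X.presheaf.stalk x)
      ((cokernel (Formal.smulModΓ F g)).presheaf.stalk x) :=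
    IsScalarTower.of_algebraMap_smul fun r n => rfl
  haveI : IsLocalHom (algebraMap (Y.presheaf.stalk (f x)) (X.presheaf.stalk x)) :=
    inferInstanceAs (IsLocalHom (f.stalkMap x).hom)
  haveI : Module.Finite (X.presheaf.stalk x) (F.presheaf.stalk x) :=
    Groth.Agent.Lib.helper16.CohStalk.finite_stalk_of_isCoh F hF x
  haveI : Module.Flat (Y.presheaf.stalk (f x)) (F.presheaf.stalk x) := hfl
  have h := step_iff (Y.presheaf.stalk (f x)) (X.presheaf.stalk x) (F.presheaf.stalk x)
    (germTop g x) (gs.map fun g => germTop g x)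
    ((cokernel (Formal.smulModΓ F g)).presheaf.stalk x) (stalkCokerEquiv F g x)
  have h2 := isSMulRegular_stalk_iff F g x
  unfold FibreRegular
  rw [List.map_cons]
  refine h.trans ?_
  rw [h2]
  constructor
  · rintro ⟨h3, h4, h5⟩
    exact ⟨fun hx => hx h3, h4, h5⟩
  · rintro ⟨h3, h4, h5⟩
    exact ⟨not_not.1 h3, h4, h5⟩


theorem isOpen_flatLocus (F : X.Modules) (hF : Coh.IsCoh F) :
    IsOpen {x : X | FlatMod.IsFlatOverAt f F x} := by
  haveI : IsLocallyNoetherian X := isLocallyNoetherian_source f
  haveI : LocallyOfFinitePresentation f :=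
    Groth.Agent.Lib.Helper18.NilThick.locallyOfFinitePresentation_of_isLocallyNoetherian f
  haveI : F.IsQuasicoherent := hF.1
  exact Groth.Agent.Lib.helper3.FlatDesc.isOpen_flatLocus_modules f F
    (Groth.Agent.Lib.helper16.CohFinite.isFinitePresentation_of_isCoh F hF)

theorem isOpen_flat_and_fibreRegular (gs : List (Coh.Γtop X)) :
    ∀ (F : X.Modules), Coh.IsCoh F →
      IsOpen {x : X | FlatMod.IsFlatOverAt f F x ∧ FibreRegular f F gs x} := by
  haveI : IsLocallyNoetherian X := isLocallyNoetherian_source f
  induction gs with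
  | nil =>
    intro F hF
    have h1 := isOpen_flatLocus f F hF
    have : {x : X | FlatMod.IsFlatOverAt f F x ∧ FibreRegular f F [] x} =
        {x : X | FlatMod.IsFlatOverAt f F x} := by
      ext x
      simp only [Set.mem_setOf_eq, and_iff_left_iff_imp]
      intro _
      exact RingTheory.Sequence.IsWeaklyRegular.nil _ _
    rw [this]
    exact h1
  | cons g gs ih =>
    intro F hF
    have hK := Groth.Agent.Lib.helper7.CohKer.isCoh_kernel hF hF (Formal.smulModΓ F g)
    have hC := Groth.Agent.Lib.helper7.CohKer.isCoh_cokernel hF hF (Formal.smulModΓ F g)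
    have h1 := isOpen_flatLocus f F hF
    have h2 : IsOpen (CohB1.support (kernel (Formal.smulModΓ F g)))ᶜ :=
      (Groth.Agent.Lib.helper8.Dev.isClosed_support_of_isCoh _ hK).isOpen_compl
    have h3 := ih _ hC
    have : {x : X | FlatMod.IsFlatOverAt f F x ∧ FibreRegular f F (g :: gs) x} =
        ({x : X | FlatMod.IsFlatOverAt f F x} ∩ (CohB1.support (kernel (Formal.smulModΓ F g)))ᶜ) ∩
          {x : X | FlatMod.IsFlatOverAt f (cokernel (Formal.smulModΓ F g)) x ∧
            FibreRegular f (cokernel (Formal.smulModΓ F g)) gs x} := by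
      ext x
      constructor
      · rintro ⟨ha, hb⟩
        obtain ⟨h3, h4, h5⟩ := (step f F hF g gs x ha).1 hb
        exact ⟨⟨ha, h3⟩, h4, h5⟩
      · rintro ⟨⟨ha, h3⟩, h4, h5⟩
        exact ⟨ha, (step f F hF g gs x ha).2 ⟨h3, h4, h5⟩⟩
    rw [this]
    exact (h1.inter h2).inter h3

end Groth.Agent.Lib.helper21.FibReg
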