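import Groth.Agent.Lib.Helper21.QCohColim
import Groth.Agent.Lib.Helper16.QCohEpi

/-!
# Epimorphisms from a filtered colimit of quasi-coherent modules to a finite type module (helper21)
-/

set_option autoImplicit false
universe u
open AlgebraicGeometry CategoryTheory CategoryTheory.Limits TopologicalSpace Opposite

namespace Groth.Agent.Lib.helper21.FiltEpi

open Groth.Agent.Lib.helper21.QCohColim

variable {X : Scheme.{u}}

/-- a morphism of modules on sections, as a linear map -/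
noncomputable def appLin {M N : X.Modules} (ψ : M ⟶ N) (W : X.Opens) :
    Γ(M, W) →ₗ[Γ(X, W)] Γ(N, W) where
  toFun := (ψ.app W).hom
  map_add' := map_add _
  map_smul' r m := Scheme.Modules.Hom.app_smul ψ r m

/-- every section over an affine open of a filtered colimit of quasi-coherent modules comes from
a stage -/
lemma exists_rep {J : Type u} [SmallCategory J] [IsFiltered J] (D : J ⥤ X.Modules)
    (hD : ∀ j, (D.obj j).IsQuasicoherent) {c : Cocone D} (hc : IsColimit c) {U : X.Opens}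
    (hU : IsAffineOpen U) (x : Γ(c.pt, U)) :
    ∃ (j : J) (y : Γ(D.obj j, U)), ((c.ι.app j).app U).hom y = x := by
  haveI := preservesColimit_secAb hU D hD
  have hc' := isColimitOfPreserves (secAb U) hc
  obtain ⟨j, y, hy⟩ := Concrete.isColimit_exists_rep (D ⋙ secAb U) hc' x
  exact ⟨j, y, hy⟩

theorem exists_stage [CompactSpace X] {J : Type u} [SmallCategory J] [IsFiltered J]
    (D : J ⥤ X.Modules) (hD : ∀ j, (D.obj j).IsQuasicoherent) {c : Cocone D} (hc : IsColimit c)
    [c.pt.IsQuasicoherent] (F : X.Modules) [F.IsQuasicoherent]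
    (hF : SheafOfModules.IsFiniteType (R := X.ringCatSheaf) F) (u : c.pt ⟶ F) [Epi u] :
    ∃ j₀ : J, ∀ j : J, Nonempty (j₀ ⟶ j) → Epi (c.ι.app j ≫ u) := by
  classical
  obtain ⟨s, hs, hcov⟩ := isCompact_iff_finite_and_eq_biUnion_affineOpens.mp
    (show IsCompact (X := X) (⊤ : X.Opens) from isCompact_univ)
  have key : ∀ U : X.affineOpens, ∃ jU : J, ∀ j, Nonempty (jU ⟶ j) →
      Function.Surjective (appLin (c.ι.app j ≫ u) U.1) := by
    intro U
    haveI := Groth.Agent.Lib.helper16.CohFinite.finite_sections_of_isFiniteType F hF U.2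
    obtain ⟨n, f, hf⟩ := Module.Finite.exists_fin (R := Γ(X, U.1)) (M := Γ(F, U.1))
    have h1 : ∀ k : Fin n, ∃ (j : J) (y : Γ(D.obj j, U.1)),
        appLin (c.ι.app j ≫ u) U.1 y = f k := by
      intro k
      obtain ⟨g, hg⟩ := Groth.Agent.Lib.helper16.QCohEpi.surjective_app_of_epi u U.2 (f k)
      obtain ⟨j, y, hy⟩ := exists_rep D hD hc U.2 g
      refine ⟨j, y, ?_⟩
      show (u.app U.1).hom (((c.ι.app j).app U.1).hom y) = f k
      rw [hy, hg]
    choose jk y hy using h1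
    obtain ⟨jU, hjU⟩ := IsFiltered.sup_objs_exists (Finset.univ.image jk)
    refine ⟨jU, fun j hj => ?_⟩
    obtain ⟨φ⟩ := hj
    rw [← LinearMap.range_eq_top, eq_top_iff, ← hf, Submodule.span_le]
    rintro _ ⟨k, rfl⟩
    obtain ⟨ψ⟩ := hjU (Finset.mem_image_of_mem jk (Finset.mem_univ k))
    refine ⟨((D.map (ψ ≫ φ)).app U.1).hom (y k), ?_⟩
    have hw := c.w (ψ ≫ φ)
    rw [← hy k, ← hw]
    rfl
  choose jU hjU using key
  obtain ⟨j₀, hj₀⟩ := IsFiltered.sup_objs_exists (hs.toFinset.image jU)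
  refine ⟨j₀, fun j hj => ?_⟩
  obtain ⟨φ⟩ := hj
  refine Groth.Agent.Lib.helper16.QCohEpi.epi_of_surjective_on_affine_cover (c.ι.app j ≫ u)
    (fun U : s => U.1.1) (fun U => U.1.2) (fun x => ?_) (fun U => ?_)
  · have hx : x ∈ (⊤ : X.Opens) := trivial
    rw [hcov] at hx
    simp only [Opens.mem_iSup] at hx
    obtain ⟨U, hU, hxU⟩ := hx
    exact ⟨⟨U, hU⟩, hxU⟩
  · obtain ⟨ψ⟩ := hj₀ (Finset.mem_image_of_mem jU (hs.mem_toFinset.mpr U.2))
    exact hjU U.1 j ⟨ψ ≫ φ⟩

end Groth.Agent.Lib.helper21.FiltEpi
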