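import Mathlib
import Groth.Agent.Lib.Helper17.BiratPush

/-!
# Sections of integral morphisms over a normal integral base extend from the generic point

* `bijective_of_integral_of_injective`: the algebra step.
* `isIso_of_generic_section`: for `f : Y ⟶ X` integral, `X` integral with integrally closed local
  rings, and `s : Spec K(X) ⟶ Y` lifting `Spec K(X) ⟶ X`, the scheme theoretic image of `s`
  maps isomorphically to `X`.
* `exists_section_of_generic_section`: hence `f` has a section.
-/

set_option autoImplicit false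
set_option linter.style.haveILetI false
universe u

open CategoryTheory AlgebraicGeometry TopologicalSpace Opposite

namespace Groth.Agent.Lib.helper21.FiniteSection

/-- algebra step: an integral extension of an integrally closed domain `A` which embeds into the
fraction field of `A` compatibly is trivial. -/
theorem bijective_of_integral_of_injective {A B L : Type*} [CommRing A] [IsDomain A]
    [IsIntegrallyClosed A] [CommRing B] [Field L] [Algebra A L] [IsFractionRing A L]
    (φ : A →+* B) (hφ : φ.IsIntegral) (χ : B →+* L) (hχ : Function.Injective χ)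
    (h : χ.comp φ = algebraMap A L) : Function.Bijective φ := by
  constructor
  · intro a a' haa
    apply IsFractionRing.injective A L
    rw [← h]
    simp [haa]
  · intro b
    have hb : IsIntegral A (χ b) := by
      obtain ⟨p, hp, hpb⟩ := hφ b
      refine ⟨p, hp, ?_⟩
      rw [← h, ← Polynomial.hom_eval₂, hpb, map_zero]
    obtain ⟨a, ha⟩ := IsIntegrallyClosed.isIntegral_iff.mp hb
    refine ⟨a, hχ ?_⟩
    rw [← ha, ← h]
    rfl

variable {X Y : Scheme.{u}} [IsIntegral X]

/-- the composite `Γ(X, V) → K(X)` computed through a morphism equal to `Spec K(X) ⟶ X`. -/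
theorem appLE_comp_ΓSpecIso_eq_germ (g : Spec (X.functionField) ⟶ X)
    (hg : g = X.fromSpecStalk (genericPoint X)) (V : X.Opens) (hξ : genericPoint X ∈ V)
    (le : (⊤ : (Spec (X.functionField)).Opens) ≤ g ⁻¹ᵁ V) :
    g.appLE V ⊤ le ≫ (Scheme.ΓSpecIso (X.functionField)).hom =
      X.presheaf.germ V (genericPoint X) hξ := by
  subst hg
  rw [Scheme.Hom.appLE, Scheme.fromSpecStalk_app hξ]
  simp only [Category.assoc]
  rw [← Functor.map_comp_assoc]
  have : ((homOfLE le_top).op ≫ (homOfLE le).op :
      op (⊤ : (Spec (X.functionField)).Opens) ⟶ op ⊤) = 𝟙 _ := Subsingleton.elim _ _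
  rw [this, CategoryTheory.Functor.map_id, Category.id_comp, Iso.inv_hom_id, Category.comp_id]


/-- key step: on a nonempty affine open `V` of `X`, the scheme theoretic image of a generic section
of an integral morphism has the same sections as `X`. -/
theorem isIso_app_image (hX : ∀ x : X, IsIntegrallyClosed (X.presheaf.stalk x)) (f : Y ⟶ X)
    [IsIntegralHom f] (s : Spec (X.functionField) ⟶ Y)
    (hs : s ≫ f = X.fromSpecStalk (genericPoint X)) (V : X.Opens) (hV : IsAffineOpen V)
    (hne : (V : Set X).Nonempty) : IsIso ((s.imageι ≫ f).app V) := by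
  have hξ : genericPoint X ∈ V :=
    ((genericPoint_spec X).mem_open_set_iff V.isOpen).mpr (by simpa [Set.univ_inter] using hne)
  haveI : Nonempty V := ⟨⟨_, hξ⟩⟩
  haveI : IsIntegrallyClosed Γ(X, V) :=
    Groth.Agent.Lib.helper17.BiratPush.isIntegrallyClosed_sections hX hV
  haveI := functionField_isFractionRing_of_isAffineOpen X V hV
  have hcomp : s.toImage ≫ (s.imageι ≫ f) = X.fromSpecStalk (genericPoint X) := by
    rw [← Category.assoc, Scheme.Hom.toImage_imageι, hs]
  have le : (⊤ : (Spec (X.functionField)).Opens) ≤ s.toImage ⁻¹ᵁ ((s.imageι ≫ f) ⁻¹ᵁ V) := by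
    intro p _
    change (s.toImage ≫ (s.imageι ≫ f)) p ∈ V
    rw [hcomp]
    have hp : (X.fromSpecStalk (genericPoint X)) p ∈
        Set.range (X.fromSpecStalk (genericPoint X)) := ⟨p, rfl⟩
    rw [Scheme.range_fromSpecStalk] at hp
    exact hp.mem_open V.isOpen hξ
  have hint : ((s.imageι ≫ f).app V).hom.IsIntegral :=
    IsIntegralHom.isIntegral_app (s.imageι ≫ f) V hV
  have hinj : Function.Injective
      (s.toImage.appLE ((s.imageι ≫ f) ⁻¹ᵁ V) ⊤ le ≫
        (Scheme.ΓSpecIso (X.functionField)).hom).hom := by
    rw [CommRingCat.hom_comp, RingHom.coe_comp]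
    refine ((ConcreteCategory.isIso_iff_bijective
      (Scheme.ΓSpecIso (X.functionField)).hom).mp inferInstance).1.comp ?_
    rw [Scheme.Hom.appLE, CommRingCat.hom_comp, RingHom.coe_comp]
    have h1 : Function.Injective (s.toImage.app ((s.imageι ≫ f) ⁻¹ᵁ V)).hom :=
      Scheme.Hom.toImage_app_injective s ⟨f ⁻¹ᵁ V, hV.preimage f⟩
    refine Function.Injective.comp ?_ h1
    haveI : IsIso (homOfLE le) :=
      ⟨⟨homOfLE le_top, Subsingleton.elim _ _, Subsingleton.elim _ _⟩⟩
    exact ((ConcreteCategory.isIso_iff_bijective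
      ((Spec (X.functionField)).presheaf.map (homOfLE le).op)).mp inferInstance).1
  have hcompat : (s.toImage.appLE ((s.imageι ≫ f) ⁻¹ᵁ V) ⊤ le ≫
        (Scheme.ΓSpecIso (X.functionField)).hom).hom.comp ((s.imageι ≫ f).app V).hom =
      algebraMap Γ(X, V) X.functionField := by
    rw [← CommRingCat.hom_comp, ← Category.assoc, Scheme.Hom.app_eq_appLE,
      Scheme.Hom.appLE_comp_appLE, appLE_comp_ΓSpecIso_eq_germ _ hcomp V hξ]
    rfl
  rw [ConcreteCategory.isIso_iff_bijective]
  exact bijective_of_integral_of_injective _ hint _ hinj hcompat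


set_option backward.isDefEq.respectTransparency false in
/-- the scheme theoretic image of a generic section of an integral morphism over a normal
integral scheme maps isomorphically onto the base. -/
theorem isIso_image_comp (hX : ∀ x : X, IsIntegrallyClosed (X.presheaf.stalk x)) (f : Y ⟶ X)
    [IsIntegralHom f] (s : Spec (X.functionField) ⟶ Y)
    (hs : s ≫ f = X.fromSpecStalk (genericPoint X)) : IsIso (s.imageι ≫ f) := by
  change MorphismProperty.isomorphisms Scheme (s.imageι ≫ f)
  refine HasAffineProperty.of_iSup_eq_top (P := MorphismProperty.isomorphisms Scheme)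
    (fun i : {U : X.affineOpens // (U.1 : Set X).Nonempty} => i.1) ?_ (fun i => ⟨?_, ?_⟩)
  · rw [eq_top_iff]
    intro x _
    obtain ⟨_, ⟨U, hU, rfl⟩, hxU, -⟩ :=
      X.isBasis_affineOpens.exists_subset_of_mem_open (Set.mem_univ x) isOpen_univ
    exact Opens.mem_iSup.mpr ⟨⟨⟨U, hU⟩, ⟨x, hxU⟩⟩, hxU⟩
  · exact IsAffineHom.isAffine_preimage (f := s.imageι ≫ f) _ i.1.2
  · rw [Scheme.Hom.appTop, morphismRestrict_app]
    have hV : IsAffineOpen (i.1.1.ι ''ᵁ ⊤) := by
      rw [Scheme.Opens.ι_image_top]; exact i.1.2
    have hne : ((i.1.1.ι ''ᵁ ⊤ : X.Opens) : Set X).Nonempty := by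
      rw [Scheme.Opens.ι_image_top]; exact i.2
    haveI := isIso_app_image hX f s hs _ hV hne
    exact IsIso.comp_isIso' inferInstance inferInstance

/-- **Extension of generic sections**: an integral morphism to a normal integral scheme which has
a section over the generic point has a section. -/
theorem exists_section_of_generic_section (hX : ∀ x : X, IsIntegrallyClosed (X.presheaf.stalk x))
    (f : Y ⟶ X) [IsIntegralHom f] (s : Spec (X.functionField) ⟶ Y)
    (hs : s ≫ f = X.fromSpecStalk (genericPoint X)) : ∃ t : X ⟶ Y, t ≫ f = 𝟙 X := by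
  haveI := isIso_image_comp hX f s hs
  exact ⟨inv (s.imageι ≫ f) ≫ s.imageι, by rw [Category.assoc, IsIso.inv_hom_id]⟩

end Groth.Agent.Lib.helper21.FiniteSection
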