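import Mathlib

/-!
# The scheme-theoretic image of a scheme flat over a Dedekind domain is flat (helper21), part 1

* `Sat ρ K`: the saturation `{a | ∃ r ≠ 0, ρ r * a ∈ K}` of an ideal with respect to a ring map from
  a domain; `map_Sat`: it commutes with localization.
* `ρ q U : R ⟶ Γ(Y, U)` for `q : Y ⟶ Spec R`; `ρ_res`, `ρ_app`, `fromSpec_comp`.
* `eq_zero_of_ρ_mul_eq_zero`: sections of a scheme flat over a domain are torsion-free.
-/

set_option autoImplicit false
set_option linter.style.haveILetI false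
set_option linter.unusedSectionVars false

universe u

open CategoryTheory CategoryTheory.Limits AlgebraicGeometry TopologicalSpace Opposite

namespace Groth.Agent.Lib.helper21.FlatImage

section Alg

variable {R A : Type*} [CommRing R] [IsDomain R] [CommRing A] (ρ : R →+* A)

/-- the saturation of `K` with respect to the nonzero elements of `R` -/
def Sat (K : Ideal A) : Ideal A where
  carrier := {a | ∃ r : R, r ≠ 0 ∧ ρ r * a ∈ K}
  add_mem' := by
    rintro a b ⟨r, hr, ha⟩ ⟨r', hr', hb⟩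
    refine ⟨r * r', mul_ne_zero hr hr', ?_⟩
    have : ρ (r * r') * (a + b) = ρ r' * (ρ r * a) + ρ r * (ρ r' * b) := by
      rw [map_mul]; ring
    rw [this]
    exact K.add_mem (K.mul_mem_left _ ha) (K.mul_mem_left _ hb)
  zero_mem' := ⟨1, one_ne_zero, by simp⟩
  smul_mem' := by
    rintro c a ⟨r, hr, ha⟩
    refine ⟨r, hr, ?_⟩
    have : ρ r * (c • a) = c * (ρ r * a) := by
      rw [smul_eq_mul]; ring
    rw [this]
    exact K.mul_mem_left _ ha

theorem mem_Sat {K : Ideal A} {a : A} : a ∈ Sat ρ K ↔ ∃ r : R, r ≠ 0 ∧ ρ r * a ∈ K := Iff.rfl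

theorem le_Sat (K : Ideal A) : K ≤ Sat ρ K := fun a ha => ⟨1, one_ne_zero, by simpa using ha⟩

theorem map_Sat {A' : Type*} [CommRing A'] [Algebra A A'] (M : Submonoid A)
    [IsLocalization M A'] (K : Ideal A) :
    (Sat ρ K).map (algebraMap A A') = Sat ((algebraMap A A').comp ρ) (K.map (algebraMap A A')) := by
  apply le_antisymm
  · rw [Ideal.map_le_iff_le_comap]
    rintro a ⟨r, hr, ha⟩
    refine ⟨r, hr, ?_⟩
    have : ((algebraMap A A').comp ρ) r * algebraMap A A' a = algebraMap A A' (ρ r * a) := by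
      rw [map_mul]; rfl
    rw [this]
    exact Ideal.mem_map_of_mem _ ha
  · rintro b ⟨r, hr, hb⟩
    obtain ⟨⟨⟨k, hk⟩, m⟩, hkm⟩ := (IsLocalization.mem_map_algebraMap_iff M A').mp hb
    obtain ⟨⟨a, t⟩, hat⟩ := IsLocalization.surj M b
    simp only at hkm hat
    have h1 : algebraMap A A' (ρ r * a * m) = algebraMap A A' (k * t) := by
      rw [map_mul, map_mul, map_mul, ← hat, ← hkm]
      simp only [RingHom.comp_apply]
      ring
    obtain ⟨c, hc⟩ := (IsLocalization.eq_iff_exists M A').mp h1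
    have h2 : (c : A) * m * a ∈ Sat ρ K := by
      refine ⟨r, hr, ?_⟩
      have : ρ r * ((c : A) * m * a) = (c : A) * t * k := by
        calc ρ r * ((c : A) * m * a) = c * (ρ r * a * m) := by ring
          _ = c * (k * t) := hc
          _ = (c : A) * t * k := by ring
      rw [this]
      exact K.mul_mem_left _ hk
    refine (IsLocalization.mem_map_algebraMap_iff M A').mpr ⟨⟨⟨(c : A) * m * a, h2⟩, c * m * t⟩, ?_⟩
    simp only [Submonoid.coe_mul, map_mul]
    rw [← hat]
    ring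

end Alg

section Geom

variable {R : Type u} [CommRing R] {Y : Scheme.{u}} (q : Y ⟶ Spec (CommRingCat.of R))

/-- the ring map `R ⟶ Γ(Y, U)` induced by `q : Y ⟶ Spec R` -/
noncomputable def ρ (U : Y.Opens) : CommRingCat.of R ⟶ Γ(Y, U) :=
  (Scheme.ΓSpecIso (CommRingCat.of R)).inv ≫ q.appLE ⊤ U (by simp)

theorem ρ_res {U V : Y.Opens} (h : V ≤ U) :
    ρ q U ≫ Y.presheaf.map (homOfLE h).op = ρ q V := by
  rw [ρ, ρ, Category.assoc, Scheme.Hom.appLE_map]

theorem ρ_app {X : Scheme.{u}} (f : X ⟶ Y) (U : Y.Opens) :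
    ρ q U ≫ f.app U = ρ (f ≫ q) (f ⁻¹ᵁ U) := by
  rw [ρ, ρ, Category.assoc, Scheme.Hom.app_eq_appLE, Scheme.Hom.appLE_comp_appLE]

theorem fromSpec_comp {U : Y.Opens} (hU : IsAffineOpen U) :
    hU.fromSpec ≫ q = Spec.map (ρ q U) := by
  rw [ρ, Spec.map_comp, ← Scheme.isoSpec_Spec_inv, ← IsAffineOpen.fromSpec_top,
    IsAffineOpen.SpecMap_appLE_fromSpec]

end Geom

section Torsion

variable {R : Type u} [CommRing R] [IsDomain R] {X : Scheme.{u}}
  (p : X ⟶ Spec (CommRingCat.of R)) [Flat p]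

theorem flat_ρ {W : X.Opens} (hW : IsAffineOpen W) : (ρ p W).hom.Flat := by
  have h1 : (p.appLE ⊤ W (by simp)).hom.Flat :=
    Flat.flat_appLE p (isAffineOpen_top _) hW _
  have h2 : ((Scheme.ΓSpecIso (CommRingCat.of R)).inv).hom.Flat :=
    RingHom.Flat.of_bijective (ConcreteCategory.bijective_of_isIso _)
  exact RingHom.Flat.comp h2 h1

theorem eq_zero_of_ρ_mul_eq_zero_of_isAffineOpen {W : X.Opens} (hW : IsAffineOpen W) (r : R)
    (hr : r ≠ 0) (t : Γ(X, W)) (h : (ρ p W).hom r * t = 0) : t = 0 := by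
  letI := (ρ p W).hom.toAlgebra
  haveI : Module.Flat R Γ(X, W) := flat_ρ p hW
  have hreg : IsSMulRegular Γ(X, W) r :=
    Module.Flat.isSMulRegular_of_nonZeroDivisors (mem_nonZeroDivisors_of_ne_zero hr)
  have h1 : r • t = r • (0 : Γ(X, W)) := by
    rw [smul_zero, Algebra.smul_def]
    exact h
  exact hreg h1

theorem eq_zero_of_ρ_mul_eq_zero (W : X.Opens) (r : R) (hr : r ≠ 0) (t : Γ(X, W))
    (h : (ρ p W).hom r * t = 0) : t = 0 := by
  refine X.IsSheaf.section_ext fun x hx => ?_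
  obtain ⟨_, ⟨V, hV, rfl⟩, hxV, hVW : V ≤ W⟩ :=
    X.isBasis_affineOpens.exists_subset_of_mem_open hx W.isOpen
  refine ⟨V, hVW, hxV, ?_⟩
  rw [map_zero]
  refine eq_zero_of_ρ_mul_eq_zero_of_isAffineOpen p hV r hr _ ?_
  have h2 := congrArg (X.presheaf.map (homOfLE hVW).op).hom h
  rw [map_mul, map_zero] at h2
  rw [← ρ_res p hVW]
  exact h2

end Torsion

end Groth.Agent.Lib.helper21.FlatImage
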