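import Mathlib
import Groth.Agent.Lib.Helper21.FlatImage1

/-!
# The scheme-theoretic image of a scheme flat over a Dedekind domain is flat (helper21), part 2

* `satSheaf q K`: the saturation of an ideal sheaf with respect to the nonzero elements of `R`.
* `satSheaf_ker_le`: for `X` flat over the domain `R`, the kernel of `f : X ⟶ Y` is saturated.
* `flat_imageι_comp`: the main theorem.
-/

set_option autoImplicit false
set_option linter.style.haveILetI false
set_option linter.unusedSectionVars false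

universe u

open CategoryTheory CategoryTheory.Limits AlgebraicGeometry TopologicalSpace Opposite

namespace Groth.Agent.Lib.helper21.FlatImage

variable {R : Type u} [CommRing R] [IsDomain R] {X Y : Scheme.{u}}
  (q : Y ⟶ Spec (CommRingCat.of R))

/-- the saturation of an ideal sheaf with respect to the nonzero elements of `R` -/
noncomputable def satSheaf (K : Y.IdealSheafData) : Y.IdealSheafData where
  ideal U := Sat (ρ q U.1).hom (K.ideal U)
  map_ideal_basicOpen U s := by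
    haveI := U.2.isLocalization_basicOpen s
    have h1 := map_Sat (ρ q U.1).hom (Submonoid.powers s) (A' := Γ(Y, Y.basicOpen s)) (K.ideal U)
    have h2 : (algebraMap Γ(Y, U.1) Γ(Y, Y.basicOpen s)).comp (ρ q U.1).hom =
        (ρ q (Y.basicOpen s)).hom := by
      rw [← ρ_res q (Y.basicOpen_le s)]
      rfl
    rw [h2] at h1
    have h3 := K.map_ideal_basicOpen U s
    exact h1.trans (by rw [← h3]; rfl)

theorem satSheaf_ker_le (f : X ⟶ Y) [Flat (f ≫ q)] : satSheaf q f.ker ≤ f.ker := by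
  refine Scheme.IdealSheafData.le_ofIdeals_iff.mpr fun U a ha => ?_
  obtain ⟨r, hr, hra⟩ := ha
  have h1 : (ρ q U.1).hom r * a ∈ RingHom.ker (f.app U.1).hom := f.ideal_ker_le U hra
  rw [RingHom.mem_ker, map_mul] at h1
  have h2 : (f.app U.1).hom ((ρ q U.1).hom r) = (ρ (f ≫ q) (f ⁻¹ᵁ U.1)).hom r := by
    rw [← ρ_app q f U.1]
    rfl
  rw [h2] at h1
  exact eq_zero_of_ρ_mul_eq_zero (f ≫ q) (f ⁻¹ᵁ U.1) r hr _ h1

theorem mem_ker_of_ρ_mul_mem (f : X ⟶ Y) [Flat (f ≫ q)] (U : Y.affineOpens) (r : R) (hr : r ≠ 0)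
    (a : Γ(Y, U.1)) (h : (ρ q U.1).hom r * a ∈ f.ker.ideal U) : a ∈ f.ker.ideal U :=
  satSheaf_ker_le q f U ⟨r, hr, h⟩

theorem flat_cover_comp [IsDedekindDomain R] (f : X ⟶ Y) [Flat (f ≫ q)] (U : Y.affineOpens) :
    Flat (f.ker.subschemeCover.f U ≫ f.imageι ≫ q) := by
  have h1 : f.ker.subschemeCover.f U ≫ f.imageι ≫ q =
      Spec.map (ρ q U.1 ≫ CommRingCat.ofHom (Ideal.Quotient.mk (f.ker.ideal U))) := by
    have h0 : f.ker.subschemeCover.f U ≫ f.imageι =
        Spec.map (CommRingCat.ofHom (Ideal.Quotient.mk (f.ker.ideal U))) ≫ U.2.fromSpec := by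
      rw [← Scheme.IdealSheafData.glueDataObjι_ι]
      exact Scheme.IdealSheafData.subschemeCover_map_subschemeι _ U
    calc f.ker.subschemeCover.f U ≫ f.imageι ≫ q
        = (f.ker.subschemeCover.f U ≫ f.imageι) ≫ q := (Category.assoc _ _ _).symm
      _ = (Spec.map (CommRingCat.ofHom (Ideal.Quotient.mk (f.ker.ideal U))) ≫ U.2.fromSpec) ≫ q :=
          congrArg (· ≫ q) h0
      _ = Spec.map (CommRingCat.ofHom (Ideal.Quotient.mk (f.ker.ideal U))) ≫ (U.2.fromSpec ≫ q) :=
          Category.assoc _ _ _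
      _ = Spec.map (CommRingCat.ofHom (Ideal.Quotient.mk (f.ker.ideal U))) ≫ Spec.map (ρ q U.1) := by
          rw [fromSpec_comp]
      _ = Spec.map (ρ q U.1 ≫ CommRingCat.ofHom (Ideal.Quotient.mk (f.ker.ideal U))) :=
          (Spec.map_comp _ _).symm
  rw [h1]
  refine Flat.SpecMap_iff.mpr ?_
  letI := (ρ q U.1 ≫ CommRingCat.ofHom (Ideal.Quotient.mk (f.ker.ideal U))).hom.toAlgebra
  show Module.Flat R (Γ(Y, U.1) ⧸ f.ker.ideal U)
  rw [IsDedekindDomain.flat_iff_torsion_eq_bot, eq_bot_iff]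
  intro x hx
  obtain ⟨⟨r, hr⟩, hrx⟩ := (Submodule.mem_torsion_iff x).mp hx
  obtain ⟨a, rfl⟩ := Ideal.Quotient.mk_surjective x
  rw [Submodule.mem_bot, Ideal.Quotient.eq_zero_iff_mem]
  have hr0 : r ≠ 0 := nonZeroDivisors.ne_zero hr
  refine mem_ker_of_ρ_mul_mem q f U r hr0 a ?_
  rw [← Ideal.Quotient.eq_zero_iff_mem, map_mul]
  have : (⟨r, hr⟩ : nonZeroDivisors R) • (Ideal.Quotient.mk (f.ker.ideal U) a) =
      Ideal.Quotient.mk (f.ker.ideal U) ((ρ q U.1).hom r) * Ideal.Quotient.mk (f.ker.ideal U) a := by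
    rw [Submonoid.mk_smul, Algebra.smul_def]
    rfl
  rw [← this]
  exact hrx

theorem flat_imageι_comp [IsDedekindDomain R] (f : X ⟶ Y) [Flat (f ≫ q)] :
    Flat (f.imageι ≫ q) := by
  rw [IsZariskiLocalAtSource.iff_of_openCover (P := @Flat) f.ker.subschemeCover.openCover]
  intro U
  exact flat_cover_comp q f U

end Groth.Agent.Lib.helper21.FlatImage
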