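import Mathlib
import Groth.Prelude.Def_EtBase
import Groth.Prelude.Def_EtRestW
import Groth.Agent.Lib.Helper21.ConstGerm
import Groth.Agent.Lib.Helper21.FlcConn
import Groth.Agent.Lib.Helper21.FlcRestr

/-!
# Maps from finite locally constant sheaves to locally constant sheaves are locally induced by group homs
-/

set_option autoImplicit false

open CategoryTheory CategoryTheory.Limits Opposite AlgebraicGeometry

namespace Groth.Agent.Lib.Helper21.FlcHom

open Groth.Agent.Lib.Helper21.ConstGerm Groth.Agent.Lib.Helper21.FlcConn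
  Groth.Agent.Lib.Helper21.FlcRestr

universe u

variable {X : Scheme.{u}}

/-- pointed local form: around every point `x` of `X` -/
theorem exists_local_hom_at (F G : EtCoh.Ab X) (φ : F ⟶ G)
    (hF : EtCoh.IsFiniteLocallyConstant F) (hG : EtRest.IsLocallyConstant G) (x : X) :
    ∃ (Q : X.Etale) (z : Q.left), Q.hom.base z = x ∧
      ∃ (M : Type) (_ : AddCommGroup M) (_ : Finite M) (N : Type (u + 1)) (_ : AddCommGroup N)
      (h : ULift.{u + 1} M →+ N)
      (α : EtCoh.restr F Q ≅ (constantSheaf (X.smallEtaleTopology.over Q)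
        AddCommGrpCat.{u + 1}).obj (AddCommGrpCat.of (ULift.{u + 1} M)))
      (β : EtCoh.restr G Q ≅ (constantSheaf (X.smallEtaleTopology.over Q)
        AddCommGrpCat.{u + 1}).obj (AddCommGrpCat.of N)),
      (X.smallEtaleTopology.overPullback AddCommGrpCat.{u + 1} Q).map φ ≫ β.hom =
        α.hom ≫ (constantSheaf (X.smallEtaleTopology.over Q) AddCommGrpCat.{u + 1}).map
          (AddCommGrpCat.ofHom h) := by
  obtain ⟨ι, U, hU, hM⟩ := hF
  obtain ⟨κ, V, hV, hN⟩ := hG
  obtain ⟨i, y, hy⟩ := hU x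
  obtain ⟨j, y', hy'⟩ := hV x
  obtain ⟨M, instM, finM, ⟨e₁⟩⟩ := hM i
  obtain ⟨N, instN, ⟨e₂⟩⟩ := hN j
  let f₁ : U i ⟶ EtCoh.top X := MorphismProperty.Over.homMk (U i).hom (Category.comp_id _) trivial
  let f₂ : V j ⟶ EtCoh.top X := MorphismProperty.Over.homMk (V j).hom (Category.comp_id _) trivial
  obtain ⟨P, k, k', z, -, hz, -⟩ := exists_common f₁ f₂ y y' (hy.trans hy'.symm)
  haveI : Finite (AddCommGrpCat.of (ULift.{u + 1} M)) := inferInstanceAs (Finite (ULift.{u + 1} M))
  obtain ⟨Q, q, z', hz', h, hh⟩ := exists_local_hom F G φ z (restrTriv F k e₁) (restrTriv G k' e₂)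
  refine ⟨Q, z', ?_, M, instM, finM, N, instN, h.hom, restrTriv F q (restrTriv F k e₁),
    restrTriv G q (restrTriv G k' e₂), hh⟩
  have h1 : q.left ≫ P.hom = Q.hom := MorphismProperty.Over.w q
  have h2 : k.left ≫ (U i).hom = P.hom := MorphismProperty.Over.w k
  rw [← h1, ← h2]
  show (U i).hom.base (k.left.base (q.left.base z')) = x
  rw [hz', hz, hy]

theorem local_hom_of_flc (F G : EtCoh.Ab X) (φ : F ⟶ G)
    (hF : EtCoh.IsFiniteLocallyConstant F) (hG : EtRest.IsLocallyConstant G) :
    ∃ (ι : Type u) (U : ι → X.Etale), EtCoh.Covers U ∧ ∀ i, ∃ (M N : Type (u + 1))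
      (_ : AddCommGroup M) (_ : AddCommGroup N) (h : M →+ N)
      (α : EtCoh.restr F (U i) ≅ (constantSheaf (X.smallEtaleTopology.over (U i))
        AddCommGrpCat.{u + 1}).obj (AddCommGrpCat.of M))
      (β : EtCoh.restr G (U i) ≅ (constantSheaf (X.smallEtaleTopology.over (U i))
        AddCommGrpCat.{u + 1}).obj (AddCommGrpCat.of N)),
      (X.smallEtaleTopology.overPullback AddCommGrpCat.{u + 1} (U i)).map φ ≫ β.hom =
        α.hom ≫ (constantSheaf (X.smallEtaleTopology.over (U i)) AddCommGrpCat.{u + 1}).map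
          (AddCommGrpCat.ofHom h) := by
  have key := exists_local_hom_at F G φ hF hG
  choose Q z hz M instM finM N instN h α β hh using key
  refine ⟨X, Q, ?_, ?_⟩
  · intro x
    exact ⟨x, z x, hz x⟩
  · intro x
    exact ⟨ULift.{u + 1} (M x), N x, inferInstance, instN x, h x, α x, β x, hh x⟩

end Groth.Agent.Lib.Helper21.FlcHom
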