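import Mathlib

/-!
# Limits of sequences of "unit or nilpotent" rings are local (helper21)

* `exists_sub_algebraMap_isNilpotent`: in a finite algebra over an algebraically closed field all of
  whose elements are units or nilpotent, every element is a scalar plus a nilpotent.
* `SeqLim`: for `F : ℕᵒᵖ ⥤ CommRingCat` whose terms are nontrivial with every element a unit or
  nilpotent, `limit F` is a local ring.
-/

set_option autoImplicit false
universe u
open CategoryTheory CategoryTheory.Limits Polynomial

namespace Groth.Agent.Lib.helper21.FormalLocal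

/-- in a finite algebra over an algebraically closed field in which every element is a unit or
nilpotent, every element differs from a scalar by a nilpotent -/
theorem exists_sub_algebraMap_isNilpotent {k B : Type*} [Field k] [IsAlgClosed k] [CommRing B]
    [Algebra k B] [Module.Finite k B] (hUN : ∀ b : B, IsUnit b ∨ IsNilpotent b) (b : B) :
    ∃ c : k, IsNilpotent (b - algebraMap k B c) := by
  rcases subsingleton_or_nontrivial B with hB | hB
  · exact ⟨0, ⟨1, Subsingleton.elim _ _⟩⟩
  have hint : IsIntegral k b := Algebra.IsIntegral.isIntegral b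
  have hmon := minpoly.monic hint
  have hsplit : (minpoly k b).Splits := IsAlgClosed.splits _
  have hprod := hsplit.eq_prod_roots_of_monic hmon
  have h0 : aeval b (minpoly k b) = 0 := minpoly.aeval k b
  rw [hprod, map_multiset_prod, Multiset.map_map] at h0
  by_contra hne
  rw [not_exists] at hne
  have hunit : ∀ x ∈ Multiset.map ((aeval b) ∘ fun a : k => X - C a) (minpoly k b).roots,
      IsUnit x := by
    intro x hx
    obtain ⟨c, -, rfl⟩ := Multiset.mem_map.mp hx
    have : (aeval b) (X - C c : k[X]) = b - algebraMap k B c := by simp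
    rw [Function.comp_apply, this]
    exact (hUN _).resolve_right (hne c)
  have hu : IsUnit (Multiset.map ((aeval b) ∘ fun a : k => X - C a) (minpoly k b).roots).prod := by
    generalize Multiset.map ((aeval b) ∘ fun a : k => X - C a) (minpoly k b).roots = s at hunit
    induction s using Multiset.induction_on with
    | empty => rw [Multiset.prod_zero]; exact isUnit_one
    | cons a s ih =>
      rw [Multiset.prod_cons]
      exact (hunit a (Multiset.mem_cons_self a s)).mul
        (ih fun x hx => hunit x (Multiset.mem_cons_of_mem hx))
  rw [h0] at hu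
  exact not_isUnit_zero hu

section SeqLim

variable (F : ℕᵒᵖ ⥤ CommRingCat.{u})

/-- the transition map `F (m+1) ⟶ F m` -/
noncomputable abbrev tr (m : ℕ) : F.obj (Opposite.op (m + 1)) ⟶ F.obj (Opposite.op m) :=
  F.map (homOfLE (Nat.le_succ m)).op

lemma π_tr (m : ℕ) (a : (limit F : CommRingCat.{u})) :
    (tr F m).hom ((limit.π F (Opposite.op (m + 1))).hom a) = (limit.π F (Opposite.op m)).hom a := by
  have h := limit.w F (homOfLE (Nat.le_succ m)).op
  exact congrArg (fun φ : (limit F : CommRingCat.{u}) ⟶ F.obj (Opposite.op m) => φ.hom a) h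

/-- two elements of the limit with the same components are equal -/
lemma lim_ext (a b : (limit F : CommRingCat.{u}))
    (h : ∀ m : ℕ, (limit.π F (Opposite.op m)).hom a = (limit.π F (Opposite.op m)).hom b) : a = b :=
  Concrete.limit_ext F a b (fun j => h j.unop)

/-- compatibility along successors gives compatibility along all maps -/
lemma compat_of_succ (u : ∀ m : ℕ, F.obj (Opposite.op m))
    (h : ∀ m : ℕ, (tr F m).hom (u (m + 1)) = u m) (i j : ℕ) (hij : i ≤ j) :
    (F.map (homOfLE hij).op).hom (u j) = u i := by
  induction j, hij using Nat.le_induction with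
  | base =>
    have : (homOfLE (le_refl i)).op = 𝟙 (Opposite.op i) := rfl
    rw [this, F.map_id]
    rfl
  | succ j hij ih =>
    have hcomp : (homOfLE (hij.trans (Nat.le_succ j))).op =
        (homOfLE (Nat.le_succ j)).op ≫ (homOfLE hij).op := rfl
    rw [hcomp, F.map_comp]
    change (F.map (homOfLE hij).op).hom ((tr F j).hom (u (j + 1))) = u i
    rw [h j, ih]

/-- a compatible sequence defines an element of the limit -/
lemma exists_lim_of_compat (u : ∀ m : ℕ, F.obj (Opposite.op m))
    (h : ∀ m : ℕ, (tr F m).hom (u (m + 1)) = u m) :
    ∃ a : (limit F : CommRingCat.{u}), ∀ m : ℕ, (limit.π F (Opposite.op m)).hom a = u m := by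
  let G := F ⋙ forget CommRingCat.{u}
  have hl : IsLimit ((forget CommRingCat.{u}).mapCone (limit.cone F)) :=
    isLimitOfPreserves (forget CommRingCat.{u}) (limit.isLimit F)
  let s : G.sections := ⟨fun j => u j.unop, by
    intro i j f
    have hle : j.unop ≤ i.unop := leOfHom f.unop
    have hf : f = (homOfLE hle).op := Subsingleton.elim _ _
    subst hf
    exact compat_of_succ F u h j.unop i.unop hle⟩
  refine ⟨(Types.isLimitEquivSections hl).symm s, fun m => ?_⟩
  exact Types.isLimitEquivSections_symm_apply hl s (Opposite.op m)

/-- **the limit of a sequence of nontrivial rings whose elements are units or nilpotent is a local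
ring**, and its units are detected in each term -/
theorem isUnit_iff_of_seq (hnt : ∀ m : ℕ, Nontrivial (F.obj (Opposite.op m)))
    (hUN : ∀ (m : ℕ) (b : F.obj (Opposite.op m)), IsUnit b ∨ IsNilpotent b)
    (a : (limit F : CommRingCat.{u})) :
    IsUnit a ↔ IsUnit ((limit.π F (Opposite.op 0)).hom a) := by
  constructor
  · intro ha
    exact ha.map _
  · intro h0
    -- all components are units
    have hall : ∀ m : ℕ, IsUnit ((limit.π F (Opposite.op m)).hom a) := by
      intro m
      induction m with
      | zero => exact h0
      | succ m ih =>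
        rcases hUN (m + 1) ((limit.π F (Opposite.op (m + 1))).hom a) with hu | hn
        · exact hu
        · exfalso
          have hn' : IsNilpotent ((limit.π F (Opposite.op m)).hom a) := by
            rw [← π_tr F m a]
            exact hn.map _
          haveI := hnt m
          obtain ⟨v, hv⟩ := ih
          obtain ⟨n, hn''⟩ := hn'
          rw [← hv] at hn''
          exact (v ^ n).ne_zero (by rw [Units.val_pow_eq_pow_val]; exact hn'')
    choose v hv using hall
    obtain ⟨b, hb⟩ := exists_lim_of_compat F (fun m => ((v m)⁻¹ : (F.obj (Opposite.op m))ˣ).val)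
      (fun m => by
        have h1 : (tr F m).hom (v (m + 1) : F.obj (Opposite.op (m + 1))) = (v m : F.obj (Opposite.op m)) := by
          rw [hv, hv]
          exact π_tr F m a
        have h2 : (tr F m).hom ((v (m + 1))⁻¹ : (F.obj (Opposite.op (m + 1)))ˣ).val *
            (v m : F.obj (Opposite.op m)) = 1 := by
          rw [← h1, ← map_mul, Units.inv_mul, map_one]
        exact (Units.eq_inv_of_mul_eq_one_left (by rw [mul_comm]; exact h2)))
    refine IsUnit.of_mul_eq_one b (lim_ext F _ _ (fun m => ?_))
    rw [map_mul, map_one, hb m, ← hv m, Units.mul_inv]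

theorem isLocalRing_of_seq (hnt : ∀ m : ℕ, Nontrivial (F.obj (Opposite.op m)))
    (hUN : ∀ (m : ℕ) (b : F.obj (Opposite.op m)), IsUnit b ∨ IsNilpotent b) :
    IsLocalRing (limit F : CommRingCat.{u}) := by
  haveI := hnt 0
  haveI : Nontrivial (limit F : CommRingCat.{u}) :=
    (limit.π F (Opposite.op 0)).hom.domain_nontrivial
  refine IsLocalRing.of_nonunits_add (fun a b ha hb => ?_)
  rw [mem_nonunits_iff, isUnit_iff_of_seq F hnt hUN] at ha hb ⊢
  have ha' := (hUN 0 _).resolve_left ha
  have hb' := (hUN 0 _).resolve_left hb
  rw [map_add]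
  intro hu
  have hn : IsNilpotent ((limit.π F (Opposite.op 0)).hom a + (limit.π F (Opposite.op 0)).hom b) :=
    (Commute.all _ _).isNilpotent_add ha' hb'
  obtain ⟨v, hv⟩ := hu
  obtain ⟨n, hn'⟩ := hn
  rw [← hv] at hn'
  exact (v ^ n).ne_zero (by rw [Units.val_pow_eq_pow_val]; exact hn')

end SeqLim

end Groth.Agent.Lib.helper21.FormalLocal
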