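import Mathlib
import Groth.Agent.Lib.Lead.ProperEuler
import Groth.Agent.Lib.Helper18.HHZero
import Groth.Agent.Lib.Helper13.Normal11
import Groth.Agent.Lib.Helper8.DevInd

/-!
# Global functions on a connected proper scheme over a field are units or nilpotent (helper21)
-/

set_option autoImplicit false
set_option linter.style.haveILetI false
universe u
open CategoryTheory CategoryTheory.Limits AlgebraicGeometry TopologicalSpace Opposite

namespace Groth.Agent.Lib.helper21.ZeroConn

/-- in an Artinian commutative ring without non-trivial idempotents every element is a unit or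
nilpotent -/
theorem isUnit_or_isNilpotent_of_isArtinianRing {A : Type*} [CommRing A] [IsArtinianRing A]
    (hidem : ∀ e : A, IsIdempotentElem e → e = 0 ∨ e = 1) (f : A) : IsUnit f ∨ IsNilpotent f := by
  obtain ⟨n, y, hy⟩ := IsArtinian.exists_pow_succ_smul_dvd f (1 : A)
  have hy' : f ^ n * (f * y) = f ^ n := by
    have : f ^ (n + 1) * y = f ^ n * 1 := hy
    rw [mul_one, pow_succ, mul_assoc] at this
    exact this
  -- `f^n = f^n * (f y)^m` for all `m`
  have hpow : ∀ m : ℕ, f ^ n * (f * y) ^ m = f ^ n := by
    intro m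
    induction m with
    | zero => rw [pow_zero, mul_one]
    | succ m ih => rw [pow_succ, ← mul_assoc, ih, hy']
  have he : IsIdempotentElem ((f * y) ^ n) := by
    change (f * y) ^ n * (f * y) ^ n = (f * y) ^ n
    have h1 : (f * y) ^ n = f ^ n * y ^ n := mul_pow f y n
    calc (f * y) ^ n * (f * y) ^ n = (f ^ n * (f * y) ^ n) * y ^ n := by rw [h1]; ring
      _ = f ^ n * y ^ n := by rw [hpow n]
      _ = (f * y) ^ n := h1.symm
  rcases hidem _ he with h0 | h1
  · right
    refine ⟨n, ?_⟩
    rw [← hpow n, h0, mul_zero]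
  · left
    rcases Nat.eq_zero_or_pos n with hn | hn
    · subst hn
      rw [pow_zero, one_mul] at hy'
      exact IsUnit.of_mul_eq_one _ hy'
    · have h2 : f * (f ^ (n - 1) * y ^ n) = 1 := by
        rw [← mul_assoc, ← pow_succ', Nat.sub_add_cancel hn, ← mul_pow]
        exact h1
      exact IsUnit.of_mul_eq_one _ h2

variable (k : Type u) [Field k] (X : Scheme.{u}) [X.Over (Spec (CommRingCat.of k))]
  [IsProper (X ↘ Spec (CommRingCat.of k))]

include k in
/-- the ring of global functions of a proper `k`-scheme is Artinian -/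
theorem isArtinianRing_sections_top : IsArtinianRing Γ(X, ⊤) := by
  haveI : IsLocallyNoetherian (Spec (CommRingCat.of k)) := inferInstance
  haveI : IsLocallyNoetherian X :=
    LocallyOfFiniteType.isLocallyNoetherian (X ↘ (Spec (CommRingCat.of k)))
  let φ : k →+* Γ(X, ⊤) := Coh.toGlobal (X ↘ Spec (CommRingCat.of k))
  letI alg : Algebra k Γ(X, ⊤) := φ.toAlgebra
  let e' : Coh.HH X (Coh.structureModule X) 0 ≃ₗ[k] Γ(X, ⊤) :=
    { (Groth.Agent.Lib.Helper18.HH.equiv₀ (Coh.structureModule X)).toAddEquiv with
      map_smul' := fun a x =>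
        (Groth.Agent.Lib.Helper18.HH.equiv₀ (Coh.structureModule X)).map_smul (φ a) x }
  haveI : Module.Finite k (Coh.HH X (Coh.structureModule X) 0) :=
    Groth.Agent.Lib.Lead.ProperEuler.finite_HH k X _
      (Groth.Agent.Lib.helper8.Dev.isCoh_structureModule X) 0
  haveI : Module.Finite k Γ(X, ⊤) := Module.Finite.equiv e'
  exact IsArtinianRing.of_finite k Γ(X, ⊤)

include k in
/-- global functions on a connected proper `k`-scheme are units or nilpotent -/
theorem isUnit_or_isNilpotent [ConnectedSpace X] (f : Γ(X, ⊤)) : IsUnit f ∨ IsNilpotent f := by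
  haveI := isArtinianRing_sections_top k X
  refine isUnit_or_isNilpotent_of_isArtinianRing (fun e he => ?_) f
  exact Groth.Agent.Lib.helper13.Normal.idempotent_eq_zero_or_one_of_isPreconnected
    (⊤ : X.Opens) (by rw [Opens.coe_top]; exact isPreconnected_univ) e he

end Groth.Agent.Lib.helper21.ZeroConn
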