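import Mathlib
import Groth.Agent.Lib.Helper21.ZeroConn2

/-!
# Finiteness of global functions on a proper scheme over a field, as an algebra (helper21)
-/

set_option autoImplicit false
set_option linter.style.haveILetI false
universe u
open CategoryTheory CategoryTheory.Limits AlgebraicGeometry TopologicalSpace Opposite

namespace Groth.Agent.Lib.helper21.FormalLocal

variable (k : Type u) [Field k] (X : Scheme.{u}) [X.Over (Spec (CommRingCat.of k))]
  [IsProper (X ↘ Spec (CommRingCat.of k))]

/-- the ring of global functions of a proper `k`-scheme is a finite `k`-algebra (for the algebra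
structure given by the structure morphism) -/
theorem finite_sections_top :
    letI := (show k →+* Γ(X, ⊤) from Coh.toGlobal (X ↘ Spec (CommRingCat.of k))).toAlgebra
    Module.Finite k Γ(X, ⊤) := by
  haveI : IsLocallyNoetherian (Spec (CommRingCat.of k)) := inferInstance
  haveI : IsLocallyNoetherian X :=
    LocallyOfFiniteType.isLocallyNoetherian (X ↘ (Spec (CommRingCat.of k)))
  let φ : k →+* Γ(X, ⊤) := Coh.toGlobal (X ↘ Spec (CommRingCat.of k))
  letI alg : Algebra k Γ(X, ⊤) := φ.toAlgebra
  let e' : Coh.HH X (Coh.structureModule X) 0 ≃ₗ[k] Γ(X, ⊤) :=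
    { (Groth.Agent.Lib.Helper18.HH.equiv₀ (Coh.structureModule X)).toAddEquiv with
      map_smul' := fun a x =>
        (Groth.Agent.Lib.Helper18.HH.equiv₀ (Coh.structureModule X)).map_smul (φ a) x }
  haveI : Module.Finite k (Coh.HH X (Coh.structureModule X) 0) :=
    Groth.Agent.Lib.Lead.ProperEuler.finite_HH k X _
      (Groth.Agent.Lib.helper8.Dev.isCoh_structureModule X) 0
  exact Module.Finite.equiv e'

end Groth.Agent.Lib.helper21.FormalLocal
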