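import Groth.Agent.Lib.Helper7.OmegaPush
import Groth.Prelude.Def_Frob

/-!
# Generalities on derivations of the structure sheaf (helper21)

* `kerSubring d U`: the subring of `Γ(X, U)` of sections killed by the derivation `d`.
* `d_pow`: `d (a ^ n) = (n • a ^ (n - 1)) • d a`.
* `app_eq_zero_of_locally`: vanishing of `d s` is local.
* `derOfComp`: a derivation relative to `h : X ⟶ Z` is a derivation relative to `h ≫ g`.
-/

set_option autoImplicit false
universe u
open CategoryTheory CategoryTheory.Limits AlgebraicGeometry TopologicalSpace Opposite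

namespace Groth.Agent.Lib.helper21.FrobDer

variable {X Y : Scheme.{u}} {f : X ⟶ Y} {Ω : X.Modules}

section
variable (d : OmegaSh.Der f Ω)

theorem app_mul (U : X.Opens) (a b : Γ(X, U)) :
    d.app U (a * b) = a • d.app U b + b • d.app U a :=
  d.d_mul (X := op U) a b

theorem app_one (U : X.Opens) : d.app U 1 = 0 :=
  d.d_one (op U)

theorem app_res {W W' : X.Opens} (i : W' ≤ W) (s : Γ(X, W)) :
    d.app W' (X.presheaf.map (homOfLE i).op s) = Ω.presheaf.map (homOfLE i).op (d.app W s) :=
  d.d_map (homOfLE i).op s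

/-- the subring of sections killed by a derivation -/
def kerSubring (U : X.Opens) : Subring Γ(X, U) where
  carrier := {s | d.app U s = 0}
  mul_mem' {a b} ha hb := by
    simp only [Set.mem_setOf_eq] at ha hb ⊢
    rw [app_mul, ha, hb, smul_zero, smul_zero, add_zero]
  one_mem' := app_one d U
  add_mem' {a b} ha hb := by
    simp only [Set.mem_setOf_eq] at ha hb ⊢
    rw [map_add, ha, hb, add_zero]
  zero_mem' := map_zero _
  neg_mem' {a} ha := by
    simp only [Set.mem_setOf_eq] at ha ⊢
    rw [map_neg, ha, neg_zero]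

theorem mem_kerSubring {U : X.Opens} {s : Γ(X, U)} : s ∈ kerSubring d U ↔ d.app U s = 0 :=
  Iff.rfl

theorem app_pow (U : X.Opens) (a : Γ(X, U)) (n : ℕ) :
    d.app U (a ^ n) = (n • a ^ (n - 1)) • d.app U a := by
  induction n with
  | zero => simp [app_one]
  | succ n ih =>
    rw [pow_succ, app_mul, ih, smul_smul, ← add_smul]
    congr 1
    rcases n with _ | m
    · simp
    · simp only [Nat.add_sub_cancel, nsmul_eq_mul, Nat.cast_add, Nat.cast_one]
      ring

/-- vanishing of `d s` is a local property -/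
theorem app_eq_zero_of_locally (U : X.Opens) (s : Γ(X, U))
    (h : ∀ x ∈ U, ∃ (V : X.Opens) (hV : V ≤ U), x ∈ V ∧
      d.app V (X.presheaf.map (homOfLE hV).op s) = 0) : d.app U s = 0 := by
  choose V hV hxV hz using h
  apply TopCat.Sheaf.eq_of_locally_eq' ⟨Ω.presheaf, Ω.isSheaf⟩
    (fun x : U => V x.1 x.2) U (fun x => homOfLE (hV x.1 x.2))
    (fun x hx => Opens.mem_iSup.mpr ⟨⟨x, hx⟩, hxV x hx⟩)
  intro x
  rw [map_zero]
  have := app_res d (hV x.1 x.2) s
  rw [hz x.1 x.2] at this
  exact this.symm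

end

/-- a derivation relative to `h : X ⟶ Z` is a derivation relative to `h ≫ g` -/
def derOfComp {Z : Scheme.{u}} {h : X ⟶ Z} (g : Z ⟶ Y) (e : h ≫ g = f) {F : X.Modules}
    (D : OmegaSh.Der h F) : OmegaSh.Der f F where
  d {W} := D.d (X := W)
  d_mul a b := D.d_mul a b
  d_map i s := D.d_map i s
  d_app {V} c := by
    subst e
    exact D.d_app (X := op (g ⁻¹ᵁ V.unop)) ((g.app V.unop).hom c)

theorem derOfComp_app {Z : Scheme.{u}} {h : X ⟶ Z} (g : Z ⟶ Y) (e : h ≫ g = f) {F : X.Modules}
    (D : OmegaSh.Der h F) (U : X.Opens) (s : Γ(X, U)) :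
    (derOfComp g e D).app U s = D.app U s := rfl

end Groth.Agent.Lib.helper21.FrobDer
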