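import Groth.Agent.Lib.Helper21.FrobDer1
import Mathlib.AlgebraicGeometry.Morphisms.Flat

/-!
# A derivation over `S` (char. `p`) kills sections pulled back along the relative Frobenius (helper21)
-/

set_option autoImplicit false
universe u
open CategoryTheory CategoryTheory.Limits AlgebraicGeometry TopologicalSpace Opposite

namespace Groth.Agent.Lib.helper21.FrobDer

/-- A subring of the pushout containing the images of both legs is everything. -/
theorem subring_eq_top_of_isPushout {R A B C : CommRingCat.{u}} {f : R ⟶ A} {g : R ⟶ B}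
    {a : A ⟶ C} {b : B ⟶ C} (H : IsPushout f g a b) (K : Subring C)
    (ha : ∀ x, a x ∈ K) (hb : ∀ y, b y ∈ K) : K = ⊤ := by
  let K' : CommRingCat.{u} := CommRingCat.of K
  let ι : K' ⟶ C := CommRingCat.ofHom K.subtype
  let a' : A ⟶ K' := CommRingCat.ofHom (a.hom.codRestrict K ha)
  let b' : B ⟶ K' := CommRingCat.ofHom (b.hom.codRestrict K hb)
  have haι : a' ≫ ι = a := by ext x; rfl
  have hbι : b' ≫ ι = b := by ext x; rfl
  have w : f ≫ a' = g ≫ b' := by
    ext x
    exact congr($(H.w) x)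
  let φ : C ⟶ K' := H.desc a' b' w
  have hφ : φ ≫ ι = 𝟙 C := by
    apply H.hom_ext
    · rw [← Category.assoc, H.inl_desc, haι, Category.comp_id]
    · rw [← Category.assoc, H.inr_desc, hbι, Category.comp_id]
  rw [eq_top_iff]
  intro c _
  have : ι (φ c) = c := congr($hφ c)
  rw [← this]
  exact (φ c).2

theorem appLE_congr_hom {X Y : Scheme.{u}} {f g : X ⟶ Y} (e : f = g) (U : Y.Opens) (V : X.Opens)
    (h : V ≤ f ⁻¹ᵁ U) : f.appLE U V h = g.appLE U V (e ▸ h) := by
  subst e; rfl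

variable (p : ℕ) [Fact p.Prime] {X S : Scheme.{u}} [FrobSch.IsCharP S p] (f : X ⟶ S)
  {Ω : X.Modules} (d : OmegaSh.Der f Ω)

theorem app_pow_p [FrobSch.IsCharP X p] (U : X.Opens) (a : Γ(X, U)) : d.app U (a ^ p) = 0 := by
  rw [app_pow, nsmul_eq_mul, FrobSch.natCast_eq_zero_app X p U, zero_mul, zero_smul]

theorem app_appLE_eq_zero (V : X.Opens) (S₀ : S.Opens) (h : V ≤ f ⁻¹ᵁ S₀) (a : Γ(S, S₀)) :
    d.app V (f.appLE S₀ V h a) = 0 := by
  have h1 : (f.appLE S₀ V h).hom a = X.presheaf.map (homOfLE h).op ((f.app S₀).hom a) := rfl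
  rw [h1, app_res]
  have h0 : d.app (f ⁻¹ᵁ S₀) ((f.app S₀).hom a) = 0 := d.d_app (X := op S₀) a
  rw [h0, map_zero]

/-- the affine chart `pr₁⁻¹ X₀ ⊓ pr₂⁻¹ S₀` of the Frobenius twist -/
noncomputable abbrev chart (X₀ : X.Opens) (S₀ : S.Opens) : (FrobSch.frobTwist f p).Opens :=
  pullback.fst f (FrobSch.frob S p) ⁻¹ᵁ X₀ ⊓ pullback.snd f (FrobSch.frob S p) ⁻¹ᵁ S₀

theorem app_relFrob_appLE_eq_zero (S₀ : S.Opens) (hS₀ : IsAffineOpen S₀) (X₀ : X.Opens)
    (hX₀ : IsAffineOpen X₀) (hXS : X₀ ≤ f ⁻¹ᵁ S₀) (V : X.Opens)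
    (hV : V ≤ FrobSch.relFrob f p ⁻¹ᵁ chart p f X₀ S₀)
    (u : Γ(FrobSch.frobTwist f p, chart p f X₀ S₀)) :
    d.app V ((FrobSch.relFrob f p).appLE (chart p f X₀ S₀) V hV u) = 0 := by
  haveI : FrobSch.IsCharP X p := FrobSch.IsCharP.of_hom f p
  have hUST : S₀ ≤ FrobSch.frob S p ⁻¹ᵁ S₀ := le_rfl
  have HP := IsPullback.of_hasPullback f (FrobSch.frob S p)
  have hiso := isIso_pushoutSection_of_isAffineOpen HP hUST hXS
    (UY := chart p f X₀ S₀) rfl hS₀ hS₀ hX₀
  have H := (isIso_pushoutSection_iff HP hUST hXS rfl).mp hiso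
  let K : Subring Γ(FrobSch.frobTwist f p, chart p f X₀ S₀) :=
    (kerSubring d V).comap ((FrobSch.relFrob f p).appLE (chart p f X₀ S₀) V hV).hom
  have hK : K = ⊤ := by
    apply subring_eq_top_of_isPushout H K
    · intro b
      have h₁ : chart p f X₀ S₀ ≤ pullback.fst f (FrobSch.frob S p) ⁻¹ᵁ X₀ := inf_le_left
      change d.app V (((FrobSch.relFrob f p).appLE (chart p f X₀ S₀) V hV).hom
        (((pullback.fst f (FrobSch.frob S p)).appLE X₀ (chart p f X₀ S₀) h₁).hom b)) = 0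
      have e1 : ((FrobSch.relFrob f p).appLE (chart p f X₀ S₀) V hV).hom
          (((pullback.fst f (FrobSch.frob S p)).appLE X₀ (chart p f X₀ S₀) h₁).hom b) =
          ((FrobSch.relFrob f p ≫ pullback.fst f (FrobSch.frob S p)).appLE X₀ V
            (hV.trans ((Opens.map (FrobSch.relFrob f p).base).map (homOfLE h₁)).le)).hom b :=
        congr($(Scheme.Hom.appLE_comp_appLE (FrobSch.relFrob f p)
          (pullback.fst f (FrobSch.frob S p)) X₀ (chart p f X₀ S₀) V h₁ hV) b)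
      rw [e1, appLE_congr_hom (FrobSch.relFrob_fst f p)]
      have e2 : ∀ h' : V ≤ FrobSch.frob X p ⁻¹ᵁ X₀, ((FrobSch.frob X p).appLE X₀ V h').hom b =
          (X.presheaf.map (homOfLE (show V ≤ X₀ from h')).op b) ^ p := by
        intro h'
        have : ((FrobSch.frob X p).appLE X₀ V h').hom b =
            X.presheaf.map (homOfLE (show V ≤ X₀ from h')).op (b ^ p) := rfl
        rw [this, map_pow]
      rw [e2]
      exact app_pow_p p f d V _
    · intro a
      have h₂ : chart p f X₀ S₀ ≤ pullback.snd f (FrobSch.frob S p) ⁻¹ᵁ S₀ := inf_le_right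
      change d.app V (((FrobSch.relFrob f p).appLE (chart p f X₀ S₀) V hV).hom
        (((pullback.snd f (FrobSch.frob S p)).appLE S₀ (chart p f X₀ S₀) h₂).hom a)) = 0
      have e1 : ((FrobSch.relFrob f p).appLE (chart p f X₀ S₀) V hV).hom
          (((pullback.snd f (FrobSch.frob S p)).appLE S₀ (chart p f X₀ S₀) h₂).hom a) =
          ((FrobSch.relFrob f p ≫ pullback.snd f (FrobSch.frob S p)).appLE S₀ V
            (hV.trans ((Opens.map (FrobSch.relFrob f p).base).map (homOfLE h₂)).le)).hom a :=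
        congr($(Scheme.Hom.appLE_comp_appLE (FrobSch.relFrob f p)
          (pullback.snd f (FrobSch.frob S p)) S₀ (chart p f X₀ S₀) V h₂ hV) a)
      rw [e1, appLE_congr_hom (FrobSch.relFrob_snd f p)]
      exact app_appLE_eq_zero f d V S₀ _ a
  have : u ∈ K := hK ▸ Subring.mem_top u
  exact this

end Groth.Agent.Lib.helper21.FrobDer
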