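import Groth.Agent.Lib.Helper21.FrobDer2

/-!
# A universal `S`-derivation is a universal `X^(p)`-derivation (helper21)
-/

set_option autoImplicit false
universe u
open CategoryTheory CategoryTheory.Limits AlgebraicGeometry TopologicalSpace Opposite
open Groth.Agent.Lib.helper7

namespace Groth.Agent.Lib.helper21.FrobDer

variable (p : ℕ) [Fact p.Prime] {X S : Scheme.{u}} [FrobSch.IsCharP S p] (f : X ⟶ S)
  {Ω : X.Modules} (d : OmegaSh.Der f Ω)

theorem isAffineOpen_chart (S₀ : S.Opens) (hS₀ : IsAffineOpen S₀) (X₀ : X.Opens)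
    (hX₀ : IsAffineOpen X₀) (hXS : X₀ ≤ f ⁻¹ᵁ S₀) : IsAffineOpen (chart p f X₀ S₀) := by
  have hUST : S₀ ≤ FrobSch.frob S p ⁻¹ᵁ S₀ := le_rfl
  have HP := IsPullback.of_hasPullback f (FrobSch.frob S p)
  have : IsAffine (S₀ : Scheme.{u}) := hS₀
  have : IsAffine (X₀ : Scheme.{u}) := hX₀
  exact .of_isIso (Scheme.Hom.isPullback_resLE HP hUST hXS
    (UY := chart p f X₀ S₀) rfl).isoPullback.hom

theorem relFrob_mem_chart (x : X) (S₀ : S.Opens) (X₀ : X.Opens) (hx : x ∈ X₀) (hfx : f x ∈ S₀) :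
    FrobSch.relFrob f p x ∈ chart p f X₀ S₀ := by
  haveI : FrobSch.IsCharP X p := FrobSch.IsCharP.of_hom f p
  constructor
  · change (FrobSch.relFrob f p ≫ pullback.fst f (FrobSch.frob S p)) x ∈ X₀
    rw [FrobSch.relFrob_fst]
    exact hx
  · change (FrobSch.relFrob f p ≫ pullback.snd f (FrobSch.frob S p)) x ∈ S₀
    rw [FrobSch.relFrob_snd]
    exact hfx

/-- **A derivation of `X` over `S` kills every section coming from the Frobenius twist.** -/
theorem app_relFrob_app_eq_zero (W : (FrobSch.frobTwist f p).Opens)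
    (t : Γ(FrobSch.frobTwist f p, W)) :
    d.app (FrobSch.relFrob f p ⁻¹ᵁ W) (((FrobSch.relFrob f p).app W).hom t) = 0 := by
  apply app_eq_zero_of_locally
  intro x hx
  obtain ⟨S₀, hS₀, hxS₀, -⟩ :=
    exists_isAffineOpen_mem_and_subset (x := f x) (U := ⊤) trivial
  obtain ⟨X₀, hX₀, hxX₀, hXS⟩ :=
    exists_isAffineOpen_mem_and_subset (x := x) (U := f ⁻¹ᵁ S₀) hxS₀
  have hP₀ := isAffineOpen_chart p f S₀ hS₀ X₀ hX₀ hXS
  have hFx := relFrob_mem_chart p f x S₀ X₀ hxX₀ hxS₀
  obtain ⟨g, hgW, hxg⟩ := hP₀.exists_basicOpen_le ⟨FrobSch.relFrob f p x, hx⟩ hFx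
  have hgP : (FrobSch.frobTwist f p).basicOpen g ≤ chart p f X₀ S₀ :=
    (FrobSch.frobTwist f p).basicOpen_le g
  refine ⟨FrobSch.relFrob f p ⁻¹ᵁ (FrobSch.frobTwist f p).basicOpen g,
    (FrobSch.relFrob f p).preimage_mono hgW, hxg, ?_⟩
  have e0 : X.presheaf.map (homOfLE ((FrobSch.relFrob f p).preimage_mono hgW)).op
      (((FrobSch.relFrob f p).app W).hom t) =
      ((FrobSch.relFrob f p).app ((FrobSch.frobTwist f p).basicOpen g)).hom
        ((FrobSch.frobTwist f p).presheaf.map (homOfLE hgW).op t) :=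
    (congr($((FrobSch.relFrob f p).naturality (homOfLE hgW).op) t)).symm
  rw [e0]
  generalize (FrobSch.frobTwist f p).presheaf.map (homOfLE hgW).op t = τ
  haveI := hP₀.isLocalization_basicOpen g
  obtain ⟨n, u, hu⟩ := IsLocalization.Away.surj g τ
  have hV : FrobSch.relFrob f p ⁻¹ᵁ (FrobSch.frobTwist f p).basicOpen g ≤
      FrobSch.relFrob f p ⁻¹ᵁ chart p f X₀ S₀ := (FrobSch.relFrob f p).preimage_mono hgP
  have key : ∀ v : Γ(FrobSch.frobTwist f p, chart p f X₀ S₀),
      d.app (FrobSch.relFrob f p ⁻¹ᵁ (FrobSch.frobTwist f p).basicOpen g)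
        (((FrobSch.relFrob f p).app ((FrobSch.frobTwist f p).basicOpen g)).hom
          (algebraMap Γ(FrobSch.frobTwist f p, chart p f X₀ S₀)
            Γ(FrobSch.frobTwist f p, (FrobSch.frobTwist f p).basicOpen g) v)) = 0 := by
    intro v
    have e1 : ((FrobSch.relFrob f p).app ((FrobSch.frobTwist f p).basicOpen g)).hom
          (algebraMap Γ(FrobSch.frobTwist f p, chart p f X₀ S₀)
            Γ(FrobSch.frobTwist f p, (FrobSch.frobTwist f p).basicOpen g) v) =
        ((FrobSch.relFrob f p).appLE (chart p f X₀ S₀) _ hV).hom v := by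
      rw [Scheme.Hom.app_eq_appLE]
      exact congr($((FrobSch.relFrob f p).map_appLE
        (le_rfl : FrobSch.relFrob f p ⁻¹ᵁ (FrobSch.frobTwist f p).basicOpen g ≤ _)
        (homOfLE hgP).op) v)
    rw [e1]
    exact app_relFrob_appLE_eq_zero p f d S₀ hS₀ X₀ hX₀ hXS _ hV v
  have hunit : IsUnit (((FrobSch.relFrob f p).app ((FrobSch.frobTwist f p).basicOpen g)).hom
      (algebraMap Γ(FrobSch.frobTwist f p, chart p f X₀ S₀)
        Γ(FrobSch.frobTwist f p, (FrobSch.frobTwist f p).basicOpen g) g)) :=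
    (IsLocalization.Away.algebraMap_isUnit g).map _
  have h2 := congrArg ((FrobSch.relFrob f p).app ((FrobSch.frobTwist f p).basicOpen g)).hom hu
  rw [map_mul, map_pow] at h2
  have h3 := congrArg (d.app (FrobSch.relFrob f p ⁻¹ᵁ (FrobSch.frobTwist f p).basicOpen g)) h2
  rw [app_mul, key u] at h3
  have hGn := (kerSubring d _).pow_mem ((mem_kerSubring d).mpr (key g)) n
  rw [(mem_kerSubring d).mp hGn, smul_zero, zero_add] at h3
  exact (hunit.pow n).smul_eq_zero.mp h3

/-- the same derivation, now relative to the relative Frobenius -/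
def frobDer : OmegaSh.Der (FrobSch.relFrob f p) Ω where
  d {W} := d.d (X := W)
  d_mul a b := d.d_mul a b
  d_map i s := d.d_map i s
  d_app {W} t := app_relFrob_app_eq_zero p f d W.unop t

theorem frobDer_app (U : X.Opens) (s : Γ(X, U)) : (frobDer p f d).app U s = d.app U s := rfl

theorem isUniversal_frobDer (hd : OmegaSh.IsUniversal d) :
    OmegaSh.IsUniversal (frobDer p f d) := by
  intro F D
  obtain ⟨α, hα, hu⟩ := hd F (derOfComp (pullback.snd f (FrobSch.frob S p))
    (FrobSch.relFrob_snd f p) D)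
  have hiff : ∀ β : Ω ⟶ F, (frobDer p f d).postcomp β.val = D ↔
      d.postcomp β.val = derOfComp (pullback.snd f (FrobSch.frob S p))
        (FrobSch.relFrob_snd f p) D := by
    intro β
    constructor
    · intro h
      refine OmegaPush.der_ext f _ _ (fun U s => ?_)
      have := congrArg (fun D' => OmegaSh.Der.app (f := FrobSch.relFrob f p) D' U s) h
      exact this
    · intro h
      refine OmegaPush.der_ext (FrobSch.relFrob f p) _ _ (fun U s => ?_)
      have := congrArg (fun D' => OmegaSh.Der.app (f := f) D' U s) h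
      exact this
  exact ⟨α, (hiff α).mpr hα, fun β hβ => hu β ((hiff β).mp hβ)⟩

end Groth.Agent.Lib.helper21.FrobDer
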