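import Mathlib
import Groth.Prelude.Def_Frob

set_option autoImplicit false
universe u
open CategoryTheory CategoryTheory.Limits AlgebraicGeometry

namespace Groth.Agent.Lib.helper21.FrobEpi

theorem eq_of_pow_eq (p : ℕ) [Fact p.Prime] (R : Type u) [CommRing R] [_root_.IsReduced R]
    (h : (p : R) = 0) (a b : R) (hab : a ^ p = b ^ p) : a = b := by
  have h1 : FrobSch.powHom p R h (a - b) = 0 := by
    rw [map_sub, FrobSch.powHom_apply, FrobSch.powHom_apply, hab, sub_self]
  rw [FrobSch.powHom_apply] at h1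
  have h2 : IsNilpotent (a - b) := ⟨p, h1⟩
  exact sub_eq_zero.mp (h2.eq_zero)

/-- on a reduced scheme of characteristic `p`, the absolute Frobenius is an epimorphism -/
theorem eq_of_frob_comp_eq (p : ℕ) [Fact p.Prime] {Y Z : Scheme.{u}} [FrobSch.IsCharP Y p]
    [IsReduced Y] (g₁ g₂ : Y ⟶ Z) (e : FrobSch.frob Y p ≫ g₁ = FrobSch.frob Y p ≫ g₂) :
    g₁ = g₂ := by
  have hbase : g₁.base = g₂.base := by
    have := congrArg (fun f : Y ⟶ Z => f.base) e
    simpa using this
  refine Scheme.Hom.ext hbase (fun U => ?_)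
  ext s
  have hV : g₁ ⁻¹ᵁ U = g₂ ⁻¹ᵁ U := congr((TopologicalSpace.Opens.map $hbase).obj U)
  have h1 := Scheme.Hom.congr_app e U
  have h2 := congrArg (fun φ => (Y.presheaf.map (eqToHom hV.symm).op).hom (φ.hom s)) h1
  simp only [Scheme.Hom.comp_app] at h2
  change (Y.presheaf.map (eqToHom hV.symm).op).hom (((g₁.app U).hom s) ^ p) =
    (Y.presheaf.map (eqToHom hV.symm).op).hom ((Y.presheaf.map (eqToHom _).op).hom
      (((g₂.app U).hom s) ^ p)) at h2
  apply eq_of_pow_eq p _ (FrobSch.natCast_eq_zero_app Y p _)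
  rw [CommRingCat.hom_comp, RingHom.comp_apply, ← map_pow]
  refine h2.trans ?_
  rw [← RingHom.comp_apply, ← CommRingCat.hom_comp, ← Functor.map_comp, ← op_comp, eqToHom_trans,
    eqToHom_refl, op_id, CategoryTheory.Functor.map_id]
  rfl

end Groth.Agent.Lib.helper21.FrobEpi
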