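import Mathlib
import Groth.Agent.Lib.Helper21.GalCohTrace
import Groth.Agent.Lib.Helper27.HpullHmap

set_option autoImplicit false
universe u
open CategoryTheory CategoryTheory.Limits AlgebraicGeometry Opposite

/-!
# Restriction–corestriction on étale cohomology (helper21)

* `unit_eq_zero_of_Hpull`: for `f` finite, a class whose pullback `Hpull f` vanishes has vanishing
  image in `H^q(X, f_* f^* F)`.
* `nsmul_eq_zero_of_Hpull`: a class of `H^q(X, F)` whose pullback along a finite étale `f` of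
  constant degree `d` vanishes is killed by `d`.
-/

namespace Groth.Agent.Lib.helper21.GalCohTrace

open Groth.Agent.Lib.helper27.HpullHmap Groth.Agent.Lib.helper27.PullFunEt

theorem HofPush_unit {X X' : Scheme.{u}} (f : X' ⟶ X)
    [PreservesFiniteLimits (EtCoh.pull f)] (F : EtCoh.Ab X) (q : ℕ) (x : EtCoh.H X F q) :
    EtLim.HofPush f ((EtCoh.pull f).obj F) q
      ((EtCoh.HF X q).map ((EtCoh.pullPushAdj f).unit.app F) x) = EtCore.Hpull f F q x := by
  rw [HofPush_eq_Hmap]
  have h : ((EtCoh.HF X q).map ((EtCoh.pullPushAdj f).unit.app F)) x =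
      x.comp (Abelian.Ext.mk₀ ((EtCoh.pullPushAdj f).unit.app F)) (add_zero q) := rfl
  rw [h, Hmap_precomp, Category.comp_id, ← Hpull_eq_Hmap]

theorem unit_eq_zero_of_Hpull {X X' : Scheme.{u}} (f : X' ⟶ X) [IsFinite f]
    [PreservesFiniteLimits (EtCoh.pull f)] (F : EtCoh.Ab X) (q : ℕ) (x : EtCoh.H X F q)
    (hx : EtCore.Hpull f F q x = 0) :
    (EtCoh.HF X q).map ((EtCoh.pullPushAdj f).unit.app F) x = 0 := by
  have hbij := Groth.Agent.S14451.result f ((EtCoh.pull f).obj F)
    (fun q hq => Groth.Agent.S0071.result f _ q hq) q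
  apply hbij.1
  rw [HofPush_unit, hx]
  exact (map_zero (EtLim.HofPush f ((EtCoh.pull f).obj F) q)).symm

theorem nsmul_eq_zero_of_Hpull {X X' : Scheme.{u}} (f : X' ⟶ X) [IsFinite f] [Etale f] (d : ℕ)
    (hd : ∀ x : X, f.finrank x = d) [PreservesFiniteLimits (EtCoh.pull f)] (F : EtCoh.Ab X)
    (q : ℕ) (x : EtCoh.H X F q) (hx : EtCore.Hpull f F q x = 0) : d • x = 0 :=
  nsmul_eq_zero_of_unit f d hd F q x (unit_eq_zero_of_Hpull f F q x hx)

end Groth.Agent.Lib.helper21.GalCohTrace
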