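import Mathlib
import Groth.Prelude.Def_CohCx

/-!
# Global sections and filtered colimits on a site with enough quasi-compact objects, part 1 (helper21)

Elementwise preliminaries on sheaves of sets: sections of the terminal sheaf, `Covers K` (`K ⟶ ⊤` is an epimorphism),
sections of a product, the elementwise form `QcE` of `CohCx.IsQcObject`.
-/

set_option autoImplicit false
universe u

open CategoryTheory CategoryTheory.Limits Opposite

namespace Groth.Agent.Lib.helper21.GammaFilt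

variable {C : Type u} [SmallCategory C] {J : GrothendieckTopology C}

/-- sections over `U` -/
abbrev secAt (U : C) : Sheaf J (Type u) ⥤ Type u :=
  sheafToPresheaf J (Type u) ⋙ (evaluation Cᵒᵖ (Type u)).obj (op U)

noncomputable instance uniqueTerminal (U : Cᵒᵖ) :
    Unique ((⊤_ (Sheaf J (Type u))).obj.obj U) :=
  Types.isTerminalEquivUnique _ (IsTerminal.isTerminalObj (secAt (J := J) U.unop) _ terminalIsTerminal)

/-- `K` is locally inhabited -/
def Covers (K : Sheaf J (Type u)) : Prop :=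
  ∀ U : C, ∃ T ∈ J U, ∀ ⦃W : C⦄ (g : W ⟶ U), T.arrows g → Nonempty (K.obj.obj (op W))

lemma covers_iff_epi (K : Sheaf J (Type u)) : Epi (terminal.from K) ↔ Covers K := by
  rw [← Sheaf.isLocallySurjective_iff_epi']
  constructor
  · intro h U
    refine ⟨_, Presheaf.imageSieve_mem J (terminal.from K).hom (U := op U) default, ?_⟩
    rintro W g ⟨t, -⟩
    exact ⟨t⟩
  · intro h
    refine ⟨fun {U} s => ?_⟩
    obtain ⟨T, hT, hT'⟩ := h U
    refine J.superset_covering ?_ hT
    intro W g hg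
    obtain ⟨t⟩ := hT' g hg
    exact ⟨t, Subsingleton.elim _ _⟩


/-- sections of a product -/
noncomputable def prodSecIso (A B : Sheaf J (Type u)) (U : C) :
    (A ⨯ B).obj.obj (op U) ≅ (A.obj.obj (op U) × B.obj.obj (op U) : Type u) :=
  PreservesLimitPair.iso (secAt (J := J) U) A B ≪≫ Types.binaryProductIso _ _

lemma prodSecIso_hom_fst (A B : Sheaf J (Type u)) (U : C) (p : (A ⨯ B).obj.obj (op U)) :
    ((prodSecIso A B U).hom p).1 = (prod.fst : A ⨯ B ⟶ A).hom.app (op U) p := by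
  have h1 := ConcreteCategory.congr_hom (Types.binaryProductIso_hom_comp_fst (A.obj.obj (op U)) (B.obj.obj (op U))) (prodComparison (secAt (J := J) U) A B p)
  have h2 := ConcreteCategory.congr_hom (prodComparison_fst (secAt (J := J) U) (A := A) (B := B)) p
  exact h1.trans h2

lemma prodSecIso_hom_snd (A B : Sheaf J (Type u)) (U : C) (p : (A ⨯ B).obj.obj (op U)) :
    ((prodSecIso A B U).hom p).2 = (prod.snd : A ⨯ B ⟶ B).hom.app (op U) p := by
  have h1 := ConcreteCategory.congr_hom (Types.binaryProductIso_hom_comp_snd (A.obj.obj (op U)) (B.obj.obj (op U))) (prodComparison (secAt (J := J) U) A B p)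
  have h2 := ConcreteCategory.congr_hom (prodComparison_snd (secAt (J := J) U) (A := A) (B := B)) p
  exact h1.trans h2

/-- pairing of sections -/
lemma exists_pair (A B : Sheaf J (Type u)) (U : C) (a : A.obj.obj (op U)) (b : B.obj.obj (op U)) :
    ∃ p : (A ⨯ B).obj.obj (op U), (prod.fst : A ⨯ B ⟶ A).hom.app (op U) p = a ∧
      (prod.snd : A ⨯ B ⟶ B).hom.app (op U) p = b := by
  let ab : (A.obj.obj (op U) × B.obj.obj (op U) : Type u) := Prod.mk a b
  have h : (prodSecIso A B U).hom ((prodSecIso A B U).inv ab) = ab :=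
    Iso.inv_hom_id_apply (prodSecIso A B U) ab
  refine ⟨(prodSecIso A B U).inv ab, ?_, ?_⟩
  · rw [← prodSecIso_hom_fst, h]
  · rw [← prodSecIso_hom_snd, h]


lemma nat_apply {A B : Sheaf J (Type u)} (φ : A ⟶ B) {U W : C} (g : W ⟶ U) (a : A.obj.obj (op U)) :
    φ.hom.app (op W) (A.obj.map g.op a) = B.obj.map g.op (φ.hom.app (op U) a) :=
  NatTrans.naturality_apply φ.hom g.op a

lemma map_map_apply (A : Sheaf J (Type u)) {U V W : C} (g : V ⟶ U) (h : W ⟶ V) (a : A.obj.obj (op U)) :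
    A.obj.map h.op (A.obj.map g.op a) = A.obj.map (h ≫ g).op a := by
  rw [op_comp, A.obj.map_comp]
  rfl

/-- elementwise form of quasi-compactness -/
def QcE (K : Sheaf J (Type u)) : Prop :=
  ∀ (I : Type u) (Pr : I → ∀ U : C, K.obj.obj (op U) → Prop),
    (∀ i (U V : C) (g : V ⟶ U) (k : K.obj.obj (op U)), Pr i U k → Pr i V (K.obj.map g.op k)) →
    (∀ (U : C) (k : K.obj.obj (op U)), ∃ T ∈ J U, ∀ ⦃W : C⦄ (g : W ⟶ U), T.arrows g →
      ∃ i, Pr i W (K.obj.map g.op k)) →
    ∃ t : Finset I, ∀ (U : C) (k : K.obj.obj (op U)), ∃ T ∈ J U, ∀ ⦃W : C⦄ (g : W ⟶ U), T.arrows g →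
      ∃ i ∈ t, Pr i W (K.obj.map g.op k)

/-- the subfunctor of a stable predicate -/
def subOf (K : Sheaf J (Type u)) (P : ∀ U : C, K.obj.obj (op U) → Prop)
    (hP : ∀ (U V : C) (g : V ⟶ U) (k : K.obj.obj (op U)), P U k → P V (K.obj.map g.op k)) :
    Subfunctor K.obj where
  obj U := {k | P U.unop k}
  map {U V} g k hk := hP U.unop V.unop g.unop k hk

/-- the subsheaf of sections locally satisfying a stable predicate -/
def shOf (K : Sheaf J (Type u)) (P : ∀ U : C, K.obj.obj (op U) → Prop)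
    (hP : ∀ (U V : C) (g : V ⟶ U) (k : K.obj.obj (op U)), P U k → P V (K.obj.map g.op k)) :
    Sheaf J (Type u) :=
  ⟨((subOf K P hP).sheafify J).toFunctor, (isSheaf_iff_isSheaf_of_type _ _).2
    (Subfunctor.sheafify_isSheaf _ ((isSheaf_iff_isSheaf_of_type _ _).1 K.property))⟩

/-- the inclusion -/
def shOfι (K : Sheaf J (Type u)) (P : ∀ U : C, K.obj.obj (op U) → Prop)
    (hP : ∀ (U V : C) (g : V ⟶ U) (k : K.obj.obj (op U)), P U k → P V (K.obj.map g.op k)) :
    shOf K P hP ⟶ K :=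
  ⟨((subOf K P hP).sheafify J).ι⟩

theorem qcE_of_isQcObject (K : Sheaf J (Type u)) (hK : CohCx.IsQcObject K) : QcE K := by
  intro I Pr hst hloc
  obtain ⟨t, ht⟩ := hK I (fun i => shOf K (Pr i) (hst i)) (fun i => shOfι K (Pr i) (hst i)) (by
    intro U k
    obtain ⟨T, hT, hT'⟩ := hloc U k
    refine ⟨T, hT, fun V g hg => ?_⟩
    obtain ⟨i, hi⟩ := hT' g hg
    exact ⟨i, ⟨K.obj.map g.op k, Subfunctor.le_sheafify J _ _ hi⟩, rfl⟩)
  refine ⟨t, fun U k => ?_⟩
  obtain ⟨S, hS, hS'⟩ := ht U k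
  let T : Sieve U :=
    { arrows := fun W g => ∃ i ∈ t, Pr i W (K.obj.map g.op k)
      downward_closed := by
        rintro Y Z f ⟨i, hi, h⟩ g
        refine ⟨i, hi, ?_⟩
        have := hst i _ _ g _ h
        rwa [map_map_apply] at this }
  refine ⟨T, ?_, fun W g hg => hg⟩
  refine J.transitive hS T (fun V g hg => ?_)
  obtain ⟨i, x, hx⟩ := hS' V g hg
  have hx2 : ((subOf K (Pr i.1) (hst i.1)).sieveOfSection x.1) ∈ J V := x.2
  refine J.superset_covering ?_ hx2
  intro V' h hh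
  refine ⟨i.1, i.2, ?_⟩
  have h1 : Pr i.1 V' (K.obj.map h.op x.1) := hh
  have h2 : x.1 = K.obj.map g.op k := hx
  rw [h2, map_map_apply] at h1
  exact h1


theorem qcE_of_prod (K : Sheaf J (Type u)) (hK : QcE (K ⨯ K)) : QcE K := by
  intro I Pr hst hloc
  obtain ⟨t, ht⟩ := hK I (fun i U p => Pr i U ((prod.fst : K ⨯ K ⟶ K).hom.app (op U) p))
    (by
      intro i U V g p hp
      rw [nat_apply]
      exact hst i U V g _ hp)
    (by
      intro U p
      obtain ⟨T, hT, hT'⟩ := hloc U ((prod.fst : K ⨯ K ⟶ K).hom.app (op U) p)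
      refine ⟨T, hT, fun W g hg => ?_⟩
      obtain ⟨i, hi⟩ := hT' g hg
      refine ⟨i, ?_⟩
      rw [nat_apply]
      exact hi)
  refine ⟨t, fun U k => ?_⟩
  obtain ⟨p, hp1, -⟩ := exists_pair K K U k k
  obtain ⟨T, hT, hT'⟩ := ht U p
  refine ⟨T, hT, fun W g hg => ?_⟩
  obtain ⟨i, hi, h⟩ := hT' g hg
  refine ⟨i, hi, ?_⟩
  rw [nat_apply, hp1] at h
  exact h

end Groth.Agent.Lib.helper21.GammaFilt
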