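import Mathlib
import Groth.Prelude.Def_CohCx
import Groth.Agent.Lib.Helper21.GammaFilt1

/-!
# Global sections and filtered colimits on a site with enough quasi-compact objects, part 2 (helper21)

* `loc_surj`, `loc_inj`: sections of a filtered colimit of sheaves of sets locally come from a stage, and sections
  of a stage which agree in the colimit locally agree at a later stage.
* `qc_inj`: two maps from a quasi-compact sheaf to a stage which agree in the colimit agree at a later stage.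
* `exists_section_of_const`: descent of a constant map along `K ⟶ ⊤`.
* `sections_surj`, `sections_inj`, `preservesColimit_Γ`: if there is a set `S` of sheaves of sets such that every
  covering sheaf receives a map from a covering member of `S` and `K ⨯ K` is quasi-compact for `K ∈ S`, then global
  sections commute with filtered colimits of sheaves of sets.
-/

set_option autoImplicit false
universe u

open CategoryTheory CategoryTheory.Limits Opposite

namespace Groth.Agent.Lib.helper21.GammaFilt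

variable {C : Type u} [SmallCategory C] {J : GrothendieckTopology C}

section filtprelim

variable {Λ : Type u} [SmallCategory Λ] [IsFiltered Λ]

lemma exists_common {κ : Type u} [Finite κ] (μ : Λ) (ν : κ → Λ) (f : ∀ k, μ ⟶ ν k) :
    ∃ (μ' : Λ) (g : μ ⟶ μ') (h : ∀ k, ν k ⟶ μ'), ∀ k, f k ≫ h k = g := by
  classical
  have := Fintype.ofFinite κ
  obtain ⟨c⟩ := IsFiltered.cocone_nonempty (WidePushoutShape.wideSpan μ ν f)
  refine ⟨c.pt, c.ι.app none, fun k => c.ι.app (some k), fun k => ?_⟩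
  exact c.w (WidePushoutShape.Hom.init k)

lemma exists_upper (t : Finset Λ) : ∃ (μ' : Λ), ∀ k ∈ t, Nonempty (k ⟶ μ') := by
  classical
  obtain ⟨S, hS⟩ := IsFiltered.sup_objs_exists t
  exact ⟨S, fun k hk => hS hk⟩

end filtprelim

/-- separatedness, elementwise -/
lemma sec_ext (X : Sheaf J (Type u)) {U : C} (T : Sieve U) (hT : T ∈ J U) (s s' : X.obj.obj (op U))
    (h : ∀ ⦃W : C⦄ (g : W ⟶ U), T.arrows g → X.obj.map g.op s = X.obj.map g.op s') : s = s' :=
  (((isSheaf_iff_isSheaf_of_type _ _).1 X.property).isSeparated T hT).ext (fun _ _ hg => h _ hg)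

section filt

variable {Λ : Type u} [SmallCategory Λ] [IsFiltered Λ] (E : Λ ⥤ Sheaf J (Type u))

/-- the presheaf colimit cocone -/
noncomputable def PE : Cocone (E ⋙ sheafToPresheaf J (Type u)) := colimit.cocone _

/-- the standard colimit cocone of sheaves -/
noncomputable def c₀ : Cocone E := Sheaf.sheafifyCocone (PE E)

/-- the standard colimit cocone is a colimit -/
noncomputable def hc₀ : IsColimit (c₀ E) :=
  Sheaf.isColimitSheafifyCocone _ (colimit.isColimit _)

/-- the presheaf colimit is computed sectionwise -/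
noncomputable def hEW (W : C) :
    IsColimit (((evaluation Cᵒᵖ (Type u)).obj (op W)).mapCocone (PE E)) :=
  isColimitOfPreserves _ (colimit.isColimit _)

omit [IsFiltered Λ] in
lemma c₀_ι_apply (μ : Λ) (W : C) (t : (E.obj μ).obj.obj (op W)) :
    ((c₀ E).ι.app μ).hom.app (op W) t =
      (toSheafify J (PE E).pt).app (op W) (((PE E).ι.app μ).app (op W) t) := by
  have := Sheaf.sheafifyCocone_ι_app_val (PE E) μ
  have h2 := congrArg (fun φ => φ.app (op W) t) this
  exact h2

omit [IsFiltered Λ] in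
lemma loc_surj₀ (V : C) (s : (c₀ E).pt.obj.obj (op V)) :
    ∃ T ∈ J V, ∀ ⦃W : C⦄ (g : W ⟶ V), T.arrows g →
      ∃ (μ : Λ) (t : (E.obj μ).obj.obj (op W)),
        ((c₀ E).ι.app μ).hom.app (op W) t = (c₀ E).pt.obj.map g.op s := by
  have hls : Presheaf.IsLocallySurjective J (toSheafify J (PE E).pt) := inferInstance
  refine ⟨Presheaf.imageSieve (toSheafify J (PE E).pt) s, hls.imageSieve_mem s, ?_⟩
  rintro W g ⟨t', ht'⟩
  obtain ⟨μ, t, ht⟩ := Types.jointly_surjective_of_isColimit (hEW E W) t'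
  refine ⟨μ, t, ?_⟩
  rw [c₀_ι_apply]
  have ht2 : ((PE E).ι.app μ).app (op W) t = t' := ht
  rw [ht2]
  exact ht'

lemma loc_inj₀ (V : C) (μ : Λ) (t t' : (E.obj μ).obj.obj (op V))
    (ht : ((c₀ E).ι.app μ).hom.app (op V) t = ((c₀ E).ι.app μ).hom.app (op V) t') :
    ∃ T ∈ J V, ∀ ⦃W : C⦄ (g : W ⟶ V), T.arrows g →
      ∃ (μ' : Λ) (f : μ ⟶ μ'), (E.map f).hom.app (op W) ((E.obj μ).obj.map g.op t) =
        (E.map f).hom.app (op W) ((E.obj μ).obj.map g.op t') := by
  have hli : Presheaf.IsLocallyInjective J (toSheafify J (PE E).pt) := inferInstance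
  rw [c₀_ι_apply, c₀_ι_apply] at ht
  refine ⟨Presheaf.equalizerSieve (((PE E).ι.app μ).app (op V) t) (((PE E).ι.app μ).app (op V) t'),
    hli.equalizerSieve_mem _ _ ht, ?_⟩
  intro W g hg
  have hg' : (PE E).pt.map g.op (((PE E).ι.app μ).app (op V) t) =
      (PE E).pt.map g.op (((PE E).ι.app μ).app (op V) t') := hg
  have hnat := NatTrans.naturality_apply ((PE E).ι.app μ) g.op t
  have hnat' := NatTrans.naturality_apply ((PE E).ι.app μ) g.op t'
  have h1 : ((PE E).ι.app μ).app (op W) ((E.obj μ).obj.map g.op t) =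
      ((PE E).ι.app μ).app (op W) ((E.obj μ).obj.map g.op t') := by
    refine Eq.trans hnat (Eq.trans hg' hnat'.symm)
  obtain ⟨μ', f, hf⟩ := (Types.FilteredColimit.isColimit_eq_iff' (hEW E W) _ _).1 h1
  exact ⟨μ', f, hf⟩

variable {E}

omit [IsFiltered Λ] in
lemma cocone_w_apply (c : Cocone E) {μ μ' : Λ} (f : μ ⟶ μ') (V : C)
    (t : (E.obj μ).obj.obj (op V)) :
    (c.ι.app μ').hom.app (op V) ((E.map f).hom.app (op V) t) = (c.ι.app μ).hom.app (op V) t := by
  rw [← c.w f]
  rfl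

omit [IsFiltered Λ] in
lemma map_comp_apply {μ μ' μ'' : Λ} (f : μ ⟶ μ') (g : μ' ⟶ μ'') (V : C)
    (t : (E.obj μ).obj.obj (op V)) :
    (E.map (f ≫ g)).hom.app (op V) t = (E.map g).hom.app (op V) ((E.map f).hom.app (op V) t) := by
  rw [E.map_comp]
  rfl

omit [IsFiltered Λ] in
/-- sections of a filtered colimit of sheaves of sets locally come from a stage -/
lemma loc_surj (c : Cocone E) (hc : IsColimit c) (V : C) (s : c.pt.obj.obj (op V)) :
    ∃ T ∈ J V, ∀ ⦃W : C⦄ (g : W ⟶ V), T.arrows g →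
      ∃ (μ : Λ) (t : (E.obj μ).obj.obj (op W)),
        (c.ι.app μ).hom.app (op W) t = c.pt.obj.map g.op s := by
  let e : c₀ E ≅ c := IsColimit.uniqueUpToIso (hc₀ E) hc
  obtain ⟨T, hT, h⟩ := loc_surj₀ E V (e.inv.hom.hom.app (op V) s)
  refine ⟨T, hT, fun W g hg => ?_⟩
  obtain ⟨μ, t, ht⟩ := h g hg
  refine ⟨μ, t, ?_⟩
  have h1 : c.ι.app μ = (c₀ E).ι.app μ ≫ e.hom.hom := (e.hom.w μ).symm
  rw [h1]
  change e.hom.hom.hom.app (op W) (((c₀ E).ι.app μ).hom.app (op W) t) = _
  rw [ht, nat_apply]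
  congr 1
  have h2 : e.inv.hom ≫ e.hom.hom = 𝟙 _ := by
    rw [← Cocone.category_comp_hom, e.inv_hom_id]; rfl
  exact congrArg (fun φ => φ.hom.app (op V) s) h2

/-- sections of a stage which agree in the colimit agree locally at a later stage -/
lemma loc_inj (c : Cocone E) (hc : IsColimit c) (V : C) (μ : Λ) (t t' : (E.obj μ).obj.obj (op V))
    (ht : (c.ι.app μ).hom.app (op V) t = (c.ι.app μ).hom.app (op V) t') :
    ∃ T ∈ J V, ∀ ⦃W : C⦄ (g : W ⟶ V), T.arrows g →
      ∃ (μ' : Λ) (f : μ ⟶ μ'), (E.map f).hom.app (op W) ((E.obj μ).obj.map g.op t) =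
        (E.map f).hom.app (op W) ((E.obj μ).obj.map g.op t') := by
  let e : c ≅ c₀ E := IsColimit.uniqueUpToIso hc (hc₀ E)
  apply loc_inj₀ E V μ t t'
  have h1 : (c₀ E).ι.app μ = c.ι.app μ ≫ e.hom.hom := (e.hom.w μ).symm
  rw [h1]
  change e.hom.hom.hom.app (op V) ((c.ι.app μ).hom.app (op V) t) =
    e.hom.hom.hom.app (op V) ((c.ι.app μ).hom.app (op V) t')
  rw [ht]

end filt

section const

/-- the constant morphism given by a global section -/
def constHom (K X : Sheaf J (Type u)) (y : X.obj.sections) : K ⟶ X :=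
  ⟨{ app := fun U => ↾fun _ => y.1 U
     naturality := by
      intro U V g
      ext k
      exact (y.2 g).symm }⟩

@[simp]
lemma constHom_apply (K X : Sheaf J (Type u)) (y : X.obj.sections) (U : C) (k : K.obj.obj (op U)) :
    (constHom K X y).hom.app (op U) k = y.1 (op U) := rfl

lemma comp_constHom {K K' : Sheaf J (Type u)} (ψ : K' ⟶ K) (X : Sheaf J (Type u)) (y : X.obj.sections) :
    ψ ≫ constHom K X y = constHom K' X y := rfl

/-- a morphism from a covering sheaf which is constant is given by a global section -/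
theorem exists_section_of_const (K X : Sheaf J (Type u)) (hK : Covers K) (τ : K ⟶ X)
    (h : (prod.fst : K ⨯ K ⟶ K) ≫ τ = prod.snd ≫ τ) :
    ∃ y : X.obj.sections, τ = constHom K X y := by
  haveI : Epi (terminal.from K) := (covers_iff_epi K).2 hK
  let r : RegularEpi (terminal.from K) := regularEpiOfEpi (terminal.from K)
  have hlr : r.left ≫ τ = r.right ≫ τ := by
    have h1 : prod.lift r.left r.right ≫ (prod.fst : K ⨯ K ⟶ K) ≫ τ =
        prod.lift r.left r.right ≫ prod.snd ≫ τ := by rw [h]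
    rw [prod.lift_fst_assoc, prod.lift_snd_assoc] at h1
    exact h1
  obtain ⟨l, hl⟩ := RegularEpi.desc' r τ hlr
  refine ⟨⟨fun U => l.hom.app U default, ?_⟩, ?_⟩
  · intro U V g
    have := NatTrans.naturality_apply l.hom g (default : (⊤_ (Sheaf J (Type u))).obj.obj U)
    rw [← this]
    congr 1
    exact Subsingleton.elim _ _
  · rw [← hl]
    ext U k
    change l.hom.app U ((terminal.from K).hom.app U k) = l.hom.app U default
    congr 1
    exact Subsingleton.elim _ _

end const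

section main

variable {Λ : Type u} [SmallCategory Λ] [IsFiltered Λ] {E : Λ ⥤ Sheaf J (Type u)}
  (c : Cocone E) (hc : IsColimit c)

include hc in
/-- two maps from a quasi-compact sheaf to a stage which agree in the colimit agree at a later stage -/
theorem qc_inj (K : Sheaf J (Type u)) (hK : QcE K) (μ : Λ) (a b : K ⟶ E.obj μ)
    (h : a ≫ c.ι.app μ = b ≫ c.ι.app μ) :
    ∃ (ν : Λ) (f : μ ⟶ ν), a ≫ E.map f = b ≫ E.map f := by
  obtain ⟨t, ht⟩ := hK (Σ ν : Λ, (μ ⟶ ν))
    (fun i U k => (E.map i.2).hom.app (op U) (a.hom.app (op U) k) =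
      (E.map i.2).hom.app (op U) (b.hom.app (op U) k))
    (by
      intro i U V g k hk
      rw [nat_apply, nat_apply, nat_apply, nat_apply, hk])
    (by
      intro U k
      have hk : (c.ι.app μ).hom.app (op U) (a.hom.app (op U) k) =
          (c.ι.app μ).hom.app (op U) (b.hom.app (op U) k) :=
        congrArg (fun φ => φ.hom.app (op U) k) h
      obtain ⟨T, hT, hT'⟩ := loc_inj c hc U μ _ _ hk
      refine ⟨T, hT, fun W g hg => ?_⟩
      obtain ⟨μ', f, hf⟩ := hT' g hg
      refine ⟨⟨μ', f⟩, ?_⟩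
      rw [nat_apply a, nat_apply b]
      exact hf)
  obtain ⟨ν, g, hh, hhg⟩ := exists_common (κ := t) μ (fun i => i.1.1) (fun i => i.1.2)
  refine ⟨ν, g, ?_⟩
  ext U k
  obtain ⟨T, hT, hT'⟩ := ht U.unop k
  refine sec_ext (E.obj ν) T hT _ _ (fun W g' hg' => ?_)
  obtain ⟨i, hi, hik⟩ := hT' g' hg'
  change (E.obj ν).obj.map g'.op ((E.map g).hom.app (op U.unop) (a.hom.app (op U.unop) k)) =
    (E.obj ν).obj.map g'.op ((E.map g).hom.app (op U.unop) (b.hom.app (op U.unop) k))
  rw [← nat_apply, ← nat_apply, ← nat_apply, ← nat_apply, ← hhg ⟨i, hi⟩, map_comp_apply,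
    map_comp_apply]
  exact congrArg _ hik

variable (S : Set (Sheaf J (Type u)))
  (hSa : ∀ F : Sheaf J (Type u), Covers F → ∃ K ∈ S, Covers K ∧ Nonempty (K ⟶ F))
  (hSb : ∀ K ∈ S, QcE (K ⨯ K))

lemma covers_terminal : Covers (⊤_ (Sheaf J (Type u))) :=
  fun U => ⟨⊤, J.top_mem U, fun _ _ _ => ⟨default⟩⟩

include hc hSa hSb in
theorem sections_inj (μ : Λ) (y y' : (E.obj μ).obj.sections)
    (h : ∀ U : C, (c.ι.app μ).hom.app (op U) (y.1 (op U)) = (c.ι.app μ).hom.app (op U) (y'.1 (op U))) :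
    ∃ (ν : Λ) (f : μ ⟶ ν), ∀ U : C, (E.map f).hom.app (op U) (y.1 (op U)) =
      (E.map f).hom.app (op U) (y'.1 (op U)) := by
  obtain ⟨K, hKS, hK, -⟩ := hSa _ covers_terminal
  obtain ⟨ν, f, hf⟩ := qc_inj c hc K (qcE_of_prod K (hSb K hKS)) μ (constHom K _ y) (constHom K _ y') (by
    ext U k
    exact h U.unop)
  refine ⟨ν, f, fun U => ?_⟩
  obtain ⟨T, hT, hT'⟩ := hK U
  refine sec_ext (E.obj ν) T hT _ _ (fun W g hg => ?_)
  obtain ⟨k⟩ := hT' g hg
  rw [← nat_apply, ← nat_apply, y.2 g.op, y'.2 g.op]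
  exact congrArg (fun φ => φ.hom.app (op W) k) hf

include hc hSa hSb in
theorem sections_surj (x : c.pt.obj.sections) :
    ∃ (ν : Λ) (y : (E.obj ν).obj.sections),
      ∀ U : C, (c.ι.app ν).hom.app (op U) (y.1 (op U)) = x.1 (op U) := by
  -- Step 1: a stage where `x` lifts locally
  obtain ⟨K₁, hK₁S, hK₁, -⟩ := hSa _ covers_terminal
  have hq₁ := qcE_of_prod K₁ (hSb K₁ hK₁S)
  obtain ⟨t, ht⟩ := hq₁ Λ
    (fun μ U _ => ∃ s : (E.obj μ).obj.obj (op U), (c.ι.app μ).hom.app (op U) s = x.1 (op U))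
    (by
      rintro μ U V g k ⟨s, hs⟩
      refine ⟨(E.obj μ).obj.map g.op s, ?_⟩
      rw [nat_apply, hs]
      exact x.2 g.op)
    (by
      intro U k
      obtain ⟨T, hT, hT'⟩ := loc_surj c hc U (x.1 (op U))
      refine ⟨T, hT, fun W g hg => ?_⟩
      obtain ⟨μ, s, hs⟩ := hT' g hg
      exact ⟨μ, s, hs.trans (x.2 g.op)⟩)
  obtain ⟨μ, hμ⟩ := exists_upper t
  -- the subsheaf of lifts of `x` to the stage `μ`
  let P : ∀ U : C, (E.obj μ).obj.obj (op U) → Prop :=
    fun U s => (c.ι.app μ).hom.app (op U) s = x.1 (op U)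
  have hP : ∀ (U V : C) (g : V ⟶ U) (s : (E.obj μ).obj.obj (op U)),
      P U s → P V ((E.obj μ).obj.map g.op s) := by
    intro U V g s hs
    show (c.ι.app μ).hom.app (op V) ((E.obj μ).obj.map g.op s) = x.1 (op V)
    rw [nat_apply, hs]
    exact x.2 g.op
  let F' := shOf (E.obj μ) P hP
  have hF'P : ∀ (U : C) (s : F'.obj.obj (op U)), P U s.1 := by
    intro U s
    refine sec_ext c.pt _ s.2 _ _ (fun W g hg => ?_)
    have h1 : P W ((E.obj μ).obj.map g.op s.1) := hg
    rw [← nat_apply, h1]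
    exact (x.2 g.op).symm
  have hF' : Covers F' := by
    intro U
    obtain ⟨T₁, hT₁, hT₁'⟩ := hK₁ U
    let T : Sieve U :=
      { arrows := fun W _ => Nonempty (F'.obj.obj (op W))
        downward_closed := by
          rintro Y Z f ⟨s⟩ g
          exact ⟨F'.obj.map g.op s⟩ }
    refine ⟨T, ?_, fun W g hg => hg⟩
    refine J.transitive hT₁ T (fun V g hg => ?_)
    obtain ⟨k⟩ := hT₁' g hg
    obtain ⟨T₂, hT₂, hT₂'⟩ := ht V k
    refine J.superset_covering ?_ hT₂
    intro W h hh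
    obtain ⟨l, hl, s, hs⟩ := hT₂' h hh
    obtain ⟨f⟩ := hμ l hl
    refine ⟨⟨(E.map f).hom.app (op W) s, Subfunctor.le_sheafify J _ _ ?_⟩⟩
    show (c.ι.app μ).hom.app (op W) ((E.map f).hom.app (op W) s) = x.1 (op W)
    rw [cocone_w_apply, hs]
  -- Step 2: a lift over a covering quasi-compact sheaf
  obtain ⟨K₂, hK₂S, hK₂, ⟨φ⟩⟩ := hSa F' hF'
  obtain ⟨t₂, ht₂def⟩ : ∃ t₂ : K₂ ⟶ E.obj μ, t₂ = φ ≫ shOfι (E.obj μ) P hP := ⟨_, rfl⟩
  have ht₂ : t₂ ≫ c.ι.app μ = constHom K₂ c.pt x := by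
    rw [ht₂def]
    ext U k
    exact hF'P U.unop (φ.hom.app U k)
  -- Step 3: make it constant
  obtain ⟨ν, f, hf⟩ := qc_inj c hc (K₂ ⨯ K₂) (hSb K₂ hK₂S) μ (prod.fst ≫ t₂) (prod.snd ≫ t₂) (by
    rw [Category.assoc, Category.assoc, ht₂]
    exact (comp_constHom prod.fst c.pt x).trans (comp_constHom prod.snd c.pt x).symm)
  -- Step 4: descend
  obtain ⟨y, hy⟩ := exists_section_of_const K₂ (E.obj ν) hK₂ (t₂ ≫ E.map f) (by
    rw [← Category.assoc, ← Category.assoc]
    exact hf)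
  refine ⟨ν, y, fun U => ?_⟩
  obtain ⟨T, hT, hT'⟩ := hK₂ U
  refine sec_ext c.pt T hT _ _ (fun W g hg => ?_)
  obtain ⟨k⟩ := hT' g hg
  rw [← nat_apply, y.2 g.op, x.2 g.op]
  have h1 : (t₂ ≫ E.map f).hom.app (op W) k = y.1 (op W) := by
    rw [hy]
    rfl
  rw [← h1]
  change (c.ι.app ν).hom.app (op W) ((E.map f).hom.app (op W) (t₂.hom.app (op W) k)) = _
  rw [cocone_w_apply]
  exact congrArg (fun φ => φ.hom.app (op W) k) ht₂

/-- the global sections functor on sheaves of sets -/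
abbrev Γ : Sheaf J (Type u) ⥤ Type u :=
  sheafToPresheaf J (Type u) ⋙ Functor.sectionsFunctor Cᵒᵖ

include hSa hSb in
/-- global sections commute with filtered colimits -/
theorem preservesColimit_Γ (E : Λ ⥤ Sheaf J (Type u)) : PreservesColimit E (Γ (J := J)) := by
  refine ⟨fun {c} hc => ⟨?_⟩⟩
  refine Types.FilteredColimit.isColimitOf' _ _ ?_ ?_
  · intro x
    obtain ⟨ν, y, hy⟩ := sections_surj c hc S hSa hSb x
    refine ⟨ν, y, ?_⟩
    refine Subtype.ext (funext fun U => ?_)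
    exact (hy U.unop).symm
  · intro μ y y' h
    obtain ⟨ν, f, hf⟩ := sections_inj c hc S hSa hSb μ y y' (fun U => by
      have := congrArg (fun z => z.1 (op U)) h
      exact this)
    refine ⟨ν, f, ?_⟩
    refine Subtype.ext (funext fun U => ?_)
    exact hf U.unop

end main

end Groth.Agent.Lib.helper21.GammaFilt
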