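import Mathlib

/-!
# Abstract criteria for a functor to preserve a colimit (helper21)

* `preservesColimit_of_jointly'`: joint reflection through functors to varying categories.
* `preservesColimit_of_decomp`: if `𝟙_H = ∑ a_j ≫ b_j` with `a_j : H ⟶ H_j`, `b_j : H_j ⟶ H` and all `H_j` preserve the
  colimit of `D`, so does `H`.
* `preservesColimit_of_kernel`: if `H₁ = ker (H₂ ⟶ H₃)` pointwise, colimits of shape `Λ` are exact in the target and
  `H₂`, `H₃` preserve the colimit of `D : Λ ⥤ A`, so does `H₁`.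
-/

set_option autoImplicit false
universe u

open CategoryTheory CategoryTheory.Limits

namespace Groth.Agent.Lib.helper21.ShHomColim

section jointly

variable {C D J : Type*} [Category C] [Category D] [Category J]

/-- Joint reflection of colimits, with varying target categories. -/
lemma preservesColimit_of_jointly' {ι : Type*} {E : ι → Type*} [∀ x, Category (E x)]
    (P : C ⥤ D) (S : ∀ x, D ⥤ E x) (K : J ⥤ C)
    [HasColimit (K ⋙ P)]
    (hS : ∀ x, PreservesColimit (K ⋙ P) (S x))
    (hPS : ∀ x, PreservesColimit K (P ⋙ S x))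
    (hrefl : ∀ {A B : D} (φ : A ⟶ B), (∀ x, IsIso ((S x).map φ)) → IsIso φ) :
    PreservesColimit K P := by
  refine ⟨fun {c} hc => ⟨?_⟩⟩
  let φ : colimit (K ⋙ P) ⟶ P.obj c.pt := colimit.desc (K ⋙ P) (P.mapCocone c)
  have hφ : IsIso φ := by
    apply hrefl
    intro x
    have h1 : IsColimit ((S x).mapCocone (colimit.cocone (K ⋙ P))) :=
      isColimitOfPreserves (S x) (colimit.isColimit (K ⋙ P))
    have h2 : IsColimit ((S x).mapCocone (P.mapCocone c)) :=
      isColimitOfPreserves (P ⋙ S x) hc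
    have e : (S x).map φ = (h1.coconePointUniqueUpToIso h2).hom := by
      apply h1.hom_ext
      intro j
      rw [IsColimit.comp_coconePointUniqueUpToIso_hom]
      change (S x).map (colimit.ι (K ⋙ P) j) ≫ (S x).map φ = (S x).map (P.map (c.ι.app j))
      rw [← Functor.map_comp]
      congr 1
      exact colimit.ι_desc _ _
    rw [e]
    infer_instance
  refine IsColimit.ofIsoColimit (colimit.isColimit (K ⋙ P)) ?_
  exact Cocone.ext (asIso φ) (fun j => colimit.ι_desc _ _)

end jointly

section decomp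

variable {A B Λ : Type*} [Category A] [Category B] [Preadditive B] [Category Λ]

/-- A functor which is a "finite sum" of functors preserving a colimit preserves it. -/
theorem preservesColimit_of_decomp {ι : Type*} (s : Finset ι) (H : A ⥤ B) (Hj : ι → A ⥤ B)
    (a : ∀ j, H ⟶ Hj j) (b : ∀ j, Hj j ⟶ H)
    (hab : ∀ X : A, ∑ j ∈ s, (a j).app X ≫ (b j).app X = 𝟙 (H.obj X))
    (D : Λ ⥤ A) (hj : ∀ j, PreservesColimit D (Hj j)) : PreservesColimit D H := by
  refine ⟨fun {c} hc => ⟨?_⟩⟩
  have hcj : ∀ j, IsColimit ((Hj j).mapCocone c) := fun j => isColimitOfPreserves (Hj j) hc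
  -- the cocone over `D ⋙ Hj j` induced by a cocone over `D ⋙ H`
  let t : ∀ (σ : Cocone (D ⋙ H)) (j : ι), Cocone (D ⋙ Hj j) := fun σ j =>
    { pt := σ.pt
      ι :=
        { app := fun k => (b j).app (D.obj k) ≫ σ.ι.app k
          naturality := fun k k' f => by
            have h1 := σ.w f
            have h2 := (b j).naturality (D.map f)
            dsimp at h1 h2 ⊢
            rw [Category.comp_id, ← h1, ← Category.assoc, h2, Category.assoc] } }
  refine
    { desc := fun σ => ∑ j ∈ s, (a j).app c.pt ≫ (hcj j).desc (t σ j)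
      fac := fun σ k => ?_
      uniq := fun σ m hm => ?_ }
  · dsimp
    rw [Preadditive.comp_sum]
    have : ∀ j ∈ s, H.map (c.ι.app k) ≫ (a j).app c.pt ≫ (hcj j).desc (t σ j) =
        ((a j).app (D.obj k) ≫ (b j).app (D.obj k)) ≫ σ.ι.app k := by
      intro j _
      have h1 := (a j).naturality (c.ι.app k)
      have h2 := (hcj j).fac (t σ j) k
      dsimp at h1 h2
      rw [← Category.assoc, h1, Category.assoc, h2, Category.assoc]
    rw [Finset.sum_congr rfl this, ← Preadditive.sum_comp, hab, Category.id_comp]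
  · have key : ∀ j, (b j).app c.pt ≫ m = (hcj j).desc (t σ j) := by
      intro j
      apply (hcj j).uniq (t σ j)
      intro k
      have h1 := (b j).naturality (c.ι.app k)
      have h2 := hm k
      dsimp at h1 h2 ⊢
      rw [← Category.assoc, h1, Category.assoc, h2]
    calc m = (∑ j ∈ s, (a j).app c.pt ≫ (b j).app c.pt) ≫ m := by rw [hab, Category.id_comp]
      _ = ∑ j ∈ s, (a j).app c.pt ≫ (hcj j).desc (t σ j) := by
        rw [Preadditive.sum_comp]
        refine Finset.sum_congr rfl fun j _ => ?_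
        rw [Category.assoc, key]

end decomp

section kernel

variable {A B Λ : Type*} [Category A] [Category B] [Abelian B] [Category Λ]
  [HasColimitsOfShape Λ B] [HasExactColimitsOfShape Λ B]

/-- If `H₁` is pointwise the kernel of `H₂ ⟶ H₃`, `Λ`-shaped colimits are exact in the target and
`H₂`, `H₃` preserve the colimit of `D : Λ ⥤ A`, then so does `H₁`. -/
theorem preservesColimit_of_kernel {H₁ H₂ H₃ : A ⥤ B} (α : H₁ ⟶ H₂) (β : H₂ ⟶ H₃)
    (w : ∀ X, α.app X ≫ β.app X = 0)
    (hk : ∀ X, IsLimit (KernelFork.ofι (α.app X) (w X)))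
    (D : Λ ⥤ A) [PreservesColimit D H₂] [PreservesColimit D H₃] : PreservesColimit D H₁ := by
  refine ⟨fun {c} hc => ⟨?_⟩⟩
  let a : D ⋙ H₁ ⟶ D ⋙ H₂ := Functor.whiskerLeft D α
  let b : D ⋙ H₂ ⟶ D ⋙ H₃ := Functor.whiskerLeft D β
  have wab : a ≫ b = 0 := by
    ext k
    exact w (D.obj k)
  have hkF : IsLimit (KernelFork.ofι a wab) := by
    apply evaluationJointlyReflectsLimits
    intro k
    exact (isLimitMapConeForkEquiv' ((evaluation Λ B).obj k) wab).symm (hk (D.obj k))
  haveI : PreservesFiniteLimits (colim (J := Λ) (C := B)) :=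
    HasExactColimitsOfShape.preservesFiniteLimits
  haveI : (colim (J := Λ) (C := B)).PreservesZeroMorphisms :=
    Functor.preservesZeroMorphisms_of_isLeftAdjoint _
  have hkc : IsLimit (KernelFork.ofι (colimMap a) (by
      change colim.map a ≫ colim.map b = 0
      rw [← Functor.map_comp, wab, Functor.map_zero]) : Fork (colimMap b) 0) :=
    isLimitForkMapOfIsLimit' (colim (J := Λ) (C := B)) wab hkF
  let φ₁ : colimit (D ⋙ H₁) ⟶ H₁.obj c.pt := colimit.desc _ (H₁.mapCocone c)
  let φ₂ : colimit (D ⋙ H₂) ⟶ H₂.obj c.pt := colimit.desc _ (H₂.mapCocone c)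
  let φ₃ : colimit (D ⋙ H₃) ⟶ H₃.obj c.pt := colimit.desc _ (H₃.mapCocone c)
  haveI : IsIso φ₂ := by
    have : φ₂ = ((colimit.isColimit (D ⋙ H₂)).coconePointUniqueUpToIso
      (isColimitOfPreserves H₂ hc)).hom := rfl
    rw [this]; infer_instance
  haveI : IsIso φ₃ := by
    have : φ₃ = ((colimit.isColimit (D ⋙ H₃)).coconePointUniqueUpToIso
      (isColimitOfPreserves H₃ hc)).hom := rfl
    rw [this]; infer_instance
  have c12 : φ₁ ≫ α.app c.pt = colimMap a ≫ φ₂ := by
    apply colimit.hom_ext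
    intro k
    rw [colimit.ι_desc_assoc, ι_colimMap_assoc, colimit.ι_desc]
    exact α.naturality (c.ι.app k)
  have c23 : φ₂ ≫ β.app c.pt = colimMap b ≫ φ₃ := by
    apply colimit.hom_ext
    intro k
    rw [colimit.ι_desc_assoc, ι_colimMap_assoc, colimit.ι_desc]
    exact β.naturality (c.ι.app k)
  have c23' : inv φ₂ ≫ colimMap b = β.app c.pt ≫ inv φ₃ := by
    rw [IsIso.inv_comp_eq, ← Category.assoc, c23, Category.assoc, IsIso.hom_inv_id,
      Category.comp_id]
  have wψ : (α.app c.pt ≫ inv φ₂) ≫ colimMap b = 0 := by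
    rw [Category.assoc, c23', ← Category.assoc, w, zero_comp]
  let ψ : H₁.obj c.pt ⟶ colimit (D ⋙ H₁) := hkc.lift (KernelFork.ofι _ wψ)
  have hψ : ψ ≫ colimMap a = α.app c.pt ≫ inv φ₂ := hkc.fac (KernelFork.ofι _ wψ) WalkingParallelPair.zero
  have h1 : φ₁ ≫ ψ = 𝟙 _ := by
    apply Fork.IsLimit.hom_ext hkc
    change (φ₁ ≫ ψ) ≫ colimMap a = 𝟙 _ ≫ colimMap a
    rw [Category.assoc, hψ, ← Category.assoc, c12, Category.assoc, IsIso.hom_inv_id,
      Category.comp_id, Category.id_comp]
  have h2 : ψ ≫ φ₁ = 𝟙 _ := by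
    apply Fork.IsLimit.hom_ext (hk c.pt)
    change (ψ ≫ φ₁) ≫ α.app c.pt = 𝟙 _ ≫ α.app c.pt
    rw [Category.assoc, c12, ← Category.assoc, hψ, Category.assoc, IsIso.inv_hom_id,
      Category.comp_id, Category.id_comp]
  haveI : IsIso φ₁ := ⟨ψ, h1, h2⟩
  refine IsColimit.ofIsoColimit (colimit.isColimit (D ⋙ H₁)) ?_
  exact Cocone.ext (asIso φ₁) (fun k => colimit.ι_desc _ _)

end kernel

end Groth.Agent.Lib.helper21.ShHomColim
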