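import Mathlib
import Groth.Prelude.Def_ModSite
import Groth.Agent.Lib.Helper21.ShHomColim1
import Groth.Agent.Lib.Helper21.ShHomCoh1
import Groth.Agent.Lib.Helper21.FLFDual2
import Groth.Agent.Lib.Helper21.TensorColim
import Groth.Agent.Lib.Helper21.ExtZeroHom
import Groth.Agent.Lib.Helper21.QCAlgMod1
import Groth.Agent.Lib.Helper21.LocZero

/-!
# The internal hom out of a finitely presented module commutes with filtered colimits (helper21)

* `preservesColimits_restr`: restriction to `C/X` preserves colimits.
* `isIso_of_coversTop`: restrictions to a covering family jointly reflect isomorphisms.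
* `preservesColimit_sheafHom_free`: `ℋom(O^I, -)` preserves colimits for finite `I`.
* `preservesColimit_sheafHom_of_presentation`: the case of a global finite presentation.
* `main`: `ℋom(F, -)` preserves filtered colimits for `F` of finite presentation.
-/

set_option autoImplicit false
universe u

open CategoryTheory CategoryTheory.Limits Opposite

namespace Groth.Agent.Lib.helper21.ShHomColim

open Groth.Agent.Lib.helper21.ExtShDelta Groth.Agent.Lib.helper21.ShHomCoh
  Groth.Agent.Lib.helper21.FLFDual Groth.Agent.Lib.Helper21.ExtZeroHom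

section restr

variable {C : Type u} [SmallCategory C] {J : GrothendieckTopology C} (O : Sheaf J CommRingCat.{u})
  (X : C)

/-- restriction does not change the underlying abelian sheaf -/
noncomputable def restrToSheafIso :
    ModSite.restr O X ⋙ SheafOfModules.toSheaf.{u} ((ModSite.ringSh O).over X) ≅
      SheafOfModules.toSheaf.{u} (ModSite.ringSh O) ⋙ J.overPullback AddCommGrpCat.{u} X :=
  NatIso.ofComponents (fun M => Iso.refl _) (fun {M N} φ => by
    simp only [Iso.refl_hom]
    rfl)

theorem preservesColimits_restr : PreservesColimitsOfSize.{u, u} (ModSite.restr O X) := by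
  have h1 := Groth.Agent.Lib.Helper21.ModSh.toSheaf_preservesColimits (ModSite.ringSh O)
  have h2 : PreservesColimitsOfSize.{u, u} (J.overPullback AddCommGrpCat.{u} X) :=
    ((Over.forget X).sheafAdjunctionCocontinuous AddCommGrpCat.{u} _ _).leftAdjoint_preservesColimits
  have h3 : PreservesColimitsOfSize.{u, u}
      (SheafOfModules.toSheaf.{u} (ModSite.ringSh O) ⋙ J.overPullback AddCommGrpCat.{u} X) :=
    inferInstance
  have h4 : PreservesColimitsOfSize.{u, u}
      (ModSite.restr O X ⋙ SheafOfModules.toSheaf.{u} ((ModSite.ringSh O).over X)) :=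
    @preservesColimits_of_natIso _ _ _ _ _ _ (restrToSheafIso O X).symm h3
  have h5 := Groth.Agent.Lib.helper21.QCAlgMod.reflectsColimits_toSheaf ((ModSite.ringSh O).over X)
  refine ⟨fun {J} _ => ⟨fun {K} => ?_⟩⟩
  exact @preservesColimit_of_reflects_of_preserves _ _ _ _ _ _ K _ _
    (ModSite.restr O X)
      (SheafOfModules.toSheaf _) (h4.preservesColimitsOfShape.preservesColimit)
      (h5.reflectsColimitsOfShape.reflectsColimit)

instance additive_restr : (ModSite.restr O X).Additive := by
  have := preservesBinaryBiproducts_of_preservesBinaryProducts (ModSite.restr O X)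
  exact Functor.additive_of_preservesBinaryBiproducts _

variable {O}

/-- a module vanishing on a covering family vanishes -/
theorem isZero_of_coversTop {I : Type*} (Xs : I → C) (hX : J.CoversTop Xs) (N : ModSite.Mod O)
    (h : ∀ i, IsZero ((ModSite.restr O (Xs i)).obj N)) : IsZero N := by
  apply Groth.Agent.Lib.helper21.LocZero.isZero_of_restr
  intro V
  refine ⟨Sieve.ofObjects Xs V, hX V, ?_⟩
  intro W g hg
  obtain ⟨i, ⟨a⟩⟩ := hg
  exact ⟨Xs i, a, h i⟩

/-- the restrictions to a covering family jointly reflect isomorphisms -/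
theorem isIso_of_coversTop {I : Type*} (Xs : I → C) (hX : J.CoversTop Xs) {A B : ModSite.Mod O}
    (φ : A ⟶ B) (h : ∀ i, IsIso ((ModSite.restr O (Xs i)).map φ)) : IsIso φ := by
  haveI : Mono φ := by
    apply Preadditive.mono_of_kernel_zero
    apply IsZero.eq_of_src
    apply isZero_of_coversTop Xs hX
    intro i
    haveI := h i
    refine IsZero.of_iso ?_ (PreservesKernel.iso (ModSite.restr O (Xs i)) φ)
    exact isZero_kernel_of_mono _
  haveI : Epi φ := by
    apply Preadditive.epi_of_cokernel_zero
    apply IsZero.eq_of_tgt
    apply isZero_of_coversTop Xs hX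
    intro i
    haveI := h i
    haveI := preservesColimits_restr O (Xs i)
    refine IsZero.of_iso ?_ (PreservesCokernel.iso (ModSite.restr O (Xs i)) φ)
    exact isZero_cokernel_of_epi _
  exact isIso_of_mono_of_epi φ


end restr

section hom

variable {C : Type u} [SmallCategory C] {J : GrothendieckTopology C} {O : Sheaf J CommRingCat.{u}}

theorem preservesColimits_sheafHom_unit [ModSite.HasSheafHom (ModSite.unit O)] :
    PreservesColimitsOfSize.{u, u} (ModSite.sheafHom (ModSite.unit O)) :=
  preservesColimits_of_natIso (sheafHomUnitIso (O := O)).symm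

section free

variable (I : Type u)

/-- the projections `free I ⟶ unit` -/
noncomputable def πFree [DecidableEq I] (j : I) :
    SheafOfModules.free (R := ModSite.ringSh O) I ⟶ ModSite.unit O :=
  Sigma.desc (fun k => if k = j then 𝟙 _ else 0)

lemma ι_πFree [DecidableEq I] (k j : I) :
    SheafOfModules.ιFree (R := ModSite.ringSh O) k ≫ πFree I j = if k = j then 𝟙 _ else 0 :=
  Sigma.ι_desc _ _

lemma sum_πFree_ιFree [DecidableEq I] [Fintype I] :
    ∑ j : I, πFree (O := O) I j ≫ SheafOfModules.ιFree (R := ModSite.ringSh O) j = 𝟙 _ := by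
  apply Sigma.hom_ext
  intro k
  change SheafOfModules.ιFree (R := ModSite.ringSh O) k ≫ _ = SheafOfModules.ιFree (R := ModSite.ringSh O) k ≫ _
  rw [Preadditive.comp_sum, Category.comp_id]
  rw [Finset.sum_eq_single k]
  · rw [← Category.assoc, ι_πFree, if_pos rfl, Category.id_comp]
  · intro j _ hj
    rw [← Category.assoc, ι_πFree, if_neg (Ne.symm hj), zero_comp]
  · intro h
    exact absurd (Finset.mem_univ k) h

theorem preservesColimit_sheafHom_free [Finite I]
    [ModSite.HasSheafHom (SheafOfModules.free (R := ModSite.ringSh O) I)]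
    {Λ : Type u} [SmallCategory Λ] (D : Λ ⥤ ModSite.Mod O) :
    PreservesColimit D (ModSite.sheafHom (SheafOfModules.free (R := ModSite.ringSh O) I)) := by
  classical
  haveI := Fintype.ofFinite I
  haveI := hasSheafHom O (ModSite.unit O)
  haveI := preservesColimits_sheafHom_unit (O := O)
  refine preservesColimit_of_decomp Finset.univ _ (fun _ : I => ModSite.sheafHom (ModSite.unit O))
    (fun j => ExtSupp.sheafHomMap (SheafOfModules.ιFree (R := ModSite.ringSh O) j))
    (fun j => ExtSupp.sheafHomMap (πFree I j)) ?_ D (fun _ => inferInstance)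
  intro X
  have h1 : ∀ j : I, (ExtSupp.sheafHomMap (SheafOfModules.ιFree (R := ModSite.ringSh O) j)).app X ≫
      (ExtSupp.sheafHomMap (πFree (O := O) I j)).app X =
      (ExtSupp.sheafHomMap (πFree (O := O) I j ≫ SheafOfModules.ιFree (R := ModSite.ringSh O) j)).app X := by
    intro j
    rw [sheafHomMap_comp]
    rfl
  rw [Finset.sum_congr rfl (fun j _ => h1 j), ← sheafHomMap_sum_app, sum_πFree_ιFree, sheafHomMap_id]
  rfl

end free

/-- the presentation short complex -/
noncomputable def presSC (F : ModSite.Mod O) (P : SheafOfModules.Presentation (R := ModSite.ringSh O) F) :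
    ShortComplex (ModSite.Mod O) :=
  ShortComplex.mk (P.relations.π ≫ kernel.ι P.generators.π) P.generators.π (by simp)

lemma presSC_exact (F : ModSite.Mod O) (P : SheafOfModules.Presentation (R := ModSite.ringSh O) F) :
    (presSC F P).Exact :=
  (presSC F P).exact_of_g_is_cokernel P.isColimit

instance (F : ModSite.Mod O) (P : SheafOfModules.Presentation (R := ModSite.ringSh O) F) :
    Epi (presSC F P).g := P.generators.epi

/-- the global case: `ℋom(F, -)` commutes with filtered colimits if `F` has a finite global presentation -/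
theorem preservesColimit_sheafHom_of_presentation (F : ModSite.Mod O) [ModSite.HasSheafHom F]
    (P : SheafOfModules.Presentation (R := ModSite.ringSh O) F) [P.IsFinite]
    {Λ : Type u} [SmallCategory Λ] [IsFiltered Λ] (D : Λ ⥤ ModSite.Mod O) :
    PreservesColimit D (ModSite.sheafHom F) := by
  haveI : HasExactColimitsOfShape Λ (ModSite.Mod O) :=
    Groth.Agent.Lib.Helper21.TensorColim.hasExactColimitsOfShape_mod O Λ
  haveI h1 := hasSheafHom O (SheafOfModules.free (R := ModSite.ringSh O) P.generators.I)
  haveI h2 := hasSheafHom O (SheafOfModules.free (R := ModSite.ringSh O) P.relations.I)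
  haveI : ModSite.HasSheafHom (presSC F P).X₁ := h2
  haveI : ModSite.HasSheafHom (presSC F P).X₂ := h1
  haveI : ModSite.HasSheafHom (presSC F P).X₃ := ‹ModSite.HasSheafHom F›
  haveI : PreservesColimit D (ModSite.sheafHom (presSC F P).X₂) :=
    preservesColimit_sheafHom_free P.generators.I D
  haveI : PreservesColimit D (ModSite.sheafHom (presSC F P).X₁) :=
    preservesColimit_sheafHom_free P.relations.I D
  refine preservesColimit_of_kernel (ExtSupp.sheafHomMap (presSC F P).g)
    (ExtSupp.sheafHomMap (presSC F P).f) (fun N => (homSC (presSC F P) N).zero) (fun N => ?_) D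
  haveI := homSC_mono (presSC F P) N
  exact (homSC_exact (presSC F P) (presSC_exact F P) N).fIsKernel

theorem main (O : Sheaf J CommRingCat.{u}) (F : ModSite.Mod O) [ModSite.HasSheafHom F]
    [SheafOfModules.IsFinitePresentation (R := ModSite.ringSh O) F] {Λ : Type u} [SmallCategory Λ]
    [IsFiltered Λ] (D : Λ ⥤ ModSite.Mod O) :
    PreservesColimit D (ModSite.sheafHom F) := by
  obtain ⟨σ, hσ⟩ := SheafOfModules.IsFinitePresentation.exists_quasicoherentData (R := ModSite.ringSh O) F
  refine preservesColimit_of_jointly' (ModSite.sheafHom F) (fun i : σ.I => ModSite.restr O (σ.X i)) D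
    (fun i => ?_) (fun i => ?_) (fun φ h => isIso_of_coversTop σ.X σ.coversTop φ h)
  · haveI := preservesColimits_restr O (σ.X i)
    infer_instance
  · haveI := hasSheafHom (O.over (σ.X i)) ((ModSite.restr O (σ.X i)).obj F)
    haveI := preservesColimits_restr O (σ.X i)
    haveI : PreservesColimit (D ⋙ ModSite.restr O (σ.X i))
        (ModSite.sheafHom ((ModSite.restr O (σ.X i)).obj F)) :=
      @preservesColimit_sheafHom_of_presentation _ _ _ (O.over (σ.X i))
        ((ModSite.restr O (σ.X i)).obj F) _ (σ.presentation i) (hσ.isFinite_presentation i) _ _ _ _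
    haveI : PreservesColimit D (ModSite.restr O (σ.X i) ⋙
        ModSite.sheafHom ((ModSite.restr O (σ.X i)).obj F)) := inferInstance
    exact preservesColimit_of_natIso D (restrSheafHomIso O (σ.X i) F).symm


end hom

end Groth.Agent.Lib.helper21.ShHomColim
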