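import Mathlib
import Groth.Prelude.Def_ModSite
import Groth.Agent.Lib.Helper21.TensorMon
import Groth.Agent.Lib.Helper21.ShHomColim2
import Groth.Agent.Lib.Helper21.ModSh
import Groth.Agent.S7575

/-!
# `Hom(G, -)` commutes with directed colimits on a coherent-like ringed space, `G` finitely presented (helper21)

* `preservesColimit_sheafCompose_forget`: the underlying sheaf of sets of abelian sheaves commutes with filtered colimits.
* `sectionsEquivOfTerminal`, `unitCoyonedaIso`: `Hom(O, M) = M(T)` for `T` terminal.
* `coyonedaSheafHomIso`: `Hom(G, N) = Hom(O, ℋom(G, N))`.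
* `preservesColimit_evAt_top`: global sections of sheaves of sets and directed colimits (from helper1's S7575).
* `main`: `Hom(G, -)` preserves directed colimits.
-/

set_option autoImplicit false
universe u

open CategoryTheory CategoryTheory.Limits Opposite TopologicalSpace

namespace Groth.Agent.Lib.helper21.HomColimTop

open Groth.Agent.Lib.Helper21.TensorW Groth.Agent.Lib.Helper21.TensorAdj
  Groth.Agent.Lib.Helper21.TensorMon

section sheafCompose

variable {C : Type u} [SmallCategory C] (J : GrothendieckTopology C)

/-- the underlying sheaf of sets of an abelian sheaf commutes with filtered colimits -/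
theorem preservesColimit_sheafCompose_forget {K : Type u} [SmallCategory K] [IsFiltered K]
    (E : K ⥤ Sheaf J AddCommGrpCat.{u}) :
    PreservesColimit E (sheafCompose J (forget AddCommGrpCat.{u})) := by
  let G₁ := presheafToSheaf J AddCommGrpCat.{u}
  let G₂ := presheafToSheaf J (Type u)
  let adj₁ := sheafificationAdjunction J AddCommGrpCat.{u}
  let adj₂ := sheafificationAdjunction J (Type u)
  let F := forget AddCommGrpCat.{u}
  let e : E ≅ (E ⋙ sheafToPresheaf J AddCommGrpCat.{u}) ⋙ G₁ :=
    Functor.isoWhiskerLeft E (asIso adj₁.counit).symm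
  let H := E ⋙ sheafToPresheaf J AddCommGrpCat.{u}
  have hL : PreservesColimit H G₁ := by
    haveI := adj₁.leftAdjoint_preservesColimits
    infer_instance
  have hLG : PreservesColimit H (G₁ ⋙ sheafCompose J F) := by
    have : PreservesColimit H ((Functor.whiskeringRight Cᵒᵖ AddCommGrpCat.{u} (Type u)).obj F ⋙ G₂) := by
      haveI := adj₂.leftAdjoint_preservesColimits
      infer_instance
    exact preservesColimit_of_natIso H (sheafComposeNatIso J F adj₁ adj₂)
  have h1 : PreservesColimit (H ⋙ G₁) (sheafCompose J F) := by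
    refine preservesColimit_of_preserves_colimit_cocone
      (isColimitOfPreserves G₁ (colimit.isColimit H)) ?_
    exact IsColimit.ofIsoColimit
      (isColimitOfPreserves (G₁ ⋙ sheafCompose J F) (colimit.isColimit H))
      (Cocone.ext (Iso.refl _) (fun j => by simp))
  exact preservesColimit_of_iso_diagram _ e.symm


end sheafCompose

section terminal

variable {D : Type*} [Category D] {R₀ : Dᵒᵖ ⥤ RingCat.{u}}

/-- a section of a presheaf of modules from its value at a terminal object -/
noncomputable def sectionsOfTerminal (M : PresheafOfModules.{u} R₀) {T : D} (hT : IsTerminal T)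
    (m : M.obj (op T)) : M.sections :=
  PresheafOfModules.sectionsMk (fun Y => M.map (hT.from Y.unop).op m) (by
    intro Y Z g
    have e : (hT.from Y.unop).op ≫ g = (hT.from Z.unop).op :=
      Quiver.Hom.unop_inj (hT.hom_ext _ _)
    show (M.presheaf.map g).hom ((M.presheaf.map (hT.from Y.unop).op).hom m) =
      (M.presheaf.map (hT.from Z.unop).op).hom m
    rw [← e, M.presheaf.map_comp]
    rfl)

/-- global sections are the values at a terminal object -/
noncomputable def sectionsEquivOfTerminal (M : PresheafOfModules.{u} R₀) {T : D} (hT : IsTerminal T) :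
    M.sections ≃ M.obj (op T) where
  toFun s := s.eval (op T)
  invFun m := sectionsOfTerminal M hT m
  left_inv s := by
    apply PresheafOfModules.sections_ext
    intro Y
    exact PresheafOfModules.sections_property s (hT.from Y.unop).op
  right_inv m := by
    show (M.presheaf.map (hT.from T).op).hom m = m
    have : hT.from T = 𝟙 T := hT.hom_ext _ _
    rw [this, op_id, M.presheaf.map_id]
    rfl

end terminal

section site

variable {C : Type u} [SmallCategory C] {J : GrothendieckTopology C} (O : Sheaf J CommRingCat.{u})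

/-- the underlying sheaf of sets of a module -/
noncomputable def US : ModSite.Mod O ⥤ Sheaf J (Type u) :=
  SheafOfModules.toSheaf.{u} (ModSite.ringSh O) ⋙ sheafCompose J (forget AddCommGrpCat.{u})

/-- sections of a sheaf of sets over `T` -/
def evAt (T : C) : Sheaf J (Type u) ⥤ Type u :=
  sheafToPresheaf J (Type u) ⋙ (evaluation Cᵒᵖ (Type u)).obj (op T)

/-- `Hom(O, M) = M(T)` for `T` terminal -/
noncomputable def unitCoyonedaIso {T : C} (hT : IsTerminal T) :
    coyoneda.obj (op (ModSite.unit O)) ≅ US O ⋙ evAt T :=
  NatIso.ofComponents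
    (fun M => Equiv.toIso ((SheafOfModules.unitHomEquiv M).trans (sectionsEquivOfTerminal M.val hT)))
    (fun {M N} φ => by
      ext f
      rfl)

/-- `Hom(G, N) = Hom(O, ℋom(G, N))` -/
noncomputable def coyonedaSheafHomIso (G : ModSite.Mod O) [ModSite.HasSheafHom G] :
    coyoneda.obj (op G) ≅ ModSite.sheafHom G ⋙ coyoneda.obj (op (ModSite.unit O)) :=
  coyoneda.mapIso ((unitIso O).app G).op ≪≫
    (ModSite.sheafHomAdj G).compCoyonedaIso.app (op (ModSite.unit O))

end site


section top

variable {X : TopCat.{u}}

/-- global sections of sheaves of sets commute with directed colimits on a space where every open covering is refined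
by a finite one with quasi-compact pairwise intersections (helper1's S7575) -/
theorem preservesColimit_evAt_top
    (hX : ∀ (ι : Type u) (V : ι → Opens X), iSup V = ⊤ →
      ∃ (J : Type u) (_ : Finite J) (U : J → Opens X), iSup U = ⊤ ∧ (∀ j, ∃ i, U j ≤ V i) ∧
        ∀ j j', IsCompact ((U j ⊓ U j' : Opens X) : Set X))
    {I : Type u} [Preorder I] [Nonempty I] [IsDirected I (· ≤ ·)]
    (E : I ⥤ TopCat.Sheaf (Type u) X) :
    PreservesColimit E (evAt (J := Opens.grothendieckTopology X) (⊤ : Opens X)) := by
  refine ⟨fun {c} hc => ⟨?_⟩⟩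
  have key := (Groth.Agent.S7575.result E c hc (⊤ : Opens X)).2.2.2 (by
    intro 𝒱 h𝒱
    obtain ⟨K, hK, U, hU, hUV, hc⟩ := hX 𝒱 (fun V => V.1) (by rw [← h𝒱, iSup_subtype'])
    let e := Finite.equivFin K
    refine ⟨Nat.card K, fun j => U (e.symm j), ?_, ?_, ?_⟩
    · intro j
      obtain ⟨V, hV⟩ := hUV (e.symm j)
      exact ⟨V.1, V.2, hV⟩
    · rw [← hU]
      exact e.symm.iSup_comp (g := U)
    · intro j j'
      exact hc _ _)
  let ev := evAt (J := Opens.grothendieckTopology X) (⊤ : Opens X)
  let Ψ : colimit (E ⋙ ev) ⟶ ev.obj c.pt := colimit.desc (E ⋙ ev) (ev.mapCocone c)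
  haveI : IsIso Ψ := (isIso_iff_bijective Ψ).2 key
  refine IsColimit.ofIsoColimit (colimit.isColimit (E ⋙ ev)) ?_
  exact Cocone.ext (asIso Ψ) (fun j => colimit.ι_desc _ _)


/-- **S6840** -/
theorem main (O : TopCat.Sheaf CommRingCat.{u} X)
    (hX : ∀ (ι : Type u) (V : ι → Opens X), iSup V = ⊤ →
      ∃ (J : Type u) (_ : Finite J) (U : J → Opens X), iSup U = ⊤ ∧ (∀ j, ∃ i, U j ≤ V i) ∧
        ∀ j j', IsCompact ((U j ⊓ U j' : Opens X) : Set X))
    {I : Type u} [Preorder I] [Nonempty I] [IsDirected I (· ≤ ·)] (D : I ⥤ ModSite.Mod O)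
    (G : ModSite.Mod O) [SheafOfModules.IsFinitePresentation (R := ModSite.ringSh O) G] :
    PreservesColimit D (coyoneda.obj (Opposite.op G)) := by
  haveI := Groth.Agent.Lib.helper21.ExtShDelta.hasSheafHom O G
  haveI h1 : PreservesColimit D (ModSite.sheafHom G) :=
    Groth.Agent.Lib.helper21.ShHomColim.main O G D
  haveI h2 : PreservesColimit (D ⋙ ModSite.sheafHom G) (US O) := by
    haveI := Groth.Agent.Lib.Helper21.ModSh.toSheaf_preservesColimits (ModSite.ringSh O)
    haveI : PreservesColimit ((D ⋙ ModSite.sheafHom G) ⋙ SheafOfModules.toSheaf.{u} (ModSite.ringSh O))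
        (sheafCompose (Opens.grothendieckTopology X) (forget AddCommGrpCat.{u})) :=
      preservesColimit_sheafCompose_forget _ _
    unfold US
    infer_instance
  haveI h3 : PreservesColimit ((D ⋙ ModSite.sheafHom G) ⋙ US O)
      (evAt (J := Opens.grothendieckTopology X) (⊤ : Opens X)) :=
    preservesColimit_evAt_top hX _
  haveI h4 : PreservesColimit (D ⋙ ModSite.sheafHom G) (US O ⋙ evAt (⊤ : Opens X)) := inferInstance
  haveI h5 : PreservesColimit (D ⋙ ModSite.sheafHom G) (coyoneda.obj (op (ModSite.unit O))) :=
    preservesColimit_of_natIso _ (unitCoyonedaIso O (isTerminalTop (α := Opens X))).symm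
  haveI h6 : PreservesColimit D (ModSite.sheafHom G ⋙ coyoneda.obj (op (ModSite.unit O))) := inferInstance
  exact preservesColimit_of_natIso D (coyonedaSheafHomIso O G).symm

end top

end Groth.Agent.Lib.helper21.HomColimTop
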