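import Mathlib
import Groth.Prelude.Def_ModSite
import Groth.Prelude.Def_CohCx
import Groth.Agent.Lib.Helper21.GammaFilt2
import Groth.Agent.Lib.Helper21.HomColimTop

/-!
# `Hom(F, -)` commutes with filtered colimits for `F` finitely presented on a site with enough quasi-compact
objects (helper21, S9120)
-/

set_option autoImplicit false
universe u

open CategoryTheory CategoryTheory.Limits Opposite

namespace Groth.Agent.Lib.helper21.GammaFilt

open Groth.Agent.Lib.helper21.HomColimTop

variable {C : Type u} [SmallCategory C] {J : GrothendieckTopology C} (O : Sheaf J CommRingCat.{u})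

/-- `Hom(O, M)` is the set of global sections of the underlying sheaf of sets of `M` -/
noncomputable def unitCoyonedaIsoΓ :
    coyoneda.obj (op (ModSite.unit O)) ≅ US O ⋙ Γ (J := J) :=
  NatIso.ofComponents
    (fun M => Equiv.toIso (SheafOfModules.unitHomEquiv M))
    (fun {M N} φ => by
      ext f
      rfl)

theorem main9120 (S : Set (Sheaf J (Type u)))
    (hSa : ∀ F : Sheaf J (Type u), Epi (terminal.from F) → ∃ K ∈ S, Epi (terminal.from K) ∧ Nonempty (K ⟶ F))
    (hSb : ∀ K ∈ S, CohCx.IsQcObject (K ⨯ K))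
    (F : ModSite.Mod O) [SheafOfModules.IsFinitePresentation (R := ModSite.ringSh O) F]
    {Λ : Type u} [SmallCategory Λ] [IsFiltered Λ] (D : Λ ⥤ ModSite.Mod O) :
    PreservesColimit D (coyoneda.obj (op F)) := by
  have hSa' : ∀ F : Sheaf J (Type u), Covers F → ∃ K ∈ S, Covers K ∧ Nonempty (K ⟶ F) := by
    intro F hF
    obtain ⟨K, hKS, hK, hKF⟩ := hSa F ((covers_iff_epi F).2 hF)
    exact ⟨K, hKS, (covers_iff_epi K).1 hK, hKF⟩
  have hSb' : ∀ K ∈ S, QcE (K ⨯ K) := fun K hK => qcE_of_isQcObject _ (hSb K hK)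
  haveI := Groth.Agent.Lib.helper21.ExtShDelta.hasSheafHom O F
  haveI h1 : PreservesColimit D (ModSite.sheafHom F) :=
    Groth.Agent.Lib.helper21.ShHomColim.main O F D
  haveI h2 : PreservesColimit (D ⋙ ModSite.sheafHom F) (US O) := by
    haveI := Groth.Agent.Lib.Helper21.ModSh.toSheaf_preservesColimits (ModSite.ringSh O)
    haveI : PreservesColimit ((D ⋙ ModSite.sheafHom F) ⋙ SheafOfModules.toSheaf.{u} (ModSite.ringSh O))
        (sheafCompose J (forget AddCommGrpCat.{u})) :=
      preservesColimit_sheafCompose_forget _ _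
    unfold US
    infer_instance
  haveI h3 : PreservesColimit ((D ⋙ ModSite.sheafHom F) ⋙ US O) (Γ (J := J)) :=
    preservesColimit_Γ S hSa' hSb' _
  haveI h4 : PreservesColimit (D ⋙ ModSite.sheafHom F) (US O ⋙ Γ (J := J)) := inferInstance
  haveI h5 : PreservesColimit (D ⋙ ModSite.sheafHom F) (coyoneda.obj (op (ModSite.unit O))) :=
    preservesColimit_of_natIso _ (unitCoyonedaIsoΓ O).symm
  haveI h6 : PreservesColimit D (ModSite.sheafHom F ⋙ coyoneda.obj (op (ModSite.unit O))) := inferInstance
  exact preservesColimit_of_natIso D (coyonedaSheafHomIso O F).symm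

end Groth.Agent.Lib.helper21.GammaFilt
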