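import Groth.Prelude.Def_NonAbH1
import Mathlib

/-!
Helper library (helper21): sheaves with group actions on an abstract site; the boundary construction
of the non-abelian cohomology sequence.
-/

set_option autoImplicit false
universe w v u
open CategoryTheory Opposite NonAbH1 NonAbH1.GSheaf

namespace Groth.Agent.Lib.Helper21.NonAb

variable {C : Type u} [Category.{v} C] {J : GrothendieckTopology C}

section basic

variable (P : Sheaf J (Type w))

theorem sh_map_comp {X Y Z : C} (a : Y ⟶ X) (b : Z ⟶ Y) (p : P.obj.obj (op X)) :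
    P.obj.map b.op (P.obj.map a.op p) = P.obj.map (b ≫ a).op p := by
  rw [op_comp, CategoryTheory.Functor.map_comp]
  rfl

theorem sh_map_id {X : C} (p : P.obj.obj (op X)) : P.obj.map (𝟙 X).op p = p := by
  rw [op_id, CategoryTheory.Functor.map_id]
  rfl

theorem sh_sep {X : C} (S : Sieve X) (hS : S ∈ J X) (p q : P.obj.obj (op X))
    (h : ∀ ⦃T : C⦄ (φ : T ⟶ X), S φ → P.obj.map φ.op p = P.obj.map φ.op q) : p = q :=
  (((isSheaf_iff_isSheaf_of_type J _).mp P.property).isSeparated S hS).ext (fun T φ hφ => h φ hφ)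

theorem sh_glue {X : C} (S : Sieve X) (hS : S ∈ J X)
    (y : ∀ ⦃T : C⦄ (φ : T ⟶ X), S φ → P.obj.obj (op T))
    (hy : ∀ ⦃T T' : C⦄ (φ : T ⟶ X) (ψ : T' ⟶ T) (hφ : S φ),
      P.obj.map ψ.op (y φ hφ) = y (ψ ≫ φ) (S.downward_closed hφ ψ)) :
    ∃ p : P.obj.obj (op X), ∀ ⦃T : C⦄ (φ : T ⟶ X) (hφ : S φ), P.obj.map φ.op p = y φ hφ := by
  have hsh := (isSheaf_iff_isSheaf_of_type J _).mp P.property
  let x : Presieve.FamilyOfElements P.obj S.arrows := fun T' φ hφ => y φ hφ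
  have hx : x.Compatible := by
    rw [Presieve.compatible_iff_sieveCompatible]
    intro Y Z f g hf
    exact (hy f g hf).symm
  refine ⟨(hsh S hS).amalgamate x hx, ?_⟩
  intro T' φ hφ
  exact (hsh S hS).valid_glue hx φ hφ

/-- gluing along a relation with unique local solutions -/
theorem sh_glue' {X : C} (S : Sieve X) (hS : S ∈ J X)
    (R : ∀ ⦃T : C⦄ (_ : T ⟶ X), P.obj.obj (op T) → Prop)
    (hex : ∀ ⦃T : C⦄ (φ : T ⟶ X), S φ → ∃ z, R φ z)
    (huniq : ∀ ⦃T : C⦄ (φ : T ⟶ X) (z z' : P.obj.obj (op T)), R φ z → R φ z' → z = z')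
    (hres : ∀ ⦃T T' : C⦄ (φ : T ⟶ X) (ψ : T' ⟶ T) (z : P.obj.obj (op T)), R φ z →
      R (ψ ≫ φ) (P.obj.map ψ.op z)) :
    ∃ p : P.obj.obj (op X), ∀ ⦃T : C⦄ (φ : T ⟶ X), S φ → R φ (P.obj.map φ.op p) := by
  obtain ⟨p, hp⟩ := sh_glue P S hS (fun T φ hφ => (hex φ hφ).choose) (by
    intro T T' φ ψ hφ
    apply huniq (ψ ≫ φ)
    · exact hres φ ψ _ (hex φ hφ).choose_spec
    · exact (hex (ψ ≫ φ) (S.downward_closed hφ ψ)).choose_spec)
  refine ⟨p, fun T φ hφ => ?_⟩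
  rw [hp φ hφ]
  exact (hex φ hφ).choose_spec

/-- building a global section out of local data defined on a class of "good" objects. -/
theorem sections_glue (good : C → Prop) (hgood : ∀ ⦃V V' : C⦄ (_ : V' ⟶ V), good V → good V')
    (hcov : ∀ U : C, ∃ S ∈ J U, ∀ ⦃V : C⦄ (a : V ⟶ U), S a → good V)
    (R : ∀ ⦃V : C⦄, P.obj.obj (op V) → Prop)
    (hex : ∀ ⦃V : C⦄, good V → ∃ z : P.obj.obj (op V), R z)
    (huniq : ∀ ⦃V : C⦄ (z z' : P.obj.obj (op V)), R z → R z' → z = z')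
    (hres : ∀ ⦃V V' : C⦄ (ψ : V' ⟶ V) (z : P.obj.obj (op V)), R z → R (P.obj.map ψ.op z)) :
    ∃ c : P.obj.sections, ∀ ⦃V : C⦄, good V → R (c.1 (op V)) := by
  let Sv : ∀ U : C, Sieve U := fun U =>
    { arrows := fun V _ => good V
      downward_closed := fun {V V'} _ hV ψ => hgood ψ hV }
  have hSv : ∀ U, Sv U ∈ J U := by
    intro U
    obtain ⟨S, hS, hSg⟩ := hcov U
    exact J.superset_covering (fun V a ha => hSg a ha) hS
  have hloc : ∀ U : C, ∃ p : P.obj.obj (op U), ∀ ⦃T : C⦄ (φ : T ⟶ U), (Sv U) φ →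
      R (P.obj.map φ.op p) := by
    intro U
    exact sh_glue' P (Sv U) (hSv U) (fun T _ z => R z) (fun T φ hφ => hex hφ)
      (fun T φ z z' => huniq z z') (fun T T' φ ψ z hz => hres ψ z hz)
  choose cU hcU using hloc
  refine ⟨⟨fun U => cU U.unop, ?_⟩, ?_⟩
  · intro U U' f
    apply sh_sep P (Sv U'.unop) (hSv _)
    intro T φ hφ
    apply huniq
    · have h1 : P.obj.map φ.op (P.obj.map f (cU U.unop)) =
          P.obj.map (φ ≫ f.unop).op (cU U.unop) := sh_map_comp P f.unop φ _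
      rw [h1]
      exact hcU U.unop (φ ≫ f.unop) hφ
    · exact hcU U'.unop φ hφ
  · intro V hV
    have := hcU V (𝟙 V) hV
    rwa [sh_map_id] at this

end basic


section boundary

variable [J.HasSheafCompose (forget GrpCat.{w})] {F G : Sheaf J GrpCat.{w}} (u : F ⟶ G)
  {Q : GSheaf G} (π : trivial G ⟶ Q)

theorem G_map_mul {U V : Cᵒᵖ} (f : U ⟶ V) (x y : G.obj.obj U) :
    G.obj.map f (x * y) = G.obj.map f x * G.obj.map f y := map_mul _ _ _

theorem G_map_inv {U V : Cᵒᵖ} (f : U ⟶ V) (x : G.obj.obj U) :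
    G.obj.map f x⁻¹ = (G.obj.map f x)⁻¹ := map_inv _ _

theorem u_nat {U V : Cᵒᵖ} (f : U ⟶ V) (x : F.obj.obj U) :
    u.hom.app V (F.obj.map f x) = G.obj.map f (u.hom.app U x) := by
  have := u.hom.naturality f
  exact congr($(this).hom x)

theorem π_nat {U V : Cᵒᵖ} (f : U ⟶ V) (x : G.obj.obj U) :
    π.hom.hom.app V (ofGrp (G.obj.map f x)) = Q.P.obj.map f (π.hom.hom.app U (ofGrp x)) :=
  NatTrans.naturality_apply π.hom.hom f (ofGrp x)

theorem π_smul {U : Cᵒᵖ} (g x : G.obj.obj U) :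
    π.hom.hom.app U (ofGrp (g * x)) = Q.smul g (π.hom.hom.app U (ofGrp x)) :=
  π.map_smul g (ofGrp x)

variable {T : GSheaf F}

theorem ι_nat (ι : T.P ⟶ uSh G) {U V : Cᵒᵖ} (f : U ⟶ V) (t : T.P.obj.obj U) :
    toGrp (ι.hom.app V (T.P.obj.map f t)) = G.obj.map f (toGrp (ι.hom.app U t)) :=
  NatTrans.naturality_apply ι.hom f t

end boundary


section fibre

variable [J.HasSheafCompose (forget GrpCat.{w})] {F G : Sheaf J GrpCat.{w}} (u : F ⟶ G)
  (hu : ∀ U : Cᵒᵖ, Function.Injective (u.hom.app U))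
  {Q : GSheaf G} (π : trivial G ⟶ Q) (hQ : IsQuotientBy u π)
  (c : Q.P.obj.sections) {T : GSheaf F}

include hu hQ in
theorem fibre_isTorsor (hT : IsFibreOver u π c T) : T.IsTorsor := by
  obtain ⟨ι, hinj, hmem, heq⟩ := hT
  constructor
  · intro U p q
    have hp : π.hom.hom.app U (ofGrp (toGrp (ι.hom.app U p))) = c.1 U := (hmem U _).mp ⟨p, rfl⟩
    have hq : π.hom.hom.app U (ofGrp (toGrp (ι.hom.app U q))) = c.1 U := (hmem U _).mp ⟨q, rfl⟩
    obtain ⟨f, hf⟩ := (hQ.1 U _ _).mp (hp.trans hq.symm)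
    refine ⟨f⁻¹, ?_, ?_⟩
    · apply hinj U
      change toGrp (ι.hom.app U (T.smul f⁻¹ p)) = toGrp (ι.hom.app U q)
      rw [heq, hf, map_inv, inv_inv]
    · intro f' hf'
      apply hu U
      have h1 : toGrp (ι.hom.app U (T.smul f' p)) = toGrp (ι.hom.app U q) := by rw [hf']
      rw [heq, hf] at h1
      have h2 := mul_left_cancel h1
      rw [map_inv]
      exact inv_eq_iff_eq_inv.mp h2
  · intro U
    obtain ⟨S, hS, hS'⟩ := hQ.2 U (c.1 (op U))
    refine ⟨S, hS, fun V a ha => ?_⟩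
    obtain ⟨g, hg⟩ := hS' a ha
    rw [c.2 a.op] at hg
    obtain ⟨t, _⟩ := (hmem (op V) g).mpr hg
    exact ⟨t⟩

end fibre


section translate

variable [J.HasSheafCompose (forget GrpCat.{w})] {F G : Sheaf J GrpCat.{w}} (u : F ⟶ G)
  {Q : GSheaf G} (π : trivial G ⟶ Q)
  {c c' : Q.P.obj.sections} {T T' : GSheaf F}

/-- a translation by a global section of `G` carrying `c` to `c'` induces a morphism of fibres. -/
theorem exists_hom_of_translate
    (ι : T.P ⟶ uSh G)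
    (hmem : ∀ (U : Cᵒᵖ) (g : G.obj.obj U),
      (∃ t, toGrp (ι.hom.app U t) = g) ↔ π.hom.hom.app U (ofGrp g) = c.1 U)
    (heq : ∀ (U : Cᵒᵖ) (f : F.obj.obj U) (t : T.P.obj.obj U),
      toGrp (ι.hom.app U (T.smul f t)) = toGrp (ι.hom.app U t) * (u.hom.app U f)⁻¹)
    (ι' : T'.P ⟶ uSh G) (hinj' : ∀ U : Cᵒᵖ, Function.Injective (ι'.hom.app U))
    (hmem' : ∀ (U : Cᵒᵖ) (g : G.obj.obj U),
      (∃ t, toGrp (ι'.hom.app U t) = g) ↔ π.hom.hom.app U (ofGrp g) = c'.1 U)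
    (heq' : ∀ (U : Cᵒᵖ) (f : F.obj.obj U) (t : T'.P.obj.obj U),
      toGrp (ι'.hom.app U (T'.smul f t)) = toGrp (ι'.hom.app U t) * (u.hom.app U f)⁻¹)
    (g : (uSh G).obj.sections)
    (hg : ∀ U : Cᵒᵖ, Q.smul (toGrp (g.1 U)) (c.1 U) = c'.1 U) :
    ∃ φ : T ⟶ T', ∀ (U : Cᵒᵖ) (t : T.P.obj.obj U),
      toGrp (ι'.hom.app U (φ.hom.hom.app U t)) = toGrp (g.1 U) * toGrp (ι.hom.app U t) := by
  have hex : ∀ (U : Cᵒᵖ) (t : T.P.obj.obj U), ∃ t' : T'.P.obj.obj U,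
      toGrp (ι'.hom.app U t') = toGrp (g.1 U) * toGrp (ι.hom.app U t) := by
    intro U t
    apply (hmem' U _).mpr
    rw [π_smul, (hmem U _).mp ⟨t, rfl⟩, hg]
  choose k hk using hex
  have hgnat : ∀ {U V : Cᵒᵖ} (f : U ⟶ V), G.obj.map f (toGrp (g.1 U)) = toGrp (g.1 V) :=
    fun f => g.2 f
  refine ⟨⟨ObjectProperty.homMk
    { app := fun U => ↾(k U)
      naturality := ?_ }, ?_⟩, ?_⟩
  · intro U V f
    ext t
    apply hinj' V
    change toGrp (ι'.hom.app V (k V (T.P.obj.map f t))) =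
      toGrp (ι'.hom.app V (T'.P.obj.map f (k U t)))
    rw [hk, ι_nat, ι_nat, hk, G_map_mul, hgnat]
  · intro U f t
    apply hinj' U
    change toGrp (ι'.hom.app U (k U (T.smul f t))) = toGrp (ι'.hom.app U (T'.smul f (k U t)))
    rw [hk, heq, heq', hk, mul_assoc]
  · intro U t
    exact hk U t

end translate


section translateIso

variable [J.HasSheafCompose (forget GrpCat.{w})] {F G : Sheaf J GrpCat.{w}} (u : F ⟶ G)
  {Q : GSheaf G} (π : trivial G ⟶ Q)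
  {c c' : Q.P.obj.sections} {T T' : GSheaf F}

theorem iso_of_translate (hT : IsFibreOver u π c T) (hT' : IsFibreOver u π c' T')
    (g : (uSh G).obj.sections)
    (hg : ∀ U : Cᵒᵖ, Q.smul (toGrp (g.1 U)) (c.1 U) = c'.1 U) : Nonempty (T ≅ T') := by
  obtain ⟨ι, hinj, hmem, heq⟩ := hT
  obtain ⟨ι', hinj', hmem', heq'⟩ := hT'
  let g' : (uSh G).obj.sections := ⟨fun U => ofGrp (toGrp (g.1 U))⁻¹, by
    intro U V f
    change G.obj.map f (toGrp (g.1 U))⁻¹ = (toGrp (g.1 V))⁻¹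
    rw [G_map_inv]
    congr 1
    exact g.2 f⟩
  have hg' : ∀ U : Cᵒᵖ, Q.smul (toGrp (g'.1 U)) (c'.1 U) = c.1 U := by
    intro U
    change Q.smul (toGrp (g.1 U))⁻¹ (c'.1 U) = c.1 U
    rw [← hg U, ← Q.mul_smul, inv_mul_cancel, Q.one_smul]
  obtain ⟨φ, hφ⟩ := exists_hom_of_translate u π ι hmem heq ι' hinj' hmem' heq' g hg
  obtain ⟨ψ, hψ⟩ := exists_hom_of_translate u π ι' hmem' heq' ι hinj hmem heq g' hg'
  refine ⟨⟨φ, ψ, ?_, ?_⟩⟩
  · apply GSheaf.hom_ext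
    apply ObjectProperty.hom_ext
    ext U t
    apply hinj U
    change toGrp (ι.hom.app U (ψ.hom.hom.app U (φ.hom.hom.app U t))) = toGrp (ι.hom.app U t)
    rw [hψ, hφ]
    change (toGrp (g.1 U))⁻¹ * _ = _
    rw [inv_mul_cancel_left]
  · apply GSheaf.hom_ext
    apply ObjectProperty.hom_ext
    ext U t
    apply hinj' U
    change toGrp (ι'.hom.app U (φ.hom.hom.app U (ψ.hom.hom.app U t))) = toGrp (ι'.hom.app U t)
    rw [hφ, hψ]
    change _ * ((toGrp (g.1 U))⁻¹ * _) = _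
    rw [mul_inv_cancel_left]

end translateIso


section translateConv

variable [J.HasSheafCompose (forget GrpCat.{w})] {F G : Sheaf J GrpCat.{w}} (u : F ⟶ G)
  (hu : ∀ U : Cᵒᵖ, Function.Injective (u.hom.app U))
  {Q : GSheaf G} (π : trivial G ⟶ Q) (hQ : IsQuotientBy u π)
  {c c' : Q.P.obj.sections} {T T' : GSheaf F}

include hu hQ in
theorem translate_of_hom (hT : IsFibreOver u π c T) (hT' : IsFibreOver u π c' T')
    (e : T ⟶ T') :
    ∃ g : (uSh G).obj.sections, ∀ U : Cᵒᵖ, Q.smul (toGrp (g.1 U)) (c.1 U) = c'.1 U := by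
  have htors := fibre_isTorsor u hu π hQ c hT
  obtain ⟨ι, hinj, hmem, heq⟩ := hT
  obtain ⟨ι', hinj', hmem', heq'⟩ := hT'
  obtain ⟨g, hg⟩ := sections_glue (uSh G) (fun V => Nonempty (T.P.obj.obj (op V)))
    (fun V V' ψ ⟨t⟩ => ⟨T.P.obj.map ψ.op t⟩) htors.2
    (fun V z => ∃ t : T.P.obj.obj (op V),
      toGrp z = toGrp (ι'.hom.app (op V) (e.hom.hom.app (op V) t)) * (toGrp (ι.hom.app (op V) t))⁻¹)
    (fun V ⟨t⟩ => ⟨_, t, rfl⟩)
    (by
      rintro V z z' ⟨t, ht⟩ ⟨t', ht'⟩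
      change toGrp z = toGrp z'
      obtain ⟨f, hf, _⟩ := htors.1 (op V) t t'
      rw [ht, ht', ← hf, e.map_smul, heq, heq', mul_inv_rev, inv_inv, mul_assoc,
        inv_mul_cancel_left])
    (by
      rintro V V' ψ z ⟨t, ht⟩
      refine ⟨T.P.obj.map ψ.op t, ?_⟩
      change G.obj.map ψ.op (toGrp z) = _
      have h1 : e.hom.hom.app (op V') (T.P.obj.map ψ.op t) =
          T'.P.obj.map ψ.op (e.hom.hom.app (op V) t) :=
        NatTrans.naturality_apply e.hom.hom ψ.op t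
      rw [ht, G_map_mul, G_map_inv, h1, ι_nat, ι_nat])
  refine ⟨g, fun U => ?_⟩
  obtain ⟨S, hS, hSg⟩ := htors.2 U.unop
  apply sh_sep Q.P S hS
  intro V a ha
  obtain ⟨t, ht⟩ := hg (hSg a ha)
  have hc : Q.P.obj.map a.op (c.1 U) = c.1 (op V) := c.2 a.op
  have hc' : Q.P.obj.map a.op (c'.1 U) = c'.1 (op V) := c'.2 a.op
  have hgn : G.obj.map a.op (toGrp (g.1 U)) = toGrp (g.1 (op V)) := g.2 a.op
  rw [Q.map_smul, hc, hc', hgn, ht, ← (hmem (op V) _).mp ⟨t, rfl⟩, ← π_smul,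
    inv_mul_cancel_right]
  exact (hmem' (op V) _).mp ⟨_, rfl⟩

end translateConv

end Groth.Agent.Lib.Helper21.NonAb
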