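import Mathlib
import Groth.Prelude.Def_NonAbH1
import Groth.Agent.Lib.Helper21.NonAb

/-!
Helper library (helper21): torsors under a sheaf of groups which is a "product over points of
constant groups" (Godement type) have global sections.
-/

set_option autoImplicit false
universe w w' v u
open CategoryTheory Opposite NonAbH1 NonAbH1.GSheaf GrothendieckTopology

namespace Groth.Agent.Lib.helper21.Godement1

open Groth.Agent.Lib.Helper21.NonAb

variable {D : Type u} [Category.{v} D] {J : GrothendieckTopology D}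

section transition

variable {G : Sheaf J GrpCat.{w'}} (P : GSheaf G) (hP : P.IsPseudoTorsor)

/-- the transition element carrying `p` to `q` -/
noncomputable def tr {T : D} (p q : P.P.obj.obj (op T)) : G.obj.obj (op T) :=
  (hP (op T) p q).choose

theorem tr_spec {T : D} (p q : P.P.obj.obj (op T)) : P.smul (tr P hP p q) p = q :=
  (hP (op T) p q).choose_spec.1

theorem tr_eq {T : D} (p q : P.P.obj.obj (op T)) (g : G.obj.obj (op T)) (h : P.smul g p = q) :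
    g = tr P hP p q :=
  (hP (op T) p q).choose_spec.2 g h

theorem tr_map {T T' : D} (a : T' ⟶ T) (p q : P.P.obj.obj (op T)) :
    G.obj.map a.op (tr P hP p q) = tr P hP (P.P.obj.map a.op p) (P.P.obj.map a.op q) := by
  apply tr_eq
  rw [← P.map_smul, tr_spec]

theorem tr_smul {T : D} (g : G.obj.obj (op T)) (p q : P.P.obj.obj (op T)) :
    tr P hP (P.smul g p) q = tr P hP p q * g⁻¹ := by
  symm
  apply tr_eq
  rw [← P.mul_smul, inv_mul_cancel_right, tr_spec]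

end transition

/-- Evaluation data exhibiting `G` as a product, over the points `Ψ i` and the elements of their
fibres, of the constant groups `S i`. -/
structure EvData (G : Sheaf J GrpCat.{w'}) {I : Type*} (Ψ : I → Point.{w} J) (S : I → Type w')
    [∀ i, Group (S i)] where
  ev : ∀ (i : I) (W : D) (_ : (Ψ i).fiber.obj W), G.obj.obj (op W) →* S i
  nat : ∀ (i : I) {W W' : D} (a : W' ⟶ W) (y' : (Ψ i).fiber.obj W') (g : G.obj.obj (op W)),
    ev i W' y' (G.obj.map a.op g) = ev i W ((Ψ i).fiber.map a y') g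
  inj : ∀ (W : D) (g : G.obj.obj (op W)), (∀ i y, ev i W y g = 1) → g = 1
  surj : ∀ (W : D) (h : ∀ i (_ : (Ψ i).fiber.obj W), S i),
    ∃ g : G.obj.obj (op W), ∀ i y, ev i W y g = h i y

section points

variable (Φ : Point.{w} J)

theorem exists_connect {W W' : D} (y : Φ.fiber.obj W) (y' : Φ.fiber.obj W') :
    ∃ (T : D) (t : Φ.fiber.obj T) (c : T ⟶ W) (c' : T ⟶ W'),
      Φ.fiber.map c t = y ∧ Φ.fiber.map c' t = y' := by
  let e : Φ.fiber.Elements := ⟨W, y⟩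
  let e' : Φ.fiber.Elements := ⟨W', y'⟩
  obtain ⟨⟨T, t⟩, ⟨c, hc⟩, ⟨c', hc'⟩, -⟩ := IsCofilteredOrEmpty.cone_objs e e'
  exact ⟨T, t, c, c', hc, hc'⟩

theorem exists_equalize {T W : D} (t : Φ.fiber.obj T) (a b : T ⟶ W)
    (h : Φ.fiber.map a t = Φ.fiber.map b t) :
    ∃ (T' : D) (t' : Φ.fiber.obj T') (e : T' ⟶ T), Φ.fiber.map e t' = t ∧ e ≫ a = e ≫ b := by
  let x : Φ.fiber.Elements := ⟨T, t⟩
  let y : Φ.fiber.Elements := ⟨W, Φ.fiber.map a t⟩
  let f : x ⟶ y := ⟨a, rfl⟩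
  let g : x ⟶ y := ⟨b, h.symm⟩
  obtain ⟨⟨T', t'⟩, ⟨e, he⟩, heq⟩ := IsCofilteredOrEmpty.cone_maps f g
  exact ⟨T', t', e, he, congrArg Subtype.val heq⟩

theorem fiber_comp {A B E : D} (a : A ⟶ B) (b : B ⟶ E) (t : Φ.fiber.obj A) :
    Φ.fiber.map (a ≫ b) t = Φ.fiber.map b (Φ.fiber.map a t) := by
  rw [Functor.map_comp]
  rfl

/-- two connections between the same pair of pointed objects have a common refinement -/
theorem exists_refine {W W' T T₁ : D} (t : Φ.fiber.obj T) (t₁ : Φ.fiber.obj T₁)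
    (c : T ⟶ W) (c' : T ⟶ W') (d : T₁ ⟶ W) (d' : T₁ ⟶ W')
    (h : Φ.fiber.map c t = Φ.fiber.map d t₁) (h' : Φ.fiber.map c' t = Φ.fiber.map d' t₁) :
    ∃ (T₂ : D) (t₂ : Φ.fiber.obj T₂) (a : T₂ ⟶ T) (a₁ : T₂ ⟶ T₁),
      Φ.fiber.map a t₂ = t ∧ Φ.fiber.map a₁ t₂ = t₁ ∧ a ≫ c = a₁ ≫ d ∧ a ≫ c' = a₁ ≫ d' := by
  obtain ⟨T₂, t₂, e, e₁, he, he₁⟩ := exists_connect Φ t t₁
  obtain ⟨T₃, t₃, e₃, he₃, h3⟩ := exists_equalize Φ t₂ (e ≫ c) (e₁ ≫ d) (by
    rw [fiber_comp, fiber_comp, he, he₁, h])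
  obtain ⟨T₄, t₄, e₄, he₄, h4⟩ := exists_equalize Φ t₃ (e₃ ≫ e ≫ c') (e₃ ≫ e₁ ≫ d') (by
    rw [fiber_comp, fiber_comp, fiber_comp, fiber_comp, he₃, he, he₁, h'])
  refine ⟨T₄, t₄, e₄ ≫ e₃ ≫ e, e₄ ≫ e₃ ≫ e₁, ?_, ?_, ?_, ?_⟩
  · rw [fiber_comp, fiber_comp, he₄, he₃, he]
  · rw [fiber_comp, fiber_comp, he₄, he₃, he₁]
  · simp only [Category.assoc]
    rw [h3]
  · simp only [Category.assoc]
    exact h4

end points

section main

variable {G : Sheaf J GrpCat.{w'}} {I : Type*} {Ψ : I → Point.{w} J} {S : I → Type w'}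
  [∀ i, Group (S i)] (E : EvData G Ψ S) (P : GSheaf G) (hP : P.IsPseudoTorsor)

/-- the value at a point of the transition element does not depend on the connection -/
theorem ev_tr_indep (i : I) {W W' T T₁ : D} (p : P.P.obj.obj (op W)) (p' : P.P.obj.obj (op W'))
    (t : (Ψ i).fiber.obj T) (t₁ : (Ψ i).fiber.obj T₁)
    (c : T ⟶ W) (c' : T ⟶ W') (d : T₁ ⟶ W) (d' : T₁ ⟶ W')
    (h : (Ψ i).fiber.map c t = (Ψ i).fiber.map d t₁)
    (h' : (Ψ i).fiber.map c' t = (Ψ i).fiber.map d' t₁) :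
    E.ev i T t (tr P hP (P.P.obj.map c.op p) (P.P.obj.map c'.op p')) =
      E.ev i T₁ t₁ (tr P hP (P.P.obj.map d.op p) (P.P.obj.map d'.op p')) := by
  obtain ⟨T₂, t₂, a, a₁, ha, ha₁, h1, h2⟩ := exists_refine (Ψ i) t t₁ c c' d d' h h'
  have e1 : E.ev i T t (tr P hP (P.P.obj.map c.op p) (P.P.obj.map c'.op p')) =
      E.ev i T₂ t₂ (tr P hP (P.P.obj.map (a ≫ c).op p) (P.P.obj.map (a ≫ c').op p')) := by
    rw [← ha, ← E.nat, tr_map, sh_map_comp, sh_map_comp]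
  have e2 : E.ev i T₁ t₁ (tr P hP (P.P.obj.map d.op p) (P.P.obj.map d'.op p')) =
      E.ev i T₂ t₂ (tr P hP (P.P.obj.map (a₁ ≫ d).op p) (P.P.obj.map (a₁ ≫ d').op p')) := by
    rw [← ha₁, ← E.nat, tr_map, sh_map_comp, sh_map_comp]
  rw [e1, e2, h1, h2]

include E hP in
theorem hasSection (hP' : P.LocallyNonempty) : P.HasSection := by
  classical
  -- base data at every point
  have hbase : ∀ i : I, ∃ (W₀ : D) (_ : (Ψ i).fiber.obj W₀), Nonempty (P.P.obj.obj (op W₀)) := by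
    intro i
    obtain ⟨⟨W, y⟩⟩ := (IsCofiltered.nonempty : Nonempty (Ψ i).fiber.Elements)
    obtain ⟨R, hR, hR'⟩ := hP' W
    obtain ⟨Y, f, hf, y', -⟩ := (Ψ i).jointly_surjective R hR y
    exact ⟨Y, y', hR' f hf⟩
  choose W₀ v₀ hs₀ using hbase
  let s₀ : ∀ i, P.P.obj.obj (op (W₀ i)) := fun i => (hs₀ i).some
  -- the canonical-section relation
  let R : ∀ ⦃W : D⦄, P.P.obj.obj (op W) → Prop := fun W z =>
    ∀ (i : I) (T : D) (t : (Ψ i).fiber.obj T) (c : T ⟶ W) (c₀ : T ⟶ W₀ i),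
      (Ψ i).fiber.map c₀ t = v₀ i →
      E.ev i T t (tr P hP (P.P.obj.map c.op z) (P.P.obj.map c₀.op (s₀ i))) = 1
  suffices hall : (∀ ⦃W : D⦄, Nonempty (P.P.obj.obj (op W)) → ∃ z : P.P.obj.obj (op W), R z) ∧
      (∀ ⦃W : D⦄ (z z' : P.P.obj.obj (op W)), R z → R z' → z = z') ∧
      (∀ ⦃W W' : D⦄ (ψ : W' ⟶ W) (z : P.P.obj.obj (op W)), R z → R (P.P.obj.map ψ.op z)) by
    obtain ⟨sec, -⟩ := sections_glue P.P (fun W => Nonempty (P.P.obj.obj (op W)))
      (fun V V' ψ ⟨p⟩ => ⟨P.P.obj.map ψ.op p⟩) hP' R hall.1 hall.2.1 hall.2.2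
    exact ⟨sec.1, sec.2⟩
  refine ⟨?_, ?_, ?_⟩
  · -- existence
    rintro W ⟨s⟩
    have hconn : ∀ (i : I) (y : (Ψ i).fiber.obj W), ∃ (T : D) (t : (Ψ i).fiber.obj T) (c : T ⟶ W)
        (c₀ : T ⟶ W₀ i), (Ψ i).fiber.map c t = y ∧ (Ψ i).fiber.map c₀ t = v₀ i :=
      fun i y => exists_connect (Ψ i) y (v₀ i)
    choose T t c c₀ hc hc₀ using hconn
    obtain ⟨g, hg⟩ := E.surj W (fun i y => E.ev i (T i y) (t i y)
      (tr P hP (P.P.obj.map (c i y).op s) (P.P.obj.map (c₀ i y).op (s₀ i))))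
    refine ⟨P.smul g s, ?_⟩
    intro i T' t' d d₀ hd₀
    rw [P.map_smul, tr_smul, map_mul, map_inv, E.nat, hg]
    rw [ev_tr_indep E P hP i s (s₀ i) t' (t i _) d d₀ (c i _) (c₀ i _) (hc i _).symm
      (hd₀.trans (hc₀ i _).symm)]
    exact mul_inv_cancel _
  · -- uniqueness
    intro W z z' hz hz'
    have h1 : tr P hP z z' = 1 := by
      apply E.inj
      intro i y
      obtain ⟨T, t, c, c₀, hc, hc₀⟩ := exists_connect (Ψ i) y (v₀ i)
      have e1 := hz i T t c c₀ hc₀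
      have e2 := hz' i T t c c₀ hc₀
      have e3 : P.P.obj.map c.op z' = P.smul (G.obj.map c.op (tr P hP z z')) (P.P.obj.map c.op z) := by
        rw [← P.map_smul, tr_spec]
      rw [e3, tr_smul, map_mul, e1, one_mul, map_inv, inv_eq_one, E.nat, hc] at e2
      exact e2
    have h2 := tr_spec P hP z z'
    rw [h1, P.one_smul] at h2
    exact h2
  · -- restriction
    intro W W' ψ z hz i T t c c₀ hc₀
    rw [sh_map_comp]
    exact hz i T t (c ≫ ψ) c₀ hc₀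

end main

end Groth.Agent.Lib.helper21.Godement1
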