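import Mathlib
import Groth.Prelude.Def_NonAbH1
import Groth.Agent.Lib.Helper21.Godement1

/-!
Helper library (helper21): the non-abelian Godement embedding on a site with a conservative
(small) family of points: every sheaf of groups embeds into a sheaf of groups all of whose torsors,
over every object, are trivial.
-/

set_option autoImplicit false
universe w v u₁ u
open CategoryTheory CategoryTheory.Limits Opposite NonAbH1 NonAbH1.GSheaf GrothendieckTopology

namespace Groth.Agent.Lib.helper21.Godement2

open Groth.Agent.Lib.Helper21.NonAb Groth.Agent.Lib.helper21.Godement1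

section trivial

variable {D : Type u₁} [Category.{v} D] {K : GrothendieckTopology D}
  [K.HasSheafCompose (forget GrpCat.{w})] {G : Sheaf K GrpCat.{w}}

/-- a pseudo-torsor with a global section is trivial -/
theorem isTrivial_of_hasSection (P : GSheaf G) (hP : P.IsPseudoTorsor) (h : P.HasSection) :
    P.IsTrivial := by
  obtain ⟨c, hc⟩ := h
  have hc' : ∀ {U V : Dᵒᵖ} (f : U ⟶ V), P.P.obj.map f (c U) = c V := fun f => hc f
  let τ : ∀ (U : Dᵒᵖ), P.P.obj.obj U → G.obj.obj U := fun U p => (hP U (c U) p).choose
  have hτ : ∀ (U : Dᵒᵖ) (p : P.P.obj.obj U), P.smul (τ U p) (c U) = p :=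
    fun U p => (hP U (c U) p).choose_spec.1
  have hτ' : ∀ (U : Dᵒᵖ) (p : P.P.obj.obj U) (g : G.obj.obj U), P.smul g (c U) = p → g = τ U p :=
    fun U p g hg => (hP U (c U) p).choose_spec.2 g hg
  let hom : trivial G ⟶ P :=
    { hom := ObjectProperty.homMk
        { app := fun U => ↾(fun g => P.smul (toGrp g) (c U))
          naturality := by
            intro U V f
            ext g
            change P.smul (G.obj.map f (toGrp g)) (c V) = P.P.obj.map f (P.smul (toGrp g) (c U))
            rw [P.map_smul, hc'] }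
      map_smul := by
        intro U g p
        change P.smul (g * toGrp p) (c U) = P.smul g (P.smul (toGrp p) (c U))
        rw [P.mul_smul] }
  let inv : P ⟶ trivial G :=
    { hom := ObjectProperty.homMk
        { app := fun U => ↾(fun p => ofGrp (τ U p))
          naturality := by
            intro U V f
            ext p
            change τ V (P.P.obj.map f p) = G.obj.map f (τ U p)
            symm
            apply hτ'
            rw [← hc' f, ← P.map_smul, hτ] }
      map_smul := by
        intro U g p
        change τ U (P.smul g p) = g * τ U p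
        symm
        apply hτ'
        rw [P.mul_smul, hτ] }
  refine ⟨⟨hom, inv, ?_, ?_⟩⟩
  · apply GSheaf.hom_ext
    apply ObjectProperty.hom_ext
    ext U g
    change τ U (P.smul (toGrp g) (c U)) = g
    symm
    exact hτ' U _ _ rfl
  · apply GSheaf.hom_ext
    apply ObjectProperty.hom_ext
    ext U p
    change P.smul (τ U p) (c U) = p
    exact hτ U p

end trivial

/-- `GrpCat` is coreflective in `MonCat`, hence has small colimits -/
theorem hcGrp : HasColimitsOfSize.{u, u} GrpCat.{u + 1} :=
  haveI : HasColimitsOfSize.{u, u} MonCat.{u + 1} := hasColimitsOfSizeOfUnivLE.{u + 1, u + 1, u, u} _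
  haveI : Coreflective (forget₂ GrpCat.{u + 1} MonCat.{u + 1}) :=
    { R := MonCat.units
      adj := GrpCat.forget₂MonAdj }
  hasColimits_of_coreflective (forget₂ GrpCat.{u + 1} MonCat.{u + 1})

theorem pfcGrp : PreservesFilteredColimitsOfSize.{u, u} (forget GrpCat.{u + 1}) :=
  preservesFilteredColimitsOfSize_shrink.{u, u + 1, u, u + 1} (forget GrpCat.{u + 1})

attribute [local instance] hcGrp pfcGrp

variable {C : Type (u + 1)} [Category.{u} C] {J : GrothendieckTopology C} {ι : Type u}
  (pt : ι → Point.{u} J) (F : Sheaf J GrpCat.{u + 1})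

/-- the stalk groups -/
noncomputable abbrev St (s : ι) : GrpCat.{u + 1} := (pt s).presheafFiber.obj F.obj

/-- sections of the Godement presheaf -/
abbrev GSec (V : C) : Type (u + 1) := ∀ (s : ι) (_ : (pt s).fiber.obj V), St pt F s

/-- the Godement presheaf of groups -/
noncomputable def Gpre : Cᵒᵖ ⥤ GrpCat.{u + 1} where
  obj V := GrpCat.of (GSec pt F V.unop)
  map {V V'} a := GrpCat.ofHom
    { toFun := fun g s y => g s ((pt s).fiber.map a.unop y)
      map_one' := rfl
      map_mul' := fun _ _ => rfl }
  map_id V := by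
    ext g s y
    change g s ((pt s).fiber.map (𝟙 V.unop) y) = g s y
    rw [FunctorToTypes.map_id_apply]
  map_comp {V₁ V₂ V₃} a b := by
    ext g s y
    change g s ((pt s).fiber.map (b.unop ≫ a.unop) y) =
      g s ((pt s).fiber.map a.unop ((pt s).fiber.map b.unop y))
    rw [FunctorToTypes.map_comp_apply]

theorem Gpre_map_apply {V V' : C} (a : V' ⟶ V) (g : GSec pt F V) (s : ι)
    (y : (pt s).fiber.obj V') :
    ((Gpre pt F).map a.op g : GSec pt F V') s y = g s ((pt s).fiber.map a y) := rfl

theorem Gpre_isSheaf : Presheaf.IsSheaf J (Gpre pt F) := by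
  rw [Presheaf.isSheaf_iff_isSheaf_forget J (Gpre pt F) (forget GrpCat.{u + 1}),
    isSheaf_iff_isSheaf_of_type]
  intro V R hR x hx
  have hsurj : ∀ (s : ι) (y : (pt s).fiber.obj V), ∃ (Y : C) (f : Y ⟶ V) (_ : R f)
      (y' : (pt s).fiber.obj Y), (pt s).fiber.map f y' = y :=
    fun s y => (pt s).jointly_surjective R hR y
  choose Y f hf y' hy' using hsurj
  let t : GSec pt F V := fun s y => (x (f s y) (hf s y) : GSec pt F (Y s y)) s (y' s y)
  have key : ∀ {Z : C} (a : Z ⟶ V) (ha : R a) (s : ι) (z : (pt s).fiber.obj Z),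
      t s ((pt s).fiber.map a z) = (x a ha : GSec pt F Z) s z := by
    intro Z a ha s z
    obtain ⟨T, t₀, c, d, hc, hd⟩ := exists_connect (pt s) (y' s ((pt s).fiber.map a z)) z
    obtain ⟨T', t', e, he, heq⟩ := exists_equalize (pt s) t₀ (c ≫ f s _) (d ≫ a) (by
      rw [fiber_comp, fiber_comp, hc, hd, hy'])
    have h1 := hx (e ≫ c) (e ≫ d) (hf s ((pt s).fiber.map a z)) ha (by
      rw [Category.assoc, Category.assoc, heq])
    have h2 := congrFun (congrFun h1 s) t'
    change (x (f s _) (hf s _) : GSec pt F _) s ((pt s).fiber.map (e ≫ c) t') =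
      (x a ha : GSec pt F Z) s ((pt s).fiber.map (e ≫ d) t') at h2
    rw [fiber_comp, fiber_comp, he, hc, hd] at h2
    exact h2
  refine ⟨t, ?_, ?_⟩
  · intro Z a ha
    funext s z
    exact key a ha s z
  · intro t' ht'
    funext s y
    have h1 := congrFun (congrFun (ht' (f s y) (hf s y)) s) (y' s y)
    change t' s ((pt s).fiber.map (f s y) (y' s y)) = _ at h1
    rw [hy'] at h1
    exact h1

/-- the Godement sheaf of groups -/
noncomputable def Gsh : Sheaf J GrpCat.{u + 1} := ⟨Gpre pt F, Gpre_isSheaf pt F⟩

/-- the canonical morphism to the Godement sheaf -/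
noncomputable def φ : F ⟶ Gsh pt F :=
  ObjectProperty.homMk
    { app := fun V => GrpCat.ofHom
        { toFun := fun z s y => (pt s).toPresheafFiber V.unop y F.obj z
          map_one' := by
            funext s y
            exact map_one ((pt s).toPresheafFiber V.unop y F.obj).hom
          map_mul' := by
            intro z z'
            funext s y
            exact map_mul ((pt s).toPresheafFiber V.unop y F.obj).hom z z' }
      naturality := by
        intro V V' a
        ext z
        funext s y
        change (pt s).toPresheafFiber V'.unop y F.obj (F.obj.map a z) =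
          (pt s).toPresheafFiber V.unop ((pt s).fiber.map a.unop y) F.obj z
        exact (pt s).toPresheafFiber_w_apply a.unop y F.obj z }

theorem φ_apply (V : C) (z : F.obj.obj (op V)) (s : ι) (y : (pt s).fiber.obj V) :
    ((φ pt F).hom.app (op V) z : GSec pt F V) s y = (pt s).toPresheafFiber V y F.obj z := rfl

variable (hcons : ∀ ⦃V : C⦄ (R : Sieve V), (∀ (s : ι) (y : (pt s).fiber.obj V),
  ∃ (Y : C) (g : Y ⟶ V) (_ : R g) (y' : (pt s).fiber.obj Y), (pt s).fiber.map g y' = y) → R ∈ J V)

include hcons in
theorem φ_injective (U : Cᵒᵖ) : Function.Injective ((φ pt F).hom.app U) := by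
  obtain ⟨V⟩ := U
  intro z₁ z₂ h
  let R : Sieve V :=
    { arrows := fun Y g => F.obj.map g.op z₁ = F.obj.map g.op z₂
      downward_closed := by
        intro Y Z g hg k
        change F.obj.map (k ≫ g).op z₁ = F.obj.map (k ≫ g).op z₂
        rw [op_comp, Functor.map_comp, ConcreteCategory.comp_apply, ConcreteCategory.comp_apply, hg] }
  have hR : R ∈ J V := by
    apply hcons
    intro s y
    have h1 : (pt s).toPresheafFiber V y F.obj z₁ = (pt s).toPresheafFiber V y F.obj z₂ :=
      congrFun (congrFun h s) y
    rw [Point.toPresheafFiber_eq_iff'] at h1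
    obtain ⟨Y, g, y', hy', hg⟩ := h1
    exact ⟨Y, g, hg, y', hy'⟩
  exact sh_sep (uSh F) R hR z₁ z₂ (fun T g hg => hg)

/-- evaluation data for the restriction of the Godement sheaf to `Over U` -/
noncomputable def evData (U : C) : EvData ((Gsh pt F).over U)
    (fun i : Σ s : ι, (pt s).fiber.obj U => (pt i.1).over i.2) (fun i => St pt F i.1) where
  ev i W y :=
    { toFun := fun g => (g : GSec pt F W.left) i.1 y.1
      map_one' := rfl
      map_mul' := fun _ _ => rfl }
  nat i W W' a y' g := rfl
  inj W g h := by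
    funext s y
    exact h ⟨s, (pt s).fiber.map W.hom y⟩ ⟨y, rfl⟩
  surj W h := by
    refine ⟨(fun s y => h ⟨s, (pt s).fiber.map W.hom y⟩ ⟨y, rfl⟩ : GSec pt F W.left), ?_⟩
    intro i y
    obtain ⟨s, u⟩ := i
    have key : ∀ (u : (pt s).fiber.obj U) (y₀ : (pt s).fiber.obj W.left)
        (hy₀ : (pt s).fiber.map W.hom y₀ = u),
        h ⟨s, (pt s).fiber.map W.hom y₀⟩ ⟨y₀, rfl⟩ = h ⟨s, u⟩ ⟨y₀, hy₀⟩ := by
      intro u y₀ hy₀
      subst hy₀
      rfl
    exact key u y.1 y.2

include hcons in
theorem main : ∃ (G : Sheaf J GrpCat.{u + 1}) (φ : F ⟶ G),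
    (∀ U : Cᵒᵖ, Function.Injective (φ.hom.app U)) ∧
    ∀ (U : C) (P : NonAbH1.Torsor (G.over U)), P.IsTrivial := by
  refine ⟨Gsh pt F, φ pt F, φ_injective pt F hcons, ?_⟩
  intro U P
  exact isTrivial_of_hasSection P.toGSheaf P.isTorsor.1
    (hasSection (evData pt F U) P.toGSheaf P.isTorsor.1 P.isTorsor.2)

end Groth.Agent.Lib.helper21.Godement2
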