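import Groth.Agent.Lib.Helper7.OmegaLocal
import Groth.Prelude.Def_OmegaPn

/-!
# Infinitesimal neighbourhoods: sections over affine opens (helper21)

* `infNbhdι_app_surjective`, `ker_infNbhdι_app`: for `i : Y ⟶ X` quasi-compact and `U` an affine open of `X`,
  `Γ(X, U) → Γ(Y^{(n)}, U)` is surjective with kernel `(ker (Γ(X,U) → Γ(Y, i⁻¹U)))^(n+1)`.
* `nbhdι_app_surjective`, `ker_nbhdι_app`: the same for the neighbourhoods of the diagonal of `f : X ⟶ S`
  and an affine open `O` of `X ×_S X` contained in the coborder of the diagonal.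
-/

set_option autoImplicit false
universe u
open CategoryTheory CategoryTheory.Limits AlgebraicGeometry TopologicalSpace Opposite

namespace Groth.Agent.Lib.helper21.PrinPart

open _root_.PrinPart

section Imm
variable {X Y : Scheme.{u}} (i : Y ⟶ X)

instance isClosedImmersion_infNbhdι (n : ℕ) : IsClosedImmersion (infNbhdι i n) := by
  unfold infNbhdι; infer_instance

theorem infNbhdι_app_surjective (n : ℕ) (U : X.affineOpens) :
    Function.Surjective ((infNbhdι i n).app U.1) :=
  (i.ker ^ (n + 1)).subschemeι_app_surjective U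

theorem ker_infNbhdι_app [QuasiCompact i] (n : ℕ) (U : X.affineOpens) :
    RingHom.ker ((infNbhdι i n).app U.1).hom = RingHom.ker (i.app U.1).hom ^ (n + 1) := by
  rw [infNbhdι, Scheme.IdealSheafData.ker_subschemeι_app, Scheme.IdealSheafData.ideal_pow,
    Pi.pow_apply, Scheme.Hom.ker_apply]

end Imm

theorem isIso_presheaf_map_of_eq {X : Scheme.{u}} {U V : X.Opens} (e : U = V) (h : U ≤ V) :
    IsIso (X.presheaf.map (homOfLE h).op) := by
  subst e
  have : homOfLE h = 𝟙 U := Subsingleton.elim _ _
  rw [this, op_id, CategoryTheory.Functor.map_id]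
  infer_instance

section Diag
variable {X S : Scheme.{u}} (f : X ⟶ S)

theorem image_preimage_coborder {O : (pullback f f).Opens}
    (hle : O ≤ (pullback.diagonal f).coborderRange) :
    (pullback.diagonal f).coborderRange.ι ''ᵁ ((pullback.diagonal f).coborderRange.ι ⁻¹ᵁ O) = O := by
  rw [Scheme.Hom.image_preimage_eq_opensRange_inf, Scheme.Opens.opensRange_ι]
  exact inf_eq_right.mpr hle

theorem isAffineOpen_preimage_coborder {O : (pullback f f).Opens} (hO : IsAffineOpen O)
    (hle : O ≤ (pullback.diagonal f).coborderRange) :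
    IsAffineOpen ((pullback.diagonal f).coborderRange.ι ⁻¹ᵁ O) := by
  rw [← Scheme.Hom.isAffineOpen_iff_of_isOpenImmersion (pullback.diagonal f).coborderRange.ι,
    image_preimage_coborder f hle]
  exact hO

theorem coborderι_app_bijective {O : (pullback f f).Opens}
    (hle : O ≤ (pullback.diagonal f).coborderRange) :
    Function.Bijective ((pullback.diagonal f).coborderRange.ι.app O) := by
  have h : IsIso ((pullback.diagonal f).coborderRange.ι.app O) := by
    rw [Scheme.Opens.ι_app]
    exact isIso_presheaf_map_of_eq (image_preimage_coborder f hle) _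
  exact ConcreteCategory.bijective_of_isIso _

theorem nbhdι_app (n : ℕ) (O : (pullback f f).Opens) :
    (nbhdι f n).app O = (pullback.diagonal f).coborderRange.ι.app O ≫
      (infNbhdι (diagCl f) n).app ((pullback.diagonal f).coborderRange.ι ⁻¹ᵁ O) :=
  Scheme.Hom.comp_app _ _ _

theorem nbhdι_app_surjective (n : ℕ) {O : (pullback f f).Opens} (hO : IsAffineOpen O)
    (hle : O ≤ (pullback.diagonal f).coborderRange) :
    Function.Surjective ((nbhdι f n).app O) := by
  rw [nbhdι_app]
  exact (infNbhdι_app_surjective (diagCl f) n ⟨_, isAffineOpen_preimage_coborder f hO hle⟩).comp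
    (coborderι_app_bijective f hle).2

theorem diagonal_app_eq_zero_iff {O : (pullback f f).Opens} (x : Γ(pullback f f, O)) :
    (pullback.diagonal f).app O x = 0 ↔
      (diagCl f).app ((pullback.diagonal f).coborderRange.ι ⁻¹ᵁ O)
        ((pullback.diagonal f).coborderRange.ι.app O x) = 0 := by
  have h := Scheme.Hom.congr_app (pullback.diagonal f).liftCoborder_ι.symm O
  rw [Scheme.Hom.comp_app] at h
  rw [h]
  change (X.presheaf.map (eqToHom _).op) ((diagCl f).app _
    ((pullback.diagonal f).coborderRange.ι.app O x)) = 0 ↔ _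
  constructor
  · intro hx
    exact (ConcreteCategory.bijective_of_isIso (X.presheaf.map (eqToHom _).op)).1
      (hx.trans (map_zero _).symm)
  · intro hx
    rw [hx, map_zero]

theorem ker_nbhdι_app (n : ℕ) {O : (pullback f f).Opens} (hO : IsAffineOpen O)
    (hle : O ≤ (pullback.diagonal f).coborderRange) :
    RingHom.ker ((nbhdι f n).app O).hom = RingHom.ker ((pullback.diagonal f).app O).hom ^ (n + 1) := by
  let φ : Γ(pullback f f, O) ≃+* Γ((pullback.diagonal f).coborderRange.toScheme,
      (pullback.diagonal f).coborderRange.ι ⁻¹ᵁ O) :=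
    RingEquiv.ofBijective ((pullback.diagonal f).coborderRange.ι.app O).hom
      (coborderι_app_bijective f hle)
  have hK : RingHom.ker ((pullback.diagonal f).app O).hom =
      (RingHom.ker ((diagCl f).app ((pullback.diagonal f).coborderRange.ι ⁻¹ᵁ O)).hom).comap φ := by
    ext x
    rw [RingHom.mem_ker, Ideal.mem_comap, RingHom.mem_ker]
    exact diagonal_app_eq_zero_iff f x
  rw [hK, ← Ideal.map_symm, ← Ideal.map_pow, Ideal.map_symm,
    ← ker_infNbhdι_app (diagCl f) n ⟨_, isAffineOpen_preimage_coborder f hO hle⟩]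
  ext x
  rw [RingHom.mem_ker, Ideal.mem_comap, RingHom.mem_ker, nbhdι_app]
  rfl

end Diag

end Groth.Agent.Lib.helper21.PrinPart
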