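import Groth.Agent.Lib.Helper7.IdealComap
import Groth.Agent.Lib.Helper21.PrinPart1

/-!
# Infinitesimal neighbourhoods and base change (helper21, S5951)

* `Chart2 v`: pairs of affine opens `U ⊆ X`, `U' ⊆ X'` with `U' ≤ v⁻¹ U`; `iSup_chart2`.
* `comap_mul`, `comap_pow`: pullback of ideal sheaves commutes with products and powers.
* `ker_eq_comap_of_isPullback`: for a cartesian square with `f` a closed immersion, `f'.ker = f.ker.comap v`.
* `isPullback_infNbhd`.
-/

set_option autoImplicit false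
universe u
open CategoryTheory CategoryTheory.Limits AlgebraicGeometry TopologicalSpace Opposite

namespace Groth.Agent.Lib.helper21.GrBC

open _root_.PrinPart Scheme.IdealSheafData

section Chart
variable {X' X : Scheme.{u}} (v : X' ⟶ X)

/-- pairs of affine opens `U ⊆ X`, `U' ⊆ X'` with `U' ≤ v⁻¹ U` -/
def Chart2 : Type u := {p : X.affineOpens × X'.affineOpens // p.2.1 ≤ v ⁻¹ᵁ p.1.1}

theorem exists_chart2 (x' : X') : ∃ c : Chart2 v, x' ∈ c.1.2.1 := by
  obtain ⟨_, ⟨U, hU, rfl⟩, hxU, -⟩ := X.isBasis_affineOpens.exists_subset_of_mem_open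
    (Set.mem_univ (v x')) isOpen_univ
  obtain ⟨_, ⟨U', hU', rfl⟩, hxU', hUU'⟩ := X'.isBasis_affineOpens.exists_subset_of_mem_open
    (show x' ∈ ((v ⁻¹ᵁ U : X'.Opens) : Set X') from hxU) (v ⁻¹ᵁ U).2
  exact ⟨⟨(⟨U, hU⟩, ⟨U', hU'⟩), hUU'⟩, hxU'⟩

theorem iSup_chart2 : ⨆ c : Chart2 v, (c.1.2.1 : X'.Opens) = ⊤ := by
  rw [eq_top_iff]
  intro x' _
  obtain ⟨c, hc⟩ := exists_chart2 v x'
  exact Opens.mem_iSup.mpr ⟨c, hc⟩

theorem ideal_comap_chart2 (I : X.IdealSheafData) (c : Chart2 v) :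
    (I.comap v).ideal c.1.2 = (I.ideal c.1.1).map (v.appLE c.1.1.1 c.1.2.1 c.2).hom :=
  Groth.Agent.Lib.helper7.IdealComap.ideal_comap v I c.1.1.2 c.1.2.2 c.2

theorem comap_mul (I J : X.IdealSheafData) : (I * J).comap v = I.comap v * J.comap v := by
  refine ext_of_iSup_eq_top (fun c : Chart2 v => c.1.2) (iSup_chart2 v) (fun c => ?_)
  rw [ideal_comap_chart2, ideal_mul, ideal_mul, Pi.mul_apply, Pi.mul_apply, ideal_comap_chart2,
    ideal_comap_chart2, Ideal.map_mul]

theorem comap_pow (I : X.IdealSheafData) (m : ℕ) : (I ^ m).comap v = (I.comap v) ^ m := by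
  refine ext_of_iSup_eq_top (fun c : Chart2 v => c.1.2) (iSup_chart2 v) (fun c => ?_)
  rw [ideal_comap_chart2, ideal_pow, ideal_pow, Pi.pow_apply, Pi.pow_apply, ideal_comap_chart2,
    Ideal.map_pow]

end Chart

section Sq
variable {Y X Y' X' : Scheme.{u}} (f : Y ⟶ X) [IsClosedImmersion f]
  (v : X' ⟶ X) (u : Y' ⟶ Y) (f' : Y' ⟶ X') (hsq : IsPullback u f' f v)

include hsq in
theorem isClosedImmersion_of_isPullback : IsClosedImmersion f' :=
  MorphismProperty.of_isPullback (P := @IsClosedImmersion) hsq inferInstance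

include hsq in
theorem ker_eq_comap_of_isPullback : f'.ker = f.ker.comap v := by
  rw [← ker_fst_of_isClosedImmersion f v]
  have h : f' = (hsq.flip.isoPullback).hom ≫ pullback.fst v f := by
    simp
  rw [h, Scheme.Hom.ker_comp_of_isIso]

include hsq in
theorem isPullback_infNbhd (n : ℕ) (w : infNbhd f' n ⟶ infNbhd f n)
    (hw : w ≫ infNbhdι f n = infNbhdι f' n ≫ v) :
    IsPullback w (infNbhdι f' n) (infNbhdι f n) v := by
  haveI := isClosedImmersion_of_isPullback f v u f' hsq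
  refine (isPullback_of_isClosedImmersion (infNbhdι f' n) (infNbhdι f n) w v hw.symm ?_).flip
  unfold infNbhdι
  rw [ker_subschemeι, ker_subschemeι, comap_pow, ker_eq_comap_of_isPullback f v u f' hsq]

end Sq

end Groth.Agent.Lib.helper21.GrBC
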