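import Groth.Agent.Lib.Helper21.GrBCAlg1
import Groth.Agent.Lib.Helper17.FlatSES

/-!
# Extension of ideals as a base change (helper21)

For `B → B'` and an ideal `J ⊆ B`: `J → J B'` is a base change as soon as `B' ⊗_B J → B'` is injective.

* `idealMapLin`, `idealMu`, `isBaseChange_idealMap`, `isBC_idealMap`.
* `idealMu_injective_of_flat`: `B'` flat over `B`.
* `idealMu_injective_of_isPushout`: `B' = A' ⊗_A B` and `B ⧸ J` flat over `A`.
-/

set_option autoImplicit false
set_option linter.style.haveILetI false
universe u
open TensorProduct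

namespace Groth.Agent.Lib.helper21.GrBCAlg

open Groth.Agent.Lib.helper8.PullbackUnit

section IdealBC
variable {B B' : Type u} [CommRing B] [CommRing B'] [Algebra B B'] (J : Ideal B)

/-- `J → J B'` -/
def idealMapLin : J →ₗ[B] (J.map (algebraMap B B')) where
  toFun j := ⟨algebraMap B B' j, Ideal.mem_map_of_mem _ j.2⟩
  map_add' a b := Subtype.ext (by simp)
  map_smul' b j := Subtype.ext (by simp [Algebra.smul_def])

@[simp] theorem idealMapLin_coe (j : J) : ((idealMapLin (B' := B') J j : J.map (algebraMap B B')) : B') =
    algebraMap B B' j := rfl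

/-- `B' ⊗_B J → B'`, `b' ⊗ j ↦ b' j` -/
noncomputable def idealMu : B' ⊗[B] J →ₗ[B'] B' :=
  ((Algebra.linearMap B B') ∘ₗ J.subtype).liftBaseChange B'

@[simp] theorem idealMu_tmul (b' : B') (j : J) : idealMu (B' := B') J (b' ⊗ₜ j) = b' * algebraMap B B' j := by
  simp [idealMu]

/-- `B' ⊗_B J → J B'` -/
noncomputable def idealMu' : B' ⊗[B] J →ₗ[B'] (J.map (algebraMap B B')) :=
  (idealMapLin J).liftBaseChange B'

theorem idealMu'_coe (t : B' ⊗[B] J) :
    ((idealMu' (B' := B') J t : J.map (algebraMap B B')) : B') = idealMu J t := by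
  induction t with
  | zero => simp
  | add x y hx hy => rw [map_add, map_add, Submodule.coe_add, hx, hy]
  | tmul b' j => simp [idealMu']

theorem idealMu'_surjective : Function.Surjective (idealMu' (B' := B') J) := by
  have h1 : J.map (algebraMap B B') ≤ LinearMap.range (idealMu (B' := B') J) := by
    rw [Ideal.map, Ideal.span_le]
    rintro _ ⟨j, hj, rfl⟩
    exact ⟨1 ⊗ₜ ⟨j, hj⟩, by simp⟩
  rintro ⟨x, hx⟩
  obtain ⟨t, ht⟩ := h1 hx
  exact ⟨t, Subtype.ext ((idealMu'_coe J t).trans ht)⟩

theorem isBaseChange_idealMap (hμ : Function.Injective (idealMu (B' := B') J)) :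
    IsBaseChange B' (idealMapLin (B' := B') J) := by
  have hinj : Function.Injective (idealMu' (B' := B') J) := by
    intro a b hab
    apply hμ
    rw [← idealMu'_coe, ← idealMu'_coe, hab]
  refine IsBaseChange.of_equiv
    (LinearEquiv.ofBijective (idealMu' (B' := B') J) ⟨hinj, idealMu'_surjective J⟩) (fun j => ?_)
  change idealMu' J (1 ⊗ₜ j) = _
  simp [idealMu']

theorem isBC_idealMap (hμ : Function.Injective (idealMu (B' := B') J)) :
    IsBC (algebraMap B B') (idealMapLin (B' := B') J).toAddMonoidHom :=
  IsBC.of_isBaseChange _ (isBaseChange_idealMap J hμ)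

theorem span_range_idealMapLin :
    Submodule.span B' (Set.range (idealMapLin (B' := B') J)) = ⊤ := by
  rw [eq_top_iff]
  rintro x -
  obtain ⟨t, rfl⟩ := idealMu'_surjective J x
  induction t with
  | zero => rw [map_zero]; exact Submodule.zero_mem _
  | add x y hx hy => rw [map_add]; exact Submodule.add_mem _ hx hy
  | tmul b' j =>
    have : idealMu' (B' := B') J (b' ⊗ₜ j) = b' • idealMapLin J j := by simp [idealMu']
    rw [this]
    exact Submodule.smul_mem _ _ (Submodule.subset_span ⟨j, rfl⟩)

theorem idealMu_injective_of_flat [Module.Flat B B'] :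
    Function.Injective (idealMu (B' := B') J) := by
  have h1 : Function.Injective (J.subtype.lTensor B') :=
    Module.Flat.lTensor_preserves_injective_linearMap _ J.injective_subtype
  have h2 : ∀ t, idealMu (B' := B') J t =
      (TensorProduct.rid B B') (J.subtype.lTensor B' t) := by
    intro t
    induction t with
    | zero => simp
    | add x y hx hy => rw [map_add, map_add, map_add, hx, hy]
    | tmul b' j => simp [Algebra.smul_def, mul_comm]
  intro a b hab
  rw [h2, h2] at hab
  exact h1 ((TensorProduct.rid B B').injective hab)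

end IdealBC

section Pushout
variable (A A' : Type u) {B B' : Type u} [CommRing A] [CommRing A'] [CommRing B] [CommRing B']
  [Algebra A A'] [Algebra A B] [Algebra A' B'] [Algebra B B'] [Algebra A B']
  [IsScalarTower A A' B'] [IsScalarTower A B B'] [Algebra.IsPushout A A' B B'] (J : Ideal B)

include A A' in
theorem idealMu_injective_of_isPushout [Module.Flat A (B ⧸ J)] :
    Function.Injective (idealMu (B' := B') J) := by
  -- `A' ⊗_A J → A' ⊗_A B` is injective
  have h1 : Function.Injective ((J.subtype.restrictScalars A).lTensor A') :=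
    LinearMap.lTensor_injective_of_exact_of_flat ((Ideal.Quotient.mkₐ A J).toLinearMap)
      (Ideal.Quotient.mkₐ_surjective A J) (J.subtype.restrictScalars A) J.injective_subtype
      (by
        intro b
        constructor
        · intro hb
          exact ⟨⟨b, Ideal.Quotient.eq_zero_iff_mem.mp hb⟩, rfl⟩
        · rintro ⟨j, rfl⟩
          exact Ideal.Quotient.eq_zero_iff_mem.mpr j.2) A'
  let c := Algebra.IsPushout.cancelBaseChange A A' B B' J
  let ε := Algebra.IsPushout.equiv A A' B B'
  have h2 : ∀ t : A' ⊗[A] J, idealMu (B' := B') J (c.symm t) =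
      ε ((J.subtype.restrictScalars A).lTensor A' t) := by
    intro t
    induction t with
    | zero => simp
    | add x y hx hy => rw [map_add, map_add, map_add, map_add, hx, hy]
    | tmul a' j =>
      rw [Algebra.IsPushout.cancelBaseChange_symm_tmul, idealMu_tmul, LinearMap.lTensor_tmul,
        Algebra.IsPushout.equiv_tmul]
      rfl
  intro a b hab
  obtain ⟨a, rfl⟩ := c.symm.surjective a
  obtain ⟨b, rfl⟩ := c.symm.surjective b
  rw [h2, h2] at hab
  rw [h1 (ε.injective hab)]

end Pushout

end Groth.Agent.Lib.helper21.GrBCAlg
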