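import Groth.Agent.Lib.Helper21.PrinPart1
import Groth.Agent.Lib.Helper11.FormalSpf1

/-!
# Transition maps `P^m_{X/S}(F) ⟶ P^n_{X/S}(F)` for `n ≤ m` (helper21, S5956)

* `pullSect_comp`, `pullSect_congr`: pulling sections back along a composite / along equal morphisms.
* `transMap`: for `τ : Z' ⟶ Z` and `p₁ p₂ : Z ⟶ X`, the map `p₁_* p₂^* F ⟶ (τ ≫ p₁)_* (τ ≫ p₂)^* F`
  (up to the given equalities), `transMap_app`.
* `PModTrans f h F : PMod f m F ⟶ PMod f n F`, `PModTrans_dP`; `isDiffOpLE_of_le`.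
-/

set_option autoImplicit false
universe u
open CategoryTheory CategoryTheory.Limits AlgebraicGeometry TopologicalSpace Opposite

namespace Groth.Agent.Lib.helper21.PrinPart

open _root_.PrinPart Scheme.Modules

theorem app_map' {X : Scheme.{u}} {M N : X.Modules} (φ : M ⟶ N) {W W' : X.Opens} (i : W' ⟶ W)
    (x : Γ(M, W)) :
    φ.app W' (M.presheaf.map i.op x) = N.presheaf.map i.op (φ.app W x) :=
  congr($((Scheme.Modules.Hom.mapPresheaf φ).naturality i.op) x)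

theorem pullSect_map' {X' X : Scheme.{u}} (h : X' ⟶ X) (M : X.Modules) {U V : X.Opens} (e : V ≤ U)
    (m : Γ(M, U)) :
    OmegaSh.pullSect h M V (M.presheaf.map (homOfLE e).op m) =
      ((Scheme.Modules.pullback h).obj M).presheaf.map (homOfLE (h.preimage_mono e)).op
        (OmegaSh.pullSect h M U m) :=
  OmegaSh.pullSect_map h M e m

theorem pullSect_comp {X Y Z : Scheme.{u}} (f : X ⟶ Y) (g : Y ⟶ Z) (M : Z.Modules) (U : Z.Opens)
    (a : Γ(M, U)) :
    ((pullbackComp f g).hom.app M).app (f ⁻¹ᵁ g ⁻¹ᵁ U)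
      (OmegaSh.pullSect f ((Scheme.Modules.pullback g).obj M) (g ⁻¹ᵁ U)
        (OmegaSh.pullSect g M U a)) =
      OmegaSh.pullSect (f ≫ g) M U a := by
  have h := Groth.Agent.Lib.helper11.FormalSpf.unit_pullbackComp f g M
  have h2 := congr((($h).app U) a)
  simp only [Scheme.Modules.Hom.comp_app, pushforward_map_app, pushforwardComp_hom_app_app] at h2
  have h3 : OmegaSh.pullSect f ((Scheme.Modules.pullback g).obj M) (g ⁻¹ᵁ U)
      (OmegaSh.pullSect g M U a) = ((pullbackComp f g).inv.app M).app ((f ≫ g) ⁻¹ᵁ U)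
        (OmegaSh.pullSect (f ≫ g) M U a) := h2
  rw [h3]
  have h4 : ((pullbackComp f g).inv.app M) ≫ ((pullbackComp f g).hom.app M) = 𝟙 _ :=
    Iso.inv_hom_id_app _ _
  exact congr((($h4).app ((f ≫ g) ⁻¹ᵁ U)) (OmegaSh.pullSect (f ≫ g) M U a))

theorem pullSect_congr {X Y : Scheme.{u}} {f₁ f₂ : X ⟶ Y} (hf : f₁ = f₂) (M : Y.Modules)
    (U : Y.Opens) (a : Γ(M, U)) :
    ((pullbackCongr hf).hom.app M).app (f₁ ⁻¹ᵁ U) (OmegaSh.pullSect f₁ M U a) =
      ((Scheme.Modules.pullback f₂).obj M).presheaf.map (eqToHom (by rw [hf])).op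
        (OmegaSh.pullSect f₂ M U a) := by
  subst hf
  have h1 : (pullbackCongr (rfl : f₁ = f₁)).hom.app M = 𝟙 _ := rfl
  rw [h1]
  have h2 : ((Scheme.Modules.pullback f₁).obj M).presheaf.map
      (eqToHom (rfl : f₁ ⁻¹ᵁ U = f₁ ⁻¹ᵁ U)).op = 𝟙 _ :=
    ((Scheme.Modules.pullback f₁).obj M).presheaf.map_id _
  rw [h2]
  rfl

section Trans
variable {Z' Z X : Scheme.{u}} (τ : Z' ⟶ Z) (p₁ p₂ : Z ⟶ X) (p₁' p₂' : Z' ⟶ X)
  (e₁ : τ ≫ p₁ = p₁') (e₂ : τ ≫ p₂ = p₂') (F : X.Modules)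

/-- `τ^* p₂^* F ⟶ p₂'^* F` -/
noncomputable def transβ :
    (Scheme.Modules.pullback τ).obj ((Scheme.Modules.pullback p₂).obj F) ⟶
      (Scheme.Modules.pullback p₂').obj F :=
  (pullbackComp τ p₂).hom.app F ≫ (pullbackCongr e₂).hom.app F

/-- `p₁_* p₂^* F ⟶ p₁'_* p₂'^* F` -/
noncomputable def transMap :
    (pushforward p₁).obj ((Scheme.Modules.pullback p₂).obj F) ⟶
      (pushforward p₁').obj ((Scheme.Modules.pullback p₂').obj F) :=
  (pushforward p₁).map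
      ((pullbackPushforwardAdjunction τ).unit.app ((Scheme.Modules.pullback p₂).obj F) ≫
        (pushforward τ).map (transβ τ p₂ p₂' e₂ F)) ≫
    (pushforwardComp τ p₁).hom.app ((Scheme.Modules.pullback p₂').obj F) ≫
    (pushforwardCongr e₁).hom.app ((Scheme.Modules.pullback p₂').obj F)

theorem transβ_pullSect (U : X.Opens) (t : Γ(F, U)) :
    (transβ τ p₂ p₂' e₂ F).app (τ ⁻¹ᵁ p₂ ⁻¹ᵁ U)
      (OmegaSh.pullSect τ ((Scheme.Modules.pullback p₂).obj F) (p₂ ⁻¹ᵁ U)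
        (OmegaSh.pullSect p₂ F U t)) =
      ((Scheme.Modules.pullback p₂').obj F).presheaf.map (eqToHom (by rw [← e₂]; rfl)).op
        (OmegaSh.pullSect p₂' F U t) := by
  unfold transβ
  rw [Scheme.Modules.Hom.comp_app, ConcreteCategory.comp_apply, pullSect_comp]
  exact pullSect_congr e₂ F U t

theorem transMap_app (U : X.Opens) (e : p₁ ⁻¹ᵁ U ≤ p₂ ⁻¹ᵁ U) (e' : p₁' ⁻¹ᵁ U ≤ p₂' ⁻¹ᵁ U)
    (t : Γ(F, U)) :
    (transMap τ p₁ p₂ p₁' p₂' e₁ e₂ F).app U
      (((Scheme.Modules.pullback p₂).obj F).presheaf.map (homOfLE e).op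
        (OmegaSh.pullSect p₂ F U t)) =
      ((Scheme.Modules.pullback p₂').obj F).presheaf.map (homOfLE e').op
        (OmegaSh.pullSect p₂' F U t) := by
  unfold transMap
  simp only [Scheme.Modules.Hom.comp_app, pushforward_map_app, pushforwardComp_hom_app_app,
    pushforwardCongr_hom_app_app]
  change ((Scheme.Modules.pullback p₂').obj F).presheaf.map (eqToHom _).op
      ((transβ τ p₂ p₂' e₂ F).app (τ ⁻¹ᵁ p₁ ⁻¹ᵁ U)
        (OmegaSh.pullSect τ ((Scheme.Modules.pullback p₂).obj F) (p₁ ⁻¹ᵁ U)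
          (((Scheme.Modules.pullback p₂).obj F).presheaf.map (homOfLE e).op
            (OmegaSh.pullSect p₂ F U t)))) = _
  rw [pullSect_map', app_map', transβ_pullSect, OmegaSh.resM_resM, OmegaSh.resM_resM]
  congr 2

end Trans

section PTrans
variable {X S : Scheme.{u}} (f : X ⟶ S) {n m : ℕ} (h : n ≤ m) (F : X.Modules)

theorem infNbhdMap_pr1 : infNbhdMap (diagCl f) h ≫ pr1 f m = pr1 f n := by
  simp [pr1, nbhdι]

theorem infNbhdMap_pr2 : infNbhdMap (diagCl f) h ≫ pr2 f m = pr2 f n := by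
  simp [pr2, nbhdι]

/-- The transition map `P^m_{X/S}(F) ⟶ P^n_{X/S}(F)` for `n ≤ m`. -/
noncomputable def PModTrans : PMod f m F ⟶ PMod f n F :=
  transMap (infNbhdMap (diagCl f) h) (pr1 f m) (pr2 f m) (pr1 f n) (pr2 f n)
    (infNbhdMap_pr1 f h) (infNbhdMap_pr2 f h) F

theorem PModTrans_dP (U : X.Opens) (t : Γ(F, U)) :
    (PModTrans f h F).app U (dP f m F U t) = dP f n F U t :=
  transMap_app _ _ _ _ _ _ _ F U (preimage_pr1 f m U).le (preimage_pr1 f n U).le t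

include h in
theorem isDiffOpLE_of_le (G : X.Modules) (D : F.presheaf ⟶ G.presheaf)
    (hD : IsDiffOpLE f F G n D) : IsDiffOpLE f F G m D := by
  obtain ⟨u, hu⟩ := hD
  refine ⟨PModTrans f h F ≫ u, fun U t => ?_⟩
  rw [Scheme.Modules.Hom.comp_app, ConcreteCategory.comp_apply, PModTrans_dP, hu]

end PTrans

end Groth.Agent.Lib.helper21.PrinPart
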