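import Groth.Agent.Lib.Helper21.GrBC1
import Groth.Agent.Lib.Helper21.GrBCAlg2
import Groth.Agent.Lib.Helper21.PrinPart16
import Groth.Agent.Lib.Helper7.IdealMod
import Groth.Agent.Lib.Helper7.KerSections
import Groth.Agent.Lib.Helper8.PullbackUnit2
import Groth.Agent.Lib.Helper16.QCohEpi
import Groth.Agent.Lib.Helper16.QCohPullback

/-!
# Graded pieces and base change: chart-level statements (helper21)

* `exists_lift_section`: a section of `I` over `U` pulls back to a section of `I.comap v` over `v⁻¹ U`.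
* `hN`: the map `Γ(I, U) → Γ(I', U')` on a chart, `span_range_hN`, `isBC_hN`.
-/

set_option autoImplicit false
set_option linter.style.haveILetI false
universe u
open CategoryTheory CategoryTheory.Limits AlgebraicGeometry TopologicalSpace Opposite

namespace Groth.Agent.Lib.helper21.GrBC

open _root_.PrinPart Scheme.IdealSheafData Scheme.Modules
open Groth.Agent.Lib.helper8.PullbackUnit Groth.Agent.Lib.helper21.GrBCAlg
open Groth.Agent.Lib.helper7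

section Lift
variable {X' X : Scheme.{u}} (v : X' ⟶ X) (I : X.IdealSheafData)

theorem subschemeι_comap_app (U : X.Opens) (t : Γ(X, U))
    (ht : (I.subschemeι.app U).hom t = 0) :
    ((I.comap v).subschemeι.app (v ⁻¹ᵁ U)).hom ((v.app U).hom t) = 0 := by
  let w := subschemeMap (I.comap v) I v (I.le_map_comap v)
  have hw : w ≫ I.subschemeι = (I.comap v).subschemeι ≫ v := subschemeMap_subschemeι _ _ _ _
  have h1 : ((I.comap v).subschemeι ≫ v).app U = (w ≫ I.subschemeι).app U ≫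
      (I.comap v).subscheme.presheaf.map (eqToHom (by rw [hw])).op :=
    Scheme.Hom.congr_app hw.symm U
  have h2 : ((I.comap v).subschemeι.app (v ⁻¹ᵁ U)).hom ((v.app U).hom t) =
      (((I.comap v).subschemeι ≫ v).app U).hom t := by
    rw [Scheme.Hom.comp_app]
    rfl
  rw [h2, h1, Scheme.Hom.comp_app]
  change ((I.comap v).subscheme.presheaf.map _).hom ((w.app _).hom ((I.subschemeι.app U).hom t)) = 0
  rw [ht, map_zero, map_zero]

theorem exists_lift_section (U : X.Opens) (s' : Γ(ClSub.idealMod I, U)) :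
    ∃ s : Γ(ClSub.idealMod (I.comap v), v ⁻¹ᵁ U),
      OmegaSh.idealSect (I.comap v) (v ⁻¹ᵁ U) s = v.app U (OmegaSh.idealSect I U s') := by
  have h0 : (I.subschemeι.app U).hom (((ClSub.idealModι I).app U).hom s') = 0 :=
    (IdealMod.mem_range_idealModι_iff I U _).mp ⟨s', rfl⟩
  have h1 := subschemeι_comap_app v I U _ h0
  obtain ⟨s, hs⟩ := (IdealMod.mem_range_idealModι_iff (I.comap v) (v ⁻¹ᵁ U) _).mpr h1
  exact ⟨s, hs⟩

end Lift

section HN
variable {X' X : Scheme.{u}} (v : X' ⟶ X) (I : X.IdealSheafData) (I' : X'.IdealSheafData)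
  (hI : I' = I.comap v) (c : Chart2 v)

/-- the ring map of a chart -/
noncomputable abbrev chartψ : Γ(X, c.1.1.1) →+* Γ(X', c.1.2.1) := (v.appLE c.1.1.1 c.1.2.1 c.2).hom

include hI in
theorem ideal_chart : I'.ideal c.1.2 = (I.ideal c.1.1).map (chartψ v c) := by
  rw [hI]
  exact ideal_comap_chart2 v I c

/-- the map `Γ(I, U) → Γ(I', U')` on a chart -/
noncomputable def hN : Γ(ClSub.idealMod I, c.1.1.1) →+ Γ(ClSub.idealMod I', c.1.2.1) where
  toFun s := (IdealMod.sectionsEquiv I' c.1.2).symm ⟨chartψ v c (IdealMod.sectionsEquiv I c.1.1 s).1, by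
    rw [ideal_chart v I I' hI c]
    exact Ideal.mem_map_of_mem _ (IdealMod.sectionsEquiv I c.1.1 s).2⟩
  map_zero' := by
    rw [← map_zero (IdealMod.sectionsEquiv I' c.1.2).symm]
    congr 1
    apply Subtype.ext
    simp
  map_add' a b := by
    rw [← map_add (IdealMod.sectionsEquiv I' c.1.2).symm]
    congr 1
    apply Subtype.ext
    simp

theorem idealModι_hN (s : Γ(ClSub.idealMod I, c.1.1.1)) :
    ((ClSub.idealModι I').app c.1.2.1).hom (hN v I I' hI c s) =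
      chartψ v c (((ClSub.idealModι I).app c.1.1.1).hom s) := by
  rw [← IdealMod.sectionsEquiv_coe, ← IdealMod.sectionsEquiv_coe]
  unfold hN
  simp

end HN

section SpanEquiv
variable {R R' : Type u} [CommRing R] [CommRing R'] {N P N' P' : Type u}
  [AddCommGroup N] [Module R N] [AddCommGroup P] [Module R' P]
  [AddCommGroup N'] [Module R N'] [AddCommGroup P'] [Module R' P']

theorem span_of_equiv (eN : N' ≃ₗ[R] N) (eP : P' ≃ₗ[R'] P) (k : N → P) (k' : N' → P')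
    (hcomm : ∀ n, eP (k' n) = k (eN n)) (h : Submodule.span R' (Set.range k) = ⊤) :
    Submodule.span R' (Set.range k') = ⊤ := by
  rw [eq_top_iff]
  rintro x -
  have hx : eP x ∈ Submodule.span R' (Set.range k) := by rw [h]; trivial
  have key : ∀ y ∈ Submodule.span R' (Set.range k), eP.symm y ∈ Submodule.span R' (Set.range k') := by
    intro y hy
    induction hy using Submodule.span_induction with
    | mem y hy =>
      obtain ⟨n, rfl⟩ := hy
      refine Submodule.subset_span ⟨eN.symm n, ?_⟩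
      apply eP.injective
      rw [hcomm]
      simp
    | zero => rw [map_zero]; exact Submodule.zero_mem _
    | add a b _ _ ha hb => rw [map_add]; exact Submodule.add_mem _ ha hb
    | smul r a _ ha => rw [_root_.map_smul]; exact Submodule.smul_mem _ _ ha
  simpa using key _ hx

end SpanEquiv

section HN2
variable {X' X : Scheme.{u}} (v : X' ⟶ X) (I : X.IdealSheafData) (I' : X'.IdealSheafData)
  (hI : I' = I.comap v) (c : Chart2 v)

theorem span_range_hN :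
    Submodule.span Γ(X', c.1.2.1) (Set.range (hN v I I' hI c)) = ⊤ := by
  letI := (chartψ v c).toAlgebra
  let eP : Γ(ClSub.idealMod I', c.1.2.1) ≃ₗ[Γ(X', c.1.2.1)]
      (I.ideal c.1.1).map (algebraMap Γ(X, c.1.1.1) Γ(X', c.1.2.1)) :=
    (IdealMod.sectionsEquiv I' c.1.2).trans (LinearEquiv.ofEq _ _ (ideal_chart v I I' hI c))
  exact span_of_equiv (IdealMod.sectionsEquiv I c.1.1) eP
    (idealMapLin (B' := Γ(X', c.1.2.1)) (I.ideal c.1.1)) (hN v I I' hI c)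
    (fun n => Subtype.ext (idealModι_hN v I I' hI c n))
    (span_range_idealMapLin (B' := Γ(X', c.1.2.1)) (I.ideal c.1.1))

theorem isBC_hN
    (hμ : letI := (chartψ v c).toAlgebra
      Function.Injective (idealMu (B' := Γ(X', c.1.2.1)) (I.ideal c.1.1))) :
    IsBC (chartψ v c) (hN v I I' hI c) := by
  letI := (chartψ v c).toAlgebra
  have h0 := isBC_idealMap (B' := Γ(X', c.1.2.1)) (I.ideal c.1.1) hμ
  let eP : Γ(ClSub.idealMod I', c.1.2.1) ≃ₗ[Γ(X', c.1.2.1)]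
      (I.ideal c.1.1).map (algebraMap Γ(X, c.1.1.1) Γ(X', c.1.2.1)) :=
    (IdealMod.sectionsEquiv I' c.1.2).trans (LinearEquiv.ofEq _ _ (ideal_chart v I I' hI c))
  exact h0.of_equiv (IdealMod.sectionsEquiv I c.1.1) eP (hN v I I' hI c)
    (fun n => Subtype.ext (idealModι_hN v I I' hI c n))

end HN2

section Misc

theorem exists_lift_section' {X' X : Scheme.{u}} (v : X' ⟶ X) (I : X.IdealSheafData)
    (I' : X'.IdealSheafData) (hI : I' = I.comap v) (U : X.Opens) (s' : Γ(ClSub.idealMod I, U)) :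
    ∃ s : Γ(ClSub.idealMod I', v ⁻¹ᵁ U),
      OmegaSh.idealSect I' (v ⁻¹ᵁ U) s = v.app U (OmegaSh.idealSect I U s') := by
  subst hI
  exact exists_lift_section v I U s'

theorem appLE_of_eq {X Y : Scheme.{u}} {f g : X ⟶ Y} (h : f = g) (U : Y.Opens) (V : X.Opens)
    (e : V ≤ f ⁻¹ᵁ U) : f.appLE U V e = g.appLE U V (h ▸ e) := by
  subst h
  rfl

theorem ρ_rfl {X Y : Scheme.{u}} (g : Y ⟶ X) (U : X.Opens) (A : X.Modules) (a : Γ(A, U)) :
    ρ g (le_refl (g ⁻¹ᵁ U)) A a = OmegaSh.pullSect g A U a := by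
  rw [ρ_apply]
  have h : ((Scheme.Modules.pullback g).obj A).presheaf.map (homOfLE (le_refl (g ⁻¹ᵁ U))).op = 𝟙 _ :=
    ((Scheme.Modules.pullback g).obj A).presheaf.map_id _
  rw [h]
  rfl

end Misc

section ChartMain
variable {Y X Y' X' : Scheme.{u}} (f : Y ⟶ X) [IsClosedImmersion f]
  (v : X' ⟶ X) (u : Y' ⟶ Y) (f' : Y' ⟶ X') (hsq : IsPullback u f' f v) (n : ℕ)
  (φ : (Scheme.Modules.pullback u).obj (grMod f n) ⟶ grMod f' n)
  (hφ : IsGrMap f' f v u n φ) (c : Chart2 v)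

include hsq in
theorem chart_le : f' ⁻¹ᵁ c.1.2.1 ≤ u ⁻¹ᵁ (f ⁻¹ᵁ c.1.1.1) := by
  have h1 : u ⁻¹ᵁ (f ⁻¹ᵁ c.1.1.1) = f' ⁻¹ᵁ (v ⁻¹ᵁ c.1.1.1) := by
    change (u ≫ f) ⁻¹ᵁ c.1.1.1 = (f' ≫ v) ⁻¹ᵁ c.1.1.1
    rw [hsq.w]
  rw [h1]
  exact f'.preimage_mono c.2

include hsq in
theorem ker_pow_eq : f'.ker ^ n = (f.ker ^ n).comap v := by
  rw [comap_pow, ker_eq_comap_of_isPullback f v u f' hsq]

include hsq hφ in
theorem chart_comm (s' : Γ(ClSub.idealMod (f.ker ^ n), c.1.1.1)) :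
    (φ.app (f' ⁻¹ᵁ c.1.2.1)).hom (ρ u (chart_le f v u f' hsq c) (grMod f n)
      (grSect f n c.1.1.1 s')) =
    grSect f' n c.1.2.1 (hN v (f.ker ^ n) (f'.ker ^ n) (ker_pow_eq f v u f' hsq n) c s') := by
  obtain ⟨s₀, hs₀⟩ := exists_lift_section' v (f.ker ^ n) (f'.ker ^ n) (ker_pow_eq f v u f' hsq n)
    c.1.1.1 s'
  have h2 : f' ⁻¹ᵁ c.1.2.1 ≤ f' ⁻¹ᵁ (v ⁻¹ᵁ c.1.1.1) := f'.preimage_mono c.2
  have key := hφ.2 c.1.1.1 s' s₀ hs₀ (f' ⁻¹ᵁ c.1.2.1) (chart_le f v u f' hsq c) h2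
  rw [ρ_apply]
  have h3 := Groth.Agent.Lib.helper21.PrinPart.app_map' φ (homOfLE (chart_le f v u f' hsq c))
    (OmegaSh.pullSect u (grMod f n) (f ⁻¹ᵁ c.1.1.1) (grSect f n c.1.1.1 s'))
  refine h3.trans (key.trans ?_)
  have h4 := Groth.Agent.Lib.helper21.PrinPart.pullSect_map' f' (ClSub.idealMod (f'.ker ^ n)) c.2 s₀
  refine h4.symm.trans ?_
  congr 1
  apply IdealMod.idealModι_app_injective (f'.ker ^ n) c.1.2.1
  rw [idealModι_hN]
  have h5 := Groth.Agent.Lib.helper21.PrinPart.app_map' (ClSub.idealModι (f'.ker ^ n)) (homOfLE c.2) s₀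
  refine h5.trans ?_
  have h6 : ((ClSub.idealModι (f'.ker ^ n)).app (v ⁻¹ᵁ c.1.1.1)).hom s₀ =
      (v.app c.1.1.1).hom (((ClSub.idealModι (f.ker ^ n)).app c.1.1.1).hom s') := hs₀
  rw [h6]
  rfl

end ChartMain

section ChartMain2
variable {Y X Y' X' : Scheme.{u}} (f : Y ⟶ X) [IsClosedImmersion f]
  (v : X' ⟶ X) (u : Y' ⟶ Y) (f' : Y' ⟶ X') (hsq : IsPullback u f' f v) (n : ℕ)
  (φ : (Scheme.Modules.pullback u).obj (grMod f n) ⟶ grMod f' n)
  (hφ : IsGrMap f' f v u n φ) (c : Chart2 v)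

instance grMod_qcoh : (grMod f n).IsQuasicoherent :=
  Groth.Agent.Lib.helper16.QCohPullback.isQuasicoherent_pullback f _

include hsq in
theorem chart_ring_sq :
    (u.appLE (f ⁻¹ᵁ c.1.1.1) (f' ⁻¹ᵁ c.1.2.1) (chart_le f v u f' hsq c)).hom.comp
      (f.appLE c.1.1.1 (f ⁻¹ᵁ c.1.1.1) le_rfl).hom =
    (f'.appLE c.1.2.1 (f' ⁻¹ᵁ c.1.2.1) le_rfl).hom.comp (chartψ v c) := by
  have h1 := Scheme.Hom.appLE_comp_appLE u f c.1.1.1 (f ⁻¹ᵁ c.1.1.1) (f' ⁻¹ᵁ c.1.2.1) le_rfl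
    (chart_le f v u f' hsq c)
  have h2 := Scheme.Hom.appLE_comp_appLE f' v c.1.1.1 c.1.2.1 (f' ⁻¹ᵁ c.1.2.1) c.2 le_rfl
  have h3 := appLE_of_eq hsq.w c.1.1.1 (f' ⁻¹ᵁ c.1.2.1)
    (le_rfl.trans ((Opens.map u.base).map (homOfLE (le_refl (f ⁻¹ᵁ c.1.1.1)))).le |>.trans' (chart_le f v u f' hsq c))
  have h4 : f.appLE c.1.1.1 (f ⁻¹ᵁ c.1.1.1) le_rfl ≫
      u.appLE (f ⁻¹ᵁ c.1.1.1) (f' ⁻¹ᵁ c.1.2.1) (chart_le f v u f' hsq c) =
      v.appLE c.1.1.1 c.1.2.1 c.2 ≫ f'.appLE c.1.2.1 (f' ⁻¹ᵁ c.1.2.1) le_rfl := by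
    rw [h1, h2]
    exact h3
  exact congrArg CommRingCat.Hom.hom h4

end ChartMain2

section ChartMain3
variable {Y X Y' X' : Scheme.{u}} (f : Y ⟶ X) [IsClosedImmersion f]
  (v : X' ⟶ X) (u : Y' ⟶ Y) (f' : Y' ⟶ X') (hsq : IsPullback u f' f v) (n : ℕ)
  (φ : (Scheme.Modules.pullback u).obj (grMod f n) ⟶ grMod f' n)
  (hφ : IsGrMap f' f v u n φ) (c : Chart2 v)

/-- a morphism of modules on sections, as a linear map -/
noncomputable def appLin {Z : Scheme.{u}} {M N : Z.Modules} (ψ : M ⟶ N) (W : Z.Opens) :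
    Γ(M, W) →ₗ[Γ(Z, W)] Γ(N, W) where
  toFun := (ψ.app W).hom
  map_add' := map_add _
  map_smul' r m := Scheme.Modules.Hom.app_smul ψ r m

/-- `Γ(Gr_n f, f⁻¹ U) → Γ(u^* Gr_n f, f'⁻¹ U') → Γ(Gr_n f', f'⁻¹ U')` -/
noncomputable def kmap : Γ(grMod f n, f ⁻¹ᵁ c.1.1.1) →+ Γ(grMod f' n, f' ⁻¹ᵁ c.1.2.1) :=
  (φ.app (f' ⁻¹ᵁ c.1.2.1)).hom.comp (ρ u (chart_le f v u f' hsq c) (grMod f n))

include hφ in
theorem kmap_comm (s' : Γ(ClSub.idealMod (f.ker ^ n), c.1.1.1)) :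
    kmap f v u f' hsq n φ c (ρ f (le_refl (f ⁻¹ᵁ c.1.1.1)) (ClSub.idealMod (f.ker ^ n)) s') =
      ρ f' (le_refl (f' ⁻¹ᵁ c.1.2.1)) (ClSub.idealMod (f'.ker ^ n))
        (hN v (f.ker ^ n) (f'.ker ^ n) (ker_pow_eq f v u f' hsq n) c s') := by
  rw [ρ_rfl, ρ_rfl]
  exact chart_comm f v u f' hsq n φ hφ c s'

include hsq hφ in
theorem chart_surjective : Function.Surjective (φ.app (f' ⁻¹ᵁ c.1.2.1)).hom := by
  haveI := isClosedImmersion_of_isPullback f v u f' hsq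
  have hV' : IsAffineOpen (f' ⁻¹ᵁ c.1.2.1) := c.1.2.2.preimage f'
  have hq' : IsBC (f'.appLE c.1.2.1 (f' ⁻¹ᵁ c.1.2.1) le_rfl).hom
      (ρ f' (le_refl (f' ⁻¹ᵁ c.1.2.1)) (ClSub.idealMod (f'.ker ^ n))) :=
    isBC_ρ f' c.1.2.2 hV' le_rfl _
  have hspan := span_of_square hq' (kmap_comm f v u f' hsq n φ hφ c)
    (span_range_hN v (f.ker ^ n) (f'.ker ^ n) (ker_pow_eq f v u f' hsq n) c)
  refine surjective_of_span (appLin φ (f' ⁻¹ᵁ c.1.2.1)) hspan ?_
  rintro _ ⟨m, rfl⟩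
  exact ⟨ρ u (chart_le f v u f' hsq c) (grMod f n) m, rfl⟩

include hsq hφ in
theorem chart_bijective
    (hμ : letI := (chartψ v c).toAlgebra
      Function.Injective (idealMu (B' := Γ(X', c.1.2.1)) ((f.ker ^ n).ideal c.1.1))) :
    Function.Bijective (φ.app (f' ⁻¹ᵁ c.1.2.1)).hom := by
  haveI := isClosedImmersion_of_isPullback f v u f' hsq
  have hV : IsAffineOpen (f ⁻¹ᵁ c.1.1.1) := c.1.1.2.preimage f
  have hV' : IsAffineOpen (f' ⁻¹ᵁ c.1.2.1) := c.1.2.2.preimage f'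
  have hq : IsBC (f.appLE c.1.1.1 (f ⁻¹ᵁ c.1.1.1) le_rfl).hom
      (ρ f (le_refl (f ⁻¹ᵁ c.1.1.1)) (ClSub.idealMod (f.ker ^ n))) :=
    isBC_ρ f c.1.1.2 hV le_rfl _
  have hq' : IsBC (f'.appLE c.1.2.1 (f' ⁻¹ᵁ c.1.2.1) le_rfl).hom
      (ρ f' (le_refl (f' ⁻¹ᵁ c.1.2.1)) (ClSub.idealMod (f'.ker ^ n))) :=
    isBC_ρ f' c.1.2.2 hV' le_rfl _
  have hρ := isBC_ρ u hV hV' (chart_le f v u f' hsq c) (grMod f n)
  have hk : ∀ (a : Γ(Y, f ⁻¹ᵁ c.1.1.1)) (m : Γ(grMod f n, f ⁻¹ᵁ c.1.1.1)),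
      kmap f v u f' hsq n φ c (a • m) =
        (u.appLE (f ⁻¹ᵁ c.1.1.1) (f' ⁻¹ᵁ c.1.2.1) (chart_le f v u f' hsq c)).hom a •
          kmap f v u f' hsq n φ c m := by
    intro a m
    change (φ.app (f' ⁻¹ᵁ c.1.2.1)).hom (ρ u (chart_le f v u f' hsq c) (grMod f n) (a • m)) = _
    rw [hρ.map_smul]
    exact Scheme.Modules.Hom.app_smul φ _ _
  have hkBC := isBC_of_square (chart_ring_sq f v u f' hsq c) hq hq' hk
    (kmap_comm f v u f' hsq n φ hφ c)
    (isBC_hN v (f.ker ^ n) (f'.ker ^ n) (ker_pow_eq f v u f' hsq n) c hμ)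
  exact IsBC.bijective_of_comp hρ hkBC (appLin φ (f' ⁻¹ᵁ c.1.2.1)) (fun _ => rfl)

end ChartMain3

section Global
variable {Y X Y' X' : Scheme.{u}} (f : Y ⟶ X) [IsClosedImmersion f]
  (v : X' ⟶ X) (u : Y' ⟶ Y) (f' : Y' ⟶ X') (hsq : IsPullback u f' f v) (n : ℕ)
  (φ : (Scheme.Modules.pullback u).obj (grMod f n) ⟶ grMod f' n)
  (hφ : IsGrMap f' f v u n φ)

include hsq hφ in
/-- S5952 -/
theorem epi_grMap : Epi φ := by
  haveI := isClosedImmersion_of_isPullback f v u f' hsq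
  refine Groth.Agent.Lib.helper16.QCohEpi.epi_of_surjective_on_affine_cover φ
    (fun c : Chart2 v => f' ⁻¹ᵁ c.1.2.1) (fun c => c.1.2.2.preimage f') ?_
    (fun c => chart_surjective f v u f' hsq n φ hφ c)
  intro y'
  obtain ⟨c, hc⟩ := exists_chart2 v (f' y')
  exact ⟨c, hc⟩

include hsq hφ in
/-- criterion for `φ` to be an isomorphism -/
theorem isIso_grMap_of_charts
    (hμ : ∀ c : Chart2 v, letI := (chartψ v c).toAlgebra
      Function.Injective (idealMu (B' := Γ(X', c.1.2.1)) ((f.ker ^ n).ideal c.1.1))) :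
    IsIso φ := by
  haveI := isClosedImmersion_of_isPullback f v u f' hsq
  haveI : ((Scheme.Modules.pullback u).obj (grMod f n)).IsQuasicoherent :=
    Groth.Agent.Lib.helper16.QCohPullback.isQuasicoherent_pullback u _
  refine KerSections.isIso_of_bijective_cover φ
    (fun c : Chart2 v => f' ⁻¹ᵁ c.1.2.1) (fun c => c.1.2.2.preimage f') ?_
    (fun c => chart_bijective f v u f' hsq n φ hφ c (hμ c))
  intro y'
  obtain ⟨c, hc⟩ := exists_chart2 v (f' y')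
  exact ⟨c, hc⟩

include hsq hφ in
/-- S5953 -/
theorem isIso_grMap_of_flat [Flat v] : IsIso φ := by
  refine isIso_grMap_of_charts f v u f' hsq n φ hφ (fun c => ?_)
  letI := (chartψ v c).toAlgebra
  haveI : Module.Flat Γ(X, c.1.1.1) Γ(X', c.1.2.1) := v.flat_appLE c.1.1.2 c.1.2.2 c.2
  exact idealMu_injective_of_flat _

end Global

end Groth.Agent.Lib.helper21.GrBC
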