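import Groth.Agent.Lib.Helper21.GrBCAlg2

/-!
# Flatness of `B ⧸ I ^ n` over `A` for a retraction `B → A` (helper21)

`A → B` an algebra, `π : B →+* A` a retraction, `I = ker π`.

* `isBC_mkQ`: for a `B`-module `N`, `N → N ⧸ I N` is a base change along `π`
  (`N ⧸ I N` an `A`-module through `A → B`).
* `flat_quot_smul_of_isBC`: if some base change of `N` along `π` is `A`-flat, so is `N ⧸ I N`.
* `flat_quot_pow_succ`, `flat_quot_pow`: `B ⧸ I ^ n` is `A`-flat if the base changes of `I ^ k`, `1 ≤ k < n`, are.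
-/

set_option autoImplicit false
set_option linter.style.haveILetI false
universe u

namespace Groth.Agent.Lib.helper21.GrBCAlg

open Groth.Agent.Lib.helper8.PullbackUnit

section QuotBC
variable {A B : Type u} [CommRing A] [CommRing B] [Algebra A B] (π : B →+* A)
  (hπ : ∀ a, π (algebraMap A B a) = a)
  (N : Type u) [AddCommGroup N] [Module B N] [Module A N] [IsScalarTower A B N]

include hπ in
theorem sub_mem_ker (b : B) : b - algebraMap A B (π b) ∈ RingHom.ker π := by
  rw [RingHom.mem_ker, map_sub, hπ, sub_self]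

include hπ in
theorem isBC_mkQ :
    IsBC π ((RingHom.ker π • (⊤ : Submodule B N)).mkQ.toAddMonoidHom) := by
  constructor
  · intro b n
    change Submodule.Quotient.mk (b • n) = π b • Submodule.Quotient.mk n
    rw [← Submodule.Quotient.mk_smul, ← sub_eq_zero, ← Submodule.Quotient.mk_sub,
      Submodule.Quotient.mk_eq_zero, ← algebraMap_smul B (π b) n, ← sub_smul]
    exact Submodule.smul_mem_smul (sub_mem_ker π hπ b) trivial
  · intro T _ _ h hh
    letI : Module B T := Module.compHom T π
    let hL : N →ₗ[B] T :=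
      { toFun := h
        map_add' := map_add h
        map_smul' := fun b n => hh b n }
    have hle : RingHom.ker π • (⊤ : Submodule B N) ≤ LinearMap.ker hL := by
      rw [Submodule.smul_le]
      intro r hr n _
      rw [LinearMap.mem_ker]
      change h (r • n) = 0
      rw [hh, (RingHom.mem_ker).mp hr, zero_smul]
    let L := (RingHom.ker π • (⊤ : Submodule B N)).liftQ hL hle
    let L' : (N ⧸ (RingHom.ker π • (⊤ : Submodule B N))) →ₗ[A] T :=
      { toFun := L
        map_add' := map_add L
        map_smul' := fun a x => by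
          obtain ⟨n, rfl⟩ := Submodule.Quotient.mk_surjective _ x
          rw [← Submodule.Quotient.mk_smul]
          change h (a • n) = a • h n
          rw [← algebraMap_smul B a n, hh, hπ] }
    refine ⟨L', fun n => rfl, fun L'' hL'' => ?_⟩
    ext x
    obtain ⟨n, rfl⟩ := Submodule.Quotient.mk_surjective _ x
    exact (hL'' n).trans rfl

include hπ in
theorem flat_quot_smul_of_isBC {M : Type u} [AddCommGroup M] [Module A M] (q : N →+ M)
    (hq : IsBC π q) [Module.Flat A M] :
    Module.Flat A (N ⧸ (RingHom.ker π • (⊤ : Submodule B N))) := by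
  have h0 := isBC_mkQ π hπ N
  obtain ⟨w, hw, -⟩ := hq.existsUnique_lift _ _ h0.map_smul
  have hbij := IsBC.bijective_of_comp hq h0 w hw
  exact Module.Flat.of_linearEquiv (LinearEquiv.ofBijective w hbij).symm

end QuotBC

section Pow
variable {A B : Type u} [CommRing A] [CommRing B] [Algebra A B] (π : B →+* A)
  (hπ : ∀ a, π (algebraMap A B a) = a)

include hπ in
theorem flat_quot_ker : Module.Flat A (B ⧸ RingHom.ker π) := by
  let w : A →ₗ[A] B ⧸ RingHom.ker π :=
    ((RingHom.ker π).mkQ.restrictScalars A).comp (Algebra.linearMap A B)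
  have hw : Function.Bijective w := by
    constructor
    · rw [injective_iff_map_eq_zero]
      intro a ha
      have h1 : algebraMap A B a ∈ RingHom.ker π := (Submodule.Quotient.mk_eq_zero _).mp ha
      rw [RingHom.mem_ker, hπ] at h1
      exact h1
    · intro x
      obtain ⟨b, rfl⟩ := Submodule.Quotient.mk_surjective _ x
      refine ⟨π b, ?_⟩
      change Submodule.Quotient.mk (algebraMap A B (π b)) = Submodule.Quotient.mk b
      rw [eq_comm, ← sub_eq_zero, ← Submodule.Quotient.mk_sub, Submodule.Quotient.mk_eq_zero]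
      exact sub_mem_ker π hπ b
  exact Module.Flat.of_linearEquiv (LinearEquiv.ofBijective w hw).symm

theorem mem_smul_top_iff (I : Ideal B) (k : ℕ) (x : ↥(I ^ k)) :
    x ∈ I • (⊤ : Submodule B ↥(I ^ k)) ↔ (x : B) ∈ I ^ (k + 1) := by
  have h1 : (I • (⊤ : Submodule B ↥(I ^ k))).map (I ^ k).subtype = I ^ (k + 1) := by
    rw [Submodule.map_smul'', Submodule.map_top, Submodule.range_subtype, pow_succ', smul_eq_mul]
  rw [← h1]
  constructor
  · intro hx
    exact ⟨x, hx, rfl⟩
  · rintro ⟨y, hy, hyx⟩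
    have : y = x := Subtype.ext hyx
    rwa [← this]

theorem flat_quot_pow_succ (I : Ideal B) (k : ℕ)
    [Module.Flat A (↥(I ^ k) ⧸ (I • (⊤ : Submodule B ↥(I ^ k))))]
    [Module.Flat A (B ⧸ I ^ k)] : Module.Flat A (B ⧸ I ^ (k + 1)) := by
  have hle1 : I • (⊤ : Submodule B ↥(I ^ k)) ≤ Submodule.comap (I ^ k).subtype (I ^ (k + 1)) := by
    intro x hx
    exact (mem_smul_top_iff I k x).mp hx
  have hle2 : I ^ (k + 1) ≤ Submodule.comap (LinearMap.id : B →ₗ[B] B) (I ^ k) := by
    intro x hx
    exact Ideal.pow_le_pow_right (Nat.le_succ k) hx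
  let f₁ : (↥(I ^ k) ⧸ (I • (⊤ : Submodule B ↥(I ^ k)))) →ₗ[A] B ⧸ I ^ (k + 1) :=
    (Submodule.mapQ _ (I ^ (k + 1)) (I ^ k).subtype hle1).restrictScalars A
  let g₁ : (B ⧸ I ^ (k + 1)) →ₗ[A] B ⧸ I ^ k :=
    (Submodule.mapQ (I ^ (k + 1)) (I ^ k) LinearMap.id hle2).restrictScalars A
  have hf : Function.Injective f₁ := by
    rw [injective_iff_map_eq_zero]
    intro y hy
    obtain ⟨x, rfl⟩ := Submodule.Quotient.mk_surjective _ y
    have h1 : (x : B) ∈ I ^ (k + 1) := (Submodule.Quotient.mk_eq_zero _).mp hy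
    exact (Submodule.Quotient.mk_eq_zero _).mpr ((mem_smul_top_iff I k x).mpr h1)
  have hg : Function.Surjective g₁ := by
    intro y
    obtain ⟨b, rfl⟩ := Submodule.Quotient.mk_surjective _ y
    exact ⟨Submodule.Quotient.mk b, rfl⟩
  have H : Function.Exact f₁ g₁ := by
    intro y
    constructor
    · intro hy
      obtain ⟨b, rfl⟩ := Submodule.Quotient.mk_surjective _ y
      have h1 : b ∈ I ^ k := (Submodule.Quotient.mk_eq_zero _).mp hy
      exact ⟨Submodule.Quotient.mk ⟨b, h1⟩, rfl⟩
    · rintro ⟨z, rfl⟩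
      obtain ⟨x, rfl⟩ := Submodule.Quotient.mk_surjective _ z
      exact (Submodule.Quotient.mk_eq_zero _).mpr x.2
  exact Groth.Agent.Lib.helper17.FlatSES.flat_mid_of_exact f₁ g₁ hf hg H

include hπ in
theorem flat_quot_pow (n : ℕ)
    (h : ∀ k, 1 ≤ k → k < n → ∃ (M : Type u) (_ : AddCommGroup M) (_ : Module A M)
      (q : ↥((RingHom.ker π) ^ k) →+ M), IsBC π q ∧ Module.Flat A M) :
    Module.Flat A (B ⧸ (RingHom.ker π) ^ n) := by
  induction n with
  | zero =>
    have : Subsingleton (B ⧸ (RingHom.ker π) ^ 0) := by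
      rw [pow_zero, Ideal.one_eq_top]
      exact Submodule.Quotient.subsingleton_iff.mpr rfl
    infer_instance
  | succ k ih =>
    rcases Nat.eq_zero_or_pos k with rfl | hk
    · rw [zero_add, pow_one]
      exact flat_quot_ker π hπ
    · haveI := ih (fun j hj hjk => h j hj (Nat.lt_succ_of_lt hjk))
      obtain ⟨M, _, _, q, hq, _⟩ := h k hk (Nat.lt_succ_self k)
      haveI := flat_quot_smul_of_isBC π hπ ↥((RingHom.ker π) ^ k) q hq
      exact flat_quot_pow_succ (RingHom.ker π) k

end Pow

section CatPushout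
open CategoryTheory

theorem idealMu_injective_of_catPushout {A A' B B' : CommRingCat.{u}} (a : A ⟶ A') (b : A ⟶ B)
    (a' : A' ⟶ B') (b' : B ⟶ B') (h : IsPushout a b a' b') (J : Ideal B)
    (hflat : letI := b.hom.toAlgebra; Module.Flat A (B ⧸ J)) :
    letI := b'.hom.toAlgebra
    Function.Injective (idealMu (B' := B') J) := by
  letI i1 : Algebra A A' := a.hom.toAlgebra
  letI i2 : Algebra A B := b.hom.toAlgebra
  letI i3 : Algebra A' B' := a'.hom.toAlgebra
  letI i4 : Algebra B B' := b'.hom.toAlgebra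
  letI i5 : Algebra A B' := (a ≫ a').hom.toAlgebra
  haveI : IsScalarTower A A' B' := IsScalarTower.of_algebraMap_eq' rfl
  haveI : IsScalarTower A B B' := IsScalarTower.of_algebraMap_eq' (by
    change (a ≫ a').hom = (b ≫ b').hom
    rw [h.w])
  haveI : Algebra.IsPushout A A' B B' := CommRingCat.isPushout_iff_isPushout.mp h
  haveI : Module.Flat A (B ⧸ J) := hflat
  exact idealMu_injective_of_isPushout A A' J

end CatPushout

end Groth.Agent.Lib.helper21.GrBCAlg
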