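import Mathlib

/-!
# Infinitesimal neighbourhoods of a section are finite (algebra) (helper21)

`finite_of_section`: `γ : A →+* B` of finite type with a retraction `φ : B →+* A`; a quotient `q : B →+* R` of `B`
by `(ker φ) ^ (n + 1)` is finite over `A`.
-/

set_option autoImplicit false
universe u

namespace Groth.Agent.Lib.helper21.PrinPartAlg

section Section
variable {A B R : Type u} [CommRing A] [CommRing B] [CommRing R]
  (γ : A →+* B) (φ : B →+* A) (q : B →+* R)

theorem finite_of_section (hγ : γ.FiniteType) (hφγ : ∀ a, φ (γ a) = a)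
    (hq : Function.Surjective q) (n : ℕ) (hk : RingHom.ker q = RingHom.ker φ ^ (n + 1)) :
    (q.comp γ).Finite := by
  classical
  letI : Algebra A B := γ.toAlgebra
  letI : Algebra A R := (q.comp γ).toAlgebra
  haveI : Algebra.FiniteType A B := hγ
  let qa : B →ₐ[A] R := { q with commutes' := fun _ => rfl }
  obtain ⟨σ, hσ⟩ := (Algebra.FiniteType.out : (⊤ : Subalgebra A B).FG)
  have h2 : Algebra.adjoin A (qa '' (σ : Set B)) = ⊤ := by
    rw [← AlgHom.map_adjoin, hσ, Algebra.map_top, AlgHom.range_eq_top]
    exact hq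
  have h3 : (Algebra.adjoin A (qa '' (σ : Set B))).toSubmodule.FG := by
    refine fg_adjoin_of_finite (σ.finite_toSet.image _) ?_
    rintro _ ⟨s, -, rfl⟩
    have h4 : s = (s - γ (φ s)) + algebraMap A B (φ s) := by
      change s = (s - γ (φ s)) + γ (φ s)
      ring
    rw [h4, map_add, AlgHom.commutes]
    refine IsIntegral.add ⟨Polynomial.X ^ (n + 1), Polynomial.monic_X_pow _, ?_⟩ isIntegral_algebraMap
    rw [Polynomial.eval₂_pow, Polynomial.eval₂_X, ← map_pow]
    have h5 : (s - γ (φ s)) ^ (n + 1) ∈ RingHom.ker q := by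
      rw [hk]
      refine Ideal.pow_mem_pow ?_ _
      rw [RingHom.mem_ker, map_sub, hφγ, sub_self]
    exact h5
  rw [h2] at h3
  exact ⟨by simpa using h3⟩

end Section

end Groth.Agent.Lib.helper21.PrinPartAlg
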