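import Groth.Agent.Lib.Helper21.PrinPart1
import Groth.Agent.Lib.Helper21.PrinPartAlg4

/-!
# The infinitesimal neighbourhoods of a section are finite over the base (helper21)

`g : X ⟶ Y` locally of finite type with a section `f : Y ⟶ X` which is a closed immersion:
`Y^{(n)} ⟶ X ⟶ Y` is finite (`isFinite_infNbhd`, S5965).
-/

set_option autoImplicit false
universe u
open CategoryTheory CategoryTheory.Limits AlgebraicGeometry TopologicalSpace Opposite

namespace Groth.Agent.Lib.helper21.PrinPart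

open _root_.PrinPart

theorem finite_of_iso_comp4 {R S T W W' : CommRingCat.{u}} (a : R ⟶ S) (b : S ⟶ T) (c : T ⟶ W)
    (d : W ⟶ W') (ha : IsIso a) (hc : IsIso c) (hd : IsIso d) (H : b.hom.Finite) :
    ((a ≫ b ≫ c) ≫ d).hom.Finite := by
  rw [CommRingCat.hom_comp, RingHom.finite_respectsIso.cancel_right_isIso, CommRingCat.hom_comp,
    RingHom.finite_respectsIso.cancel_left_isIso, CommRingCat.hom_comp,
    RingHom.finite_respectsIso.cancel_right_isIso]
  exact H

theorem isIso_map_eqToHom_op {Y : Scheme.{u}} {U V : Y.Opens} (e : U = V) :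
    IsIso (Y.presheaf.map (eqToHom e).op) := inferInstance

theorem finite_appTop_restrict {Z Y : Scheme.{u}} (h : Z ⟶ Y) (V : Y.Opens)
    (H : (h.app V).hom.Finite) : ((h ∣_ V).appTop).hom.Finite := by
  rw [morphismRestrict_appTop, Scheme.Hom.app_eq h V.ι_image_top]
  exact finite_of_iso_comp4 _ _ _ _ (isIso_map_eqToHom_op _) (isIso_map_eqToHom_op _)
    (isIso_map_eqToHom_op _) H

theorem appLE_congr_hom' {X Y : Scheme.{u}} {f g : X ⟶ Y} (e : f = g) (U : Y.Opens) (V : X.Opens)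
    (h : V ≤ f ⁻¹ᵁ U) : f.appLE U V h = g.appLE U V (e ▸ h) := by
  subst e; rfl

section FiniteSection
variable {X Y : Scheme.{u}} (g : X ⟶ Y) (f : Y ⟶ X) (hf : f ≫ g = 𝟙 Y)

include hf in
theorem exists_section_chart (y : Y) : ∃ (V : Y.Opens) (U : X.Opens), y ∈ V ∧ IsAffineOpen V ∧
    IsAffineOpen U ∧ U ≤ g ⁻¹ᵁ V ∧ f ⁻¹ᵁ U = V := by
  obtain ⟨_, ⟨V', hV', rfl⟩, hyV', -⟩ := Y.isBasis_affineOpens.exists_subset_of_mem_open
    (Set.mem_univ y) isOpen_univ
  have hgf : g (f y) = y := by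
    rw [← Scheme.Hom.comp_apply, hf]; rfl
  obtain ⟨_, ⟨U', hU', rfl⟩, hxU', hUV'⟩ := X.isBasis_affineOpens.exists_subset_of_mem_open
    (show f y ∈ ((g ⁻¹ᵁ V' : X.Opens) : Set X) by
      change g (f y) ∈ V'
      rw [hgf]; exact hyV') (g ⁻¹ᵁ V').2
  have e : U' ≤ g ⁻¹ᵁ V' := hUV'
  obtain ⟨a, ha_le, hya⟩ := hV'.exists_basicOpen_le (V := f ⁻¹ᵁ U' ⊓ V')
    ⟨y, ⟨hxU', hyV'⟩⟩ hyV'
  have hUeq : X.basicOpen (g.appLE V' U' e a) = U' ⊓ g ⁻¹ᵁ Y.basicOpen a := by
    rw [Scheme.Hom.appLE, CommRingCat.comp_apply, Scheme.basicOpen_res, Scheme.preimage_basicOpen]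
  refine ⟨Y.basicOpen a, X.basicOpen (g.appLE V' U' e a), hya, hV'.basicOpen a,
    hU'.basicOpen _, ?_, ?_⟩
  · rw [hUeq]; exact inf_le_right
  · rw [hUeq, Scheme.Hom.preimage_inf, ← Scheme.Hom.comp_preimage, hf, Scheme.Hom.id_preimage]
    exact inf_eq_right.mpr (ha_le.trans inf_le_left)

variable [IsClosedImmersion f] (n : ℕ) {V : Y.Opens} {U : X.Opens} (e₁ : U ≤ g ⁻¹ᵁ V)
  (e₃ : f ⁻¹ᵁ U = V)

include hf e₃ in
theorem preimage_comp_eq : (infNbhdι f n ≫ g) ⁻¹ᵁ V = infNbhdι f n ⁻¹ᵁ U := by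
  ext x
  change g (infNbhdι f n x) ∈ V ↔ infNbhdι f n x ∈ U
  obtain ⟨y, rfl⟩ := toInfNbhd_surjective f n x
  have h1 : infNbhdι f n (toInfNbhd f n y) = f y := by
    rw [← Scheme.Hom.comp_apply, toInfNbhd_ι]
  have h2 : g (f y) = y := by
    rw [← Scheme.Hom.comp_apply, hf]; rfl
  rw [h1, h2, ← e₃]
  rfl

include hf e₁ e₃ in
theorem finite_app_comp [LocallyOfFiniteType g] (hV : IsAffineOpen V) (hU : IsAffineOpen U) :
    ((infNbhdι f n ≫ g).app V).hom.Finite := by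
  have eW : (infNbhdι f n ≫ g) ⁻¹ᵁ V = infNbhdι f n ⁻¹ᵁ U := preimage_comp_eq g f hf n e₃
  have h1 : (infNbhdι f n ≫ g).app V =
      g.appLE V U e₁ ≫ (infNbhdι f n).appLE U ((infNbhdι f n ≫ g) ⁻¹ᵁ V) eW.le := by
    rw [Scheme.Hom.appLE_comp_appLE, Scheme.Hom.app_eq_appLE]
  rw [h1, CommRingCat.hom_comp]
  have h2 : (infNbhdι f n).appLE U ((infNbhdι f n ≫ g) ⁻¹ᵁ V) eW.le =
      (infNbhdι f n).app U ≫ (infNbhd f n).presheaf.map (eqToHom eW).op := rfl
  have hiso : IsIso ((infNbhd f n).presheaf.map (eqToHom eW).op) := isIso_map_eqToHom_op _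
  have hbij : Function.Bijective ((infNbhd f n).presheaf.map (eqToHom eW).op).hom :=
    (ConcreteCategory.isIso_iff_bijective _).mp hiso
  refine PrinPartAlg.finite_of_section (g.appLE V U e₁).hom (f.appLE U V e₃.ge).hom _
    (g.finiteType_appLE hV hU e₁) ?_ ?_ n ?_
  · intro a
    have h3 : g.appLE V U e₁ ≫ f.appLE U V e₃.ge = 𝟙 _ := by
      rw [Scheme.Hom.appLE_comp_appLE, appLE_congr_hom' hf]
      simp only [Scheme.Hom.appLE, Scheme.Hom.id_app]
      exact Y.presheaf.map_id _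
    exact congrArg (fun k => k.hom a) h3
  · rw [h2, CommRingCat.hom_comp]
    exact hbij.surjective.comp (infNbhdι_app_surjective f n ⟨U, hU⟩)
  · have h4 : RingHom.ker ((infNbhdι f n).appLE U ((infNbhdι f n ≫ g) ⁻¹ᵁ V) eW.le).hom =
        RingHom.ker ((infNbhdι f n).app U).hom := by
      rw [h2, CommRingCat.hom_comp]
      ext x
      simp only [RingHom.mem_ker, RingHom.comp_apply]
      exact ⟨fun hx => hbij.injective (hx.trans (map_zero _).symm), fun hx => by rw [hx, map_zero]⟩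
    have h5 : RingHom.ker (f.appLE U V e₃.ge).hom = RingHom.ker (f.app U).hom := by
      have h6 : f.appLE U V e₃.ge = f.app U ≫ Y.presheaf.map (eqToHom e₃.symm).op := rfl
      have hiso' : IsIso (Y.presheaf.map (eqToHom e₃.symm).op) := isIso_map_eqToHom_op _
      have hbij' : Function.Bijective (Y.presheaf.map (eqToHom e₃.symm).op).hom :=
        (ConcreteCategory.isIso_iff_bijective _).mp hiso'
      rw [h6, CommRingCat.hom_comp]
      ext x
      simp only [RingHom.mem_ker, RingHom.comp_apply]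
      exact ⟨fun hx => hbij'.injective (hx.trans (map_zero _).symm),
        fun hx => by rw [hx, map_zero]⟩
    rw [h4, h5]
    exact ker_infNbhdι_app f n ⟨U, hU⟩

end FiniteSection

section Main
variable {X Y : Scheme.{u}} (g : X ⟶ Y) (f : Y ⟶ X) (hf : f ≫ g = 𝟙 Y) [IsClosedImmersion f]
  [LocallyOfFiniteType g] (n : ℕ)

include hf in
theorem isFinite_infNbhd : IsFinite (infNbhdι f n ≫ g) := by
  choose V U hyV hV hU e₁ e₃ using exists_section_chart g f hf
  refine HasAffineProperty.of_iSup_eq_top (P := @IsFinite)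
    (fun y : Y => (⟨V y, hV y⟩ : Y.affineOpens)) ?_ ?_
  · rw [eq_top_iff]
    intro y _
    exact Opens.mem_iSup.mpr ⟨y, hyV y⟩
  · intro y
    have eW := preimage_comp_eq g f hf n (e₃ y)
    refine ⟨?_, finite_appTop_restrict _ _ (finite_app_comp g f hf n (e₁ y) (e₃ y) (hV y) (hU y))⟩
    have hA : IsAffineOpen ((infNbhdι f n ≫ g) ⁻¹ᵁ V y) := by
      rw [eW]; exact (hU y).preimage (infNbhdι f n)
    exact hA

end Main

end Groth.Agent.Lib.helper21.PrinPart
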