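import Groth.Agent.Lib.Helper21.GrBC2
import Groth.Agent.Lib.Helper21.GrBCAlg3
import Groth.Agent.Lib.Helper21.PrinPart10
import Groth.Agent.Lib.Helper8.FlatSections

/-!
# Graded pieces and base change for a section (helper21, S5963/S5964)

`g : X ⟶ Y` with a section `f` (a closed immersion), base change along `u : Y' ⟶ Y`.
-/

set_option autoImplicit false
set_option linter.style.haveILetI false
universe u
open CategoryTheory CategoryTheory.Limits AlgebraicGeometry TopologicalSpace Opposite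

namespace Groth.Agent.Lib.helper21.GrBC

open _root_.PrinPart Scheme.IdealSheafData Scheme.Modules
open Groth.Agent.Lib.helper8.PullbackUnit Groth.Agent.Lib.helper21.GrBCAlg
open Groth.Agent.Lib.helper7

section Charts'
variable {Y X Y' X' : Scheme.{u}} (f : Y ⟶ X) [IsClosedImmersion f]
  (v : X' ⟶ X) (u : Y' ⟶ Y) (f' : Y' ⟶ X') (hsq : IsPullback u f' f v) (n : ℕ)
  (φ : (Scheme.Modules.pullback u).obj (grMod f n) ⟶ grMod f' n)
  (hφ : IsGrMap f' f v u n φ)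

include hsq hφ in
/-- criterion for `φ` to be an isomorphism, with a family of charts -/
theorem isIso_grMap_of_charts' {ι : Type*} (c : ι → Chart2 v)
    (hcov : ∀ y' : Y', ∃ i, f' y' ∈ (c i).1.2.1)
    (hμ : ∀ i, letI := (chartψ v (c i)).toAlgebra
      Function.Injective (idealMu (B' := Γ(X', (c i).1.2.1)) ((f.ker ^ n).ideal (c i).1.1))) :
    IsIso φ := by
  haveI := isClosedImmersion_of_isPullback f v u f' hsq
  haveI : ((Scheme.Modules.pullback u).obj (grMod f n)).IsQuasicoherent :=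
    Groth.Agent.Lib.helper16.QCohPullback.isQuasicoherent_pullback u _
  exact KerSections.isIso_of_bijective_cover φ
    (fun i : ι => f' ⁻¹ᵁ (c i).1.2.1) (fun i => (c i).1.2.2.preimage f') hcov
    (fun i => chart_bijective f v u f' hsq n φ hφ (c i) (hμ i))

end Charts'

section SecChart
variable {X Y X' Y' : Scheme.{u}} (g : X ⟶ Y) (f : Y ⟶ X) [IsClosedImmersion f]
  (hf : f ≫ g = 𝟙 Y)

include hf in
theorem appLE_retract (U : X.Opens) (e₁ : U ≤ g ⁻¹ᵁ (f ⁻¹ᵁ U)) (a : Γ(Y, f ⁻¹ᵁ U)) :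
    (f.appLE U (f ⁻¹ᵁ U) le_rfl).hom ((g.appLE (f ⁻¹ᵁ U) U e₁).hom a) = a := by
  have h1 := Scheme.Hom.appLE_comp_appLE f g (f ⁻¹ᵁ U) U (f ⁻¹ᵁ U) e₁ le_rfl
  have h2 := appLE_of_eq hf (f ⁻¹ᵁ U) (f ⁻¹ᵁ U)
    (le_rfl.trans ((Opens.map f.base).map (homOfLE e₁)).le)
  have h3 : g.appLE (f ⁻¹ᵁ U) U e₁ ≫ f.appLE U (f ⁻¹ᵁ U) le_rfl = 𝟙 _ := by
    rw [h1, h2]
    simp only [Scheme.Hom.appLE, Scheme.Hom.id_app, Category.id_comp]
    exact Y.presheaf.map_id _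
  exact congr($(h3).hom a)

theorem ideal_ker_pow (k : ℕ) (U : X.affineOpens) :
    (f.ker ^ k).ideal U = (RingHom.ker (f.appLE U.1 (f ⁻¹ᵁ U.1) le_rfl).hom) ^ k := by
  rw [ideal_pow, Pi.pow_apply, Scheme.Hom.ker_apply, Scheme.Hom.app_eq_appLE]

include hf in
theorem flat_quot_ideal (n : ℕ) (U : X.affineOpens) (e₁ : U.1 ≤ g ⁻¹ᵁ (f ⁻¹ᵁ U.1))
    (hflat : ∀ k, 1 ≤ k → k < n → FlatMod.IsFlat (grMod f k)) :
    letI := (g.appLE (f ⁻¹ᵁ U.1) U.1 e₁).hom.toAlgebra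
    Module.Flat Γ(Y, f ⁻¹ᵁ U.1) (Γ(X, U.1) ⧸ (f.ker ^ n).ideal U) := by
  letI := (g.appLE (f ⁻¹ᵁ U.1) U.1 e₁).hom.toAlgebra
  have hV : IsAffineOpen (f ⁻¹ᵁ U.1) := U.2.preimage f
  rw [ideal_ker_pow f n U]
  refine flat_quot_pow (f.appLE U.1 (f ⁻¹ᵁ U.1) le_rfl).hom (appLE_retract g f hf U.1 e₁) n ?_
  intro k hk1 hkn
  have hq := isBC_ρ f U.2 hV le_rfl (ClSub.idealMod (f.ker ^ k))
  let eN : ↥((RingHom.ker (f.appLE U.1 (f ⁻¹ᵁ U.1) le_rfl).hom) ^ k) ≃ₗ[Γ(X, U.1)]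
      Γ(ClSub.idealMod (f.ker ^ k), U.1) :=
    (LinearEquiv.ofEq _ _ (ideal_ker_pow f k U).symm).trans (IdealMod.sectionsEquiv (f.ker ^ k) U).symm
  have hq' := hq.of_equiv eN (LinearEquiv.refl _ _)
    ((ρ f (le_refl (f ⁻¹ᵁ U.1)) (ClSub.idealMod (f.ker ^ k))).comp eN.toLinearMap.toAddMonoidHom)
    (fun _ => rfl)
  haveI : Module.Flat Γ(Y, f ⁻¹ᵁ U.1) Γ(grMod f k, f ⁻¹ᵁ U.1) :=
    (Groth.Agent.Lib.helper8.FlatSections.isFlat_iff_flat_sections (grMod f k)).mp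
      (hflat k hk1 hkn) _ hV
  exact ⟨Γ(grMod f k, f ⁻¹ᵁ U.1), inferInstance, inferInstance, _, hq', inferInstance⟩

end SecChart

section SecMain
variable {X Y X' Y' : Scheme.{u}} (g : X ⟶ Y) (f : Y ⟶ X) [IsClosedImmersion f]
  (hf : f ≫ g = 𝟙 Y) (u : Y' ⟶ Y) (v : X' ⟶ X) (g' : X' ⟶ Y')
  (hsq : IsPullback v g' g u) (f' : Y' ⟶ X') (hf' : f' ≫ g' = 𝟙 Y') (hf'v : f' ≫ v = u ≫ f)

include hf hsq hf' hf'v in
theorem isPullback_section : IsPullback u f' f v := by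
  have hbig : IsPullback (f' ≫ g') u u (f ≫ g) := by
    rw [hf, hf']
    exact IsPullback.id_horiz u
  exact (IsPullback.of_right hbig hf'v hsq.flip).flip

include hf hsq hf' hf'v in
theorem exists_chart_section (n : ℕ)
    (hflat : ∀ k, 1 ≤ k → k < n → FlatMod.IsFlat (grMod f k)) (y' : Y') :
    ∃ c : Chart2 v, f' y' ∈ c.1.2.1 ∧
      (letI := (chartψ v c).toAlgebra
       Function.Injective (idealMu (B' := Γ(X', c.1.2.1)) ((f.ker ^ n).ideal c.1.1))) := by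
  obtain ⟨V, U, hyV, hV, hU, e₁, e₃⟩ :=
    Groth.Agent.Lib.helper21.PrinPart.exists_section_chart g f hf (u y')
  subst e₃
  obtain ⟨_, ⟨V'', hV'', rfl⟩, hyV'', hVV''⟩ := Y'.isBasis_affineOpens.exists_subset_of_mem_open
    (show y' ∈ ((u ⁻¹ᵁ (f ⁻¹ᵁ U) : Y'.Opens) : Set Y') from hyV) (u ⁻¹ᵁ (f ⁻¹ᵁ U)).2
  have hUST : V'' ≤ u ⁻¹ᵁ (f ⁻¹ᵁ U) := hVV''
  have hU' : IsAffineOpen (v ⁻¹ᵁ U ⊓ g' ⁻¹ᵁ V'') := by
    have : IsAffine (f ⁻¹ᵁ U : Y.Opens) := hV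
    have : IsAffine V'' := hV''
    have : IsAffine U := hU
    exact .of_isIso (Scheme.Hom.isPullback_resLE hsq hUST e₁ rfl).isoPullback.hom
  refine ⟨⟨(⟨U, hU⟩, ⟨v ⁻¹ᵁ U ⊓ g' ⁻¹ᵁ V'', hU'⟩), inf_le_left⟩, ⟨?_, ?_⟩, ?_⟩
  · change (f' ≫ v) y' ∈ U
    rw [hf'v]
    exact hyV
  · change (f' ≫ g') y' ∈ V''
    rw [hf']
    exact hyV''
  · have hpo := ((isIso_pushoutSection_iff hsq hUST e₁ rfl).mp
      (isIso_pushoutSection_of_isAffineOpen hsq hUST e₁ rfl hV hV'' hU)).flip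
    exact idealMu_injective_of_catPushout _ _ _ _ hpo _
      (flat_quot_ideal g f hf n ⟨U, hU⟩ e₁ hflat)

include hf hsq hf' hf'v in
/-- S5964 (and S5963 for `n = 1`) -/
theorem isIso_grMap_of_section (n : ℕ)
    (hflat : ∀ k, 1 ≤ k → k < n → FlatMod.IsFlat (grMod f k))
    (φ : (Scheme.Modules.pullback u).obj (grMod f n) ⟶ grMod f' n)
    (hφ : IsGrMap f' f v u n φ) : IsIso φ := by
  have hpb := isPullback_section g f hf u v g' hsq f' hf' hf'v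
  choose c hc hμ using exists_chart_section g f hf u v g' hsq f' hf' hf'v n hflat
  exact isIso_grMap_of_charts' f v u f' hpb n φ hφ c (fun y' => ⟨y', hc y'⟩) hμ

end SecMain

end Groth.Agent.Lib.helper21.GrBC
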