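import Mathlib
import Groth.Prelude.Def_Grpd

/-!
# Groupoid schemes: T-point lemmas and products of scheme-theoretically dominant morphisms (helper21)

* `isSchemeTheoreticallyDominant_pullback_map`: over a base over which everything is flat, the fibre
  product of two quasi-compact scheme-theoretically dominant morphisms is scheme-theoretically dominant.
* `eq_e_of_idem`, `eq_i_of_comp`: uniqueness of identities and inverses on `T`-points of a groupoid scheme.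
* `hom_e`, `hom_i`: a morphism of groupoid schemes is compatible with identities and inverses.
-/

set_option autoImplicit false
set_option linter.style.haveILetI false

universe u

open CategoryTheory CategoryTheory.Limits AlgebraicGeometry

namespace Groth.Agent.Lib.helper21.GrpdImage

section Prod

variable {X₁ X₂ Y₁ Y₂ B : Scheme.{u}} (a₁ : X₁ ⟶ Y₁) (a₂ : X₂ ⟶ Y₂) (p₁ : Y₁ ⟶ B) (p₂ : Y₂ ⟶ B)

theorem isSchemeTheoreticallyDominant_pullback_map
    [IsSchemeTheoreticallyDominant a₁] [QuasiCompact a₁]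
    [IsSchemeTheoreticallyDominant a₂] [QuasiCompact a₂] [Flat p₁] [Flat (a₂ ≫ p₂)] :
    IsSchemeTheoreticallyDominant
      (pullback.map (a₁ ≫ p₁) (a₂ ≫ p₂) p₁ p₂ a₁ a₂ (𝟙 B) (by simp) (by simp)) := by
  let d₁ : pullback (a₁ ≫ p₁) (a₂ ≫ p₂) ⟶ pullback p₁ (a₂ ≫ p₂) :=
    pullback.map (a₁ ≫ p₁) (a₂ ≫ p₂) p₁ (a₂ ≫ p₂) a₁ (𝟙 X₂) (𝟙 B) (by simp) (by simp)
  let d₂ : pullback p₁ (a₂ ≫ p₂) ⟶ pullback p₁ p₂ :=
    pullback.map p₁ (a₂ ≫ p₂) p₁ p₂ (𝟙 Y₁) a₂ (𝟙 B) (by simp) (by simp)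
  have hd : pullback.map (a₁ ≫ p₁) (a₂ ≫ p₂) p₁ p₂ a₁ a₂ (𝟙 B) (by simp) (by simp) = d₁ ≫ d₂ := by
    apply pullback.hom_ext <;> simp [d₁, d₂, pullback.lift_fst, pullback.lift_snd, pullback.lift_fst_assoc, pullback.lift_snd_assoc]
  have H₁ : IsPullback (pullback.fst (a₁ ≫ p₁) (a₂ ≫ p₂)) d₁ a₁ (pullback.fst p₁ (a₂ ≫ p₂)) := by
    refine IsPullback.of_bot ?_ (by simp [d₁, pullback.lift_fst, pullback.lift_snd]) (IsPullback.of_hasPullback p₁ (a₂ ≫ p₂))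
    have : d₁ ≫ pullback.snd p₁ (a₂ ≫ p₂) = pullback.snd (a₁ ≫ p₁) (a₂ ≫ p₂) := by simp [d₁, pullback.lift_fst, pullback.lift_snd]
    rw [this]
    exact IsPullback.of_hasPullback (a₁ ≫ p₁) (a₂ ≫ p₂)
  have H₂ : IsPullback (pullback.snd p₁ (a₂ ≫ p₂)) d₂ a₂ (pullback.snd p₁ p₂) := by
    refine IsPullback.of_bot ?_ (by simp [d₂, pullback.lift_fst, pullback.lift_snd]) (IsPullback.of_hasPullback p₁ p₂).flip
    have : d₂ ≫ pullback.fst p₁ p₂ = pullback.fst p₁ (a₂ ≫ p₂) := by simp [d₂, pullback.lift_fst, pullback.lift_snd]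
    rw [this]
    exact (IsPullback.of_hasPullback p₁ (a₂ ≫ p₂)).flip
  haveI : IsSchemeTheoreticallyDominant d₁ := IsSchemeTheoreticallyDominant.of_isPullback H₁
  haveI : IsSchemeTheoreticallyDominant d₂ := IsSchemeTheoreticallyDominant.of_isPullback H₂
  rw [hd]
  infer_instance

end Prod

section Points

variable {S : Scheme.{u}} (G : Grpd.GroupoidScheme S)

theorem lift_c_congr {T : Scheme.{u}} {α α' β β' : T ⟶ G.R} (hα : α = α') (hβ : β = β')
    (h : α ≫ G.s = β ≫ G.t) (h' : α' ≫ G.s = β' ≫ G.t) :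
    pullback.lift α β h ≫ G.c = pullback.lift α' β' h' ≫ G.c := by
  subst hα hβ
  rfl

/-- an idempotent arrow is an identity -/
theorem eq_e_of_idem {T : Scheme.{u}} (ε : T ⟶ G.R) (h : ε ≫ G.s = ε ≫ G.t)
    (hid : pullback.lift ε ε h ≫ G.c = ε) : ε = ε ≫ G.t ≫ G.e := by
  have h₂ : ε ≫ G.s = (ε ≫ G.i) ≫ G.t := by rw [Category.assoc, G.i_t]
  have hassoc := G.assoc ε ε (ε ≫ G.i) h h₂
  have hL : pullback.lift (pullback.lift ε ε h ≫ G.c) (ε ≫ G.i) ((G.comp_s ε ε h).trans h₂) ≫ G.c =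
      ε ≫ G.t ≫ G.e := by
    rw [lift_c_congr G hid rfl _ (by rw [Category.assoc, G.i_t])]
    exact G.comp_i ε
  have hR : pullback.lift ε (pullback.lift ε (ε ≫ G.i) h₂ ≫ G.c)
      (h.trans (G.comp_t ε (ε ≫ G.i) h₂).symm) ≫ G.c = ε := by
    have e1 : pullback.lift ε (ε ≫ G.i) h₂ ≫ G.c = ε ≫ G.s ≫ G.e := by
      rw [G.comp_i ε, ← Category.assoc, ← h, Category.assoc]
    rw [lift_c_congr G rfl e1 _
      (by rw [Category.assoc, Category.assoc, G.e_t, Category.comp_id])]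
    exact G.comp_e ε
  exact hR.symm.trans (hassoc.symm.trans hL)

/-- a right inverse is the inverse -/
theorem eq_i_of_comp {T : Scheme.{u}} (α β : T ⟶ G.R) (h : α ≫ G.s = β ≫ G.t)
    (hid : pullback.lift α β h ≫ G.c = α ≫ G.t ≫ G.e) : β = α ≫ G.i := by
  have h₁ : (α ≫ G.i) ≫ G.s = α ≫ G.t := by rw [Category.assoc, G.i_s]
  have hassoc := G.assoc (α ≫ G.i) α β h₁ h
  have hL : pullback.lift (pullback.lift (α ≫ G.i) α h₁ ≫ G.c) β
      ((G.comp_s (α ≫ G.i) α h₁).trans h) ≫ G.c = β := by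
    have e1 : pullback.lift (α ≫ G.i) α h₁ ≫ G.c = β ≫ G.t ≫ G.e := by
      rw [G.i_comp α, ← Category.assoc, h, Category.assoc]
    rw [lift_c_congr G e1 rfl _
      (by rw [Category.assoc, Category.assoc, G.e_s, Category.comp_id])]
    exact G.e_comp β
  have hR : pullback.lift (α ≫ G.i) (pullback.lift α β h ≫ G.c)
      (h₁.trans (G.comp_t α β h).symm) ≫ G.c = α ≫ G.i := by
    have e1 : pullback.lift α β h ≫ G.c = (α ≫ G.i) ≫ G.s ≫ G.e := by
      rw [hid, Category.assoc, ← Category.assoc G.i, G.i_s]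
    rw [lift_c_congr G rfl e1 _
      (by simp only [Category.assoc, G.e_t, Category.comp_id])]
    exact G.comp_e (α ≫ G.i)
  exact hL.symm.trans (hassoc.trans hR)

end Points

section Hom

variable {S : Scheme.{u}} {G₁ G₂ : Grpd.GroupoidScheme S} (f : Grpd.GroupoidScheme.Hom G₁ G₂)

theorem hom_e : G₁.e ≫ f.fR = f.fU ≫ G₂.e := by
  have hs : (G₁.e ≫ f.fR) ≫ G₂.s = f.fU := by
    rw [Category.assoc, f.comm_s, ← Category.assoc, G₁.e_s, Category.id_comp]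
  have ht : (G₁.e ≫ f.fR) ≫ G₂.t = f.fU := by
    rw [Category.assoc, f.comm_t, ← Category.assoc, G₁.e_t, Category.id_comp]
  have h₁ : G₁.e ≫ G₁.s = G₁.e ≫ G₁.t := by rw [G₁.e_s, G₁.e_t]
  have hee : pullback.lift G₁.e G₁.e h₁ ≫ G₁.c = G₁.e := by
    have := G₁.comp_e G₁.e
    rw [← lift_c_congr G₁ rfl (by rw [← Category.assoc, G₁.e_s, Category.id_comp]) h₁ _] at this
    exact this
  have hid : pullback.lift (G₁.e ≫ f.fR) (G₁.e ≫ f.fR) (hs.trans ht.symm) ≫ G₂.c = G₁.e ≫ f.fR := by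
    rw [← f.comm_c G₁.e G₁.e h₁, hee]
  have := eq_e_of_idem G₂ (G₁.e ≫ f.fR) (hs.trans ht.symm) hid
  rw [this, ← Category.assoc, ht]

theorem hom_i : G₁.i ≫ f.fR = f.fR ≫ G₂.i := by
  have h : f.fR ≫ G₂.s = (G₁.i ≫ f.fR) ≫ G₂.t := by
    rw [Category.assoc, f.comm_t, ← Category.assoc, G₁.i_t, f.comm_s]
  have h₁ : (𝟙 G₁.R) ≫ G₁.s = G₁.i ≫ G₁.t := by rw [Category.id_comp, G₁.i_t]
  have hid : pullback.lift f.fR (G₁.i ≫ f.fR) h ≫ G₂.c = f.fR ≫ G₂.t ≫ G₂.e := by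
    have e1 := f.comm_c (𝟙 G₁.R) G₁.i h₁
    rw [lift_c_congr G₂ (Category.id_comp f.fR) rfl _ h] at e1
    rw [← e1]
    have e2 := G₁.comp_i (𝟙 G₁.R)
    rw [lift_c_congr G₁ rfl (Category.id_comp G₁.i) _ h₁] at e2
    rw [e2, Category.id_comp, Category.assoc, hom_e f, ← Category.assoc, ← f.comm_t, Category.assoc]
  exact eq_i_of_comp G₂ f.fR (G₁.i ≫ f.fR) h hid

end Hom

end Groth.Agent.Lib.helper21.GrpdImage
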