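import Mathlib
import Groth.Agent.Lib.Helper21.GrpdImage1
import Groth.Agent.Lib.Helper21.FlatClosure1

/-!
# The scheme-theoretic image of a morphism of groupoid schemes over a field (helper21)

`f : G₁ ⟶ G₂` a morphism of groupoid schemes over `S` which is an isomorphism on objects and quasi-compact
on arrows, and such that every morphism to `G₂.U` is flat (e.g. `G₂.U` is the spectrum of a field).
Then the scheme-theoretic image `Z` of `f.fR` carries a groupoid structure `imageGroupoid` making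
`Z ⟶ G₂.R` a morphism of groupoid schemes `imageHom`.
-/

set_option autoImplicit false
set_option linter.style.haveILetI false
set_option linter.unusedSectionVars false

universe u

open CategoryTheory CategoryTheory.Limits AlgebraicGeometry

namespace Groth.Agent.Lib.helper21.GrpdImage

/-- every morphism to (a scheme isomorphic to) the spectrum of a field is flat -/
theorem flat_of_iso_spec_field {U W : Scheme.{u}} (k : Type u) [Field k]
    (eU : U ≅ Spec (CommRingCat.of k)) (h : W ⟶ U) : Flat h := by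
  haveI : Flat (h ≫ eU.hom) := inferInstance
  have : h = (h ≫ eU.hom) ≫ eU.inv := by simp
  rw [this]
  infer_instance

section Main

variable {S : Scheme.{u}} {G₁ G₂ : Grpd.GroupoidScheme S} (f : Grpd.GroupoidScheme.Hom G₁ G₂)

/-- source on the image -/
noncomputable def sZ : f.fR.image ⟶ G₂.U := f.fR.imageι ≫ G₂.s

/-- target on the image -/
noncomputable def tZ : f.fR.image ⟶ G₂.U := f.fR.imageι ≫ G₂.t

/-- composition on the image, as a map to `G₂.R` -/
noncomputable def gZ : pullback (sZ f) (tZ f) ⟶ G₂.R :=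
  pullback.map (sZ f) (tZ f) G₂.s G₂.t f.fR.imageι f.fR.imageι (𝟙 _)
    (by simp [sZ]) (by simp [tZ]) ≫ G₂.c

theorem lift_gZ {T : Scheme.{u}} (α β : T ⟶ f.fR.image) (h : α ≫ sZ f = β ≫ tZ f) :
    pullback.lift α β h ≫ gZ f =
      pullback.lift (α ≫ f.fR.imageι) (β ≫ f.fR.imageι)
        (by simpa only [sZ, tZ, Category.assoc] using h) ≫ G₂.c := by
  unfold gZ
  rw [← Category.assoc]
  congr 1
  apply pullback.hom_ext <;>
    simp only [Category.assoc, pullback.lift_fst, pullback.lift_snd, pullback.lift_fst_assoc,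
      pullback.lift_snd_assoc]

theorem toImage_sZ : f.fR.toImage ≫ sZ f = G₁.s ≫ f.fU := by
  rw [sZ, ← Category.assoc, f.fR.toImage_imageι, f.comm_s]

theorem toImage_tZ : f.fR.toImage ≫ tZ f = G₁.t ≫ f.fU := by
  rw [tZ, ← Category.assoc, f.fR.toImage_imageι, f.comm_t]

variable [IsIso f.fU] [QuasiCompact f.fR] (hflat : ∀ {W : Scheme.{u}} (h : W ⟶ G₂.U), Flat h)

include hflat in
theorem ker_le_gZ : f.fR.imageι.ker ≤ (gZ f).ker := by
  haveI : Flat (sZ f) := hflat _
  haveI : Flat (f.fR.toImage ≫ tZ f) := hflat _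
  have hd := isSchemeTheoreticallyDominant_pullback_map f.fR.toImage f.fR.toImage (sZ f) (tZ f)
  have hθ : pullback.fst (f.fR.toImage ≫ sZ f) (f.fR.toImage ≫ tZ f) ≫ G₁.s =
      pullback.snd (f.fR.toImage ≫ sZ f) (f.fR.toImage ≫ tZ f) ≫ G₁.t := by
    rw [← cancel_mono f.fU, Category.assoc, Category.assoc, ← toImage_sZ, ← toImage_tZ]
    exact pullback.condition
  have hcomp : pullback.map (f.fR.toImage ≫ sZ f) (f.fR.toImage ≫ tZ f) (sZ f) (tZ f)
      f.fR.toImage f.fR.toImage (𝟙 _) (by simp) (by simp) ≫ gZ f =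
      (pullback.lift (pullback.fst _ _) (pullback.snd _ _) hθ ≫ G₁.c) ≫ f.fR := by
    rw [f.comm_c _ _ hθ, lift_gZ]
    exact lift_c_congr G₂ (by rw [Category.assoc, f.fR.toImage_imageι])
      (by rw [Category.assoc, f.fR.toImage_imageι]) _ _
  calc f.fR.imageι.ker = f.fR.ker := Scheme.IdealSheafData.ker_subschemeι _
    _ ≤ ((pullback.lift (pullback.fst _ _) (pullback.snd _ _) hθ ≫ G₁.c) ≫ f.fR).ker :=
        Scheme.Hom.le_ker_comp _ _
    _ = (pullback.map (f.fR.toImage ≫ sZ f) (f.fR.toImage ≫ tZ f) (sZ f) (tZ f)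
          f.fR.toImage f.fR.toImage (𝟙 _) (by simp) (by simp) ≫ gZ f).ker := by rw [hcomp]
    _ = (gZ f).ker := by
        rw [Scheme.Hom.ker_comp, hd.ker_eq_bot, Scheme.IdealSheafData.map_bot]

/-- composition on the image -/
noncomputable def cZ : pullback (sZ f) (tZ f) ⟶ f.fR.image :=
  IsClosedImmersion.lift f.fR.imageι (gZ f) (ker_le_gZ f hflat)

theorem cZ_ι : cZ f hflat ≫ f.fR.imageι = gZ f :=
  IsClosedImmersion.lift_fac _ _ _

theorem lift_cZ_ι {T : Scheme.{u}} (α β : T ⟶ f.fR.image) (h : α ≫ sZ f = β ≫ tZ f) :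
    (pullback.lift α β h ≫ cZ f hflat) ≫ f.fR.imageι =
      pullback.lift (α ≫ f.fR.imageι) (β ≫ f.fR.imageι)
        (by simpa only [sZ, tZ, Category.assoc] using h) ≫ G₂.c := by
  rw [Category.assoc, cZ_ι, lift_gZ]

/-- identity on the image -/
noncomputable def eZ : G₂.U ⟶ f.fR.image := inv f.fU ≫ G₁.e ≫ f.fR.toImage

theorem eZ_ι : eZ f ≫ f.fR.imageι = G₂.e := by
  rw [eZ, Category.assoc, Category.assoc, f.fR.toImage_imageι, hom_e f, IsIso.inv_hom_id_assoc]

theorem ker_le_i : f.fR.imageι.ker ≤ (f.fR.imageι ≫ G₂.i).ker := by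
  have hd : IsSchemeTheoreticallyDominant f.fR.toImage := inferInstance
  calc f.fR.imageι.ker = f.fR.ker := Scheme.IdealSheafData.ker_subschemeι _
    _ ≤ (G₁.i ≫ f.fR).ker := Scheme.Hom.le_ker_comp _ _
    _ = (f.fR.toImage ≫ f.fR.imageι ≫ G₂.i).ker := by
        rw [hom_i f, ← Category.assoc, f.fR.toImage_imageι]
    _ = (f.fR.imageι ≫ G₂.i).ker := by
        rw [Scheme.Hom.ker_comp, hd.ker_eq_bot, Scheme.IdealSheafData.map_bot]

/-- inverse on the image -/
noncomputable def iZ : f.fR.image ⟶ f.fR.image :=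
  IsClosedImmersion.lift f.fR.imageι (f.fR.imageι ≫ G₂.i) (ker_le_i f)

theorem iZ_ι : iZ f ≫ f.fR.imageι = f.fR.imageι ≫ G₂.i :=
  IsClosedImmersion.lift_fac _ _ _

end Main

end Groth.Agent.Lib.helper21.GrpdImage
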