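import Mathlib
import Groth.Agent.Lib.Helper21.GrpdImage2

/-!
# The groupoid structure on the scheme-theoretic image (helper21)

`imageGroupoid f hflat`, `imageHom f hflat`, see `GrpdImage2`.
-/

set_option autoImplicit false
set_option linter.style.haveILetI false
set_option linter.unusedSectionVars false

universe u

open CategoryTheory CategoryTheory.Limits AlgebraicGeometry

namespace Groth.Agent.Lib.helper21.GrpdImage

variable {S : Scheme.{u}} {G₁ G₂ : Grpd.GroupoidScheme S} (f : Grpd.GroupoidScheme.Hom G₁ G₂)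
  [IsIso f.fU] [QuasiCompact f.fR] (hflat : ∀ {W : Scheme.{u}} (h : W ⟶ G₂.U), Flat h)

/-- the groupoid structure on the scheme-theoretic image of `f.fR` -/
noncomputable def imageGroupoid : Grpd.GroupoidScheme S where
  U := G₂.U
  R := f.fR.image
  pU := G₂.pU
  pR := f.fR.imageι ≫ G₂.pR
  s := sZ f
  t := tZ f
  e := eZ f
  i := iZ f
  c := cZ f hflat
  s_over := by rw [sZ, Category.assoc, G₂.s_over]
  t_over := by rw [tZ, Category.assoc, G₂.t_over]
  comp_s := by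
    intro T α β h
    show (pullback.lift α β h ≫ cZ f hflat) ≫ (f.fR.imageι ≫ G₂.s) = β ≫ (f.fR.imageι ≫ G₂.s)
    rw [← Category.assoc, lift_cZ_ι, G₂.comp_s, Category.assoc]
  comp_t := by
    intro T α β h
    show (pullback.lift α β h ≫ cZ f hflat) ≫ (f.fR.imageι ≫ G₂.t) = α ≫ (f.fR.imageι ≫ G₂.t)
    rw [← Category.assoc, lift_cZ_ι, G₂.comp_t, Category.assoc]
  assoc := by
    intro T α β γ h₁ h₂
    rw [← cancel_mono f.fR.imageι]
    refine (lift_cZ_ι f hflat _ _ _).trans (Eq.trans ?_ (lift_cZ_ι f hflat _ _ _).symm)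
    exact (lift_c_congr G₂ (lift_cZ_ι f hflat α β h₁) rfl _ _).trans
      ((G₂.assoc (α ≫ f.fR.imageι) (β ≫ f.fR.imageι) (γ ≫ f.fR.imageι)
        (by simpa only [sZ, tZ, Category.assoc] using h₁)
        (by simpa only [sZ, tZ, Category.assoc] using h₂)).trans
        (lift_c_congr G₂ rfl (lift_cZ_ι f hflat β γ h₂).symm _ _))
  e_s := by rw [sZ, ← Category.assoc, eZ_ι, G₂.e_s]
  e_t := by rw [tZ, ← Category.assoc, eZ_ι, G₂.e_t]
  comp_e := by
    intro T α
    rw [← cancel_mono f.fR.imageι, lift_cZ_ι]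
    have e1 : (α ≫ sZ f ≫ eZ f) ≫ f.fR.imageι = (α ≫ f.fR.imageι) ≫ G₂.s ≫ G₂.e := by
      simp only [Category.assoc, eZ_ι, sZ]
    exact (lift_c_congr G₂ rfl e1 _ _).trans (G₂.comp_e (α ≫ f.fR.imageι))
  e_comp := by
    intro T α
    rw [← cancel_mono f.fR.imageι, lift_cZ_ι]
    have e1 : (α ≫ tZ f ≫ eZ f) ≫ f.fR.imageι = (α ≫ f.fR.imageι) ≫ G₂.t ≫ G₂.e := by
      simp only [Category.assoc, eZ_ι, tZ]
    exact (lift_c_congr G₂ e1 rfl _ _).trans (G₂.e_comp (α ≫ f.fR.imageι))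
  i_s := by rw [sZ, ← Category.assoc, iZ_ι, Category.assoc, G₂.i_s, tZ]
  i_t := by rw [tZ, ← Category.assoc, iZ_ι, Category.assoc, G₂.i_t, sZ]
  comp_i := by
    intro T α
    rw [← cancel_mono f.fR.imageι, lift_cZ_ι]
    have e1 : (α ≫ iZ f) ≫ f.fR.imageι = (α ≫ f.fR.imageι) ≫ G₂.i := by
      rw [Category.assoc, iZ_ι, Category.assoc]
    have e2 : (α ≫ tZ f ≫ eZ f) ≫ f.fR.imageι = (α ≫ f.fR.imageι) ≫ G₂.t ≫ G₂.e := by
      simp only [Category.assoc, eZ_ι, tZ]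
    rw [e2]
    exact (lift_c_congr G₂ rfl e1 _ _).trans (G₂.comp_i (α ≫ f.fR.imageι))
  i_comp := by
    intro T α
    rw [← cancel_mono f.fR.imageι, lift_cZ_ι]
    have e1 : (α ≫ iZ f) ≫ f.fR.imageι = (α ≫ f.fR.imageι) ≫ G₂.i := by
      rw [Category.assoc, iZ_ι, Category.assoc]
    have e2 : (α ≫ sZ f ≫ eZ f) ≫ f.fR.imageι = (α ≫ f.fR.imageι) ≫ G₂.s ≫ G₂.e := by
      simp only [Category.assoc, eZ_ι, sZ]
    rw [e2]
    exact (lift_c_congr G₂ e1 rfl _ _).trans (G₂.i_comp (α ≫ f.fR.imageι))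

/-- the inclusion of the image groupoid -/
noncomputable def imageHom : Grpd.GroupoidScheme.Hom (imageGroupoid f hflat) G₂ where
  fU := 𝟙 _
  fR := f.fR.imageι
  fU_over := Category.id_comp _
  comm_s := by
    show f.fR.imageι ≫ G₂.s = sZ f ≫ 𝟙 _
    rw [Category.comp_id, sZ]
  comm_t := by
    show f.fR.imageι ≫ G₂.t = tZ f ≫ 𝟙 _
    rw [Category.comp_id, tZ]
  comm_c := fun α β h => lift_cZ_ι f hflat α β h

include hflat in
theorem exists_image : ∃ (G' : Grpd.GroupoidScheme S) (ψ : Grpd.GroupoidScheme.Hom G' G₂),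
    IsIso ψ.fU ∧ IsClosedImmersion ψ.fR ∧ ψ.fR.ker = f.fR.ker :=
  ⟨imageGroupoid f hflat, imageHom f hflat,
    (inferInstance : IsIso (𝟙 G₂.U)),
    (inferInstance : IsClosedImmersion f.fR.imageι),
    Scheme.IdealSheafData.ker_subschemeι _⟩

end Groth.Agent.Lib.helper21.GrpdImage
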