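import Mathlib
import Groth.Agent.Lib.Helper21.GrpdImage3

/-!
# The morphism of groupoid schemes to the scheme-theoretic image (helper21)

`toImageHom f hflat : Hom G₁ (imageGroupoid f hflat)` with `fU = f.fU`, `fR = f.fR.toImage`.
-/

set_option autoImplicit false
set_option linter.style.haveILetI false
set_option linter.unusedSectionVars false

universe u

open CategoryTheory CategoryTheory.Limits AlgebraicGeometry

namespace Groth.Agent.Lib.helper21.GrpdImage

variable {S : Scheme.{u}} {G₁ G₂ : Grpd.GroupoidScheme S} (f : Grpd.GroupoidScheme.Hom G₁ G₂)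
  [IsIso f.fU] [QuasiCompact f.fR] (hflat : ∀ {W : Scheme.{u}} (h : W ⟶ G₂.U), Flat h)

/-- the morphism from the source groupoid to the image groupoid -/
noncomputable def toImageHom : Grpd.GroupoidScheme.Hom G₁ (imageGroupoid f hflat) where
  fU := f.fU
  fR := f.fR.toImage
  fU_over := f.fU_over
  comm_s := toImage_sZ f
  comm_t := toImage_tZ f
  comm_c := by
    intro T α β h
    have key : ∀ (hh : (α ≫ f.fR.toImage) ≫ sZ f = (β ≫ f.fR.toImage) ≫ tZ f),
        (pullback.lift α β h ≫ G₁.c) ≫ f.fR.toImage =
          pullback.lift (α ≫ f.fR.toImage) (β ≫ f.fR.toImage) hh ≫ cZ f hflat := by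
      intro hh
      rw [← cancel_mono f.fR.imageι, Category.assoc (pullback.lift α β h ≫ G₁.c),
        f.fR.toImage_imageι, f.comm_c α β h, lift_cZ_ι]
      exact lift_c_congr G₂ (by rw [Category.assoc, f.fR.toImage_imageι])
        (by rw [Category.assoc, f.fR.toImage_imageι]) _ _
    exact key _

end Groth.Agent.Lib.helper21.GrpdImage
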