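import Mathlib
import Groth.Agent.Lib.Helper21.GrpdImage1

/-!
# Sub-groupoid schemes (helper21)

`G` a groupoid scheme over `S`, `ι : Z ⟶ G.R` a monomorphism through which the restricted composition,
the identity and the restricted inverse factor. Then `(G.U, Z)` is a groupoid scheme `subGroupoid` and `ι`
a morphism of groupoid schemes `subHom`.
-/

set_option autoImplicit false
set_option linter.style.haveILetI false
set_option linter.unusedSectionVars false

universe u

open CategoryTheory CategoryTheory.Limits AlgebraicGeometry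

namespace Groth.Agent.Lib.helper21.GrpdImage

section Sub

variable {S : Scheme.{u}} (G : Grpd.GroupoidScheme S) {Z : Scheme.{u}} (ι : Z ⟶ G.R)

/-- restricted composition, as a map to `G.R` -/
noncomputable def gSub : pullback (ι ≫ G.s) (ι ≫ G.t) ⟶ G.R :=
  pullback.map (ι ≫ G.s) (ι ≫ G.t) G.s G.t ι ι (𝟙 _) (by simp) (by simp) ≫ G.c

theorem lift_gSub {T : Scheme.{u}} (α β : T ⟶ Z) (h : α ≫ ι ≫ G.s = β ≫ ι ≫ G.t) :
    pullback.lift α β h ≫ gSub G ι =
      pullback.lift (α ≫ ι) (β ≫ ι) (by simpa only [Category.assoc] using h) ≫ G.c := by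
  unfold gSub
  rw [← Category.assoc]
  congr 1
  apply pullback.hom_ext <;>
    simp only [Category.assoc, pullback.lift_fst, pullback.lift_snd, pullback.lift_fst_assoc,
      pullback.lift_snd_assoc]

variable [Mono ι] (cZ : pullback (ι ≫ G.s) (ι ≫ G.t) ⟶ Z) (hc : cZ ≫ ι = gSub G ι)
  (eZ : G.U ⟶ Z) (he : eZ ≫ ι = G.e) (iZ : Z ⟶ Z) (hi : iZ ≫ ι = ι ≫ G.i)

include hc in
theorem lift_cSub_ι {T : Scheme.{u}} (α β : T ⟶ Z) (h : α ≫ ι ≫ G.s = β ≫ ι ≫ G.t) :
    (pullback.lift α β h ≫ cZ) ≫ ι =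
      pullback.lift (α ≫ ι) (β ≫ ι) (by simpa only [Category.assoc] using h) ≫ G.c := by
  rw [Category.assoc, hc, lift_gSub]

/-- the groupoid structure on a sub-object `Z` of `G.R` stable under composition, identity, inverse -/
noncomputable def subGroupoid : Grpd.GroupoidScheme S where
  U := G.U
  R := Z
  pU := G.pU
  pR := ι ≫ G.pR
  s := ι ≫ G.s
  t := ι ≫ G.t
  e := eZ
  i := iZ
  c := cZ
  s_over := by rw [Category.assoc, G.s_over]
  t_over := by rw [Category.assoc, G.t_over]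
  comp_s := by
    intro T α β h
    rw [← Category.assoc, lift_cSub_ι G ι cZ hc, G.comp_s, Category.assoc]
  comp_t := by
    intro T α β h
    rw [← Category.assoc, lift_cSub_ι G ι cZ hc, G.comp_t, Category.assoc]
  assoc := by
    intro T α β γ h₁ h₂
    rw [← cancel_mono ι]
    refine (lift_cSub_ι G ι cZ hc _ _ _).trans (Eq.trans ?_ (lift_cSub_ι G ι cZ hc _ _ _).symm)
    exact (lift_c_congr G (lift_cSub_ι G ι cZ hc α β h₁) rfl _ _).trans
      ((G.assoc (α ≫ ι) (β ≫ ι) (γ ≫ ι)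
        (by simpa only [Category.assoc] using h₁)
        (by simpa only [Category.assoc] using h₂)).trans
        (lift_c_congr G rfl (lift_cSub_ι G ι cZ hc β γ h₂).symm _ _))
  e_s := by rw [← Category.assoc, he, G.e_s]
  e_t := by rw [← Category.assoc, he, G.e_t]
  comp_e := by
    intro T α
    rw [← cancel_mono ι, lift_cSub_ι G ι cZ hc]
    have e1 : (α ≫ (ι ≫ G.s) ≫ eZ) ≫ ι = (α ≫ ι) ≫ G.s ≫ G.e := by
      simp only [Category.assoc, he]
    exact (lift_c_congr G rfl e1 _ _).trans (G.comp_e (α ≫ ι))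
  e_comp := by
    intro T α
    rw [← cancel_mono ι, lift_cSub_ι G ι cZ hc]
    have e1 : (α ≫ (ι ≫ G.t) ≫ eZ) ≫ ι = (α ≫ ι) ≫ G.t ≫ G.e := by
      simp only [Category.assoc, he]
    exact (lift_c_congr G e1 rfl _ _).trans (G.e_comp (α ≫ ι))
  i_s := by rw [← Category.assoc, hi, Category.assoc, G.i_s]
  i_t := by rw [← Category.assoc, hi, Category.assoc, G.i_t]
  comp_i := by
    intro T α
    rw [← cancel_mono ι, lift_cSub_ι G ι cZ hc]
    have e1 : (α ≫ iZ) ≫ ι = (α ≫ ι) ≫ G.i := by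
      rw [Category.assoc, hi, Category.assoc]
    have e2 : (α ≫ (ι ≫ G.t) ≫ eZ) ≫ ι = (α ≫ ι) ≫ G.t ≫ G.e := by
      simp only [Category.assoc, he]
    rw [e2]
    exact (lift_c_congr G rfl e1 _ _).trans (G.comp_i (α ≫ ι))
  i_comp := by
    intro T α
    rw [← cancel_mono ι, lift_cSub_ι G ι cZ hc]
    have e1 : (α ≫ iZ) ≫ ι = (α ≫ ι) ≫ G.i := by
      rw [Category.assoc, hi, Category.assoc]
    have e2 : (α ≫ (ι ≫ G.s) ≫ eZ) ≫ ι = (α ≫ ι) ≫ G.s ≫ G.e := by
      simp only [Category.assoc, he]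
    rw [e2]
    exact (lift_c_congr G e1 rfl _ _).trans (G.i_comp (α ≫ ι))

/-- the inclusion of a sub-groupoid -/
noncomputable def subHom : Grpd.GroupoidScheme.Hom (subGroupoid G ι cZ hc eZ he iZ hi) G where
  fU := 𝟙 _
  fR := ι
  fU_over := Category.id_comp _
  comm_s := by
    show ι ≫ G.s = (ι ≫ G.s) ≫ 𝟙 _
    rw [Category.comp_id]
  comm_t := by
    show ι ≫ G.t = (ι ≫ G.t) ≫ 𝟙 _
    rw [Category.comp_id]
  comm_c := fun α β h => lift_cSub_ι G ι cZ hc α β h

end Sub

end Groth.Agent.Lib.helper21.GrpdImage
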