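import Mathlib
import Groth.Agent.Lib.Helper21.GrpdSub
import Groth.Agent.Lib.Helper14.RedProd
import Groth.Agent.Lib.Helper4.ClosureProper

/-!
# The reduced closure of the image of a morphism of groupoid schemes over a perfect field (helper21)

`f : G₁ ⟶ G₂` a morphism of groupoid schemes over `S`, isomorphism on objects, `G₂.U ≅ Spec k` with `k`
a perfect field. The reduced induced closed subscheme `Z` on the closure of the image of `f.fR` is a
sub-groupoid scheme of `G₂`.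
-/

set_option autoImplicit false
set_option linter.style.haveILetI false
set_option linter.unusedSectionVars false

universe u

open CategoryTheory CategoryTheory.Limits AlgebraicGeometry TopologicalSpace

namespace Groth.Agent.Lib.helper21.GrpdImage

section Dominant

/-- the base change of a map with dense range along an open map has dense range -/
theorem denseRange_snd_of_isPullback {P X Y Y' : Scheme.{u}} {a : X ⟶ Y} {p : Y' ⟶ Y}
    {fst : P ⟶ X} {snd : P ⟶ Y'} (H : IsPullback fst snd a p) (ha : DenseRange a)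
    (hp : IsOpenMap p) : DenseRange snd := by
  rw [DenseRange, dense_iff_inter_open]
  intro V hV hne
  obtain ⟨v, hv⟩ := hne
  obtain ⟨y, ⟨v', hv', hy⟩, ⟨x, hx⟩⟩ := ha.inter_open_nonempty (p '' V) (hp V hV) ⟨p v, v, hv, rfl⟩
  obtain ⟨z, hz1, hz2⟩ := Scheme.Pullback.exists_preimage_pullback (f := a) (g := p) x v'
    (hx.trans hy.symm)
  refine ⟨v', hv', H.isoPullback.inv z, ?_⟩
  rw [← Scheme.Hom.comp_apply, H.isoPullback_inv_snd, hz2]

variable {X₁ X₂ Y₁ Y₂ B : Scheme.{u}} (a₁ : X₁ ⟶ Y₁) (a₂ : X₂ ⟶ Y₂) (p₁ : Y₁ ⟶ B) (p₂ : Y₂ ⟶ B)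

theorem denseRange_pullback_map (h₁ : DenseRange a₁) (h₂ : DenseRange a₂)
    [UniversallyOpen p₁] [UniversallyOpen (a₂ ≫ p₂)] :
    DenseRange (pullback.map (a₁ ≫ p₁) (a₂ ≫ p₂) p₁ p₂ a₁ a₂ (𝟙 B) (by simp) (by simp)) := by
  let d₁ : pullback (a₁ ≫ p₁) (a₂ ≫ p₂) ⟶ pullback p₁ (a₂ ≫ p₂) :=
    pullback.map (a₁ ≫ p₁) (a₂ ≫ p₂) p₁ (a₂ ≫ p₂) a₁ (𝟙 X₂) (𝟙 B) (by simp) (by simp)
  let d₂ : pullback p₁ (a₂ ≫ p₂) ⟶ pullback p₁ p₂ :=
    pullback.map p₁ (a₂ ≫ p₂) p₁ p₂ (𝟙 Y₁) a₂ (𝟙 B) (by simp) (by simp)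
  have hd : pullback.map (a₁ ≫ p₁) (a₂ ≫ p₂) p₁ p₂ a₁ a₂ (𝟙 B) (by simp) (by simp) = d₁ ≫ d₂ := by
    apply pullback.hom_ext <;>
      simp [d₁, d₂, pullback.lift_fst, pullback.lift_snd, pullback.lift_fst_assoc,
        pullback.lift_snd_assoc]
  have H₁ : IsPullback (pullback.fst (a₁ ≫ p₁) (a₂ ≫ p₂)) d₁ a₁ (pullback.fst p₁ (a₂ ≫ p₂)) := by
    refine IsPullback.of_bot ?_ (by simp [d₁, pullback.lift_fst, pullback.lift_snd])
      (IsPullback.of_hasPullback p₁ (a₂ ≫ p₂))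
    have : d₁ ≫ pullback.snd p₁ (a₂ ≫ p₂) = pullback.snd (a₁ ≫ p₁) (a₂ ≫ p₂) := by
      simp [d₁, pullback.lift_fst, pullback.lift_snd]
    rw [this]
    exact IsPullback.of_hasPullback (a₁ ≫ p₁) (a₂ ≫ p₂)
  have H₂ : IsPullback (pullback.snd p₁ (a₂ ≫ p₂)) d₂ a₂ (pullback.snd p₁ p₂) := by
    refine IsPullback.of_bot ?_ (by simp [d₂, pullback.lift_fst, pullback.lift_snd])
      (IsPullback.of_hasPullback p₁ p₂).flip
    have : d₂ ≫ pullback.fst p₁ p₂ = pullback.fst p₁ (a₂ ≫ p₂) := by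
      simp [d₂, pullback.lift_fst, pullback.lift_snd]
    rw [this]
    exact (IsPullback.of_hasPullback p₁ (a₂ ≫ p₂)).flip
  have hd₁ : DenseRange d₁ :=
    denseRange_snd_of_isPullback H₁ h₁ (pullback.fst p₁ (a₂ ≫ p₂)).isOpenMap
  have hd₂ : DenseRange d₂ :=
    denseRange_snd_of_isPullback H₂ h₂ (pullback.snd p₁ p₂).isOpenMap
  rw [hd]
  have := hd₂.comp hd₁ d₂.continuous
  convert this using 1
  ext x
  simp

end Dominant

section Field

/-- every morphism to (a scheme isomorphic to) the spectrum of a field is universally open -/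
theorem universallyOpen_of_iso_spec_field {U W : Scheme.{u}} (k : Type u) [Field k]
    (eU : U ≅ Spec (CommRingCat.of k)) (h : W ⟶ U) : UniversallyOpen h := by
  haveI : UniversallyOpen (h ≫ eU.hom) := inferInstance
  have : h = (h ≫ eU.hom) ≫ eU.inv := by simp
  rw [this]
  infer_instance

/-- fibre products of reduced schemes over (a scheme isomorphic to) a perfect field are reduced -/
theorem isReduced_pullback_of_iso_spec_perfectField {U X Y : Scheme.{u}} (k : Type u) [Field k]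
    [PerfectField k] (eU : U ≅ Spec (CommRingCat.of k)) (p : X ⟶ U) (q : Y ⟶ U)
    [IsReduced X] [IsReduced Y] : IsReduced (pullback p q) := by
  haveI := Groth.Agent.Lib.Helper14.RedProd.isReduced_pullback_of_perfectField
    (p ≫ eU.hom) (q ≫ eU.hom)
  exact isReduced_of_isOpenImmersion
    (pullback.map p q (p ≫ eU.hom) (q ≫ eU.hom) (𝟙 _) (𝟙 _) eU.hom (by simp) (by simp))

end Field

end Groth.Agent.Lib.helper21.GrpdImage
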