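import Mathlib
import Groth.Agent.Lib.Helper21.GrpdRed

/-!
# The reduced closure of the image of a morphism of groupoid schemes over a perfect field, part 2 (helper21)

`exists_reduced_image`: see `GrpdRed`.
-/

set_option autoImplicit false
set_option linter.style.haveILetI false
set_option linter.unusedSectionVars false

universe u

open CategoryTheory CategoryTheory.Limits AlgebraicGeometry TopologicalSpace

namespace Groth.Agent.Lib.helper21.GrpdImage

open Groth.Agent.Lib.helper4.ClosureProper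

variable {S : Scheme.{u}} {G₁ G₂ : Grpd.GroupoidScheme S} (f : Grpd.GroupoidScheme.Hom G₁ G₂)
  [IsIso f.fU] (k : Type u) [Field k] [PerfectField k] (eU : G₂.U ≅ Spec (CommRingCat.of k))

include eU in
theorem exists_reduced_image :
    ∃ (G' : Grpd.GroupoidScheme S) (ψ : Grpd.GroupoidScheme.Hom G' G₂), IsIso ψ.fU ∧
      IsClosedImmersion ψ.fR ∧ IsReduced G'.R ∧
      Set.range ⇑ψ.fR = closure (Set.range ⇑f.fR) := by
  classical
  let C : Closeds G₂.R := Closeds.closure (Set.range f.fR)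
  have hCcoe : (C : Set G₂.R) = closure (Set.range f.fR) := rfl
  let ι := (Scheme.IdealSheafData.vanishingIdeal C).subschemeι
  haveI hZred : IsReduced (Scheme.IdealSheafData.vanishingIdeal C).subscheme :=
    isReduced_subscheme_vanishingIdeal C
  have hrange : Set.range ι = closure (Set.range f.fR) := by
    rw [range_subschemeι_vanishingIdeal, hCcoe]
  -- the reduced subscheme of `G₁.R`
  let r := (Scheme.IdealSheafData.vanishingIdeal (⊤ : Closeds G₁.R)).subschemeι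
  haveI : IsReduced (Scheme.IdealSheafData.vanishingIdeal (⊤ : Closeds G₁.R)).subscheme :=
    isReduced_subscheme_vanishingIdeal ⊤
  have hr : Function.Surjective r := by
    rw [← Set.range_eq_univ, range_subschemeι_vanishingIdeal]
    rfl
  have hrange_rf : Set.range (r ≫ f.fR) = Set.range f.fR := by
    ext y
    constructor
    · rintro ⟨x, rfl⟩
      exact ⟨r x, (Scheme.Hom.comp_apply _ _ _).symm⟩
    · rintro ⟨x, rfl⟩
      obtain ⟨x', rfl⟩ := hr x
      exact ⟨x', Scheme.Hom.comp_apply _ _ _⟩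
  obtain ⟨a', ha'⟩ := exists_lift_subscheme (r ≫ f.fR) C (by
    rw [hrange_rf, hCcoe]
    exact subset_closure)
  have ha'ι : a' ≫ ι = r ≫ f.fR := ha'
  have ha'd : DenseRange a' := by
    rw [DenseRange, ι.isEmbedding.isInducing.dense_iff]
    intro z
    have h1 : ι '' Set.range a' = Set.range f.fR := by
      rw [← Set.range_comp, ← hrange_rf]
      congr 1
      ext x
      rw [← ha'ι]
      simp
    rw [h1, ← hrange]
    exact ⟨z, rfl⟩
  -- the identity
  haveI : IsReduced G₂.U := isReduced_of_isOpenImmersion eU.hom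
  have he2 : G₂.e = inv f.fU ≫ G₁.e ≫ f.fR := by rw [hom_e f, IsIso.inv_hom_id_assoc]
  obtain ⟨eZ, he⟩ := exists_lift_subscheme G₂.e C (by
    rintro _ ⟨x, rfl⟩
    rw [hCcoe]
    apply subset_closure
    refine ⟨G₁.e (inv f.fU x), ?_⟩
    rw [he2]
    simp)
  -- the inverse
  obtain ⟨iZ, hi⟩ := exists_lift_subscheme (ι ≫ G₂.i) C (by
    rintro _ ⟨z, rfl⟩
    rw [hCcoe]
    have hz : ι z ∈ closure (Set.range f.fR) := hrange ▸ ⟨z, rfl⟩
    have h1 : G₂.i (ι z) ∈ closure (G₂.i '' Set.range f.fR) :=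
      image_closure_subset_closure_image G₂.i.continuous ⟨ι z, hz, rfl⟩
    have h2 : G₂.i '' Set.range f.fR ⊆ Set.range f.fR := by
      rintro _ ⟨_, ⟨x, rfl⟩, rfl⟩
      refine ⟨G₁.i x, ?_⟩
      rw [← Scheme.Hom.comp_apply, hom_i f, Scheme.Hom.comp_apply]
    rw [Scheme.Hom.comp_apply]
    exact closure_mono h2 h1)
  -- the composition
  haveI : IsReduced (pullback (ι ≫ G₂.s) (ι ≫ G₂.t)) :=
    isReduced_pullback_of_iso_spec_perfectField k eU _ _
  haveI : UniversallyOpen (ι ≫ G₂.s) := universallyOpen_of_iso_spec_field k eU _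
  haveI : UniversallyOpen (a' ≫ ι ≫ G₂.t) := universallyOpen_of_iso_spec_field k eU _
  have hd := denseRange_pullback_map a' a' (ι ≫ G₂.s) (ι ≫ G₂.t) ha'd ha'd
  have hθ : (pullback.fst (a' ≫ ι ≫ G₂.s) (a' ≫ ι ≫ G₂.t) ≫ r) ≫ G₁.s =
      (pullback.snd (a' ≫ ι ≫ G₂.s) (a' ≫ ι ≫ G₂.t) ≫ r) ≫ G₁.t := by
    rw [← cancel_mono f.fU]
    have e1 : r ≫ G₁.s ≫ f.fU = a' ≫ ι ≫ G₂.s := by
      rw [← f.comm_s, ← Category.assoc, ← ha'ι, Category.assoc]
    have e2 : r ≫ G₁.t ≫ f.fU = a' ≫ ι ≫ G₂.t := by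
      rw [← f.comm_t, ← Category.assoc, ← ha'ι, Category.assoc]
    simp only [Category.assoc]
    rw [e1, e2]
    exact pullback.condition
  have hcomp : pullback.map (a' ≫ ι ≫ G₂.s) (a' ≫ ι ≫ G₂.t) (ι ≫ G₂.s) (ι ≫ G₂.t) a' a' (𝟙 _)
      (by simp) (by simp) ≫ gSub G₂ ι =
      (pullback.lift (pullback.fst _ _ ≫ r) (pullback.snd _ _ ≫ r) hθ ≫ G₁.c) ≫ f.fR := by
    rw [f.comm_c _ _ hθ]
    have hcond : (pullback.fst (a' ≫ ι ≫ G₂.s) (a' ≫ ι ≫ G₂.t) ≫ a') ≫ ι ≫ G₂.s =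
        (pullback.snd (a' ≫ ι ≫ G₂.s) (a' ≫ ι ≫ G₂.t) ≫ a') ≫ ι ≫ G₂.t := by
      simp only [Category.assoc]
      exact pullback.condition
    refine (lift_gSub G₂ ι (pullback.fst (a' ≫ ι ≫ G₂.s) (a' ≫ ι ≫ G₂.t) ≫ a')
      (pullback.snd (a' ≫ ι ≫ G₂.s) (a' ≫ ι ≫ G₂.t) ≫ a') hcond).trans ?_
    exact lift_c_congr G₂ (by rw [Category.assoc, ha'ι, Category.assoc])
      (by rw [Category.assoc, ha'ι, Category.assoc]) _ _
  obtain ⟨cZ, hc⟩ := exists_lift_subscheme (gSub G₂ ι) C (by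
    rintro _ ⟨w, rfl⟩
    rw [hCcoe]
    have hw : w ∈ closure (Set.range (pullback.map (a' ≫ ι ≫ G₂.s) (a' ≫ ι ≫ G₂.t)
        (ι ≫ G₂.s) (ι ≫ G₂.t) a' a' (𝟙 _) (by simp) (by simp))) := by
      rw [hd.closure_range]
      trivial
    have h1 := image_closure_subset_closure_image (gSub G₂ ι).continuous ⟨w, hw, rfl⟩
    refine closure_mono ?_ h1
    rintro _ ⟨_, ⟨x, rfl⟩, rfl⟩
    rw [← Scheme.Hom.comp_apply, hcomp, Scheme.Hom.comp_apply]
    exact ⟨_, rfl⟩)
  refine ⟨subGroupoid G₂ ι cZ hc eZ he iZ hi, subHom G₂ ι cZ hc eZ he iZ hi, ?_, ?_, hZred, hrange⟩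
  · exact (inferInstance : IsIso (𝟙 G₂.U))
  · exact (inferInstance : IsClosedImmersion ι)

end Groth.Agent.Lib.helper21.GrpdImage
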