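import Mathlib
import Groth.Agent.Lib.Helper21.GrpdImage3
import Groth.Agent.Lib.Helper21.GrpdRed2

/-!
# The pair groupoid `U ×_S U` and the morphism `j = (t, s)` (helper21)

* `pairGroupoid pU`: the groupoid scheme `(U, U ×_S U, pr₀, pr₁, pr₀₂)` over `S`.
* `toPair G`: the morphism of groupoid schemes `G ⟶ pairGroupoid G.pU` with arrow component `G.j`.
* `quasiSeparatedSpace_pullback_of_iso_spec_field`: `U ×_S U` is quasi-separated for `U` the spectrum of a field.
-/

set_option autoImplicit false
set_option linter.style.haveILetI false
set_option linter.unusedSectionVars false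

universe u

open CategoryTheory CategoryTheory.Limits AlgebraicGeometry TopologicalSpace

namespace Groth.Agent.Lib.helper21.GrpdImage

section Pair

variable {S U : Scheme.{u}} (pU : U ⟶ S)

/-- the pair groupoid of `U` over `S` -/
noncomputable def pairGroupoid : Grpd.GroupoidScheme S where
  U := U
  R := pullback pU pU
  pU := pU
  pR := pullback.fst pU pU ≫ pU
  s := pullback.snd pU pU
  t := pullback.fst pU pU
  e := pullback.lift (𝟙 U) (𝟙 U) rfl
  i := pullback.lift (pullback.snd pU pU) (pullback.fst pU pU) pullback.condition.symm
  c := pullback.lift (pullback.fst (pullback.snd pU pU) (pullback.fst pU pU) ≫ pullback.fst pU pU)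
    (pullback.snd (pullback.snd pU pU) (pullback.fst pU pU) ≫ pullback.snd pU pU) (by
      rw [Category.assoc, Category.assoc, pullback.condition (f := pU) (g := pU),
        ← Category.assoc, pullback.condition (f := pullback.snd pU pU) (g := pullback.fst pU pU),
        Category.assoc, pullback.condition (f := pU) (g := pU)])
  s_over := pullback.condition.symm
  t_over := rfl
  comp_s := by
    intro T α β h
    simp only [Category.assoc, pullback.lift_snd, pullback.lift_snd_assoc]
  comp_t := by
    intro T α β h
    simp only [Category.assoc, pullback.lift_fst, pullback.lift_fst_assoc]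
  assoc := by
    intro T α β γ h₁ h₂
    apply pullback.hom_ext <;>
      simp only [Category.assoc, pullback.lift_fst, pullback.lift_snd, pullback.lift_fst_assoc,
        pullback.lift_snd_assoc]
  e_s := by simp only [pullback.lift_snd]
  e_t := by simp only [pullback.lift_fst]
  comp_e := by
    intro T α
    apply pullback.hom_ext <;>
      simp only [Category.assoc, pullback.lift_fst, pullback.lift_snd, pullback.lift_fst_assoc,
        pullback.lift_snd_assoc, Category.comp_id]
  e_comp := by
    intro T α
    apply pullback.hom_ext <;>
      simp only [Category.assoc, pullback.lift_fst, pullback.lift_snd, pullback.lift_fst_assoc,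
        pullback.lift_snd_assoc, Category.comp_id]
  i_s := by simp only [pullback.lift_snd]
  i_t := by simp only [pullback.lift_fst]
  comp_i := by
    intro T α
    apply pullback.hom_ext <;>
      simp only [Category.assoc, pullback.lift_fst, pullback.lift_snd, pullback.lift_fst_assoc,
        pullback.lift_snd_assoc, Category.comp_id]
  i_comp := by
    intro T α
    apply pullback.hom_ext <;>
      simp only [Category.assoc, pullback.lift_fst, pullback.lift_snd, pullback.lift_fst_assoc,
        pullback.lift_snd_assoc, Category.comp_id]

end Pair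

section ToPair

variable {S : Scheme.{u}} (G : Grpd.GroupoidScheme S)

theorem pair_hom_ext {S U : Scheme.{u}} (pU : U ⟶ S) {T : Scheme.{u}}
    {a b : T ⟶ (pairGroupoid pU).R}
    (ht : a ≫ (pairGroupoid pU).t = b ≫ (pairGroupoid pU).t)
    (hs : a ≫ (pairGroupoid pU).s = b ≫ (pairGroupoid pU).s) : a = b :=
  pullback.hom_ext ht hs

/-- `G.j` as a morphism into the arrow scheme of the pair groupoid -/
noncomputable def jP : G.R ⟶ (pairGroupoid G.pU).R := G.j

theorem jP_t : jP G ≫ (pairGroupoid G.pU).t = G.t := by
  show G.j ≫ pullback.fst G.pU G.pU = G.t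
  rw [Grpd.GroupoidScheme.j, pullback.lift_fst]

theorem jP_s : jP G ≫ (pairGroupoid G.pU).s = G.s := by
  show G.j ≫ pullback.snd G.pU G.pU = G.s
  rw [Grpd.GroupoidScheme.j, pullback.lift_snd]

/-- `j = (t, s)` as a morphism of groupoid schemes to the pair groupoid -/
noncomputable def toPair : Grpd.GroupoidScheme.Hom G (pairGroupoid G.pU) where
  fU := 𝟙 G.U
  fR := jP G
  fU_over := Category.id_comp _
  comm_s := (jP_s G).trans (Category.comp_id _).symm
  comm_t := (jP_t G).trans (Category.comp_id _).symm
  comm_c := by
    intro T α β h
    apply pair_hom_ext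
    · rw [(pairGroupoid G.pU).comp_t, Category.assoc (pullback.lift α β h ≫ G.c),
        Category.assoc α, jP_t]
      exact G.comp_t α β h
    · rw [(pairGroupoid G.pU).comp_s, Category.assoc (pullback.lift α β h ≫ G.c),
        Category.assoc β, jP_s]
      exact G.comp_s α β h

instance : IsIso (toPair G).fU := inferInstanceAs (IsIso (𝟙 G.U))

end ToPair

section QS

/-- `U ×_S U` is quasi-separated when `U` is (isomorphic to) the spectrum of a field -/
theorem quasiSeparatedSpace_pullback_of_iso_spec_field {S U : Scheme.{u}} (pU : U ⟶ S)
    (k : Type u) [Field k] (eU : U ≅ Spec (CommRingCat.of k)) :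
    QuasiSeparatedSpace ↥(pullback pU pU) := by
  haveI : IsAffine U := .of_isIso eU.hom
  -- `pU` factors through an affine open of `S`
  let u₀ : U := eU.inv (IsLocalRing.closedPoint k)
  have hsub : ∀ u : U, u = u₀ := by
    intro u
    have h1 : eU.hom u = IsLocalRing.closedPoint k := Subsingleton.elim _ _
    have h2 : eU.inv (eU.hom u) = u := by
      rw [← Scheme.Hom.comp_apply, eU.hom_inv_id]
      rfl
    rw [← h2, h1]
  obtain ⟨_, ⟨(V : S.Opens), hV, rfl⟩, hxV, -⟩ :=
    S.isBasis_affineOpens.exists_subset_of_mem_open (Set.mem_univ (pU u₀)) isOpen_univ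
  have hrange : Set.range pU ⊆ Set.range V.ι := by
    rintro _ ⟨u, rfl⟩
    rw [Scheme.Opens.range_ι, hsub u]
    exact hxV
  let l := IsOpenImmersion.lift V.ι pU hrange
  have hl : l ≫ V.ι = pU := IsOpenImmersion.lift_fac _ _ _
  haveI : IsAffine (V : Scheme.{u}) := hV
  haveI : QuasiSeparated pU := by
    rw [← hl]
    infer_instance
  haveI : QuasiSeparated (pullback.fst pU pU) := inferInstance
  exact quasiSeparatedSpace_of_quasiSeparated (pullback.fst pU pU)

end QS

end Groth.Agent.Lib.helper21.GrpdImage
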