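import Mathlib
import Groth.Agent.Lib.Helper21.GrpdImage1

/-!
# Rank of `s`, `t` for a finite locally free groupoid scheme is invariant (helper21)

* `i_i`: `G.i ≫ G.i = 𝟙`, `isIso_i`.
* `isPullback_fst_c`: the square `(fst, c, t, t)` on `R ×_{s,U,t} R` is cartesian.
* `finrank_t_s_eq_t`: `finrank t (s x) = finrank t (t x)`.
* `finrank_s_eq_finrank_t`: `finrank s = finrank t`.
-/

set_option autoImplicit false
set_option linter.style.haveILetI false
set_option linter.unusedSectionVars false

universe u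

open CategoryTheory CategoryTheory.Limits AlgebraicGeometry TopologicalSpace

namespace Groth.Agent.Lib.helper21.GrpdImage

variable {S : Scheme.{u}} (G : Grpd.GroupoidScheme S)

theorem i_i : G.i ≫ G.i = 𝟙 G.R := by
  have h : G.i ≫ G.s = 𝟙 G.R ≫ G.t := by rw [G.i_s, Category.id_comp]
  have hid : pullback.lift G.i (𝟙 G.R) h ≫ G.c = G.i ≫ G.t ≫ G.e := by
    have h1 := G.i_comp (𝟙 G.R)
    refine Eq.trans (lift_c_congr G (Category.id_comp _).symm rfl _ ?_) (h1.trans ?_)
    · rw [Category.assoc, G.i_s]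
    · rw [Category.id_comp, ← Category.assoc, G.i_t]
  exact (eq_i_of_comp G G.i (𝟙 _) h hid).symm

instance isIso_i : IsIso G.i := ⟨G.i, i_i G, i_i G⟩

theorem fst_t_eq_c_t : pullback.fst G.s G.t ≫ G.t = G.c ≫ G.t := by
  have h := G.comp_t (pullback.fst G.s G.t) (pullback.snd G.s G.t) pullback.condition
  have hid : pullback.lift (pullback.fst G.s G.t) (pullback.snd G.s G.t) pullback.condition =
      𝟙 _ := by
    apply pullback.hom_ext
    · rw [pullback.lift_fst, Category.id_comp]
    · rw [pullback.lift_snd, Category.id_comp]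
  rw [hid, Category.id_comp] at h
  exact h.symm

/-- `(α, β) ↦ (α, α ∘ β)` identifies `R ×_{s,U,t} R` with `R ×_{t,U,t} R` -/
theorem isPullback_fst_c : IsPullback (pullback.fst G.s G.t) G.c G.t G.t := by
  refine IsPullback.of_isLimit' ⟨fst_t_eq_c_t G⟩ ?_
  refine PullbackCone.IsLimit.mk _ (fun s' => ?_) (fun s' => ?_) (fun s' => ?_) (fun s' m h1 h2 => ?_)
  · -- the lift
    have h' : (s'.fst ≫ G.i) ≫ G.s = s'.snd ≫ G.t := by
      rw [Category.assoc, G.i_s]
      exact s'.condition
    refine pullback.lift s'.fst (pullback.lift (s'.fst ≫ G.i) s'.snd h' ≫ G.c) ?_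
    rw [G.comp_t, Category.assoc, G.i_t]
  · exact pullback.lift_fst _ _ _
  · -- `α ∘ (α⁻¹ ∘ γ) = γ`
    have h' : (s'.fst ≫ G.i) ≫ G.s = s'.snd ≫ G.t := by
      rw [Category.assoc, G.i_s]
      exact s'.condition
    have h₁ : s'.fst ≫ G.s = (s'.fst ≫ G.i) ≫ G.t := by rw [Category.assoc, G.i_t]
    have hassoc := G.assoc s'.fst (s'.fst ≫ G.i) s'.snd h₁ h'
    refine hassoc.symm.trans ?_
    have e1 : pullback.lift s'.fst (s'.fst ≫ G.i) h₁ ≫ G.c = s'.snd ≫ G.t ≫ G.e := by
      rw [G.comp_i s'.fst, ← Category.assoc, s'.condition, Category.assoc]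
    refine (lift_c_congr G e1 rfl _ ?_).trans (G.e_comp s'.snd)
    rw [Category.assoc, Category.assoc, G.e_s, Category.comp_id]
  · -- uniqueness
    have h' : (s'.fst ≫ G.i) ≫ G.s = s'.snd ≫ G.t := by
      rw [Category.assoc, G.i_s]
      exact s'.condition
    apply pullback.hom_ext
    · rw [pullback.lift_fst]
      exact h1
    · rw [pullback.lift_snd]
      -- `b = α⁻¹ ∘ (α ∘ b)`
      have hb : s'.fst ≫ G.s = (m ≫ pullback.snd G.s G.t) ≫ G.t := by
        rw [← h1, Category.assoc, Category.assoc, pullback.condition]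
      have hm : m = pullback.lift s'.fst (m ≫ pullback.snd G.s G.t) hb := by
        apply pullback.hom_ext
        · rw [pullback.lift_fst]
          exact h1
        · rw [pullback.lift_snd]
      have hγ : s'.snd = pullback.lift s'.fst (m ≫ pullback.snd G.s G.t) hb ≫ G.c := by
        rw [← hm]
        exact h2.symm
      have h₁ : (s'.fst ≫ G.i) ≫ G.s = s'.fst ≫ G.t := by rw [Category.assoc, G.i_s]
      have hassoc := G.assoc (s'.fst ≫ G.i) s'.fst (m ≫ pullback.snd G.s G.t) h₁ hb
      have e1 : pullback.lift (s'.fst ≫ G.i) s'.fst h₁ ≫ G.c =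
          (m ≫ pullback.snd G.s G.t) ≫ G.t ≫ G.e := by
        rw [G.i_comp s'.fst, ← Category.assoc, hb, Category.assoc]
      have hL : pullback.lift (pullback.lift (s'.fst ≫ G.i) s'.fst h₁ ≫ G.c)
          (m ≫ pullback.snd G.s G.t) ((G.comp_s _ _ h₁).trans hb) ≫ G.c =
          m ≫ pullback.snd G.s G.t := by
        refine (lift_c_congr G e1 rfl _ ?_).trans (G.e_comp _)
        simp only [Category.assoc, G.e_s, Category.comp_id]
      refine hL.symm.trans (hassoc.trans ?_)
      exact lift_c_congr G rfl hγ.symm _ _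

section Rank

variable [Flat G.t] [IsFinite G.t]

theorem finrank_t_s_eq_t (x : G.R) : G.t.finrank (G.s x) = G.t.finrank (G.t x) := by
  have h1 : (pullback.fst G.s G.t).finrank x = G.t.finrank (G.s x) :=
    Scheme.Hom.finrank_of_isPullback _ _ _ _ (IsPullback.of_hasPullback G.s G.t).flip x
  have h2 : (pullback.fst G.s G.t).finrank x = G.t.finrank (G.t x) :=
    Scheme.Hom.finrank_of_isPullback _ _ _ _ (isPullback_fst_c G).flip x
  rw [← h1, h2]

theorem finrank_s_eq_finrank_t : G.s.finrank = G.t.finrank := by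
  have h : G.s = G.i ≫ G.t := G.i_t.symm
  rw [h]
  exact Scheme.Hom.finrank_comp_left_of_isIso G.i G.t

theorem flat_s : Flat G.s := by
  rw [← G.i_t]
  infer_instance

theorem isFinite_s : IsFinite G.s := by
  rw [← G.i_t]
  infer_instance

theorem finrank_s_s_eq_t (x : G.R) : G.s.finrank (G.s x) = G.s.finrank (G.t x) := by
  rw [finrank_s_eq_finrank_t]
  exact finrank_t_s_eq_t G x

theorem surjective_s : Function.Surjective G.s := by
  intro u
  refine ⟨G.e u, ?_⟩
  rw [← Scheme.Hom.comp_apply, G.e_s]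
  rfl

theorem surjective_t : Function.Surjective G.t := by
  intro u
  refine ⟨G.e u, ?_⟩
  rw [← Scheme.Hom.comp_apply, G.e_t]
  rfl

end Rank

end Groth.Agent.Lib.helper21.GrpdImage
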