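import Mathlib

/-!
# Hartogs extension, commutative algebra core (helper21)

`false_of_minimal`: let `A → G` be an injective ring map, `s ∈ G`, `I = (A : s)` the conductor of
`s` into the image of `A`, and `p` a minimal prime over `I`.  If `A_p` has a weakly regular
sequence `[a, b]` in its maximal ideal, and elements of `A` which are regular on `A_p` can be
cancelled on `G` up to elements outside `p`, we get a contradiction.
-/

set_option autoImplicit false
universe u

namespace Groth.Agent.Lib.helper21.Hartogs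

open RingTheory.Sequence Pointwise

lemma mem_span_pow_of_mul_mem {S : Type*} [CommRing S] (a b : S) (ha : IsSMulRegular S a)
    (hb : ∀ x : S, b * x ∈ Ideal.span {a} → x ∈ Ideal.span {a}) (n : ℕ) :
    ∀ x : S, b * x ∈ Ideal.span {a ^ n} → x ∈ Ideal.span {a ^ n} := by
  induction n with
  | zero => intro x _; simp
  | succ n ih =>
    intro x hx
    rw [Ideal.mem_span_singleton'] at hx
    obtain ⟨y, hy⟩ := hx
    have h1 : x ∈ Ideal.span {a} := hb x (by
      rw [Ideal.mem_span_singleton']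
      exact ⟨y * a ^ n, by rw [← hy]; ring⟩)
    obtain ⟨x', hx'⟩ := Ideal.mem_span_singleton'.1 h1
    have h2 : b * x' ∈ Ideal.span {a ^ n} := by
      rw [Ideal.mem_span_singleton']
      refine ⟨y, ?_⟩
      apply ha
      simp only [smul_eq_mul]
      rw [← hx'] at hy
      linear_combination hy
    obtain ⟨z, hz⟩ := Ideal.mem_span_singleton'.1 (ih x' h2)
    rw [Ideal.mem_span_singleton']
    exact ⟨z, by rw [← hx', ← hz]; ring⟩

lemma mem_span_pow_of_pow_mul_mem {S : Type*} [CommRing S] (a b : S) (ha : IsSMulRegular S a)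
    (hb : ∀ x : S, b * x ∈ Ideal.span {a} → x ∈ Ideal.span {a}) (n m : ℕ) :
    ∀ x : S, b ^ m * x ∈ Ideal.span {a ^ n} → x ∈ Ideal.span {a ^ n} := by
  induction m with
  | zero => intro x hx; simpa using hx
  | succ m ih =>
    intro x hx
    apply ih
    apply mem_span_pow_of_mul_mem a b ha hb n
    have : b * (b ^ m * x) = b ^ (m + 1) * x := by ring
    rw [this]; exact hx

lemma regular_data_of_isWeaklyRegular {S : Type*} [CommRing S] (a b : S)
    (h : IsWeaklyRegular S [a, b]) :
    IsSMulRegular S a ∧ ∀ x : S, b * x ∈ Ideal.span {a} → x ∈ Ideal.span {a} := by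
  rw [isWeaklyRegular_cons_iff] at h
  obtain ⟨ha, h2⟩ := h
  rw [isWeaklyRegular_cons_iff] at h2
  obtain ⟨hb, -⟩ := h2
  refine ⟨ha, fun x hx => ?_⟩
  have hmem : ∀ y : S, y ∈ (a • (⊤ : Submodule S S)) ↔ y ∈ Ideal.span {a} := by
    intro y
    rw [Submodule.mem_smul_pointwise_iff_exists, Ideal.mem_span_singleton']
    constructor
    · rintro ⟨z, -, hz⟩; exact ⟨z, by rw [← hz, smul_eq_mul, mul_comm]⟩
    · rintro ⟨z, hz⟩; exact ⟨z, trivial, by rw [← hz, smul_eq_mul, mul_comm]⟩
  have h0 : b • (Submodule.Quotient.mk x : QuotSMulTop a S) = b • (0 : QuotSMulTop a S) := by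
    rw [smul_zero, ← Submodule.Quotient.mk_smul, Submodule.Quotient.mk_eq_zero, hmem, smul_eq_mul]
    exact hx
  have h1 := hb h0
  rwa [Submodule.Quotient.mk_eq_zero, hmem] at h1

theorem false_of_minimal {A G S : Type*} [CommRing A] [CommRing G] [CommRing S] [Algebra A G]
    [Algebra A S] (hinj : Function.Injective (algebraMap A G))
    (p : Ideal A) [p.IsPrime] [IsLocalization.AtPrime S p] [IsLocalRing S]
    (s : G) (I : Ideal A) (hI : ∀ g : A, g ∈ I ↔ ∃ x : A, g • s = algebraMap A G x)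
    (hp : p ∈ I.minimalPrimes)
    (a b : S) (ha : a ∈ IsLocalRing.maximalIdeal S) (hb : b ∈ IsLocalRing.maximalIdeal S)
    (hreg : IsWeaklyRegular S [a, b])
    (hcancel : ∀ c : A, IsSMulRegular S (algebraMap A S c) → ∀ γ : G, c • γ = 0 →
      ∃ w ∈ p.primeCompl, w • γ = 0) : False := by
  obtain ⟨hareg, hbreg⟩ := regular_data_of_isWeaklyRegular a b hreg
  have hrad := IsLocalization.AtPrime.radical_map_of_mem_minimalPrimes S p I hp
  rw [IsLocalization.AtPrime.map_eq_maximalIdeal p S] at hrad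
  rw [← hrad] at ha hb
  obtain ⟨n, hn⟩ := ha
  obtain ⟨m, hm⟩ := hb
  rw [IsLocalization.mem_map_algebraMap_iff p.primeCompl S] at hn hm
  obtain ⟨⟨⟨i, hiI⟩, u⟩, hiu⟩ := hn
  obtain ⟨⟨⟨i', hi'I⟩, u'⟩, hiu'⟩ := hm
  simp only at hiu hiu'
  obtain ⟨x₀, hx₀⟩ := (hI i).1 hiI
  obtain ⟨y₀, hy₀⟩ := (hI i').1 hi'I
  -- Step A
  have hA : i' * x₀ = i * y₀ := by
    apply hinj
    rw [map_mul, map_mul, ← hx₀, ← hy₀, ← Algebra.smul_def, ← Algebra.smul_def, smul_comm]
  -- Step B
  have hB : b ^ m * (algebraMap A S u' * algebraMap A S x₀) ∈ Ideal.span {a ^ n} := by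
    rw [Ideal.mem_span_singleton']
    refine ⟨algebraMap A S u * algebraMap A S y₀, ?_⟩
    have := congrArg (algebraMap A S) hA
    rw [map_mul, map_mul, ← hiu, ← hiu'] at this
    linear_combination -this
  obtain ⟨t, ht⟩ := Ideal.mem_span_singleton'.1
    (mem_span_pow_of_pow_mul_mem a b hareg hbreg n m _ hB)
  obtain ⟨⟨t₀, v⟩, htv⟩ := IsLocalization.surj p.primeCompl t
  simp only at htv
  have hC : algebraMap A S (v * u * u' * x₀) = algebraMap A S (t₀ * i) := by
    simp only [map_mul]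
    rw [← htv, ← hiu]
    linear_combination (algebraMap A S v * algebraMap A S u) * (-ht)
  obtain ⟨w, hw⟩ := (IsLocalization.eq_iff_exists p.primeCompl S).1 hC
  set w₁ : A := w * (v * u * u') with hw₁
  have hw₁M : w₁ ∈ p.primeCompl :=
    p.primeCompl.mul_mem w.2 (p.primeCompl.mul_mem (p.primeCompl.mul_mem v.2 u.2) u'.2)
  have hD : w₁ * x₀ = (w * t₀) * i := by
    rw [hw₁]; linear_combination hw
  set δ : G := w₁ • s - algebraMap A G (w * t₀) with hδ
  have hiδ : i • δ = 0 := by
    rw [hδ, smul_sub, smul_comm, hx₀, Algebra.smul_def, Algebra.smul_def, ← map_mul, ← map_mul,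
      hD, mul_comm, sub_self]
  have hireg : IsSMulRegular S (algebraMap A S i) := by
    rw [← hiu]
    have hu : IsUnit (algebraMap A S u) := IsLocalization.map_units S u
    exact (hareg.pow n).mul (hu.isSMulRegular S)
  obtain ⟨w₂, hw₂M, hw₂⟩ := hcancel i hireg δ hiδ
  have hmem : w₂ * w₁ ∈ I := by
    rw [hI]
    refine ⟨w₂ * (w * t₀), ?_⟩
    rw [hδ, smul_sub, sub_eq_zero] at hw₂
    rw [mul_smul, hw₂, Algebra.smul_def, ← map_mul]
  exact (p.primeCompl.mul_mem hw₂M hw₁M) (hp.1.2 hmem)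

end Groth.Agent.Lib.helper21.Hartogs
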