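import Mathlib
import Groth.Agent.S14271
import Groth.Agent.Lib.Helper21.Hartogs1

/-!
# Hartogs extension for sections of the structure sheaf (helper21)

`app_bijective`: `X` a scheme, `U` an open with quasi-compact inclusion such that every point
outside `U` has a weakly regular sequence `[a, b]` in the maximal ideal of its local ring.  Then
for every affine open `V` the restriction `Γ(X, V) → Γ(U, U ∩ V)` is bijective.
-/

set_option autoImplicit false
universe u

open CategoryTheory AlgebraicGeometry Opposite TopologicalSpace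

namespace Groth.Agent.Lib.helper21.Hartogs

/-- pure algebra: cancellation on a localization away from `g` -/
lemma cancel_away {A B S : Type*} [CommRing A] [CommRing B] [CommRing S] [Algebra A B]
    [Algebra A S] (g : A) [IsLocalization.Away g B] (p : Ideal A) [p.IsPrime]
    [IsLocalization.AtPrime S p]
    (c : A) (hc : IsSMulRegular S (algebraMap A S c)) (γ : B) (h : algebraMap A B c * γ = 0) :
    ∃ w ∈ p.primeCompl, algebraMap A B w * γ = 0 := by
  obtain ⟨k, x, hx⟩ := IsLocalization.Away.surj g γ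
  have h1 : algebraMap A B (c * x) = 0 := by
    rw [map_mul, ← hx, ← mul_assoc, h, zero_mul]
  obtain ⟨⟨_, l, rfl⟩, hl⟩ := (IsLocalization.map_eq_zero_iff (Submonoid.powers g) B _).1 h1
  have h2 : algebraMap A S c * algebraMap A S (g ^ l * x) = 0 := by
    rw [← map_mul]
    have : c * (g ^ l * x) = 0 := by linear_combination hl
    rw [this, map_zero]
  have h3 : algebraMap A S (g ^ l * x) = 0 := hc (by simpa [smul_eq_mul] using h2)
  obtain ⟨w, hw⟩ := (IsLocalization.map_eq_zero_iff p.primeCompl S _).1 h3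
  refine ⟨w, w.2, ?_⟩
  have hu : IsUnit (algebraMap A B g) := IsLocalization.Away.algebraMap_isUnit g
  have h4 : (algebraMap A B w * γ) * (algebraMap A B g) ^ (k + l) = 0 := by
    rw [pow_add, ← mul_assoc, mul_assoc (algebraMap A B w), hx, ← map_pow, ← map_mul, ← map_mul]
    have : (w : A) * x * g ^ l = 0 := by linear_combination hw
    rw [this, map_zero]
  exact (hu.pow (k + l)).mul_left_eq_zero.1 h4

variable (X : Scheme.{u}) (U : X.Opens)

/-- the hypothesis of depth `≥ 2` outside `U` -/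
def DepthTwo : Prop :=
  ∀ z : X, z ∉ U → ∃ a b : X.presheaf.stalk z, a ∈ IsLocalRing.maximalIdeal (X.presheaf.stalk z) ∧
      b ∈ IsLocalRing.maximalIdeal (X.presheaf.stalk z) ∧
      RingTheory.Sequence.IsWeaklyRegular (X.presheaf.stalk z) [a, b]

variable {X U}

lemma app_injective [QuasiCompact U.ι] (hZ : DepthTwo X U) (V : X.Opens) (hV : IsAffineOpen V) :
    Function.Injective (U.ι.app V).hom := by
  have hker := Groth.Agent.S14271.ker_ι_eq_bot X U (fun z hz => by
    obtain ⟨a, b, ha, -, hreg⟩ := hZ z hz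
    exact ⟨a, ha, (regular_data_of_isWeaklyRegular a b hreg).1⟩)
  have hk := Scheme.Hom.ker_apply U.ι ⟨V, hV⟩
  rw [hker, Scheme.IdealSheafData.ideal_bot] at hk
  exact (RingHom.injective_iff_ker_eq_bot _).2 hk.symm


section Surj

variable [QuasiCompact U.ι] (V : X.Opens) (hV : IsAffineOpen V)

/-- the open `U ∩ V`, in the form in which it appears as the domain of sections of `U` -/
abbrev inter (U V : X.Opens) : X.Opens := U.ι ''ᵁ U.ι ⁻¹ᵁ V

lemma inter_le_right : inter U V ≤ V := Set.image_preimage_subset _ _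

lemma mem_inter {x : X} (hxU : x ∈ U) (hxV : x ∈ V) : x ∈ inter U V :=
  ⟨⟨x, hxU⟩, hxV, rfl⟩

lemma mem_of_mem_inter {x : X} (hx : x ∈ inter U V) : x ∈ U := by
  obtain ⟨y, -, rfl⟩ := hx
  exact y.2

include hV in
lemma isCompact_inter : IsCompact (inter U V : Set X) := by
  have h1 : IsCompact (U.ι ⁻¹' (V : Set X)) :=
    QuasiCompact.isCompact_preimage (f := U.ι) _ V.isOpen hV.isCompact
  exact h1.image U.ι.continuous

/-- Claim 1: if `g^N s` extends to `V` only for `g` in a prime `p`, the point of `p` is not in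
`U`. -/
lemma exists_pow_smul_mem_range (hV : IsAffineOpen V) (s : Γ(X, inter U V)) (z : X)
    (hzU : z ∈ U) (hzV : z ∈ V) :
    ∃ (g : Γ(X, V)) (N : ℕ) (x : Γ(X, V)), z ∈ X.basicOpen g ∧
      (X.presheaf.map (homOfLE (inter_le_right (U := U) V)).op).hom (g ^ N) * s =
        (X.presheaf.map (homOfLE (inter_le_right (U := U) V)).op).hom x := by
  have hzW : z ∈ inter U V := mem_inter V hzU hzV
  obtain ⟨g, hgW, hzg⟩ := hV.exists_basicOpen_le (V := inter U V) ⟨z, hzW⟩ hzV
  set φ := (X.presheaf.map (homOfLE (inter_le_right (U := U) V)).op).hom with hφ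
  haveI := hV.isLocalization_basicOpen g
  obtain ⟨n, x, hx⟩ := IsLocalization.Away.surj g ((X.presheaf.map (homOfLE hgW).op).hom s)
  -- the error term
  set e : Γ(X, inter U V) := φ g ^ n * s - φ x with he
  have hcomp : ∀ a : Γ(X, V), (X.presheaf.map (homOfLE hgW).op).hom (φ a) =
      algebraMap Γ(X, V) Γ(X, X.basicOpen g) a := by
    intro a
    rw [hφ, ← CommRingCat.comp_apply, ← Functor.map_comp]
    rfl
  have he0 : (X.presheaf.map (homOfLE hgW).op).hom e = 0 := by
    rw [he, map_sub, map_mul, map_pow, hcomp, hcomp, mul_comm, hx, sub_self]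
  have hbo : X.basicOpen (φ g) ≤ X.basicOpen g := by
    rw [hφ, Scheme.basicOpen_res]
    exact inf_le_right
  have H : e |_ (X.basicOpen (φ g)) = 0 := by
    have : e |_ (X.basicOpen (φ g)) =
        (X.presheaf.map (homOfLE hbo).op).hom ((X.presheaf.map (homOfLE hgW).op).hom e) := by
      rw [← CommRingCat.comp_apply, ← Functor.map_comp]
      rfl
    rw [this, he0, map_zero]
  obtain ⟨k, hk⟩ := exists_pow_mul_eq_zero_of_res_basicOpen_eq_zero_of_isCompact X
    (isCompact_inter V hV) e (φ g) H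
  refine ⟨g, k + n, g ^ k * x, hzg, ?_⟩
  rw [he, mul_sub, sub_eq_zero] at hk
  rw [map_mul, map_pow, map_pow, pow_add, mul_assoc]
  rw [← map_pow, ← map_pow] at hk
  rw [← map_pow, ← map_pow]
  exact hk


/-- Claim 2: elements of `Γ(X, V)` which are regular on `A_p` can be cancelled on
`Γ(X, U ∩ V)` up to an element outside `p`. -/
lemma exists_smul_eq_zero (hV : IsAffineOpen V) (p : Ideal Γ(X, V)) [p.IsPrime] {S : Type u}
    [CommRing S] [Algebra Γ(X, V) S] [IsLocalization.AtPrime S p]
    (c : Γ(X, V)) (hc : IsSMulRegular S (algebraMap Γ(X, V) S c)) (γ : Γ(X, inter U V))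
    (h : (X.presheaf.map (homOfLE (inter_le_right (U := U) V)).op).hom c * γ = 0) :
    ∃ w ∈ p.primeCompl,
      (X.presheaf.map (homOfLE (inter_le_right (U := U) V)).op).hom w * γ = 0 := by
  set φ := (X.presheaf.map (homOfLE (inter_le_right (U := U) V)).op).hom with hφ
  have key : ∀ x ∈ (inter U V : Set X), ∃ (O : X.Opens) (hO : O ≤ inter U V) (w : Γ(X, V)),
      x ∈ O ∧ w ∈ p.primeCompl ∧ (X.presheaf.map (homOfLE hO).op).hom (φ w * γ) = 0 := by
    intro x hx
    have hxV : x ∈ V := inter_le_right (U := U) V hx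
    obtain ⟨g, hgW, hxg⟩ := hV.exists_basicOpen_le (V := inter U V) ⟨x, hx⟩ hxV
    haveI := hV.isLocalization_basicOpen g
    have hcomp : ∀ a : Γ(X, V), (X.presheaf.map (homOfLE hgW).op).hom (φ a) =
        algebraMap Γ(X, V) Γ(X, X.basicOpen g) a := by
      intro a
      rw [hφ, ← CommRingCat.comp_apply, ← Functor.map_comp]
      rfl
    have h' : algebraMap Γ(X, V) Γ(X, X.basicOpen g) c *
        (X.presheaf.map (homOfLE hgW).op).hom γ = 0 := by
      rw [← hcomp, ← map_mul, h, map_zero]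
    obtain ⟨w, hwM, hw⟩ := cancel_away (S := S) g p c hc _ h'
    refine ⟨X.basicOpen g, hgW, w, hxg, hwM, ?_⟩
    rw [map_mul, hcomp, hw]
  choose O hO w hxO hwM hzero using key
  obtain ⟨t, ht⟩ := (isCompact_inter V hV).elim_nhds_subcover' (fun x hx => (O x hx : Set X))
    (fun x hx => (O x hx).isOpen.mem_nhds (hxO x hx))
  refine ⟨∏ i ∈ t, w i.1 i.2, Submonoid.prod_mem _ (fun i _ => hwM i.1 i.2), ?_⟩
  have hz : φ (∏ i ∈ t, w i.1 i.2) * γ = 0 := by
    refine TopCat.Sheaf.eq_of_locally_eq' X.sheaf (fun i : t => O i.1.1 i.1.2) (inter U V)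
      (fun i => homOfLE (hO i.1.1 i.1.2)) ?_ _ _ ?_
    · intro x hx
      obtain ⟨i, hi, hxi⟩ := Set.mem_iUnion₂.1 (ht hx)
      exact Opens.mem_iSup.2 ⟨⟨i, hi⟩, hxi⟩
    · intro i
      obtain ⟨d, hd⟩ := Finset.dvd_prod_of_mem (fun j : (inter U V : Set X) => w j.1 j.2) i.2
      have h1 : φ (∏ j ∈ t, w j.1 j.2) * γ = φ d * (φ (w i.1.1 i.1.2) * γ) := by
        rw [hd, map_mul]; ring
      rw [h1]
      change (X.presheaf.map (homOfLE (hO i.1.1 i.1.2)).op).hom _ =
        (X.presheaf.map (homOfLE (hO i.1.1 i.1.2)).op).hom 0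
      rw [map_mul, hzero, mul_zero, map_zero]
  exact hz


theorem app_surjective (hZ : DepthTwo X U) (hV : IsAffineOpen V) :
    Function.Surjective (U.ι.app V).hom := by
  have hinj := app_injective hZ V hV
  set φ := (X.presheaf.map (homOfLE (inter_le_right (U := U) V)).op).hom with hφ
  have hφ' : (U.ι.app V).hom = φ := rfl
  rw [hφ'] at hinj ⊢
  intro (s : Γ(X, inter U V))
  by_contra hs
  -- conductor ideal
  let I : Ideal Γ(X, V) :=
    { carrier := {g | ∃ x, φ g * s = φ x}
      zero_mem' := ⟨0, by simp⟩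
      add_mem' := by
        rintro a b ⟨x, hx⟩ ⟨y, hy⟩
        exact ⟨x + y, by rw [map_add, add_mul, hx, hy, map_add]⟩
      smul_mem' := by
        rintro c a ⟨x, hx⟩
        exact ⟨c * x, by rw [smul_eq_mul, map_mul, mul_assoc, hx, map_mul]⟩ }
  have hItop : I ≠ ⊤ := by
    intro h
    have : (1 : Γ(X, V)) ∈ I := h ▸ Submodule.mem_top
    obtain ⟨x, hx⟩ := this
    rw [map_one, one_mul] at hx
    exact hs ⟨x, hx.symm⟩
  obtain ⟨p, hp⟩ := Ideal.nonempty_minimalPrimes hItop
  haveI : p.IsPrime := hp.1.1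
  let y : PrimeSpectrum Γ(X, V) := ⟨p, inferInstance⟩
  have hzV : hV.fromSpec y ∈ V := by
    have : hV.fromSpec y ∈ hV.fromSpec.opensRange := ⟨y, rfl⟩
    rwa [hV.opensRange_fromSpec] at this
  set z : X := hV.fromSpec y with hz
  letI : Algebra Γ(X, V) (X.presheaf.stalk z) :=
    TopCat.Presheaf.algebra_section_stalk X.presheaf ⟨z, hzV⟩
  haveI hloc : IsLocalization.AtPrime (X.presheaf.stalk z) p := hV.isLocalization_stalk' y hzV
  have hzU : z ∉ U := by
    intro hzU
    obtain ⟨g, N, x, hzg, hgx⟩ := exists_pow_smul_mem_range V hV s z hzU hzV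
    have hgI : g ^ N ∈ I := ⟨x, hgx⟩
    have hgp : g ∈ p := hp.1.1.mem_of_pow_mem N (hp.1.2 hgI)
    have : y ∈ hV.fromSpec ⁻¹ᵁ X.basicOpen g := hzg
    rw [hV.fromSpec_preimage_basicOpen] at this
    exact this hgp
  obtain ⟨a, b, ha, hb, hreg⟩ := hZ z hzU
  letI : Algebra Γ(X, V) Γ(X, inter U V) := φ.toAlgebra
  exact false_of_minimal (A := Γ(X, V)) (G := Γ(X, inter U V)) (S := X.presheaf.stalk z)
    hinj p s I (fun g => by
      rw [Algebra.smul_def]
      rfl) hp a b ha hb hreg (fun c hc γ hγ => by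
      obtain ⟨w, hwM, hw⟩ := exists_smul_eq_zero V hV p c hc γ
        (by rwa [Algebra.smul_def] at hγ)
      exact ⟨w, hwM, by rw [Algebra.smul_def]; exact hw⟩)

theorem app_bijective (hZ : DepthTwo X U) (hV : IsAffineOpen V) :
    Function.Bijective (U.ι.app V).hom :=
  ⟨app_injective hZ V hV, app_surjective V hZ hV⟩

end Surj

end Groth.Agent.Lib.helper21.Hartogs
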