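import Mathlib
import Groth.Prelude.Def_EtBase
import Groth.Agent.Lib.Helper24.HenselLocal
import Groth.Agent.Lib.Helper1.EtGerm

/-!
# Étale neighbourhoods of the closed point of a henselian local scheme have sections

For a henselian local ring `R` with residue field `κ`, every étale `Y ⟶ Spec R` together with a
`κ`-point of `Y` over the closed point admits a section `Spec R ⟶ Y` through that point.
-/

set_option autoImplicit false

open CategoryTheory CategoryTheory.Limits Opposite AlgebraicGeometry IsLocalRing

namespace Groth.Agent.Lib.helper21.HensSection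

open Groth.Agent.H1.EtGerm Groth.Agent.Lib.helper24.HenselLocal

universe u

variable (R : Type u) [CommRing R] [HenselianLocalRing R]

/-- the closed point of `Spec R`, as a morphism from the spectrum of the residue field -/
noncomputable abbrev xbar : Spec (CommRingCat.of (ResidueField R)) ⟶ Spec (CommRingCat.of R) :=
  Spec.map (CommRingCat.ofHom (residue R))

variable {R}

/-- **sections through rational points of étale schemes over a henselian local ring** -/
theorem exists_section {Y : Scheme.{u}} (g : Y ⟶ Spec (CommRingCat.of R)) [Etale g]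
    (u : Spec (CommRingCat.of (ResidueField R)) ⟶ Y) (hu : u ≫ g = xbar R) :
    ∃ σ : Spec (CommRingCat.of R) ⟶ Y, σ ≫ g = 𝟙 _ ∧ xbar R ≫ σ = u := by
  obtain ⟨_, ⟨V, hV : IsAffineOpen V, rfl⟩, hyV, -⟩ :=
    Y.isBasis_affineOpens.exists_subset_of_mem_open (Set.mem_univ (u default)) isOpen_univ
  have hrange : Set.range u ⊆ Set.range hV.fromSpec := by
    rw [hV.range_fromSpec]
    rintro _ ⟨a, rfl⟩
    rw [Subsingleton.elim a default]
    exact hyV
  let u' : Spec (CommRingCat.of (ResidueField R)) ⟶ Spec Γ(Y, V) :=
    IsOpenImmersion.lift hV.fromSpec u hrange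
  have hu' : u' ≫ hV.fromSpec = u := IsOpenImmersion.lift_fac _ _ _
  let φ : CommRingCat.of R ⟶ Γ(Y, V) := Spec.preimage (hV.fromSpec ≫ g)
  have hφ : Spec.map φ = hV.fromSpec ≫ g := Spec.map_preimage _
  let χ₀ : Γ(Y, V) ⟶ CommRingCat.of (ResidueField R) := Spec.preimage u'
  have hχ₀ : Spec.map χ₀ = u' := Spec.map_preimage _
  have hcomp : φ ≫ χ₀ = CommRingCat.ofHom (residue R) := by
    apply Spec.map_injective
    rw [Spec.map_comp, hφ, hχ₀, ← Category.assoc, hu', hu]
  have hφet : φ.hom.Etale := by
    have : Etale (Spec.map φ) := by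
      rw [hφ]
      infer_instance
    exact (HasRingHomProperty.Spec_iff (P := @Etale)).1 this
  algebraize [φ.hom]
  let χ : Γ(Y, V) →ₐ[R] ResidueField R :=
    { χ₀.hom with
      commutes' := fun r => congrArg (fun k : CommRingCat.of R ⟶ CommRingCat.of (ResidueField R) =>
        k.hom r) hcomp }
  obtain ⟨σB, hσB⟩ := exists_lift_residue χ
  refine ⟨Spec.map (CommRingCat.ofHom σB.toRingHom) ≫ hV.fromSpec, ?_, ?_⟩
  · rw [Category.assoc, ← hφ, ← Spec.map_comp]
    have h1 : φ ≫ CommRingCat.ofHom σB.toRingHom = 𝟙 _ := by
      ext r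
      exact σB.commutes r
    rw [h1, Spec.map_id]
  · rw [← Category.assoc, ← Spec.map_comp]
    have h2 : CommRingCat.ofHom σB.toRingHom ≫ CommRingCat.ofHom (residue R) = χ₀ := by
      ext b
      exact hσB b
    rw [h2, hχ₀, hu']

section Site

variable (R) [IsSepClosed (ResidueField R)]

/-- the canonical lift of the closed geometric point to the final object of the étale site -/
noncomputable abbrev canLift : Lift (xbar R) (EtCoh.top (Spec (CommRingCat.of R))) :=
  Lift.mk (U := EtCoh.top (Spec (CommRingCat.of R))) (xbar R)
    (show Spec (CommRingCat.of (ResidueField R)) ⟶ (EtCoh.top (Spec (CommRingCat.of R))).left from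
      xbar R) (Category.comp_id _)

variable {R}

/-- every étale neighbourhood of the closed geometric point of a strictly henselian local scheme
receives a pointed morphism from the final object -/
theorem exists_section_etale (U : (Spec (CommRingCat.of R)).Etale) (u : Lift (xbar R) U) :
    ∃ σ : EtCoh.top (Spec (CommRingCat.of R)) ⟶ U, Lift.map σ (canLift R) = u := by
  haveI : Etale U.hom := U.prop
  obtain ⟨σ', hσ1, hσ2⟩ := exists_section U.hom (Lift.hom u) (Lift.hom_comp u)
  refine ⟨MorphismProperty.Over.homMk σ' hσ1 trivial, ?_⟩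
  apply Lift.ext
  rw [Lift.map_hom]
  exact hσ2

/-- any endomorphism of the final object is the identity -/
lemma top_hom_ext {X : Scheme.{u}} {A : X.Etale} (f g : A ⟶ EtCoh.top X) : f = g := by
  apply MorphismProperty.Over.Hom.ext
  have hf : f.left ≫ (EtCoh.top X).hom = A.hom := MorphismProperty.Over.w f
  have hg : g.left ≫ (EtCoh.top X).hom = A.hom := MorphismProperty.Over.w g
  have h1 : f.left = A.hom := (Category.comp_id f.left).symm.trans hf
  have h2 : g.left = A.hom := (Category.comp_id g.left).symm.trans hg
  exact h1.trans h2.symm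

/-- **global sections are the stalk at the closed geometric point** (for any presheaf of sets on
the small étale site of a strictly henselian local scheme) -/
theorem toPresheafFiber_bijective (P : (Spec (CommRingCat.of R)).Etaleᵒᵖ ⥤ Type (u + 1)) :
    Function.Bijective ((Scheme.pointSmallEtale (xbar R)).toPresheafFiber (A := Type (u + 1))
      (EtCoh.top (Spec (CommRingCat.of R))) (canLift R) P) := by
  constructor
  · intro s t hst
    obtain ⟨Y, f, y, hy, hfs⟩ := ((Scheme.pointSmallEtale (xbar R)).toPresheafFiber_eq_iff'
      (A := Type (u + 1)) (P := P) (EtCoh.top (Spec (CommRingCat.of R))) (canLift R) s t).1 hst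
    obtain ⟨σ, hσ⟩ := exists_section_etale Y y
    have hid : σ ≫ f = 𝟙 _ := top_hom_ext _ _
    have h1 := congrArg (P.map σ.op) hfs
    rw [← FunctorToTypes.map_comp_apply, ← FunctorToTypes.map_comp_apply, ← op_comp, hid, op_id,
      FunctorToTypes.map_id_apply, FunctorToTypes.map_id_apply] at h1
    exact h1
  · intro p
    obtain ⟨U, u, z, rfl⟩ := (Scheme.pointSmallEtale (xbar R)).toPresheafFiber_jointly_surjective
      (A := Type (u + 1)) (P := P) p
    obtain ⟨σ, hσ⟩ := exists_section_etale U u
    refine ⟨P.map σ.op z, ?_⟩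
    rw [← hσ]
    exact (Scheme.pointSmallEtale (xbar R)).toPresheafFiber_w_apply σ (canLift R) P z

end Site

end Groth.Agent.Lib.helper21.HensSection
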