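import Mathlib
import Groth.Prelude.Def_EtBase
import Groth.Prelude.Def_SGA4b
import Groth.Agent.Lib.Helper21.HensSection
import Groth.Agent.Lib.Helper1.EtStalkPull

/-!
# The fibre functor at the closed geometric point of a strictly henselian local scheme is the
global sections functor; stalks of inverse images of sheaves of sets
-/

set_option autoImplicit false

open CategoryTheory CategoryTheory.Limits Opposite AlgebraicGeometry IsLocalRing

namespace Groth.Agent.Lib.helper21.HensStalk

open Groth.Agent.H1.EtGerm Groth.Agent.H1.EtStalkPull Groth.Agent.Lib.helper21.HensSection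

universe u

section Sections

variable (R : Type u) [CommRing R] [HenselianLocalRing R] [IsSepClosed (ResidueField R)]

/-- the comparison from global sections to the stalk at the closed geometric point -/
noncomputable def sectionsToFiber :
    (sheafSections (Spec (CommRingCat.of R)).smallEtaleTopology (Type (u + 1))).obj
      (op (EtCoh.top (Spec (CommRingCat.of R)))) ⟶
    (Scheme.pointSmallEtale (xbar R)).sheafFiber (A := Type (u + 1)) :=
  Functor.whiskerLeft (sheafToPresheaf _ _)
    ((Scheme.pointSmallEtale (xbar R)).toPresheafFiberNatTrans (A := Type (u + 1))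
      (EtCoh.top (Spec (CommRingCat.of R))) (canLift R))

instance isIso_sectionsToFiber : IsIso (sectionsToFiber R) := by
  haveI : ∀ F, IsIso ((sectionsToFiber R).app F) := fun F =>
    (isIso_iff_bijective _).2 (toPresheafFiber_bijective (R := R) F.obj)
  exact NatIso.isIso_of_isIso_app _

/-- global sections over a strictly henselian local scheme are the stalk at the closed geometric
point, naturally -/
noncomputable def sectionsIsoFiber :
    (sheafSections (Spec (CommRingCat.of R)).smallEtaleTopology (Type (u + 1))).obj
      (op (EtCoh.top (Spec (CommRingCat.of R)))) ≅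
    (Scheme.pointSmallEtale (xbar R)).sheafFiber (A := Type (u + 1)) :=
  asIso (sectionsToFiber R)

end Sections

/-- **the stalk of an inverse image** for sheaves of sets -/
noncomputable def stalkPullIsoSet {X Y : Scheme.{u}} (f : X ⟶ Y)
    {Ω : Type u} [Field Ω] [IsSepClosed Ω] (ξ : Spec (CommRingCat.of Ω) ⟶ X) :
    EtDesc.pullSh f ⋙ (Scheme.pointSmallEtale ξ).sheafFiber (A := Type (u + 1)) ≅
      (Scheme.pointSmallEtale (ξ ≫ f)).sheafFiber (A := Type (u + 1)) := by
  let Φ := Scheme.pointSmallEtale ξ
  let Ψ := Scheme.pointSmallEtale (ξ ≫ f)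
  let e := Groth.Agent.S0100.fiberIso f ξ
  have : InitiallySmall.{u} (EtCoh.bc f ⋙ Φ.fiber).Elements := by
    have : InitiallySmall.{u} Ψ.fiber.Elements := Ψ.initiallySmall
    let E := Cat.equivOfIso (Functor.elementsFunctor.mapIso e.symm)
    let F : Ψ.fiber.Elements ⥤ (EtCoh.bc f ⋙ Φ.fiber).Elements := E.functor
    have : F.IsEquivalence := E.isEquivalence_functor
    exact initiallySmall_of_initial_of_initiallySmall F
  let Φ' := Φ.comap (EtCoh.bc f) (EtCoh.coverPreserving_bc f)
  have i1 := GrothendieckTopology.Point.sheafFiberComapIso Φ (EtCoh.bc f)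
    (EtCoh.coverPreserving_bc f) (Type (u + 1))
  exact i1.symm ≪≫ sheafFiberIsoOfFiberIso Φ' Ψ e (Type (u + 1))

end Groth.Agent.Lib.helper21.HensStalk
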