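import Mathlib
import Groth.Prelude.Def_CohSite
import Groth.Agent.Lib.Helper21.HomAcyc2
import Groth.Agent.Lib.Helper7.FreeYoneda

/-!
# `ℋom(F, injective)` is acyclic on every object of the site (helper21)
-/

set_option autoImplicit false

universe u

open CategoryTheory CategoryTheory.Limits Opposite CategoryTheory.Abelian

namespace Groth.Agent.Lib.helper21.HomAcyc

variable {C : Type u} [SmallCategory C] {J : GrothendieckTopology C} {O : Sheaf J CommRingCat.{u}}

/-- `H^{q+1}(U, ℋom(F, G)) = 0` for `G` injective -/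
theorem subsingleton_HU_sheafHom (F G : ModSite.Mod O) [ModSite.HasSheafHom F] [Injective G]
    (U : C) (q : ℕ) :
    Subsingleton (CohSite.HU (ModSite.toAb ((ModSite.sheafHom F).obj G)) (q + 1) U) := by
  haveI := Groth.Agent.Lib.Helper21.ModGroth.enoughInjectives_mod (ModSite.ringSh O)
  haveI : HasExt.{u} (ModSite.Mod O) := hasExt_of_enoughInjectives _
  obtain ⟨e⟩ := InjAcyc.ext_free_equiv (ModSite.ringSh O) (yoneda.obj U)
    ((ModSite.sheafHom F).obj G) (q + 1)
  have h : Subsingleton (Ext.{u} ((InjAcyc.freeF J).obj (yoneda.obj U))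
      ((SheafOfModules.toSheaf (ModSite.ringSh O)).obj ((ModSite.sheafHom F).obj G)) (q + 1)) := by
    refine subsingleton_of_forall_eq 0 (fun x => ?_)
    apply e.symm.injective
    rw [map_zero]
    exact ext_flat_sheafHom_eq_zero F G q _ (isFlat_freeMod (yoneda.obj U)) _
  exact h

end Groth.Agent.Lib.helper21.HomAcyc
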