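import Mathlib
import Groth.Agent.Lib.Helper21.ExtStalk
import Groth.Agent.Lib.Helper21.ShHomCoh2
import Groth.Agent.Lib.Helper17.FlatOver7

/-!
# Stalks of the sheaf Hom of a coherent module (helper21)

`X` locally Noetherian, `F` coherent, `G` quasi-coherent, `x : X`:
`ℋom(F, G)_x ≃ₗ[O_{X,x}] Hom_{O_{X,x}}(F_x, G_x)` (existence).
-/

set_option autoImplicit false
universe u

open CategoryTheory CategoryTheory.Limits AlgebraicGeometry Opposite TopologicalSpace

namespace Groth.Agent.Lib.helper21.HomStalk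

open Groth.Agent.Lib.helper21.ExtShAffine Groth.Agent.Lib.helper16.CohStalk
  Groth.Agent.Lib.helper16.CohFinite
open Scheme.Modules Abelian

attribute [local instance] Groth.Agent.Lib.helper21.ShHomCoh.hasInjRes

variable {X : Scheme.{u}} [IsLocallyNoetherian X] (F G : X.Modules) (hF : Coh.IsCoh F)
  (hG : G.IsQuasicoherent)

include hF hG in
/-- the stalk of `ℰxt^0(F, G)` is `Hom` of the stalks -/
theorem nonempty_stalk_extSh_zero_linearEquiv (x : X) :
    Nonempty (((Scheme.Modules.presheaf (X := X)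
        ((ModSite.extSh (O := X.sheaf) F 0).obj G)).stalk x)
      ≃ₗ[X.presheaf.stalk x] (F.presheaf.stalk x →ₗ[X.presheaf.stalk x] G.presheaf.stalk x)) := by
  classical
  obtain ⟨_, ⟨U, hU : IsAffineOpen U, rfl⟩, hx, -⟩ :=
    X.isBasis_affineOpens.exists_subset_of_mem_open (Set.mem_univ x) isOpen_univ
  haveI : IsNoetherianRing Γ(X, U) := IsLocallyNoetherian.component_noetherian ⟨U, hU⟩
  haveI : F.IsQuasicoherent := hF.1
  haveI : G.IsQuasicoherent := hG
  haveI : Module.Finite Γ(X, U) Γ(F, U) := finite_sections_of_isCoh F hF hU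
  haveI : Module.FinitePresentation Γ(X, U) Γ(F, U) := Module.finitePresentation_of_finite _ _
  let E : X.Modules := (ModSite.extSh (O := X.sheaf) F 0).obj G
  haveI hE : E.IsQuasicoherent := Groth.Agent.Lib.helper21.ExtShQCoh.isQC_T 0 X F G hF hG
  letI := TopCat.Presheaf.algebra_section_stalk X.presheaf (⟨x, hx⟩ : U)
  haveI : IsLocalization.AtPrime (X.presheaf.stalk x) (hU.primeIdealOf ⟨x, hx⟩).asIdeal :=
    hU.isLocalization_stalk ⟨x, hx⟩
  letI := modStalk F x hx
  haveI := isScalarTower_stalk F x hx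
  haveI := isLocalizedModule_stalk F hU x hx
  letI := modStalk G x hx
  haveI := isScalarTower_stalk G x hx
  haveI := isLocalizedModule_stalk G hU x hx
  letI := modStalk E x hx
  haveI := isScalarTower_stalk E x hx
  haveI := isLocalizedModule_stalk E hU x hx
  obtain ⟨e⟩ := nonempty_sections_linearEquiv hU F G hF hG 0
  -- sections of `E` over `U` are the linear maps
  let e' : Γ(E, U) ≃ₗ[Γ(X, U)] (Γ(F, U) →ₗ[Γ(X, U)] Γ(G, U)) :=
    e ≪≫ₗ (Ext.linearEquiv₀ (R := Γ(X, U))) ≪≫ₗ ModuleCat.homLinearEquiv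
  let S := (hU.primeIdealOf ⟨x, hx⟩).asIdeal.primeCompl
  let μ : (Γ(F, U) →ₗ[Γ(X, U)] Γ(G, U)) →ₗ[Γ(X, U)]
      (F.presheaf.stalk x →ₗ[X.presheaf.stalk x] G.presheaf.stalk x) :=
    IsLocalizedModule.mapExtendScalars S (germLin F x hx) (germLin G x hx) (X.presheaf.stalk x)
  haveI : IsLocalizedModule S μ :=
    Module.FinitePresentation.isLocalizedModule_mapExtendScalars S (germLin F x hx)
      (germLin G x hx) (X.presheaf.stalk x)
  haveI : IsLocalizedModule S (μ ∘ₗ e'.toLinearMap) :=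
    IsLocalizedModule.of_linearEquiv_right S μ e'
  let ε := IsLocalizedModule.linearEquiv S (germLin E x hx) (μ ∘ₗ e'.toLinearMap)
  exact ⟨ε.extendScalarsOfIsLocalization S (X.presheaf.stalk x)⟩

include hF hG in
/-- **the stalk of `ℋom(F, G)` is `Hom` of the stalks** -/
theorem nonempty_stalk_sheafHom_linearEquiv (x : X) :
    Nonempty (((Scheme.Modules.presheaf (X := X)
        ((ModSite.sheafHom (O := X.sheaf) F).obj G)).stalk x)
      ≃ₗ[X.presheaf.stalk x] (F.presheaf.stalk x →ₗ[X.presheaf.stalk x] G.presheaf.stalk x)) := by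
  obtain ⟨e⟩ := nonempty_stalk_extSh_zero_linearEquiv F G hF hG x
  haveI := Groth.Agent.Lib.helper21.ExtShDelta.preservesFiniteLimits_sheafHom X.sheaf F
  let i : ((ModSite.extSh (O := X.sheaf) F 0).obj G : X.Modules) ≅
      ((ModSite.sheafHom (O := X.sheaf) F).obj G : X.Modules) :=
    (Functor.rightDerivedZeroIsoSelf (ModSite.sheafHom (O := X.sheaf) F)).app G
  exact ⟨(Groth.Agent.Lib.helper17.FlatOver7.stalkLinEquiv i x).symm ≪≫ₗ e⟩

include hF hG in
/-- the same for the `X.Modules` version `DCoh.sheafHom` of the sheaf Hom -/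
theorem nonempty_stalk_dcohSheafHom_linearEquiv [DCoh.HasSheafHom F] (x : X) :
    Nonempty ((((DCoh.sheafHom F).obj G).presheaf.stalk x)
      ≃ₗ[X.presheaf.stalk x] (F.presheaf.stalk x →ₗ[X.presheaf.stalk x] G.presheaf.stalk x)) := by
  obtain ⟨e⟩ := nonempty_stalk_sheafHom_linearEquiv F G hF hG x
  exact ⟨(Groth.Agent.Lib.helper17.FlatOver7.stalkLinEquiv
    ((Groth.Agent.Lib.helper21.ShHomCoh.dcohSheafHomIso F).app G) x) ≪≫ₗ e⟩

end Groth.Agent.Lib.helper21.HomStalk
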