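import Mathlib
import Groth.Agent.Lib.Helper21.HomStalk
import Groth.Agent.Lib.Helper26.HomDepth
import Groth.Agent.Lib.Helper26.LocTrans
import Groth.Agent.Lib.Helper8.StalkLen

/-!
# `(S_k)` for the sheaf Hom of coherent modules (helper21)

* `exists_isLocalizedModule_hom_stalk`: for an affine open `U ∋ x`, the stalk at `x` of a module
  `H ≅ ℰxt^0(F, G)` is a localization of `Hom_{Γ(X,U)}(F(U), G(U))` at the prime of `x`.
* `hasSk_sections`: `(S_k)` for the stalks of `G` on `U` gives `(S_k)` for the module `Γ(G, U)`.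
* `sk_stalk_of_iso_extSh_zero`: `(S_k)`, `k = 1, 2`, passes from `G` to `H ≅ ℰxt^0(F, G)`.
-/

set_option autoImplicit false
universe u

open CategoryTheory CategoryTheory.Limits AlgebraicGeometry Opposite TopologicalSpace

namespace Groth.Agent.Lib.helper21.HomStalk

open Groth.Agent.Lib.helper21.ExtShAffine Groth.Agent.Lib.helper16.CohStalk
  Groth.Agent.Lib.helper16.CohFinite
open Scheme.Modules Abelian

attribute [local instance] Groth.Agent.Lib.helper21.ShHomCoh.hasInjRes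

variable {X : Scheme.{u}} [IsLocallyNoetherian X] (F G : X.Modules) (hF : Coh.IsCoh F)
  (hG : G.IsQuasicoherent)

include hF hG in
/-- the stalk of `H ≅ ℰxt^0(F, G)` at `x ∈ U` (`U` affine) is a localization of
`Hom(F(U), G(U))` -/
theorem exists_isLocalizedModule_hom_stalk {U : X.Opens} (hU : IsAffineOpen U) (x : X)
    (hx : x ∈ U) (H : X.Modules)
    (i : ((ModSite.extSh (O := X.sheaf) F 0).obj G : X.Modules) ≅ H) :
    letI := modStalk H x hx
    ∃ f : (Γ(F, U) →ₗ[Γ(X, U)] Γ(G, U)) →ₗ[Γ(X, U)] H.presheaf.stalk x,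
      IsLocalizedModule (hU.primeIdealOf ⟨x, hx⟩).asIdeal.primeCompl f := by
  classical
  haveI : IsNoetherianRing Γ(X, U) := IsLocallyNoetherian.component_noetherian ⟨U, hU⟩
  haveI : F.IsQuasicoherent := hF.1
  haveI : G.IsQuasicoherent := hG
  let E : X.Modules := (ModSite.extSh (O := X.sheaf) F 0).obj G
  haveI hE : E.IsQuasicoherent := Groth.Agent.Lib.helper21.ExtShQCoh.isQC_T 0 X F G hF hG
  letI := TopCat.Presheaf.algebra_section_stalk X.presheaf (⟨x, hx⟩ : U)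
  letI := modStalk E x hx
  haveI := isScalarTower_stalk E x hx
  haveI := isLocalizedModule_stalk E hU x hx
  letI := modStalk H x hx
  haveI := isScalarTower_stalk H x hx
  obtain ⟨e⟩ := nonempty_sections_linearEquiv hU F G hF hG 0
  let e' : Γ(E, U) ≃ₗ[Γ(X, U)] (Γ(F, U) →ₗ[Γ(X, U)] Γ(G, U)) :=
    e ≪≫ₗ (Ext.linearEquiv₀ (R := Γ(X, U))) ≪≫ₗ ModuleCat.homLinearEquiv
  let S := (hU.primeIdealOf ⟨x, hx⟩).asIdeal.primeCompl
  let σ : E.presheaf.stalk x ≃ₗ[Γ(X, U)] H.presheaf.stalk x :=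
    (Groth.Agent.Lib.helper17.FlatOver7.stalkLinEquiv i x).restrictScalars Γ(X, U)
  haveI : IsLocalizedModule S (σ.toLinearMap ∘ₗ germLin E x hx) :=
    IsLocalizedModule.of_linearEquiv S (germLin E x hx) σ
  haveI : IsLocalizedModule S ((σ.toLinearMap ∘ₗ germLin E x hx) ∘ₗ e'.symm.toLinearMap) :=
    IsLocalizedModule.of_linearEquiv_right S (σ.toLinearMap ∘ₗ germLin E x hx) e'.symm
  exact ⟨(σ.toLinearMap ∘ₗ germLin E x hx) ∘ₗ e'.symm.toLinearMap, inferInstance⟩

omit hF in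
include hG in
/-- `(S_k)` for the stalks of a coherent module on an affine open gives `(S_k)` for its module of
sections -/
theorem hasSk_sections (hGc : Coh.IsCoh G) {U : X.Opens} (hU : IsAffineOpen U) (k : ℕ)
    (hS : ∀ y ∈ U, min (k : WithBot ℕ∞)
        (Module.supportDim (X.presheaf.stalk y) (G.presheaf.stalk y)) ≤
      ((LocCoh.depth (X.presheaf.stalk y) (G.presheaf.stalk y) : ℕ∞) : WithBot ℕ∞)) :
    LocCoh.HasSk k Γ(X, U) Γ(G, U) := by
  haveI : IsNoetherianRing Γ(X, U) := IsLocallyNoetherian.component_noetherian ⟨U, hU⟩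
  haveI : G.IsQuasicoherent := hG
  haveI : Module.Finite Γ(X, U) Γ(G, U) := finite_sections_of_isCoh G hGc hU
  intro p hp
  obtain ⟨y, hy, hpy⟩ := Groth.Agent.Lib.helper8.StalkLen.exists_primeIdealOf_eq hU ⟨p, hp⟩
  have hpy' : (hU.primeIdealOf ⟨y, hy⟩).asIdeal = p := congrArg PrimeSpectrum.asIdeal hpy
  subst hpy'
  letI := TopCat.Presheaf.algebra_section_stalk X.presheaf (⟨y, hy⟩ : U)
  haveI : IsLocalization.AtPrime (X.presheaf.stalk y) (hU.primeIdealOf ⟨y, hy⟩).asIdeal :=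
    hU.isLocalization_stalk ⟨y, hy⟩
  letI := modStalk G y hy
  haveI := isScalarTower_stalk G y hy
  haveI := isLocalizedModule_stalk G hU y hy
  rw [← Groth.Agent.Lib.helper26.Depth.depth_eq_of_isLocalizedModule
      (hU.primeIdealOf ⟨y, hy⟩).asIdeal Γ(G, U) (X.presheaf.stalk y) (G.presheaf.stalk y)
      (germLin G y hy),
    ← Groth.Agent.Lib.helper26.Depth.supportDim_eq_of_isLocalizedModule
      (hU.primeIdealOf ⟨y, hy⟩).asIdeal Γ(G, U) (X.presheaf.stalk y) (G.presheaf.stalk y)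
      (germLin G y hy)]
  exact hS y hy

include hF in
/-- **`(S_k)`, `k = 1, 2`, passes from `G` to the sheaf Hom** (stated for any module `H`
isomorphic to `ℰxt^0(F, G)`) -/
theorem sk_stalk_of_iso_extSh_zero (hGc : Coh.IsCoh G) (k : ℕ) (hk : k = 1 ∨ k = 2)
    (hS : ∀ y : X, min (k : WithBot ℕ∞)
        (Module.supportDim (X.presheaf.stalk y) (G.presheaf.stalk y)) ≤
      ((LocCoh.depth (X.presheaf.stalk y) (G.presheaf.stalk y) : ℕ∞) : WithBot ℕ∞))
    (H : X.Modules) (i : ((ModSite.extSh (O := X.sheaf) F 0).obj G : X.Modules) ≅ H) (x : X) :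
    min (k : WithBot ℕ∞) (Module.supportDim (X.presheaf.stalk x) (H.presheaf.stalk x)) ≤
      ((LocCoh.depth (X.presheaf.stalk x) (H.presheaf.stalk x) : ℕ∞) : WithBot ℕ∞) := by
  classical
  obtain ⟨_, ⟨U, hU : IsAffineOpen U, rfl⟩, hx, -⟩ :=
    X.isBasis_affineOpens.exists_subset_of_mem_open (Set.mem_univ x) isOpen_univ
  haveI : IsNoetherianRing Γ(X, U) := IsLocallyNoetherian.component_noetherian ⟨U, hU⟩
  haveI : Module.Finite Γ(X, U) Γ(F, U) := finite_sections_of_isCoh F hF hU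
  haveI : Module.Finite Γ(X, U) Γ(G, U) := finite_sections_of_isCoh G hGc hU
  have hSk := hasSk_sections G hGc.1 hGc hU k (fun y _ => hS y)
  have hHom : LocCoh.HasSk k Γ(X, U) (Γ(F, U) →ₗ[Γ(X, U)] Γ(G, U)) := by
    rcases hk with rfl | rfl
    · exact (Groth.Agent.Lib.helper26.Depth.hasSk_hom Γ(F, U) Γ(G, U)).1 hSk
    · exact (Groth.Agent.Lib.helper26.Depth.hasSk_hom Γ(F, U) Γ(G, U)).2 hSk
  letI := TopCat.Presheaf.algebra_section_stalk X.presheaf (⟨x, hx⟩ : U)
  haveI : IsLocalization.AtPrime (X.presheaf.stalk x) (hU.primeIdealOf ⟨x, hx⟩).asIdeal :=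
    hU.isLocalization_stalk ⟨x, hx⟩
  letI := modStalk H x hx
  haveI := isScalarTower_stalk H x hx
  obtain ⟨f, hf⟩ := exists_isLocalizedModule_hom_stalk F G hF hGc.1 hU x hx H i
  have h1 := hHom (hU.primeIdealOf ⟨x, hx⟩).asIdeal
  rw [← Groth.Agent.Lib.helper26.Depth.depth_eq_of_isLocalizedModule
      (hU.primeIdealOf ⟨x, hx⟩).asIdeal (Γ(F, U) →ₗ[Γ(X, U)] Γ(G, U)) (X.presheaf.stalk x)
      (H.presheaf.stalk x) f,
    ← Groth.Agent.Lib.helper26.Depth.supportDim_eq_of_isLocalizedModule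
      (hU.primeIdealOf ⟨x, hx⟩).asIdeal (Γ(F, U) →ₗ[Γ(X, U)] Γ(G, U)) (X.presheaf.stalk x)
      (H.presheaf.stalk x) f] at h1
  exact h1

end Groth.Agent.Lib.helper21.HomStalk
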