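import Mathlib
import Groth.Agent.Lib.Helper11.TwistH1

/-!
# The dual `M ⟶ O` of a section `O ⟶ L` and its powers `M^{⊗ n} ⟶ O` (helper21)

For `s : O ⟶ L` and `M` inverse to `L`: `dualSec s e : M ⟶ O`, a monomorphism when `s` is, with
iso-locus `X_s`; `powSec σ n : M^{⊗ n} ⟶ O` for `σ : M ⟶ O`, a monomorphism when `σ` is (and `M`
is invertible), with iso-locus that of `σ` for `n ≥ 1`.
-/

set_option autoImplicit false
universe u
open CategoryTheory CategoryTheory.Limits AlgebraicGeometry TopologicalSpace Opposite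
open Scheme.Modules
open Groth.Agent.Lib.helper11.IsoLocus Groth.Agent.Lib.helper11.TwistH1
open Groth.Agent.Lib.helper11.IdealGG Groth.Agent.Lib.helper12.TensorInv
open Groth.Agent.Lib.Lead.ModTensor

namespace Groth.Agent.Lib.helper21.ZeroConn

variable {X : Scheme.{u}}

/-- the iso-locus of a composition with a monomorphism on the right -/
theorem isoLocus_comp_of_mono {A B C : X.Modules} (χ : A ⟶ B) (ψ : B ⟶ C) [Mono ψ] :
    isoLocus (χ ≫ ψ) = isoLocus χ ⊓ isoLocus ψ := by
  refine le_antisymm ?_ ?_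
  · have hU := isIso_restrict_isoLocus (χ ≫ ψ)
    rw [Functor.map_comp] at hU
    haveI := mono_restrict ψ (isoLocus (χ ≫ ψ))
    haveI : IsSplitEpi ((restrictFunctor (isoLocus (χ ≫ ψ)).ι).map ψ) :=
      IsSplitEpi.mk' ⟨inv ((restrictFunctor (isoLocus (χ ≫ ψ)).ι).map χ ≫
        (restrictFunctor (isoLocus (χ ≫ ψ)).ι).map ψ) ≫
          (restrictFunctor (isoLocus (χ ≫ ψ)).ι).map χ, by
        rw [Category.assoc, IsIso.inv_hom_id]⟩
    haveI hψ : IsIso ((restrictFunctor (isoLocus (χ ≫ ψ)).ι).map ψ) :=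
      isIso_of_mono_of_isSplitEpi _
    haveI hχ : IsIso ((restrictFunctor (isoLocus (χ ≫ ψ)).ι).map χ) :=
      IsIso.of_isIso_comp_right _ ((restrictFunctor (isoLocus (χ ≫ ψ)).ι).map ψ)
    exact le_inf ((le_isoLocus_iff χ _).mpr hχ) ((le_isoLocus_iff ψ _).mpr hψ)
  · rw [le_isoLocus_iff, Functor.map_comp]
    haveI := isIso_restrict_of_le χ (inf_le_left : isoLocus χ ⊓ isoLocus ψ ≤ isoLocus χ)
      (isIso_restrict_isoLocus χ)
    haveI := isIso_restrict_of_le ψ (inf_le_right : isoLocus χ ⊓ isoLocus ψ ≤ isoLocus ψ)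
      (isIso_restrict_isoLocus ψ)
    infer_instance

/-- tensoring with an invertible module does not change the iso-locus -/
theorem isoLocus_tensorMap {K I N : X.Modules} (k : K ⟶ I) (hN : PicF.IsInvertible N) :
    isoLocus (tensorMap k (𝟙 N)) = isoLocus k := by
  ext y
  obtain ⟨U, hyU, ⟨e⟩⟩ := hN y
  have h1 : (restrictFunctor U.ι).map (tensorMap k (𝟙 N)) =
      (tensorTrivIso K N U e).hom ≫ (restrictFunctor U.ι).map k ≫
        (tensorTrivIso I N U e).inv := by
    rw [← Category.assoc, ← tensorTrivIso_naturality k N U e, Category.assoc, Iso.hom_inv_id,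
      Category.comp_id]
  have h2 : U.ι ⁻¹ᵁ isoLocus (tensorMap k (𝟙 N)) = U.ι ⁻¹ᵁ isoLocus k := by
    rw [← isoLocus_restrictFunctor, ← isoLocus_restrictFunctor, h1, isoLocus_comp_of_isIso_left,
      isoLocus_comp_of_isIso_right]
  have h3 : ((⟨y, hyU⟩ : U) ∈ U.ι ⁻¹ᵁ isoLocus (tensorMap k (𝟙 N))) ↔
      ((⟨y, hyU⟩ : U) ∈ U.ι ⁻¹ᵁ isoLocus k) := by rw [h2]
  exact h3

/-- the dual `M ⟶ O` of a section `s : O ⟶ L`, for an inverse `M` of `L` -/
noncomputable def dualSec {L M : X.Modules} (s : Coh.structureModule X ⟶ L)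
    (e : CohB1.tensorMod L M ≅ Coh.structureModule X) : M ⟶ Coh.structureModule X :=
  (leftUnitor M).inv ≫ tensorMap s (𝟙 M) ≫ e.hom

theorem mono_dualSec {L M : X.Modules} (s : Coh.structureModule X ⟶ L) [Mono s]
    (e : CohB1.tensorMod L M ≅ Coh.structureModule X) (hM : PicF.IsInvertible M) :
    Mono (dualSec s e) := by
  haveI := mono_tensorMap_left s hM
  unfold dualSec
  infer_instance

theorem isoLocus_dualSec {L M : X.Modules} (s : Coh.structureModule X ⟶ L)
    (e : CohB1.tensorMod L M ≅ Coh.structureModule X) (hM : PicF.IsInvertible M) :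
    isoLocus (dualSec s e) = CohB1.genLocus L s := by
  unfold dualSec
  rw [isoLocus_comp_of_isIso_left, isoLocus_comp_of_isIso_right, isoLocus_tensorMap s hM]
  rfl

/-- the powers `M^{⊗ n} ⟶ O` of `σ : M ⟶ O` -/
noncomputable def powSec {M : X.Modules} (σ : M ⟶ Coh.structureModule X) :
    ∀ n : ℕ, CohB1.tensorPow M n ⟶ Coh.structureModule X
  | 0 => 𝟙 _
  | n + 1 => tensorMap (powSec σ n) (𝟙 M) ≫ (leftUnitor M).hom ≫ σ

theorem mono_powSec {M : X.Modules} (σ : M ⟶ Coh.structureModule X) [Mono σ]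
    (hM : PicF.IsInvertible M) : ∀ n : ℕ, Mono (powSec σ n)
  | 0 => by
    change Mono (𝟙 (Coh.structureModule X))
    infer_instance
  | n + 1 => by
    haveI := mono_powSec σ hM n
    haveI := mono_tensorMap_left (powSec σ n) hM
    change Mono (C := X.Modules) (X := CohB1.tensorMod (CohB1.tensorPow M n) M)
      (tensorMap (powSec σ n) (𝟙 M) ≫ (leftUnitor M).hom ≫ σ)
    infer_instance

theorem isoLocus_powSec {M : X.Modules} (σ : M ⟶ Coh.structureModule X) [Mono σ]
    (hM : PicF.IsInvertible M) : ∀ n : ℕ, isoLocus (powSec σ (n + 1)) = isoLocus σ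
  | 0 => by
    have h0 : isoLocus (powSec σ 0) = ⊤ := by
      rw [isoLocus_eq_top_iff]
      change IsIso (𝟙 (Coh.structureModule X))
      infer_instance
    change isoLocus (M := CohB1.tensorMod (CohB1.tensorPow M 0) M)
      (tensorMap (powSec σ 0) (𝟙 M) ≫ (leftUnitor M).hom ≫ σ) = _
    rw [isoLocus_comp_of_mono, isoLocus_tensorMap _ hM, h0, top_inf_eq,
      isoLocus_comp_of_isIso_left]
  | n + 1 => by
    have ih := isoLocus_powSec σ hM n
    change isoLocus (M := CohB1.tensorMod (CohB1.tensorPow M (n + 1)) M)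
      (tensorMap (powSec σ (n + 1)) (𝟙 M) ≫ (leftUnitor M).hom ≫ σ) = _
    rw [isoLocus_comp_of_mono, isoLocus_tensorMap _ hM, ih,
      isoLocus_comp_of_isIso_left, inf_idem]

end Groth.Agent.Lib.helper21.ZeroConn
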