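import Mathlib
import Groth.Agent.Lib.Helper21.ZeroConn3
import Groth.Agent.Lib.Helper12.PullTensor

/-!
# Section formulas for `leftUnitor` and `powSec` (helper21)
-/

set_option autoImplicit false
universe u
open CategoryTheory CategoryTheory.Limits AlgebraicGeometry TopologicalSpace Opposite MonoidalCategory
open Scheme.Modules
open Groth.Agent.Lib.Lead.ModTensor

namespace Groth.Agent.Lib.helper21.IdealPow

variable {X : Scheme.{u}}

/-- Section formula for the presheaf-level left unitor: `r ⊗ₜ t ↦ r • t`. -/
theorem leftUnitorPre_hom_tmul (F : X.Modules) (U : X.Opens) (t : F.val.obj (op U))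
    (r : X.ringCatSheaf.obj.obj (op U)) :
    ((λ_ (CohB1.toPMod F)).hom.app (op U)).hom
        (((r : (Coh.structureModule X).val.obj (op U)) ⊗ₜ t :
          ↥((CohB1.tensorPre (Coh.structureModule X) F).obj (op U)))) = r • t := by
  simp [PresheafOfModules.leftUnitor_hom_app]
  rfl

/-- Section formula for the lead's `leftUnitor`: `r ⊗ t ↦ r • t`. -/
theorem leftUnitor_tmul (F : X.Modules) (U : X.Opens) (t : F.val.obj (op U))
    (r : X.ringCatSheaf.obj.obj (op U)) :
    ((leftUnitor F).hom.val.app (op U)).hom
        (SecTwist.tmul (Coh.structureModule X) F U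
          (r : (Coh.structureModule X).val.obj (op U)) t) = r • t := by
  let adj := PresheafOfModules.sheafificationAdjunction.{u, u, u, u}
    (J := Opens.grothendieckTopology X) (𝟙 X.ringCatSheaf.obj)
  let P : X.PresheafOfModules := CohB1.tensorPre (Coh.structureModule X) F
  let x : ↥((CohB1.tensorPre (Coh.structureModule X) F).obj (op U)) :=
    (r : (Coh.structureModule X).val.obj (op U)) ⊗ₜ t
  let lam : P ⟶ F.val := (λ_ (CohB1.toPMod F)).hom
  have natU : ((adj.unit.app F.val).app (op U)).hom ((lam.app (op U)).hom x) =
      ((((CohB1.sheafifyMod X).map lam).val.app (op U)).hom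
        (((adj.unit.app P).app (op U)).hom x)) :=
    congrArg (fun φ => (PresheafOfModules.Hom.app φ (op U)).hom x) (adj.unit.naturality lam)
  have hlam : (lam.app (op U)).hom x = r • t := leftUnitorPre_hom_tmul F U t r
  rw [hlam] at natU
  have triU : (((adj.counit.app F).val.app (op U)).hom
      (((adj.unit.app F.val).app (op U)).hom (r • t))) = r • t :=
    congrArg (fun φ => (PresheafOfModules.Hom.app φ (op U)).hom (r • t))
      (adj.right_triangle_components F)
  change ((((CohB1.sheafifyMod X).map lam ≫ adj.counit.app F).val.app (op U)).hom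
      (((adj.unit.app P).app (op U)).hom x)) = r • t
  rw [← triU, natU]
  rfl

end Groth.Agent.Lib.helper21.IdealPow
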