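import Mathlib
import Groth.Agent.Lib.Helper21.IdealPow1
import Groth.Agent.Lib.Helper11.IdealOfMono
import Groth.Agent.Lib.Helper12.TwistLocal
import Groth.Agent.Lib.Helper12.AmpleBasis

/-!
# Powers of an invertible ideal: `idealMod (𝓘 ^ m) ≅ (idealMod 𝓘)^{⊗ m}` (helper21)
-/

set_option autoImplicit false
universe u
open CategoryTheory CategoryTheory.Limits AlgebraicGeometry TopologicalSpace Opposite
open Scheme.Modules
open Groth.Agent.Lib.Lead.ModTensor Groth.Agent.Lib.helper21.ZeroConn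
open Groth.Agent.Lib.helper11.IdealOfMono Groth.Agent.Lib.helper12.TensorInv
open Groth.Agent.Lib.helper12.PullTensor Groth.Agent.Lib.helper12.TwistLocal

namespace Groth.Agent.Lib.helper21.IdealPow

variable {X : Scheme.{u}}

/-- multiplicativity of `powSec` on pure tensors -/
theorem powSec_succ_tmul {M : X.Modules} (σ : M ⟶ Coh.structureModule X) (m : ℕ) (U : X.Opens)
    (a : (CohB1.tensorPow M m).val.obj (op U)) (b : M.val.obj (op U)) :
    (show Γ(X, U) from ((powSec σ (m + 1)).val.app (op U)).hom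
      (SecTwist.tmul (CohB1.tensorPow M m) M U a b)) =
      (show Γ(X, U) from ((powSec σ m).val.app (op U)).hom a) *
        (show Γ(X, U) from (σ.val.app (op U)).hom b) := by
  change ((σ.val.app (op U)).hom (((leftUnitor M).hom.val.app (op U)).hom
    (((tensorMap (powSec σ m) (𝟙 M)).val.app (op U)).hom
      (SecTwist.tmul (CohB1.tensorPow M m) M U a b)))) = _
  rw [tensorMap_tmul]
  have h1 := leftUnitor_tmul M U (((𝟙 M : M ⟶ M).val.app (op U)).hom b)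
    (show X.ringCatSheaf.obj.obj (op U) from ((powSec σ m).val.app (op U)).hom a)
  have h2 : ((leftUnitor M).hom.val.app (op U)).hom
      (SecTwist.tmul (Coh.structureModule X) M U (((powSec σ m).val.app (op U)).hom a)
        (((𝟙 M : M ⟶ M).val.app (op U)).hom b)) =
      (show X.ringCatSheaf.obj.obj (op U) from ((powSec σ m).val.app (op U)).hom a) •
        (((𝟙 M : M ⟶ M).val.app (op U)).hom b) := h1
  rw [h2]
  exact (σ.val.app (op U)).hom.map_smul _ _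

/-- every section of `A ⊗ M` over a trivialising open of `M` is a pure tensor with the generator -/
theorem exists_tmul_eq (A M : X.Modules) (U : X.Opens)
    (e : M.restrict U.ι ≅ Coh.structureModule (↑U : Scheme.{u}))
    (t : (CohB1.tensorMod A M).val.obj (op (U.ι ''ᵁ ⊤))) :
    ∃ a : A.val.obj (op (U.ι ''ᵁ ⊤)),
      t = SecTwist.tmul A M (U.ι ''ᵁ ⊤) a ((e.inv.val.app (op ⊤)).hom
        (1 : (↑U : Scheme.{u}).ringCatSheaf.obj.obj (op ⊤))) := by
  let T := tensorTrivIso A M U e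
  let b₀ : M.val.obj (op (U.ι ''ᵁ ⊤)) := (e.inv.val.app (op ⊤)).hom
    (1 : (↑U : Scheme.{u}).ringCatSheaf.obj.obj (op ⊤))
  let a : A.val.obj (op (U.ι ''ᵁ ⊤)) := (T.hom.val.app (op ⊤)).hom t
  refine ⟨a, ?_⟩
  have h1 := tensorTrivIso_hom_tmul A M U e ⊤ a b₀
  have h2 : (e.hom.val.app (op ⊤)).hom b₀ = (1 : (↑U : Scheme.{u}).ringCatSheaf.obj.obj (op ⊤)) :=
    congrArg (fun φ : Coh.structureModule (↑U : Scheme.{u}) ⟶ Coh.structureModule (↑U : Scheme.{u}) =>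
      (φ.val.app (op ⊤)).hom (1 : (↑U : Scheme.{u}).ringCatSheaf.obj.obj (op ⊤))) e.inv_hom_id
  rw [h2, one_smul] at h1
  -- `T.hom` is injective on sections
  have hinj : ∀ x y : ((CohB1.tensorMod A M).restrict U.ι).val.obj (op ⊤),
      (T.hom.val.app (op ⊤)).hom x = (T.hom.val.app (op ⊤)).hom y → x = y := by
    intro x y hxy
    have hx : (T.inv.val.app (op ⊤)).hom ((T.hom.val.app (op ⊤)).hom x) = x :=
      congrArg (fun φ : (CohB1.tensorMod A M).restrict U.ι ⟶ (CohB1.tensorMod A M).restrict U.ι =>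
        (φ.val.app (op ⊤)).hom x) T.hom_inv_id
    have hy : (T.inv.val.app (op ⊤)).hom ((T.hom.val.app (op ⊤)).hom y) = y :=
      congrArg (fun φ : (CohB1.tensorMod A M).restrict U.ι ⟶ (CohB1.tensorMod A M).restrict U.ι =>
        (φ.val.app (op ⊤)).hom y) T.hom_inv_id
    rw [← hx, ← hy, hxy]
  exact hinj t _ h1.symm

/-- the image ideal of `powSec σ (m+1)` over a trivialising open is the product of the image
ideals -/
theorem imgIdeal_powSec_succ {M : X.Modules} (σ : M ⟶ Coh.structureModule X) (U : X.Opens)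
    (e : M.restrict U.ι ≅ Coh.structureModule (↑U : Scheme.{u})) (m : ℕ) :
    imgIdeal (CohB1.tensorPow M (m + 1)) (powSec σ (m + 1)) (U.ι ''ᵁ ⊤) =
      imgIdeal (CohB1.tensorPow M m) (powSec σ m) (U.ι ''ᵁ ⊤) * imgIdeal M σ (U.ι ''ᵁ ⊤) := by
  apply le_antisymm
  · rintro s ⟨t, rfl⟩
    obtain ⟨a, rfl⟩ := exists_tmul_eq (CohB1.tensorPow M m) M U e t
    have h := powSec_succ_tmul σ m (U.ι ''ᵁ ⊤) a ((e.inv.val.app (op ⊤)).hom
      (1 : (↑U : Scheme.{u}).ringCatSheaf.obj.obj (op ⊤)))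
    have hmem : (show Γ(X, U.ι ''ᵁ ⊤) from ((powSec σ m).val.app (op (U.ι ''ᵁ ⊤))).hom a) *
        (show Γ(X, U.ι ''ᵁ ⊤) from (σ.val.app (op (U.ι ''ᵁ ⊤))).hom ((e.inv.val.app (op ⊤)).hom
          (1 : (↑U : Scheme.{u}).ringCatSheaf.obj.obj (op ⊤)))) ∈
        imgIdeal (CohB1.tensorPow M m) (powSec σ m) (U.ι ''ᵁ ⊤) * imgIdeal M σ (U.ι ''ᵁ ⊤) :=
      Ideal.mul_mem_mul ⟨a, rfl⟩ ⟨_, rfl⟩
    rw [← h] at hmem
    exact hmem
  · rw [Ideal.mul_le]
    rintro r ⟨a, rfl⟩ s ⟨b, rfl⟩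
    exact ⟨SecTwist.tmul (CohB1.tensorPow M m) M (U.ι ''ᵁ ⊤) a b,
      powSec_succ_tmul σ m (U.ι ''ᵁ ⊤) a b⟩

/-- the image ideal of the inclusion of an ideal sheaf, over an affine open -/
theorem imgIdeal_idealModι (𝓘 : X.IdealSheafData) (W : X.affineOpens) :
    imgIdeal (ClSub.idealMod 𝓘) (ClSub.idealModι 𝓘) W.1 = 𝓘.ideal W := by
  ext s
  exact Groth.Agent.Lib.helper7.IdealMod.mem_range_idealModι_iff_of_affine 𝓘 W s

/-- the image ideal of `powSec (idealModι 𝓘) m` over a trivialising affine open is `𝓘^m` -/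
theorem imgIdeal_powSec_idealModι (𝓘 : X.IdealSheafData) (U : X.Opens)
    (hW : IsAffineOpen (U.ι ''ᵁ ⊤))
    (e : (ClSub.idealMod 𝓘).restrict U.ι ≅ Coh.structureModule (↑U : Scheme.{u})) (m : ℕ) :
    imgIdeal (CohB1.tensorPow (ClSub.idealMod 𝓘) m) (powSec (ClSub.idealModι 𝓘) m) (U.ι ''ᵁ ⊤) =
      (𝓘.ideal ⟨U.ι ''ᵁ ⊤, hW⟩) ^ m := by
  induction m with
  | zero =>
    rw [pow_zero, Ideal.one_eq_top, Ideal.eq_top_iff_one]
    exact ⟨(1 : Γ(X, U.ι ''ᵁ ⊤)), rfl⟩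
  | succ m ih =>
    rw [imgIdeal_powSec_succ _ U e m, ih, imgIdeal_idealModι 𝓘 ⟨U.ι ''ᵁ ⊤, hW⟩, pow_succ]

/-- **powers of an invertible ideal**: `(idealMod 𝓘)^{⊗ m} ≅ idealMod (𝓘^m)` -/
theorem nonempty_tensorPow_iso_idealMod_pow (𝓘 : X.IdealSheafData)
    (hMi : PicF.IsInvertible (ClSub.idealMod 𝓘)) (m : ℕ) :
    Nonempty (CohB1.tensorPow (ClSub.idealMod 𝓘) m ≅ ClSub.idealMod (𝓘 ^ m)) := by
  haveI : (CohB1.tensorPow (ClSub.idealMod 𝓘) m).IsQuasicoherent :=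
    Groth.Agent.Lib.helper12.AmpleBasis.isQuasicoherent_of_isInvertible
      (isInvertible_tensorPow hMi m)
  haveI : Mono (ClSub.idealModι 𝓘) := Groth.Agent.Lib.helper7.IdealMod.mono_idealModι 𝓘
  haveI : Mono (powSec (ClSub.idealModι 𝓘) m) := mono_powSec _ hMi m
  have heq : idealOfHom (CohB1.tensorPow (ClSub.idealMod 𝓘) m) (powSec (ClSub.idealModι 𝓘) m) =
      𝓘 ^ m := by
    let ι := {U : X.Opens // IsAffineOpen U ∧ Groth.Agent.Lib.helper11.InvMod.IsTrivOn (ClSub.idealMod 𝓘) U}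
    have haff : ∀ U : ι, IsAffineOpen (U.1.ι ''ᵁ ⊤) := fun U => by
      rw [Scheme.Opens.ι_image_top]; exact U.2.1
    refine Scheme.IdealSheafData.ext_of_iSup_eq_top
      (fun U : ι => (⟨U.1.ι ''ᵁ ⊤, haff U⟩ : X.affineOpens)) ?_ (fun U => ?_)
    · rw [eq_top_iff]
      intro x _
      obtain ⟨U, hU, hxU, -, hT⟩ :=
        Groth.Agent.Lib.helper11.InvMod.exists_affine_isTrivOn hMi x ⊤ trivial
      refine Opens.mem_iSup.mpr ⟨⟨U, hU, hT⟩, ?_⟩
      change x ∈ U.ι ''ᵁ ⊤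
      rw [Scheme.Opens.ι_image_top]
      exact hxU
    · obtain ⟨e⟩ := U.2.2
      change imgIdeal _ _ (U.1.ι ''ᵁ ⊤) = (𝓘.ideal ⟨U.1.ι ''ᵁ ⊤, haff U⟩) ^ m
      exact imgIdeal_powSec_idealModι 𝓘 U.1 (haff U) e m
  exact ⟨idealModIso (CohB1.tensorPow (ClSub.idealMod 𝓘) m) (powSec (ClSub.idealModι 𝓘) m) ≪≫
    eqToIso (congrArg ClSub.idealMod heq)⟩

end Groth.Agent.Lib.helper21.IdealPow
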