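import Mathlib

/-!
# Finiteness of the set of connected components from a finite set meeting all clopen subsets
-/

set_option autoImplicit false

namespace Groth.Agent.Lib.helper21.KPi1FEt1

variable {Z : Type*} [TopologicalSpace Z]

/-- a clopen set which is not preconnected splits into two nonempty clopen pieces -/
lemma exists_split_of_not_isPreconnected {A : Set Z} (hA : IsClopen A) (h : ¬ IsPreconnected A) :
    ∃ B B' : Set Z, IsClopen B ∧ IsClopen B' ∧ B.Nonempty ∧ B'.Nonempty ∧ Disjoint B B' ∧
      A = B ∪ B' := by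
  unfold IsPreconnected at h
  push_neg at h
  obtain ⟨u, v, hu, hv, hAuv, hAu, hAv, hempty⟩ := h
  have hdisj : ∀ x, x ∈ A → x ∈ u → x ∈ v → False := by
    intro x hxA hxu hxv
    have hx : x ∈ A ∩ (u ∩ v) := ⟨hxA, hxu, hxv⟩
    rw [hempty] at hx
    exact hx
  have e1 : A ∩ u = A \ v := by
    ext x
    constructor
    · rintro ⟨hxA, hxu⟩
      exact ⟨hxA, fun hxv => hdisj x hxA hxu hxv⟩
    · rintro ⟨hxA, hxv⟩
      rcases hAuv hxA with hxu | hxv'
      · exact ⟨hxA, hxu⟩
      · exact (hxv hxv').elim
  have e2 : A ∩ v = A \ u := by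
    ext x
    constructor
    · rintro ⟨hxA, hxv⟩
      exact ⟨hxA, fun hxu => hdisj x hxA hxu hxv⟩
    · rintro ⟨hxA, hxu⟩
      rcases hAuv hxA with hxu' | hxv
      · exact (hxu hxu').elim
      · exact ⟨hxA, hxv⟩
  refine ⟨A ∩ u, A ∩ v, ⟨?_, hA.2.inter hu⟩, ⟨?_, hA.2.inter hv⟩, hAu, hAv, ?_, ?_⟩
  · rw [e1]
    exact hA.1.sdiff hv
  · rw [e2]
    exact hA.1.sdiff hu
  · rw [Set.disjoint_left]
    rintro x ⟨hxA, hxu⟩ ⟨-, hxv⟩
    exact hdisj x hxA hxu hxv
  · ext x
    constructor
    · intro hxA
      rcases hAuv hxA with hxu | hxv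
      · exact Or.inl ⟨hxA, hxu⟩
      · exact Or.inr ⟨hxA, hxv⟩
    · rintro (⟨hxA, -⟩ | ⟨hxA, -⟩) <;> exact hxA

variable (S : Set Z) (hS : S.Finite)
  (h : ∀ A : Set Z, IsClopen A → A.Nonempty → (A ∩ S).Nonempty)

include hS h in
/-- the connected components meeting a clopen set are finite in number -/
lemma finite_components_of_clopen :
    ∀ (n : ℕ) (A : Set Z), IsClopen A → (A ∩ S).ncard ≤ n →
      (connectedComponent '' A).Finite := by
  intro n
  induction n with
  | zero =>
    intro A hA hn
    have h0 : A ∩ S = ∅ := by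
      have hfin : (A ∩ S).Finite := hS.subset Set.inter_subset_right
      exact (Set.ncard_eq_zero hfin).1 (Nat.le_zero.1 hn)
    have hAe : A = ∅ := by
      by_contra hne
      have := h A hA (Set.nonempty_iff_ne_empty.2 hne)
      rw [h0] at this
      exact Set.not_nonempty_empty this
    rw [hAe, Set.image_empty]
    exact Set.finite_empty
  | succ n ih =>
    intro A hA hn
    by_cases hpre : IsPreconnected A
    · -- a single component
      refine Set.Finite.subset (Set.finite_singleton A) ?_
      rintro K ⟨z, hz, rfl⟩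
      rw [Set.mem_singleton_iff]
      exact Set.Subset.antisymm (hA.connectedComponent_subset hz)
        (hpre.subset_connectedComponent hz)
    · obtain ⟨B, B', hB, hB', hBne, hB'ne, hdisj, rfl⟩ := exists_split_of_not_isPreconnected hA hpre
      have hfin : ((B ∪ B') ∩ S).Finite := hS.subset Set.inter_subset_right
      have hlt : ∀ (C C' : Set Z), IsClopen C' → C'.Nonempty → Disjoint C C' → C ⊆ B ∪ B' →
          C' ⊆ B ∪ B' → (C ∩ S).ncard ≤ n := by
        intro C C' hC' hC'ne hCC' hCsub hC'sub
        obtain ⟨x, hx⟩ := h C' hC' hC'ne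
        have hx1 : x ∈ (B ∪ B') ∩ S := ⟨hC'sub hx.1, hx.2⟩
        have hx2 : x ∉ C ∩ S := fun hxC => (Set.disjoint_left.1 hCC') hxC.1 hx.1
        have hsub : C ∩ S ⊂ (B ∪ B') ∩ S := by
          refine ⟨fun y hy => ⟨hCsub hy.1, hy.2⟩, fun hcon => hx2 (hcon hx1)⟩
        have := Set.ncard_lt_ncard hsub hfin
        omega
      have h1 := ih B hB (hlt B B' hB' hB'ne hdisj Set.subset_union_left Set.subset_union_right)
      have h2 := ih B' hB' (hlt B' B hB hBne hdisj.symm Set.subset_union_right
        Set.subset_union_left)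
      rw [Set.image_union]
      exact h1.union h2

include hS h in
/-- if a finite set meets every nonempty clopen subset, there are finitely many connected
components -/
theorem finite_connectedComponents : Finite (ConnectedComponents Z) := by
  have hfin : (connectedComponent '' (Set.univ : Set Z)).Finite :=
    finite_components_of_clopen S hS h _ Set.univ isClopen_univ le_rfl
  rw [Set.image_univ] at hfin
  haveI : Finite (Set.range (connectedComponent : Z → Set Z)) := hfin
  let φ : ConnectedComponents Z → Set.range (connectedComponent : Z → Set Z) :=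
    Quotient.lift (fun z => (⟨connectedComponent z, z, rfl⟩ :
      Set.range (connectedComponent : Z → Set Z))) (by
        intro a b hab
        exact Subtype.ext hab)
  refine Finite.of_injective φ ?_
  intro a b
  induction a using Quotient.inductionOn with | _ a => ?_
  induction b using Quotient.inductionOn with | _ b => ?_
  intro hab
  apply Quotient.sound
  exact congrArg Subtype.val hab

end Groth.Agent.Lib.helper21.KPi1FEt1
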