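import Mathlib
import Groth.Prelude.Def_EtBase
import Groth.Prelude.Def_EtCore
import Groth.Prelude.Def_EtLim
import Groth.Agent.Lib.Helper21.KPi1FEt1
import Groth.Agent.Lib.Helper21.FEtTrace2
import Groth.Agent.Lib.Helper21.FlcPull
import Groth.Agent.Lib.Helper27.AcycComp
import Groth.Agent.S14451
import Groth.Agent.S0071

/-!
# Invariance of the `K(π,1)` property under finite étale surjective morphisms
-/

set_option autoImplicit false

open CategoryTheory CategoryTheory.Limits Opposite AlgebraicGeometry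

namespace Groth.Agent.Lib.helper21.KPi1FEt2

open Groth.Agent.Lib.helper21.KPi1FEt1 Groth.Agent.Lib.helper21.FEtTrace2

universe u

section Top

/-- the source of a finite étale morphism has finitely many connected components if the target
does -/
theorem finite_connectedComponents_of_finite_etale {X Y : Scheme.{u}} (f : X ⟶ Y) [IsFinite f]
    [Etale f] (hconn : Finite (_root_.ConnectedComponents ↥Y)) :
    Finite (_root_.ConnectedComponents ↥X) := by
  let S : Set X := ⋃ C : _root_.ConnectedComponents ↥Y, f ⁻¹' {Quotient.out C}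
  have hS : S.Finite := Set.finite_iUnion (fun C => Scheme.Hom.finite_preimage_singleton f _)
  refine finite_connectedComponents S hS ?_
  intro A hA hAne
  have hop : IsOpen (f '' A) := f.isOpenMap A hA.2
  have hcl : IsClosed (f '' A) := f.isClosedMap A hA.1
  obtain ⟨a, ha⟩ := hAne
  let C : _root_.ConnectedComponents ↥Y := ConnectedComponents.mk (f a)
  have hC : connectedComponent (Quotient.out C) = connectedComponent (f a) := by
    rw [← ConnectedComponents.coe_eq_coe]
    exact Quotient.out_eq C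
  have h1 : connectedComponent (f a) ⊆ f '' A :=
    IsClopen.connectedComponent_subset ⟨hcl, hop⟩ ⟨a, ha, rfl⟩
  have h2 : Quotient.out C ∈ f '' A := h1 (hC ▸ mem_connectedComponent)
  obtain ⟨a', ha', hfa'⟩ := h2
  exact ⟨a', ha', Set.mem_iUnion.2 ⟨C, hfa'⟩⟩

end Top

section KPi1

open Groth.Agent.Lib.helper27.AcycComp Groth.Agent.Lib.helper27.HpullHmap

/-- `Z` is a `K(π,1)` for `P`-torsion coefficients -/
def KPi1 (P : Set ℕ) (Z : Scheme.{u}) : Prop :=
  ∀ (F : EtCoh.Ab Z), EtCoh.IsFiniteLocallyConstant F →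
    (∃ n : ℕ, 0 < n ∧ (∀ p : ℕ, p.Prime → p ∣ n → p ∈ P) ∧ EtCoh.KilledBy n F) →
    ∀ q : ℕ, 0 < q → ∀ ζ : EtCoh.H Z F q,
      ∃ (Z' : Scheme.{u}) (g : Z' ⟶ Z), IsFinite g ∧ Etale g ∧ Surjective g ∧
        ∀ [PreservesFiniteLimits (EtCoh.pull g)], EtCore.Hpull g F q ζ = 0

lemma killedBy_iff {Z : Scheme.{u}} (n : ℕ) (F : EtCoh.Ab Z) :
    EtCoh.KilledBy n F ↔ (n • 𝟙 F : F ⟶ F) = 0 := by
  constructor
  · intro h
    apply Sheaf.hom_ext
    apply NatTrans.ext
    funext V
    ext s
    refine (nsmul_id_apply F n V s).trans ?_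
    induction V using Opposite.rec with | _ V => ?_
    exact h V s
  · intro h U s
    rw [← nsmul_id_apply F n (op U) s, h]
    rfl

lemma killedBy_pull {X Y : Scheme.{u}} (f : X ⟶ Y) (n : ℕ) (F : EtCoh.Ab Y)
    (h : EtCoh.KilledBy n F) : EtCoh.KilledBy n ((EtCoh.pull f).obj F) := by
  rw [killedBy_iff] at h ⊢
  have h1 : (EtCoh.pull f).map (n • 𝟙 F : F ⟶ F) = n • 𝟙 _ := by
    rw [Functor.map_nsmul, CategoryTheory.Functor.map_id]
  rw [← h1, h, Functor.map_zero]

variable (P : Set ℕ) {X Y : Scheme.{u}} (f : X ⟶ Y) [IsFinite f] [Etale f] [Surjective f]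

include f in
/-- descent of the `K(π,1)` property along a finite étale surjective morphism -/
theorem kpi1_of_source (hX : KPi1 P X) : KPi1 P Y := by
  intro F hF hn q hq ζ
  obtain ⟨n, hn0, hP, hk⟩ := hn
  obtain ⟨X', g, hg1, hg2, hg3, hg⟩ := hX ((EtCoh.pull f).obj F)
    (Groth.Agent.Lib.helper21.FlcPull.flc_pull f F hF) ⟨n, hn0, hP, killedBy_pull f n F hk⟩ q hq
    (EtCore.Hpull f F q ζ)
  refine ⟨X', g ≫ f, inferInstance, inferInstance, inferInstance, ?_⟩
  intro _
  obtain ⟨e, he⟩ := Hpull_comp g f (g ≫ f) rfl F q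
  have h1 := he ζ
  rw [hg] at h1
  apply (bijective_comp_mk₀_iso e q).1
  show (EtCore.Hpull (g ≫ f) F q ζ).comp (Abelian.Ext.mk₀ e.hom) (add_zero q) =
    (0 : EtCoh.H X' ((EtCoh.pull (g ≫ f)).obj F) q).comp (Abelian.Ext.mk₀ e.hom) (add_zero q)
  rw [← h1, Abelian.Ext.zero_comp]

include f in
/-- ascent of the `K(π,1)` property along a finite étale surjective morphism -/
theorem kpi1_of_target (hY : KPi1 P Y) : KPi1 P X := by
  intro F hF hn q hq ζ
  obtain ⟨n, hn0, hP, hk⟩ := hn
  have hbij := Groth.Agent.S14451.result f F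
    (fun q hq => Groth.Agent.S0071.result f F q hq) q
  obtain ⟨ζ₀, hζ₀⟩ := hbij.2 ζ
  obtain ⟨Y', g, hg1, hg2, hg3, hg⟩ := hY ((EtCoh.push f).obj F)
    (Groth.Agent.Lib.helper21.FEtPush2.flc_push f F hF)
    ⟨n, hn0, hP, fun U s => hk ((EtCoh.bc f).obj U) s⟩ q hq ζ₀
  refine ⟨pullback f g, pullback.fst f g,
    MorphismProperty.pullback_fst (P := @IsFinite) _ _ hg1,
    MorphismProperty.pullback_fst (P := @Etale) _ _ hg2,
    MorphismProperty.pullback_fst (P := @Surjective) _ _ hg3, ?_⟩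
  intro _
  rw [← hζ₀, Groth.Agent.Lib.helper27.HpullHmap.main f g (pullback.snd f g) (pullback.fst f g)
    pullback.condition F q ζ₀, hg]
  have h0 : ((EtCoh.HF Y' q).map (EtCoh.baseChange0 f g (pullback.snd f g) (pullback.fst f g)
      pullback.condition F)).hom 0 = 0 := map_zero _
  exact (congrArg (EtLim.HofPush (pullback.snd f g) ((EtCoh.pull (pullback.fst f g)).obj F) q)
    h0).trans (map_zero _)

end KPi1

end Groth.Agent.Lib.helper21.KPi1FEt2
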