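import Mathlib
import Groth.Prelude.Def_W4stkremschemesLRS

set_option autoImplicit false
universe u
open CategoryTheory AlgebraicGeometry Opposite TopologicalSpace

namespace Groth.Agent.Lib.Helper21.LRSClosed

variable {X Y : Scheme.{u}} (f : X ⟶ Y)

/-- the core local statement on an affine open with affine preimage -/
theorem span_germ_ker {U : Y.Opens} (hU : IsAffineOpen U) (hV : IsAffineOpen (f ⁻¹ᵁ U))
    (y' : Y) (hy' : y' ∈ U) :
    Ideal.span (Set.range fun j : RingHom.ker (f.app U).hom => Y.presheaf.germ U y' hy' j.1) =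
      RingHom.ker ((TopCat.Presheaf.stalkFunctor CommRingCat y').map f.c).hom := by
  apply le_antisymm
  · rw [Ideal.span_le]
    rintro _ ⟨⟨s, hs⟩, rfl⟩
    have h1 := TopCat.Presheaf.stalkFunctor_map_germ_apply U y' hy' f.c s
    have hs' : f.c.app (op U) s = 0 := (RingHom.mem_ker).1 hs
    show ((TopCat.Presheaf.stalkFunctor CommRingCat y').map f.c).hom
      (Y.presheaf.germ U y' hy' s) = 0
    refine h1.trans ?_
    rw [hs']
    exact map_zero _
  · intro z hz
    replace hz : ((TopCat.Presheaf.stalkFunctor CommRingCat y').map f.c).hom z = 0 := hz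
    -- represent `z` by a section over a neighbourhood
    obtain ⟨V₀, hy'V₀, t₀, rfl⟩ := Y.presheaf.germ_exist (x := y') z
    have h1 := TopCat.Presheaf.stalkFunctor_map_germ_apply V₀ y' hy'V₀ f.c t₀
    have h2 : (f.base _* X.presheaf).germ V₀ y' hy'V₀ (f.c.app (op V₀) t₀) =
        (f.base _* X.presheaf).germ V₀ y' hy'V₀ 0 := by
      rw [map_zero]
      exact h1.symm.trans hz
    obtain ⟨W, hy'W, iU, iV, hW⟩ := (f.base _* X.presheaf).germ_eq y' hy'V₀ hy'V₀ _ _ h2
    rw [map_zero] at hW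
    -- shrink to a basic open of `U`
    obtain ⟨g, hgW, hy'g⟩ := hU.exists_basicOpen_le (V := W) ⟨y', hy'W⟩ hy'
    let Dg := Y.basicOpen g
    let i₀ : Dg ⟶ V₀ := homOfLE (hgW.trans iU.le)
    let t : Γ(Y, Dg) := Y.presheaf.map i₀.op t₀
    have hzt : Y.presheaf.germ V₀ y' hy'V₀ t₀ = Y.presheaf.germ Dg y' hy'g t :=
      (Y.presheaf.germ_res_apply i₀ y' hy'g t₀).symm
    have ht0 : f.c.app (op Dg) t = 0 := by
      have hn := ConcreteCategory.congr_hom (f.c.naturality i₀.op) t₀
      have hn' : f.c.app (op Dg) t = (f.base _* X.presheaf).map i₀.op (f.c.app (op V₀) t₀) := hn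
      rw [hn']
      have e : (f.base _* X.presheaf).map i₀.op =
          (f.base _* X.presheaf).map iU.op ≫ (f.base _* X.presheaf).map (homOfLE hgW).op := by
        rw [← Functor.map_comp]; rfl
      rw [e, ConcreteCategory.comp_apply, hW, map_zero]
    -- write `t = b / g ^ n`
    haveI := hU.isLocalization_basicOpen g
    obtain ⟨⟨b, ⟨_, n, rfl⟩⟩, hb⟩ := IsLocalization.surj (Submonoid.powers g) t
    have hb' : t * Y.presheaf.map (homOfLE (Y.basicOpen_le g)).op (g ^ n) =
        Y.presheaf.map (homOfLE (Y.basicOpen_le g)).op b := hb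
    -- `φ b` vanishes on the preimage of `D(g)`
    let φ := (f.app U).hom
    have hφb : X.presheaf.map (homOfLE (f.preimage_mono (Y.basicOpen_le g))).op (φ b) = 0 := by
      have hn := ConcreteCategory.congr_hom (f.c.naturality (homOfLE (Y.basicOpen_le g)).op) b
      have hn' : f.c.app (op Dg) (Y.presheaf.map (homOfLE (Y.basicOpen_le g)).op b) =
          X.presheaf.map (homOfLE (f.preimage_mono (Y.basicOpen_le g))).op (φ b) := hn
      rw [← hn', ← hb', map_mul, ht0, zero_mul]
    haveI := hV.isLocalization_of_eq_basicOpen (φ g)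
      (homOfLE (f.preimage_mono (Y.basicOpen_le g)) : f ⁻¹ᵁ Dg ⟶ f ⁻¹ᵁ U)
      (Scheme.preimage_basicOpen f g)
    letI : Algebra Γ(X, f ⁻¹ᵁ U) Γ(X, f ⁻¹ᵁ Dg) :=
      (X.presheaf.map (homOfLE (f.preimage_mono (Y.basicOpen_le g))).op).hom.toAlgebra
    obtain ⟨⟨_, m, rfl⟩, hm⟩ := (IsLocalization.map_eq_zero_iff (Submonoid.powers (φ g))
      Γ(X, f ⁻¹ᵁ Dg) (φ b)).1 hφb
    have hker : g ^ m * b ∈ RingHom.ker (f.app U).hom := by
      rw [RingHom.mem_ker, map_mul, map_pow]
      exact hm
    -- conclude in the stalk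
    have hu : IsUnit (Y.presheaf.germ U y' hy' g) := (Y.mem_basicOpen g y' hy').1 hy'g
    have hgb : Y.presheaf.germ U y' hy' b =
        Y.presheaf.germ Dg y' hy'g t * (Y.presheaf.germ U y' hy' g) ^ n := by
      have e1 := Y.presheaf.germ_res_apply (homOfLE (Y.basicOpen_le g)) y' hy'g b
      have e2 := Y.presheaf.germ_res_apply (homOfLE (Y.basicOpen_le g)) y' hy'g (g ^ n)
      rw [← e1, ← hb', map_mul, e2, map_pow]
    have hfin : (Y.presheaf.germ U y' hy' g) ^ (m + n) * Y.presheaf.germ Dg y' hy'g t =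
        Y.presheaf.germ U y' hy' (g ^ m * b) := by
      rw [map_mul, map_pow, hgb, pow_add]
      ring
    rw [hzt]
    refine (Ideal.unit_mul_mem_iff_mem _ (hu.pow (m + n))).1 ?_
    rw [hfin]
    exact Ideal.subset_span ⟨⟨g ^ m * b, hker⟩, rfl⟩

/-- a morphism of schemes which is a closed embedding with locally surjective comorphism is a
closed immersion of locally ringed spaces -/
theorem isClosedImmersion_lrs (h1 : Topology.IsClosedEmbedding f)
    (h2 : TopCat.Presheaf.IsLocallySurjective f.c) : LRSImm.IsClosedImmersion f.toLRSHom := by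
  refine ⟨h1, h2, ?_⟩
  haveI : IsAffineHom f := isAffineHom_of_isInducing f h1.isInducing h1.isClosed_range
  intro y
  obtain ⟨_, ⟨U, hU, rfl⟩, hyU, -⟩ :=
    Y.isBasis_affineOpens.exists_subset_of_mem_open (Set.mem_univ y) isOpen_univ
  refine ⟨U, hyU, RingHom.ker (f.app U).hom, fun j => j.1, fun j => ?_, fun y' hy' => ?_⟩
  · exact (RingHom.mem_ker).1 j.2
  · exact span_germ_ker f hU (hU.preimage f) y' hy'

end Groth.Agent.Lib.Helper21.LRSClosed
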