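import Mathlib

/-!
# Closures of constructible sets in affine schemes

In a spectral space a point lies in the closure of a constructible set `s` if and only if it is a
specialization of a point of `s`. We prove the non-trivial direction for prime spectra and affine
schemes.
-/

set_option autoImplicit false

open CategoryTheory AlgebraicGeometry Topology

namespace Groth.Agent.Lib.helper21.SpecClosure

universe u

/-- a point in the closure of a constructible subset of a prime spectrum is a specialization of a
point of that subset -/
theorem exists_specializes_of_mem_closure_primeSpectrum {R : Type u} [CommRing R]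
    {s : Set (PrimeSpectrum R)} (hs : IsConstructible s) {w : PrimeSpectrum R}
    (hw : w ∈ closure s) : ∃ c ∈ s, c ⤳ w := by
  obtain ⟨S, _, f, rfl⟩ := PrimeSpectrum.exists_range_eq_of_isConstructible hs
  rw [PrimeSpectrum.closure_range_comap, PrimeSpectrum.mem_zeroLocus] at hw
  have hle : (⊥ : Ideal S).comap f ≤ w.asIdeal := by
    intro a ha
    exact hw ha
  obtain ⟨Q, -, hQ, hQle⟩ := w.asIdeal.exists_ideal_comap_le_prime (⊥ : Ideal S) hle
  refine ⟨PrimeSpectrum.comap f ⟨Q, hQ⟩, ⟨⟨Q, hQ⟩, rfl⟩, ?_⟩
  rw [← PrimeSpectrum.le_iff_specializes]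
  exact hQle

/-- a point in the closure of a constructible subset of an affine scheme is a specialization of a
point of that subset -/
theorem exists_specializes_of_mem_closure (Y : Scheme.{u}) [IsAffine Y] {s : Set Y}
    (hs : IsConstructible s) {w : Y} (hw : w ∈ closure s) : ∃ c ∈ s, c ⤳ w := by
  let e : Y ≃ₜ PrimeSpectrum Γ(Y, ⊤) := Y.isoSpec.hom.homeomorph
  have hs' : IsConstructible (e.symm ⁻¹' s) :=
    hs.preimage_of_isOpenEmbedding e.symm.isOpenEmbedding
  have hw' : e w ∈ closure (e.symm ⁻¹' s) := by
    rw [← e.image_eq_preimage_symm, ← e.image_closure]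
    exact ⟨w, hw, rfl⟩
  obtain ⟨c, hc, hcw⟩ := exists_specializes_of_mem_closure_primeSpectrum hs' hw'
  refine ⟨e.symm c, hc, ?_⟩
  have := hcw.map e.symm.continuous
  rwa [e.symm_apply_apply] at this

end Groth.Agent.Lib.helper21.SpecClosure
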