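import Mathlib
import Groth.Prelude.Def_EtBase
import Groth.Prelude.Def_PBC
import Groth.Agent.Lib.Helper21.SpecIso1

/-!
# Finite stalks and bijective specialization maps imply finite local constancy
-/

set_option autoImplicit false

open CategoryTheory CategoryTheory.Limits Opposite AlgebraicGeometry Topology

namespace Groth.Agent.Lib.helper21.SpecIso2

open Groth.Agent.Lib.Helper21.ConstGerm Groth.Agent.Lib.Helper21.FlcExt
  Groth.Agent.Lib.Helper21.FlcSerre
  Groth.Agent.H1.EtStalk Groth.Agent.H1.EtGerm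
  Groth.Agent.Lib.helper21.StalkConst Groth.Agent.Lib.helper21.StalkSplit
  Groth.Agent.Lib.helper21.IrredNbhd Groth.Agent.Lib.helper21.CardCrit1
  Groth.Agent.Lib.helper21.SpecArrow2 Groth.Agent.Lib.helper21.SpecIso1
open Groth.Agent.Lib.helper21.CardCrit2 (map_comp_apply' default_eq_of_range)

universe u

variable {X : Scheme.{u}}

/-- around every geometric point, a sheaf with finite stalks and bijective specialization maps is
constant on an étale neighbourhood -/
theorem exists_triv_of_iso [IsLocallyNoetherian X] (F : EtCoh.Ab X)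
    (hiso : ∀ (Ω Ω' : Type u) [Field Ω] [IsSepClosed Ω] [Field Ω'] [IsSepClosed Ω']
        (ξ : Spec (CommRingCat.of Ω) ⟶ X) (ξ' : Spec (CommRingCat.of Ω') ⟶ X)
        (φ : Scheme.pointSmallEtale ξ' ⟶ Scheme.pointSmallEtale ξ),
        IsIso ((GrothendieckTopology.Point.Hom.sheafFiber (A := AddCommGrpCat.{u + 1}) φ).app F))
    {Ω₀ : Type u} [Field Ω₀] [IsSepClosed Ω₀] (ζ₀ : Spec (CommRingCat.of Ω₀) ⟶ X)
    [Finite ((EtCoh.stalk ζ₀).obj F)] :
    ∃ (W₂ : X.Etale) (w₂ : W₂.left) (M : AddCommGrpCat.{u + 1}) (_ : Finite M),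
      W₂.hom w₂ = ζ₀ default ∧
      Nonempty (EtCoh.restr F W₂ ≅ cst.{u + 1, u, u + 1} (X.smallEtaleTopology.over W₂) M) := by
  classical
  obtain ⟨W, w, σ, hσ⟩ := exists_splitting F ζ₀
  have hw₀ : W.hom (Lift.hom w default) = ζ₀ default :=
    congrArg (fun k : Spec (CommRingCat.of Ω₀) ⟶ X => k default) (Lift.hom_comp w)
  haveI : AlgebraicGeometry.Etale W.hom := W.prop
  haveI : IsLocallyNoetherian W.left := LocallyOfFiniteType.isLocallyNoetherian (Y := X) W.hom
  obtain ⟨O', hwO', hO'⟩ := exists_open_common_generization W.left (Lift.hom w default)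
  obtain ⟨y₂, hy₂⟩ := exists_lift_restrictOpen O' w hwO'
  let σ₂ : (EtCoh.stalk ζ₀).obj F →+ F.obj.obj (op (restrictOpen W O')) :=
    (F.obj.map (restrictOpenι W O').op).hom.comp σ
  have hσ₂ : ∀ p, germ ζ₀ F (restrictOpen W O') y₂ (σ₂ p) = p := by
    intro p
    show germ ζ₀ F (restrictOpen W O') y₂ (F.obj.map (restrictOpenι W O').op (σ p)) = p
    rw [germ_res, hy₂, hσ]
  have hy₂pt : O'.ι (Lift.hom y₂ default) = Lift.hom w default := by
    have h1 : Lift.hom y₂ ≫ O'.ι = Lift.hom w := by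
      have := congrArg Lift.hom hy₂
      rw [Lift.map_hom] at this
      exact this
    exact congrArg (fun k : Spec (CommRingCat.of Ω₀) ⟶ W.left => k default) h1
  have hbij : ∀ (Ω : Type u) [Field Ω] [IsSepClosed Ω] (ζ : Spec (CommRingCat.of Ω) ⟶ X)
      (y : Lift ζ (restrictOpen W O')),
      Function.Bijective (fun p => germ ζ F (restrictOpen W O') y (σ₂ p)) := by
    intro Ω _ _ ζ y
    -- a common generization of the centres of `y` and `y₂`
    have hvO : O'.ι (Lift.hom y default) ∈ O' := by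
      have : O'.ι (Lift.hom y default) ∈ Set.range O'.ι := ⟨_, rfl⟩
      rw [Scheme.Opens.range_ι] at this
      exact this
    obtain ⟨η, hη1, hη2⟩ := hO' _ hvO
    have hηO : η ∈ Set.range O'.ι := by
      rw [Scheme.Opens.range_ι]
      exact hη1.mem_open O'.2 hvO
    obtain ⟨η', rfl⟩ := hηO
    have h1 : η' ⤳ Lift.hom y default := O'.ι.isOpenEmbedding.isInducing.specializes_iff.1 hη1
    have h2 : η' ⤳ Lift.hom y₂ default := by
      apply O'.ι.isOpenEmbedding.isInducing.specializes_iff.1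
      rw [hy₂pt]
      exact hη2
    obtain ⟨ηb, yη, hyη⟩ := exists_geomPt_lift (restrictOpen W O') η'
    obtain ⟨φ₁, hφ₁⟩ := exists_arrow ζ₀ ηb y₂ yη (by rw [hyη]; exact h2)
    obtain ⟨φ₂, hφ₂⟩ := exists_arrow ζ ηb y yη (by rw [hyη]; exact h1)
    haveI := hiso _ _ ζ₀ ηb φ₁
    haveI := hiso _ _ ζ ηb φ₂
    have hb₁ : Function.Bijective
        ((GrothendieckTopology.Point.Hom.sheafFiber (A := AddCommGrpCat.{u + 1}) φ₁).app F) :=
      (ConcreteCategory.isIso_iff_bijective _).1 inferInstance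
    have hb₂ : Function.Bijective
        ((GrothendieckTopology.Point.Hom.sheafFiber (A := AddCommGrpCat.{u + 1}) φ₂).app F) :=
      (ConcreteCategory.isIso_iff_bijective _).1 inferInstance
    have hcomp : ∀ p, (GrothendieckTopology.Point.Hom.sheafFiber (A := AddCommGrpCat.{u + 1}) φ₂).app F
        (germ ζ F (restrictOpen W O') y (σ₂ p)) =
        (GrothendieckTopology.Point.Hom.sheafFiber (A := AddCommGrpCat.{u + 1}) φ₁).app F p := by
      intro p
      rw [sheafFiber_germ, hφ₂]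
      conv_rhs => rw [← hσ₂ p]
      rw [sheafFiber_germ, hφ₁]
    have h3 : ((GrothendieckTopology.Point.Hom.sheafFiber (A := AddCommGrpCat.{u + 1}) φ₂).app F) ∘
        (fun p => germ ζ F (restrictOpen W O') y (σ₂ p)) =
        (GrothendieckTopology.Point.Hom.sheafFiber (A := AddCommGrpCat.{u + 1}) φ₁).app F :=
      funext hcomp
    have h4 : Function.Bijective
        (((GrothendieckTopology.Point.Hom.sheafFiber (A := AddCommGrpCat.{u + 1}) φ₂).app F) ∘
        (fun p => germ ζ F (restrictOpen W O') y (σ₂ p))) := by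
      rw [h3]; exact hb₁
    exact (Function.Bijective.of_comp_iff' hb₂ _).1 h4
  haveI := isIso_psi_of_bijective F ζ₀ σ₂ hbij
  have hσ₂inj : Function.Injective σ₂ := fun p p' h => by
    rw [← hσ₂ p, ← hσ₂ p', h]
  haveI : Finite σ₂.range := Finite.of_equiv _ (Equiv.ofInjective σ₂ hσ₂inj)
  refine ⟨restrictOpen W O', Lift.hom y₂ default, AddCommGrpCat.of σ₂.range, ‹_›, ?_,
    ⟨(asIso (psi F σ₂.range)).symm⟩⟩
  show W.hom (O'.ι (Lift.hom y₂ default)) = ζ₀ default
  rw [hy₂pt, hw₀]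

/-- **finite stalks + bijective specialization maps ⟹ finite locally constant** -/
theorem flc_of_iso_spec [IsLocallyNoetherian X] (F : EtCoh.Ab X)
    (hfin : ∀ (Ω : Type u) [Field Ω] [IsSepClosed Ω] (ξ : Spec (CommRingCat.of Ω) ⟶ X),
      Finite ((EtCoh.stalk ξ).obj F))
    (hiso : ∀ (Ω Ω' : Type u) [Field Ω] [IsSepClosed Ω] [Field Ω'] [IsSepClosed Ω']
        (ξ : Spec (CommRingCat.of Ω) ⟶ X) (ξ' : Spec (CommRingCat.of Ω') ⟶ X)
        (φ : Scheme.pointSmallEtale ξ' ⟶ Scheme.pointSmallEtale ξ),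
        IsIso ((GrothendieckTopology.Point.Hom.sheafFiber (A := AddCommGrpCat.{u + 1}) φ).app F)) :
    EtCoh.IsFiniteLocallyConstant F := by
  have key : ∀ x : X, ∃ (W₂ : X.Etale) (w₂ : W₂.left) (M : AddCommGrpCat.{u + 1}) (_ : Finite M),
      W₂.hom w₂ = x ∧
      Nonempty (EtCoh.restr F W₂ ≅ cst.{u + 1, u, u + 1} (X.smallEtaleTopology.over W₂) M) := by
    intro x
    haveI := hfin _ (geomPt X x)
    obtain ⟨W₂, w₂, M, fM, hw, he⟩ := exists_triv_of_iso F hiso (geomPt X x)
    exact ⟨W₂, w₂, M, fM, hw.trans (geomPt_default X x), he⟩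
  choose W₂ w₂ M fM hw he using key
  refine ⟨X, W₂, fun x => ⟨x, w₂ x, hw x⟩, fun x => ?_⟩
  haveI := fM x
  obtain ⟨K, iK, fK, ⟨eK⟩⟩ := exists_type0_model (M x)
  obtain ⟨e⟩ := he x
  exact ⟨K, iK, fK,
    ⟨e ≪≫ (constantSheaf (X.smallEtaleTopology.over (W₂ x)) AddCommGrpCat.{u + 1}).mapIso eK⟩⟩

end Groth.Agent.Lib.helper21.SpecIso2
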