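import Mathlib
import Groth.Prelude.Def_EtBase
import Groth.Agent.Lib.Helper1.EtGerm
import Groth.Agent.Lib.Helper1.EtStalkPull
import Groth.Agent.S0100

/-!
# Germs of inverse images: an explicit retraction `(f⁻¹F)_ζ ⟶ F_{ζ ≫ f}`

For `f : X ⟶ Y`, an abelian sheaf `F` on `Y`, a geometric point `ζ` of `X`, an étale `V` over `Y`
and a lift `ỹ` of `ζ` to `V ×_Y X`, the germ at `ỹ` of the image of `s ∈ F(V)` under the unit
`F(V) ⟶ (f⁻¹F)(V ×_Y X)` determines the germ of `s` at the projected lift.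
-/

set_option autoImplicit false

open CategoryTheory CategoryTheory.Limits Opposite AlgebraicGeometry

namespace Groth.Agent.Lib.helper21.StalkPullGerm

open Groth.Agent.H1.EtGerm Groth.Agent.H1.EtStalkPull

universe u

variable {X Y : Scheme.{u}} (f : X ⟶ Y) {Ω : Type u} [Field Ω] [IsSepClosed Ω]
  (ζ : Spec (CommRingCat.of Ω) ⟶ X)

/-- the underlying morphism of a lift to `V ×_Y X` -/
noncomputable def homP {V : Y.Etale} (y : Lift ζ ((EtCoh.bc f).obj V)) :
    Spec (CommRingCat.of Ω) ⟶ pullback V.hom f := Lift.hom y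

lemma homP_snd {V : Y.Etale} (y : Lift ζ ((EtCoh.bc f).obj V)) :
    homP f ζ y ≫ pullback.snd V.hom f = ζ := Lift.hom_comp y

/-- projection of a lift of `ζ` to `V ×_Y X` to a lift of `ζ ≫ f` to `V` -/
noncomputable def pr {V : Y.Etale} (y : Lift ζ ((EtCoh.bc f).obj V)) : Lift (ζ ≫ f) V :=
  Lift.mk (ζ ≫ f) (homP f ζ y ≫ pullback.fst V.hom f) (by
    have h1 := homP_snd f ζ y
    calc (homP f ζ y ≫ pullback.fst V.hom f) ≫ V.hom
        = homP f ζ y ≫ (pullback.fst V.hom f ≫ V.hom) := Category.assoc _ _ _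
      _ = homP f ζ y ≫ (pullback.snd V.hom f ≫ f) :=
          congrArg (fun k => homP f ζ y ≫ k) pullback.condition
      _ = (homP f ζ y ≫ pullback.snd V.hom f) ≫ f := (Category.assoc _ _ _).symm
      _ = ζ ≫ f := congrArg (fun k => k ≫ f) h1)

lemma pr_hom {V : Y.Etale} (y : Lift ζ ((EtCoh.bc f).obj V)) :
    Lift.hom (pr f ζ y) = homP f ζ y ≫ pullback.fst V.hom f := Lift.mk_hom _ _

lemma bc_map_left_fst {V V' : Y.Etale} (k : V' ⟶ V) :
    (((EtCoh.bc f).map k).left : pullback V'.hom f ⟶ pullback V.hom f) ≫ pullback.fst V.hom f =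
      pullback.fst V'.hom f ≫ k.left := by
  simp only [EtCoh.bc, MorphismProperty.Over.pullback_map_left]
  exact pullback.lift_fst _ _ _

lemma pr_map {V V' : Y.Etale} (k : V' ⟶ V) (y : Lift ζ ((EtCoh.bc f).obj V')) :
    pr f ζ (Lift.map ((EtCoh.bc f).map k) y) = Lift.map k (pr f ζ y) := by
  apply Lift.ext
  have h1 : homP f ζ (Lift.map ((EtCoh.bc f).map k) y) =
      homP f ζ y ≫ (((EtCoh.bc f).map k).left : pullback V'.hom f ⟶ pullback V.hom f) :=
    Lift.map_hom _ _
  calc Lift.hom (pr f ζ (Lift.map ((EtCoh.bc f).map k) y))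
      = homP f ζ (Lift.map ((EtCoh.bc f).map k) y) ≫ pullback.fst V.hom f := pr_hom f ζ _
    _ = (homP f ζ y ≫ (((EtCoh.bc f).map k).left : pullback V'.hom f ⟶ pullback V.hom f)) ≫
          pullback.fst V.hom f := congrArg (fun t => t ≫ pullback.fst V.hom f) h1
    _ = homP f ζ y ≫ ((((EtCoh.bc f).map k).left : pullback V'.hom f ⟶ pullback V.hom f) ≫
          pullback.fst V.hom f) := Category.assoc _ _ _
    _ = homP f ζ y ≫ (pullback.fst V'.hom f ≫ k.left) :=
          congrArg (fun t => homP f ζ y ≫ t) (bc_map_left_fst f k)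
    _ = (homP f ζ y ≫ pullback.fst V'.hom f) ≫ k.left := (Category.assoc _ _ _).symm
    _ = Lift.hom (pr f ζ y) ≫ k.left := congrArg (fun t => t ≫ k.left) (pr_hom f ζ y).symm
    _ = Lift.hom (Lift.map k (pr f ζ y)) := (Lift.map_hom _ _).symm

/-- the canonical lift of `ζ` to `V ×_Y X` attached to a lift of `ζ ≫ f` to `V` -/
noncomputable def up {V : Y.Etale} (y : Lift (ζ ≫ f) V) : Lift ζ ((EtCoh.bc f).obj V) :=
  Lift.mk (U := (EtCoh.bc f).obj V) ζ
    (show Spec (CommRingCat.of Ω) ⟶ ((EtCoh.bc f).obj V).left from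
      pullback.lift (Lift.hom y) ζ (Lift.hom_comp y))
    (show pullback.lift (Lift.hom y) ζ (Lift.hom_comp y) ≫ pullback.snd V.hom f = ζ from
      pullback.lift_snd _ _ _)

lemma homP_up {V : Y.Etale} (y : Lift (ζ ≫ f) V) :
    homP f ζ (up f ζ y) = pullback.lift (Lift.hom y) ζ (Lift.hom_comp y) := Lift.mk_hom _ _

lemma pr_up {V : Y.Etale} (y : Lift (ζ ≫ f) V) : pr f ζ (up f ζ y) = y := by
  apply Lift.ext
  calc Lift.hom (pr f ζ (up f ζ y)) = homP f ζ (up f ζ y) ≫ pullback.fst V.hom f := pr_hom f ζ _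
    _ = pullback.lift (Lift.hom y) ζ (Lift.hom_comp y) ≫ pullback.fst V.hom f :=
        congrArg (fun t => t ≫ pullback.fst V.hom f) (homP_up f ζ y)
    _ = Lift.hom y := pullback.lift_fst _ _ _

lemma up_pr {V : Y.Etale} (y : Lift ζ ((EtCoh.bc f).obj V)) : up f ζ (pr f ζ y) = y := by
  apply Lift.ext
  show homP f ζ (up f ζ (pr f ζ y)) = homP f ζ y
  rw [homP_up]
  apply pullback.hom_ext
  · rw [pullback.lift_fst]
    exact pr_hom f ζ y
  · rw [pullback.lift_snd]
    exact (homP_snd f ζ y).symm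

lemma center_pr {V : Y.Etale} (y : Lift ζ ((EtCoh.bc f).obj V)) :
    Lift.hom (pr f ζ y) default = (pullback.fst V.hom f) (homP f ζ y default) := by
  rw [pr_hom]
  rfl

section Retraction

open GrothendieckTopology

instance initiallySmall_comap :
    InitiallySmall.{u} (EtCoh.bc f ⋙ (Scheme.pointSmallEtale ζ).fiber).Elements := by
  have : InitiallySmall.{u} (Scheme.pointSmallEtale (ζ ≫ f)).fiber.Elements :=
    (Scheme.pointSmallEtale (ζ ≫ f)).initiallySmall
  let E := Cat.equivOfIso (Functor.elementsFunctor.mapIso (Groth.Agent.S0100.fiberIso f ζ).symm)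
  let F : (Scheme.pointSmallEtale (ζ ≫ f)).fiber.Elements ⥤
      (EtCoh.bc f ⋙ (Scheme.pointSmallEtale ζ).fiber).Elements := E.functor
  have : F.IsEquivalence := E.isEquivalence_functor
  exact initiallySmall_of_initial_of_initiallySmall F

/-- the point of `Y` obtained from `ζ` via base change -/
noncomputable abbrev Phi' : Point.{u} Y.smallEtaleTopology :=
  (Scheme.pointSmallEtale ζ).comap (EtCoh.bc f) (EtCoh.coverPreserving_bc f)

variable (F : EtCoh.Ab Y)

/-- the comparison map from the stalk at the base-changed point to the stalk at `ζ ≫ f` -/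
noncomputable def tMap : (Phi' f ζ).presheafFiber.obj F.obj ⟶
    (Scheme.pointSmallEtale (ζ ≫ f)).presheafFiber.obj F.obj :=
  (Phi' f ζ).presheafFiberDesc
    (fun V y => (Scheme.pointSmallEtale (ζ ≫ f)).toPresheafFiber V (pr f ζ y) F.obj)
    (by
      intro V V' k y
      have h1 := (Scheme.pointSmallEtale (ζ ≫ f)).toPresheafFiber_w k (pr f ζ y) F.obj
      have h2 : pr f ζ ((Phi' f ζ).fiber.map k y) = Lift.map k (pr f ζ y) := pr_map f ζ k y
      rw [h2]
      exact h1)

/-- the map `F ⟶ f_* (skyscraper)` -/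
noncomputable def hMap : F ⟶ (Phi' f ζ).skyscraperSheaf
    ((Scheme.pointSmallEtale (ζ ≫ f)).presheafFiber.obj F.obj) :=
  ((Phi' f ζ).skyscraperSheafAdjunction.homEquiv F _) (tMap f ζ F)

lemma hMap_hom : (hMap f ζ F).hom = (Phi' f ζ).skyscraperPresheafHomEquiv (tMap f ζ F) :=
  (Phi' f ζ).skyscraperSheafAdjunction_homEquiv_apply_hom (tMap f ζ F)

/-- the adjoint map `f⁻¹F ⟶ skyscraper` -/
noncomputable def gMap : (EtCoh.pull f).obj F ⟶ (Scheme.pointSmallEtale ζ).skyscraperSheaf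
    ((Scheme.pointSmallEtale (ζ ≫ f)).presheafFiber.obj F.obj) :=
  ((EtCoh.pullPushAdj f).homEquiv F _).symm
    (hMap f ζ F ≫ (((Scheme.pointSmallEtale ζ).skyscraperSheafFunctorCompSheafPushforwardContinuous
      (EtCoh.bc f) (EtCoh.coverPreserving_bc f) AddCommGrpCat.{u + 1}).app _).inv)

/-- the retraction `(f⁻¹F)_ζ ⟶ F_{ζ ≫ f}` -/
noncomputable def dMap : (Scheme.pointSmallEtale ζ).presheafFiber.obj ((EtCoh.pull f).obj F).obj ⟶
    (Scheme.pointSmallEtale (ζ ≫ f)).presheafFiber.obj F.obj :=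
  (Scheme.pointSmallEtale ζ).skyscraperPresheafHomEquiv.symm (gMap f ζ F).hom

/-- the unit `F(V) ⟶ (f⁻¹F)(V ×_Y X)` on sections -/
noncomputable def unitV (V : Y.Etale) :
    F.obj.obj (op V) ⟶ ((EtCoh.pull f).obj F).obj.obj (op ((EtCoh.bc f).obj V)) :=
  ((EtCoh.pullPushAdj f).unit.app F).hom.app (op V)

lemma unit_gMap (V : Y.Etale) :
    unitV f F V ≫ (gMap f ζ F).hom.app (op ((EtCoh.bc f).obj V)) = (hMap f ζ F).hom.app (op V) := by
  have h1 := (EtCoh.pullPushAdj f).homEquiv_unit (X := F)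
    (Y := (Scheme.pointSmallEtale ζ).skyscraperSheaf
      ((Scheme.pointSmallEtale (ζ ≫ f)).presheafFiber.obj F.obj)) (f := gMap f ζ F)
  have h2 : (EtCoh.pullPushAdj f).homEquiv F _ (gMap f ζ F) =
      hMap f ζ F ≫ (((Scheme.pointSmallEtale ζ).skyscraperSheafFunctorCompSheafPushforwardContinuous
      (EtCoh.bc f) (EtCoh.coverPreserving_bc f) AddCommGrpCat.{u + 1}).app _).inv :=
    Equiv.apply_symm_apply _ _
  rw [h2] at h1
  have h3 := congrArg (fun k => k.hom.app (op V)) h1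
  exact h3.symm

/-- **key formula**: the retraction sends the germ of the unit image of `s` to the germ of `s` -/
theorem unit_germ_dMap (V : Y.Etale) (y : Lift ζ ((EtCoh.bc f).obj V)) :
    unitV f F V ≫
      ((Scheme.pointSmallEtale ζ).toPresheafFiber ((EtCoh.bc f).obj V) y
        ((EtCoh.pull f).obj F).obj ≫ dMap f ζ F) =
      (Scheme.pointSmallEtale (ζ ≫ f)).toPresheafFiber V (pr f ζ y) F.obj := by
  have h1 : (Scheme.pointSmallEtale ζ).toPresheafFiber ((EtCoh.bc f).obj V) y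
      ((EtCoh.pull f).obj F).obj ≫ dMap f ζ F =
      (gMap f ζ F).hom.app (op ((EtCoh.bc f).obj V)) ≫ Pi.π _ y :=
    (Scheme.pointSmallEtale ζ).toPresheafFiber_skyscraperPresheafHomEquiv_symm
      (gMap f ζ F).hom ((EtCoh.bc f).obj V) y
  have h3 : ((Phi' f ζ).skyscraperPresheafHomEquiv (tMap f ζ F)).app (op V) ≫ Pi.π _ y =
      (Phi' f ζ).toPresheafFiber V y F.obj ≫ tMap f ζ F :=
    (Phi' f ζ).skyscraperPresheafHomEquiv_app_π (tMap f ζ F) V y
  have h4 : (Phi' f ζ).toPresheafFiber V y F.obj ≫ tMap f ζ F =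
      (Scheme.pointSmallEtale (ζ ≫ f)).toPresheafFiber V (pr f ζ y) F.obj :=
    (Phi' f ζ).toPresheafFiber_presheafFiberDesc _ _ V y
  calc unitV f F V ≫ ((Scheme.pointSmallEtale ζ).toPresheafFiber ((EtCoh.bc f).obj V) y
        ((EtCoh.pull f).obj F).obj ≫ dMap f ζ F)
      = unitV f F V ≫ ((gMap f ζ F).hom.app (op ((EtCoh.bc f).obj V)) ≫ Pi.π _ y) :=
        congrArg (fun k => unitV f F V ≫ k) h1
    _ = (unitV f F V ≫ (gMap f ζ F).hom.app (op ((EtCoh.bc f).obj V))) ≫ Pi.π _ y :=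
        (Category.assoc _ _ _).symm
    _ = (hMap f ζ F).hom.app (op V) ≫ Pi.π _ y :=
        congrArg (fun k => k ≫ Pi.π _ y) (unit_gMap f ζ F V)
    _ = ((Phi' f ζ).skyscraperPresheafHomEquiv (tMap f ζ F)).app (op V) ≫ Pi.π _ y := by
        rw [hMap_hom]
        rfl
    _ = _ := h3.trans h4

/-- elementwise form of `unit_germ_dMap` -/
theorem dMap_germ (V : Y.Etale) (y : Lift ζ ((EtCoh.bc f).obj V)) (s : F.obj.obj (op V)) :
    dMap f ζ F (germ ζ ((EtCoh.pull f).obj F) ((EtCoh.bc f).obj V) y (unitV f F V s)) =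
      germ (ζ ≫ f) F V (pr f ζ y) s :=
  congrArg (fun k : F.obj.obj (op V) ⟶
    (Scheme.pointSmallEtale (ζ ≫ f)).presheafFiber.obj F.obj => k s) (unit_germ_dMap f ζ F V y)

/-- **reflection of vanishing germs** -/
theorem germ_eq_zero_of_unit (V : Y.Etale) (y : Lift (ζ ≫ f) V) (s : F.obj.obj (op V))
    (h : germ ζ ((EtCoh.pull f).obj F) ((EtCoh.bc f).obj V) (up f ζ y) (unitV f F V s) = 0) :
    germ (ζ ≫ f) F V y s = 0 := by
  have h1 := dMap_germ f ζ F V (up f ζ y) s
  rw [h, pr_up] at h1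
  rw [← h1]
  exact map_zero _

lemma unitV_nat {V V' : Y.Etale} (k : V' ⟶ V) (s : F.obj.obj (op V)) :
    ((EtCoh.pull f).obj F).obj.map ((EtCoh.bc f).map k).op (unitV f F V s) =
      unitV f F V' (F.obj.map k.op s) := by
  have h := ((EtCoh.pullPushAdj f).unit.app F).hom.naturality k.op
  exact (congrArg (fun t : F.obj.obj (op V) ⟶
    ((EtCoh.pull f).obj F).obj.obj (op ((EtCoh.bc f).obj V')) => t s) h).symm

lemma bc_map_left_snd {V V' : Y.Etale} (k : V' ⟶ V) :
    (((EtCoh.bc f).map k).left : pullback V'.hom f ⟶ pullback V.hom f) ≫ pullback.snd V.hom f =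
      pullback.snd V'.hom f := by
  simp only [EtCoh.bc, MorphismProperty.Over.pullback_map_left]
  exact pullback.lift_snd _ _ _

lemma up_map {V V' : Y.Etale} (k : V' ⟶ V) (y' : Lift (ζ ≫ f) V') :
    Lift.map ((EtCoh.bc f).map k) (up f ζ y') = up f ζ (Lift.map k y') := by
  apply Lift.ext
  have h1 : homP f ζ (Lift.map ((EtCoh.bc f).map k) (up f ζ y')) =
      homP f ζ (up f ζ y') ≫ (((EtCoh.bc f).map k).left : pullback V'.hom f ⟶ pullback V.hom f) :=
    Lift.map_hom _ _
  show homP f ζ (Lift.map ((EtCoh.bc f).map k) (up f ζ y')) = homP f ζ (up f ζ (Lift.map k y'))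
  refine h1.trans ?_
  refine (congrArg (fun t => t ≫ (((EtCoh.bc f).map k).left :
    pullback V'.hom f ⟶ pullback V.hom f)) (homP_up f ζ y')).trans ?_
  refine Eq.trans ?_ (homP_up f ζ (Lift.map k y')).symm
  apply pullback.hom_ext
  · calc (pullback.lift (Lift.hom y') ζ (Lift.hom_comp y') ≫
            (((EtCoh.bc f).map k).left : pullback V'.hom f ⟶ pullback V.hom f)) ≫
            pullback.fst V.hom f
        = pullback.lift (Lift.hom y') ζ (Lift.hom_comp y') ≫
            ((((EtCoh.bc f).map k).left : pullback V'.hom f ⟶ pullback V.hom f) ≫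
            pullback.fst V.hom f) := Category.assoc _ _ _
      _ = pullback.lift (Lift.hom y') ζ (Lift.hom_comp y') ≫ (pullback.fst V'.hom f ≫ k.left) :=
          congrArg (fun t => pullback.lift (Lift.hom y') ζ (Lift.hom_comp y') ≫ t)
            (bc_map_left_fst f k)
      _ = (pullback.lift (Lift.hom y') ζ (Lift.hom_comp y') ≫ pullback.fst V'.hom f) ≫ k.left :=
          (Category.assoc _ _ _).symm
      _ = Lift.hom y' ≫ k.left := congrArg (fun t => t ≫ k.left) (pullback.lift_fst _ _ _)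
      _ = Lift.hom (Lift.map k y') := (Lift.map_hom _ _).symm
      _ = pullback.lift (Lift.hom (Lift.map k y')) ζ (Lift.hom_comp _) ≫ pullback.fst V.hom f :=
          (pullback.lift_fst _ _ _).symm
  · calc (pullback.lift (Lift.hom y') ζ (Lift.hom_comp y') ≫
            (((EtCoh.bc f).map k).left : pullback V'.hom f ⟶ pullback V.hom f)) ≫
            pullback.snd V.hom f
        = pullback.lift (Lift.hom y') ζ (Lift.hom_comp y') ≫
            ((((EtCoh.bc f).map k).left : pullback V'.hom f ⟶ pullback V.hom f) ≫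
            pullback.snd V.hom f) := Category.assoc _ _ _
      _ = pullback.lift (Lift.hom y') ζ (Lift.hom_comp y') ≫ pullback.snd V'.hom f :=
          congrArg (fun t => pullback.lift (Lift.hom y') ζ (Lift.hom_comp y') ≫ t)
            (bc_map_left_snd f k)
      _ = ζ := pullback.lift_snd _ _ _
      _ = pullback.lift (Lift.hom (Lift.map k y')) ζ (Lift.hom_comp _) ≫ pullback.snd V.hom f :=
          (pullback.lift_snd _ _ _).symm

/-- the easy direction: vanishing germs are preserved by the unit -/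
theorem unit_germ_eq_zero (V : Y.Etale) (y : Lift (ζ ≫ f) V) (s : F.obj.obj (op V))
    (h : germ (ζ ≫ f) F V y s = 0) :
    germ ζ ((EtCoh.pull f).obj F) ((EtCoh.bc f).obj V) (up f ζ y) (unitV f F V s) = 0 := by
  obtain ⟨V', k, y', hy', hs⟩ := (germ_eq_zero_iff F V y s).1 h
  rw [← hy', ← up_map, ← germ_res, unitV_nat, hs, map_zero, map_zero]

end Retraction

end Groth.Agent.Lib.helper21.StalkPullGerm
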