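import Mathlib
import Groth.Prelude.Def_EtBase
import Groth.Prelude.Def_PBC
import Groth.Agent.Lib.Helper21.StalkConst

/-!
# The zero locus of a section of an abelian étale sheaf

`zeroLoc G U t ⊆ U` is the set of points of the étale `Y`-scheme `U` at which the section
`t ∈ G(U)` has vanishing germ. It is open; if `G` is finite locally constant it is also closed.
-/

set_option autoImplicit false

open CategoryTheory CategoryTheory.Limits Opposite AlgebraicGeometry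

namespace Groth.Agent.Lib.helper21.ZeroLoc

open Groth.Agent.Lib.Helper21.ConstGerm Groth.Agent.Lib.Helper21.FlcConn
  Groth.Agent.Lib.Helper21.FlcRestr
  Groth.Agent.H1.EtStalk Groth.Agent.H1.EtGerm
  Groth.Agent.Lib.helper21.StalkConst

universe u

variable {Y : Scheme.{u}} (G : EtCoh.Ab Y) (U : Y.Etale) (t : G.obj.obj (op U))

/-- the set of points of `U` where the germ of `t` vanishes -/
def zeroLoc : Set U.left :=
  {v | ∃ (Ω : Type u) (_ : Field Ω) (_ : IsSepClosed Ω) (ζ : Spec (CommRingCat.of Ω) ⟶ Y)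
    (y : Lift ζ U), Lift.hom y default = v ∧ germ ζ G U y t = 0}

lemma map_comp_apply' {V V' V'' : Y.Etale} (k : V' ⟶ V) (l : V'' ⟶ V') (s : G.obj.obj (op V)) :
    G.obj.map (l ≫ k).op s = G.obj.map l.op (G.obj.map k.op s) := by
  rw [op_comp, Functor.map_comp, ConcreteCategory.comp_apply]

lemma center_map {Ω : Type u} [Field Ω] [IsSepClosed Ω] {ζ : Spec (CommRingCat.of Ω) ⟶ Y}
    {A B : Y.Etale} (f : A ⟶ B) (a : Lift ζ A) :
    Lift.hom (Lift.map f a) default = f.left (Lift.hom a default) := by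
  rw [Lift.map_hom]
  rfl

lemma mem_zeroLoc_iff (v : U.left) :
    v ∈ zeroLoc G U t ↔ ∃ (V' : Y.Etale) (k : V' ⟶ U) (v' : V'.left), k.left v' = v ∧
      G.obj.map k.op t = 0 := by
  constructor
  · rintro ⟨Ω, _, _, ζ, y, hy, h0⟩
    obtain ⟨V', k, y', hy', hk⟩ := (germ_eq_zero_iff G U y t).1 h0
    refine ⟨V', k, Lift.hom y' default, ?_, hk⟩
    rw [← center_map, hy', hy]
  · rintro ⟨V', k, v', hv', hk⟩
    obtain ⟨ζ, y', hy'⟩ := exists_geomPt_lift V' v'
    refine ⟨_, inferInstance, inferInstance, ζ, Lift.map k y', ?_, ?_⟩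
    · rw [center_map, hy', hv']
    · rw [← germ_res, hk, map_zero]

variable {G U t}

lemma germ_eq_zero_of_mem {v : U.left} (hv : v ∈ zeroLoc G U t)
    {Ω : Type u} [Field Ω] [IsSepClosed Ω] {ζ : Spec (CommRingCat.of Ω) ⟶ Y} (y : Lift ζ U)
    (hy : Lift.hom y default = v) : germ ζ G U y t = 0 := by
  obtain ⟨V', k, v', hv', hk⟩ := (mem_zeroLoc_iff G U t v).1 hv
  obtain ⟨y', hy', -⟩ := exists_lift_of_point k y v' (by rw [hv', hy])
  rw [← hy', ← germ_res, hk, map_zero]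

variable (G U t)

theorem isOpen_zeroLoc : IsOpen (zeroLoc G U t) := by
  have h : zeroLoc G U t = ⋃ (p : {p : Σ V' : Y.Etale, (V' ⟶ U) // G.obj.map p.2.op t = 0}),
      Set.range p.1.2.left := by
    ext v
    rw [mem_zeroLoc_iff]
    simp only [Set.mem_iUnion, Set.mem_range]
    constructor
    · rintro ⟨V', k, v', hv', hk⟩
      exact ⟨⟨⟨V', k⟩, hk⟩, v', hv'⟩
    · rintro ⟨⟨⟨V', k⟩, hk⟩, v', hv'⟩
      exact ⟨V', k, v', hv', hk⟩
  rw [h]
  apply isOpen_iUnion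
  rintro ⟨⟨V', k⟩, hk⟩
  haveI := etale_left k
  exact k.left.isOpenMap.isOpen_range

/-- for a finite locally constant sheaf the zero locus of a section is closed -/
theorem isClosed_zeroLoc_of_flc (hG : EtCoh.IsFiniteLocallyConstant G) :
    IsClosed (zeroLoc G U t) := by
  rw [← isOpen_compl_iff, isOpen_iff_forall_mem_open]
  intro v hv
  obtain ⟨I, Ui, hcov, h⟩ := hG
  obtain ⟨ζ, y, hy⟩ := exists_geomPt_lift U v
  obtain ⟨i, y₀, hy₀⟩ := hcov (ζ default)
  obtain ⟨M, iM, fM, ⟨e⟩⟩ := h i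
  haveI : AlgebraicGeometry.Etale (Ui i).hom := (Ui i).prop
  obtain ⟨l, hl1, -⟩ := Scheme.exists_fac_of_etale_of_isSepClosed (Ui i).hom ζ y₀ hy₀
  obtain ⟨⟨W, w⟩, ⟨a, ha⟩, ⟨b, hb⟩, -⟩ := IsCofilteredOrEmpty.cone_objs
    (C := (Scheme.pointSmallEtale ζ).fiber.Elements) ⟨U, y⟩ ⟨Ui i, Lift.mk ζ l hl1⟩
  have ha' : Lift.map a w = y := ha
  obtain ⟨V', g, v', hv', m, hm⟩ := exists_sec0 G (restrTriv G b e) (𝟙 W) (G.obj.map a.op t)
    (Lift.hom w default)
  have hcomp : G.obj.map (g ≫ a).op t = sec0 G (restrTriv G b e) (g ≫ 𝟙 W) m := by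
    rw [map_comp_apply']
    exact hm
  have hpt : (g ≫ a).left v' = v := by
    show a.left (g.left v') = v
    rw [hv', ← center_map, ha', hy]
  have hm0 : m ≠ 0 := by
    rintro rfl
    apply hv
    rw [mem_zeroLoc_iff]
    refine ⟨V', g ≫ a, v', hpt, ?_⟩
    rw [hcomp, ← Groth.Agent.Lib.helper21.SubConst.sig_apply, map_zero]
  haveI := etale_left (g ≫ a)
  refine ⟨Set.range (g ≫ a).left, ?_, (g ≫ a).left.isOpenMap.isOpen_range, ⟨v', hpt⟩⟩
  rintro _ ⟨v'', rfl⟩ hmem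
  obtain ⟨ζ'', y'', hy''⟩ := exists_geomPt_lift V' v''
  have h0 := germ_eq_zero_of_mem hmem (Lift.map (g ≫ a) y'') (by rw [center_map, hy''])
  rw [← germ_res, hcomp] at h0
  have h1 : sec0 G (restrTriv G (g ≫ 𝟙 W) (restrTriv G b e)) (𝟙 V') m =
      sec0 G (restrTriv G b e) (g ≫ 𝟙 W) m := by
    rw [sec0_restrTriv, Category.id_comp]
  have h2 : stalkOfConst G (restrTriv G (g ≫ 𝟙 W) (restrTriv G b e)) ζ'' y'' m = 0 := by
    rw [stalkOfConst_apply, h1]
    exact h0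
  have h3 : stalkOfConst G (restrTriv G (g ≫ 𝟙 W) (restrTriv G b e)) ζ'' y'' m =
      stalkOfConst G (restrTriv G (g ≫ 𝟙 W) (restrTriv G b e)) ζ'' y'' 0 := by
    rw [h2, map_zero]
  exact hm0 (stalkOfConst_injective G _ ζ'' y'' h3)

end Groth.Agent.Lib.helper21.ZeroLoc
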