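import Mathlib
import Groth.Prelude.Def_EtBase
import Groth.Prelude.Def_PBC
import Groth.Agent.Lib.Helper21.ZeroLoc
import Groth.Agent.Lib.Helper21.StalkPullGerm

/-!
# Zero loci of sections: functoriality and constructibility

* `zeroLoc_map` : the zero locus of a restricted section is the preimage of the zero locus.
* `zeroLoc_pull` : the zero locus of the unit image of a section under an inverse image functor is
  the preimage of the zero locus.
* `isConstructible_zeroLoc_top` : on a quasi-compact quasi-separated scheme, the zero locus of a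
  global section of a constructible sheaf is constructible.
-/

set_option autoImplicit false

open CategoryTheory CategoryTheory.Limits Opposite AlgebraicGeometry

namespace Groth.Agent.Lib.helper21.ZeroLoc

open Groth.Agent.Lib.Helper21.ConstGerm Groth.Agent.Lib.Helper21.FlcConn
  Groth.Agent.Lib.Helper21.FlcRestr
  Groth.Agent.H1.EtStalk Groth.Agent.H1.EtGerm
  Groth.Agent.Lib.helper21.StalkConst Groth.Agent.Lib.helper21.StalkPullGerm
  Groth.Agent.Lib.helper21.Constr Groth.Agent.Lib.helper21.Strata

universe u

variable {Y : Scheme.{u}} (G : EtCoh.Ab Y)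

/-- restriction of sections corresponds to preimage of zero loci -/
theorem zeroLoc_map {V V' : Y.Etale} (k : V' ⟶ V) (t : G.obj.obj (op V)) :
    zeroLoc G V' (G.obj.map k.op t) = k.left ⁻¹' zeroLoc G V t := by
  ext v'
  constructor
  · rintro ⟨Ω, _, _, ζ, y', hy', h0⟩
    refine ⟨Ω, inferInstance, inferInstance, ζ, Lift.map k y', ?_, ?_⟩
    · rw [center_map, hy']
    · rw [← germ_res]
      exact h0
  · intro hv
    obtain ⟨ζ, y', hy'⟩ := exists_geomPt_lift V' v'
    refine ⟨_, inferInstance, inferInstance, ζ, y', hy', ?_⟩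
    rw [germ_res]
    exact germ_eq_zero_of_mem hv (Lift.map k y') (by rw [center_map, hy'])

variable {X : Scheme.{u}} (f : X ⟶ Y)

/-- inverse images correspond to preimages of zero loci -/
theorem zeroLoc_pull (V : Y.Etale) (s : G.obj.obj (op V)) :
    zeroLoc ((EtCoh.pull f).obj G) ((EtCoh.bc f).obj V) (unitV f G V s) =
      (pullback.fst V.hom f) ⁻¹' zeroLoc G V s := by
  ext v
  constructor
  · rintro ⟨Ω, _, _, ζ, y, hy, h0⟩
    refine ⟨Ω, inferInstance, inferInstance, ζ ≫ f, pr f ζ y, ?_, ?_⟩
    · rw [center_pr]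
      exact congrArg (pullback.fst V.hom f) hy
    · apply germ_eq_zero_of_unit
      rw [up_pr]
      exact h0
  · intro hv
    obtain ⟨ζ, y, hy⟩ := exists_geomPt_lift ((EtCoh.bc f).obj V) v
    refine ⟨_, inferInstance, inferInstance, ζ, y, hy, ?_⟩
    have h1 : germ (ζ ≫ f) G V (pr f ζ y) s = 0 :=
      germ_eq_zero_of_mem hv (pr f ζ y) (by
        rw [center_pr]
        exact congrArg (pullback.fst V.hom f) hy)
    have h2 := unit_germ_eq_zero f ζ G V (pr f ζ y) s h1
    rw [up_pr] at h2
    exact h2

section Constructible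

open Groth.Agent.Lib.helper21.ConstrTop

/-- on a quasi-compact quasi-separated scheme, the zero locus of a global section of a constructible
sheaf is constructible -/
theorem isConstructible_zeroLoc_top [CompactSpace Y] [QuasiSeparatedSpace Y]
    (hG : EtPBC.IsConstructible G) (t : G.obj.obj (op (EtCoh.top Y))) (Z : Set Y)
    (hZ : Z = zeroLoc G (EtCoh.top Y) t) :
    Topology.IsConstructible Z := by
  rw [constructible_iff_univ] at hG
  obtain ⟨m, T, g, hi, hc, hd, hu, hf⟩ := hG
  let q : ∀ i, pullback (𝟙 Y) (g i) ⟶ Y := fun i => pullback.fst (𝟙 Y) (g i)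
  have hq : ∀ i, q i = pullback.snd (𝟙 Y) (g i) ≫ g i := fun i => by
    have h := pullback.condition (f := 𝟙 Y) (g := g i)
    rw [Category.comp_id] at h
    exact h
  have hrange : ∀ i, Set.range (q i) = Set.range (g i) := by
    intro i
    rw [hq i, Scheme.Hom.comp_base, TopCat.coe_comp, Set.range_comp]
    have hs : Function.Surjective (pullback.snd (𝟙 Y) (g i)) :=
      (pullback.snd (𝟙 Y) (g i)).homeomorph.surjective
    rw [hs.range_eq, Set.image_univ]
  let A : ∀ i, Set ↥(pullback (𝟙 Y) (g i)) := fun i =>
    zeroLoc ((EtCoh.pull (g i)).obj G) ((EtCoh.bc (g i)).obj (EtCoh.top Y))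
      (unitV (g i) G (EtCoh.top Y) t)
  have hA : ∀ i, A i = q i ⁻¹' Z := fun i => by
    rw [hZ]
    exact zeroLoc_pull G (g i) (EtCoh.top Y) t
  have h1 : Z = ⋃ i, q i '' A i := by
    have h2 : Z = Z ∩ ⋃ i, Set.range (g i) := by
      rw [hu, Set.inter_univ]
    rw [h2, Set.inter_iUnion]
    refine Set.iUnion_congr (fun i => ?_)
    rw [hA i, Set.image_preimage_eq_inter_range, hrange i]
  rw [h1]
  apply Topology.IsConstructible.iUnion
  intro i
  haveI := hi i
  haveI : IsImmersion (q i) := by
    rw [hq i]
    infer_instance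
  have hci : Topology.IsConstructible (Set.range (q i)) := by
    rw [hrange i]
    exact (constructible_univ_iff _).1 (hc i)
  haveI : CompactSpace ↥(pullback (𝟙 Y) (g i)) := compactSpace_of_immersion (q i) hci
  haveI : QuasiSeparatedSpace ↥(pullback (𝟙 Y) (g i)) := quasiSeparatedSpace_of_immersion (q i)
  have hAcl : IsClopen (A i) :=
    ⟨isClosed_zeroLoc_of_flc _ _ _ (hf i), isOpen_zeroLoc _ _ _⟩
  have hAc : Topology.IsConstructible (A i) := hAcl.1.isCompact.isConstructible hAcl.2
  exact isConstructible_image_of_isEmbedding (q i) (q i).isEmbedding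
    (q i).isLocallyClosed_range hci hAc

end Constructible

section Diagonal

variable {X : Scheme.{u}} (F : EtCoh.Ab X)

/-- the diagonal section `W ⟶ W ×_X W` as a morphism of the small étale site of `W` -/
noncomputable def diag (W : X.Etale) : EtCoh.top W.left ⟶ (EtCoh.bc W.hom).obj W :=
  MorphismProperty.Over.homMk (pullback.lift (𝟙 W.left) (𝟙 W.left) rfl) (by
    show pullback.lift (𝟙 W.left) (𝟙 W.left) rfl ≫ pullback.snd W.hom W.hom = 𝟙 W.left
    exact pullback.lift_snd _ _ _) trivial

lemma diag_left_fst (W : X.Etale) (v : W.left) :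
    pullback.fst W.hom W.hom ((diag W).left v) = v := by
  have h : pullback.lift (𝟙 W.left) (𝟙 W.left) rfl ≫ pullback.fst W.hom W.hom = 𝟙 W.left :=
    pullback.lift_fst _ _ _
  exact congrArg (fun k : W.left ⟶ W.left => k v) h

/-- the zero locus of a section of a constructible sheaf over a quasi-compact quasi-separated
étale `X`-scheme is constructible -/
theorem isConstructible_zeroLoc (hF : EtPBC.IsConstructible F) (W : X.Etale)
    [CompactSpace W.left] [QuasiSeparatedSpace W.left] (s : F.obj.obj (op W)) :
    Topology.IsConstructible (zeroLoc F W s) := by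
  have hG := Groth.Agent.Lib.helper21.Strata.constructible_pull W.hom F hF
  refine isConstructible_zeroLoc_top (Y := W.left) ((EtCoh.pull W.hom).obj F) hG
    (((EtCoh.pull W.hom).obj F).obj.map (diag W).op (unitV W.hom F W s)) (zeroLoc F W s) ?_
  rw [zeroLoc_map, zeroLoc_pull]
  ext v
  constructor
  · intro hv
    show pullback.fst W.hom W.hom ((diag W).left v) ∈ zeroLoc F W s
    rw [diag_left_fst]
    exact hv
  · intro hv
    have hv' : pullback.fst W.hom W.hom ((diag W).left v) ∈ zeroLoc F W s := hv
    rw [diag_left_fst] at hv'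
    exact hv'

end Diagonal

end Groth.Agent.Lib.helper21.ZeroLoc
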