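import Mathlib
import Groth.Prelude.Def_EtBase
import Groth.Prelude.Def_PBC
import Groth.Agent.Lib.Helper21.SpecIso2
import Groth.Agent.Lib.Helper21.ConsStalk
import Groth.Agent.Lib.Helper21.ZeroLoc2
import Groth.Agent.Lib.Helper21.SpecClosure

/-!
# A constructible sheaf whose specialization maps into a geometric point are bijective is finite
locally constant near that point
-/

set_option autoImplicit false

open CategoryTheory CategoryTheory.Limits Opposite AlgebraicGeometry Topology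

namespace Groth.Agent.Lib.helper21.LccCrit1

open Groth.Agent.Lib.Helper21.ConstGerm Groth.Agent.Lib.Helper21.FlcExt
  Groth.Agent.Lib.Helper21.FlcSerre
  Groth.Agent.H1.EtStalk Groth.Agent.H1.EtGerm
  Groth.Agent.Lib.helper21.StalkConst Groth.Agent.Lib.helper21.StalkSplit
  Groth.Agent.Lib.helper21.CardCrit1 Groth.Agent.Lib.helper21.CardCrit3
  Groth.Agent.Lib.helper21.SpecArrow2 Groth.Agent.Lib.helper21.SpecIso1
  Groth.Agent.Lib.helper21.ConsStalk Groth.Agent.Lib.helper21.ZeroLoc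
  Groth.Agent.Lib.helper21.SpecClosure Groth.Agent.Lib.helper21.SuppConstr
open Groth.Agent.Lib.helper21.CardCrit2 (map_comp_apply' default_eq_of_range)

universe u

variable {X : Scheme.{u}} (F : EtCoh.Ab X) {Ω : Type u} [Field Ω] [IsSepClosed Ω]
  (ξ : Spec (CommRingCat.of Ω) ⟶ X)

/-- the hypothesis: all specialization maps out of the stalk at `ξ` are isomorphisms -/
def SpecIso : Prop :=
  ∀ (Ω' : Type u) [Field Ω'] [IsSepClosed Ω'] (ξ' : Spec (CommRingCat.of Ω') ⟶ X)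
    (φ : Scheme.pointSmallEtale ξ' ⟶ Scheme.pointSmallEtale ξ),
    IsIso ((GrothendieckTopology.Point.Hom.sheafFiber (A := AddCommGrpCat.{u + 1}) φ).app F)

variable {F ξ}

lemma card_of_generization (hiso : SpecIso F ξ) {Ω' : Type u} [Field Ω'] [IsSepClosed Ω']
    (ζ : Spec (CommRingCat.of Ω') ⟶ X) (h : ζ default ⤳ ξ default) :
    Nat.card ((EtCoh.stalk ζ).obj F) = Nat.card ((EtCoh.stalk ξ).obj F) := by
  obtain ⟨φ⟩ := exists_arrow_of_specializes ξ ζ h
  haveI := hiso _ ζ φ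
  have hb : Function.Bijective
      ((GrothendieckTopology.Point.Hom.sheafFiber (A := AddCommGrpCat.{u + 1}) φ).app F) :=
    (ConcreteCategory.isIso_iff_bijective _).1 inferInstance
  exact (Nat.card_congr (Equiv.ofBijective _ hb)).symm

/-- an open neighbourhood on which all stalks have the cardinality of the stalk at `ξ` -/
theorem exists_open_card_eq (hF : EtPBC.IsConstructible F) (hiso : SpecIso F ξ) :
    ∃ U₁ : X.Opens, ξ default ∈ U₁ ∧ ∀ (Ω' : Type u) [Field Ω'] [IsSepClosed Ω']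
      (ζ : Spec (CommRingCat.of Ω') ⟶ X), ζ default ∈ U₁ →
        Nat.card ((EtCoh.stalk ζ).obj F) = Nat.card ((EtCoh.stalk ξ).obj F) := by
  set n := Nat.card ((EtCoh.stalk ξ).obj F) with hn
  obtain ⟨_, ⟨X₀', hX₀ : IsAffineOpen X₀', rfl⟩, hxX₀, -⟩ :=
    X.isBasis_affineOpens.exists_subset_of_mem_open (Set.mem_univ (ξ default)) isOpen_univ
  obtain ⟨X₀, rfl⟩ : ∃ X₀ : X.Opens, X₀ = X₀' := ⟨X₀', rfl⟩
  haveI : IsAffine X₀.toScheme := hX₀
  have hF₀ := Groth.Agent.Lib.helper21.Strata.constructible_pull X₀.ι F hF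
  have hS₀ : IsConstructible (cardLoc ((EtCoh.pull X₀.ι).obj F) n) :=
    isConstructible_cardLoc _ hF₀ n
  have hinter := cardLoc_inter_range X₀.ι F n
  -- generizations of `x` inside `X₀` lie in the cardinality locus
  have hgen : ∀ c : X₀.toScheme, X₀.ι c ⤳ ξ default →
      c ∈ cardLoc ((EtCoh.pull X₀.ι).obj F) n := by
    intro c hc
    have h1 : X₀.ι c ∈ cardLoc F n := by
      refine ⟨_, inferInstance, inferInstance, geomPt X (X₀.ι c), ?_, ?_⟩
      · rw [range_geom, geomPt_default]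
      · exact card_of_generization hiso _ (by rw [geomPt_default]; exact hc)
    have h2 : X₀.ι c ∈ cardLoc F n ∩ Set.range X₀.ι := ⟨h1, c, rfl⟩
    rw [hinter] at h2
    obtain ⟨c', hc', hcc'⟩ := h2
    have : c' = c := X₀.ι.isOpenEmbedding.injective hcc'
    rw [← this]
    exact hc'
  let x₀ : X₀.toScheme := ⟨ξ default, hxX₀⟩
  have hx₀ : X₀.ι x₀ = ξ default := rfl
  have hnot : x₀ ∉ closure (cardLoc ((EtCoh.pull X₀.ι).obj F) n)ᶜ := by
    intro hmem
    obtain ⟨c, hc, hcx⟩ := exists_specializes_of_mem_closure X₀.toScheme hS₀.compl hmem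
    apply hc
    apply hgen
    rw [← hx₀]
    exact hcx.map X₀.ι.continuous
  have hopen : IsOpen (X₀.ι '' (closure (cardLoc ((EtCoh.pull X₀.ι).obj F) n)ᶜ)ᶜ) :=
    X₀.ι.isOpenEmbedding.isOpenMap _ isClosed_closure.isOpen_compl
  refine ⟨⟨_, hopen⟩, ⟨x₀, hnot, hx₀⟩, ?_⟩
  rintro Ω' _ _ ζ ⟨c, hc, hcζ⟩
  have hcS : c ∈ cardLoc ((EtCoh.pull X₀.ι).obj F) n := by
    by_contra hcon
    exact hc (subset_closure hcon)
  have h3 : X₀.ι c ∈ cardLoc F n ∩ Set.range X₀.ι := by
    rw [hinter]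
    exact ⟨c, hcS, rfl⟩
  obtain ⟨Ω₁, _, _, ζ₁, hζ₁, hcard⟩ := h3.1
  rw [← hcard]
  apply card_stalk_eq_of_constructible F hF
  rw [default_eq_of_range ζ₁ hζ₁]
  exact hcζ.symm

/-- the centre of a lift of `ξ` does not lie in the closure of the zero locus of a section whose
germ at `ξ` is nonzero -/
theorem not_mem_closure_zeroLoc (hF : EtPBC.IsConstructible F) (hiso : SpecIso F ξ)
    (W₁ : X.Etale) [IsAffine W₁.left] (y₁ : Lift ξ W₁) (s : F.obj.obj (op W₁))
    (hs : germ ξ F W₁ y₁ s ≠ 0) :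
    Lift.hom y₁ default ∉ closure (zeroLoc F W₁ s) := by
  intro hmem
  have hc := isConstructible_zeroLoc F hF W₁ s
  obtain ⟨c, hcZ, hcw⟩ := exists_specializes_of_mem_closure W₁.left hc hmem
  obtain ⟨ζ, yc, hyc⟩ := exists_geomPt_lift W₁ c
  obtain ⟨φ, hφ⟩ := exists_arrow ξ ζ y₁ yc (by rw [hyc]; exact hcw)
  haveI := hiso _ ζ φ
  have hb : Function.Bijective
      ((GrothendieckTopology.Point.Hom.sheafFiber (A := AddCommGrpCat.{u + 1}) φ).app F) :=
    (ConcreteCategory.isIso_iff_bijective _).1 inferInstance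
  have h0 : germ ζ F W₁ yc s = 0 := germ_eq_zero_of_mem hcZ yc hyc
  have h1 : (GrothendieckTopology.Point.Hom.sheafFiber (A := AddCommGrpCat.{u + 1}) φ).app F
      (germ ξ F W₁ y₁ s) = 0 := by
    rw [sheafFiber_germ, hφ, h0]
  have h2 : (GrothendieckTopology.Point.Hom.sheafFiber (A := AddCommGrpCat.{u + 1}) φ).app F
      (germ ξ F W₁ y₁ s) = (GrothendieckTopology.Point.Hom.sheafFiber
        (A := AddCommGrpCat.{u + 1}) φ).app F 0 := by
    rw [h1, map_zero]
  exact hs (hb.1 h2)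

/-- **the main step**: a trivialization on an étale neighbourhood of `ξ` -/
theorem exists_triv_of_specIso (hF : EtPBC.IsConstructible F) (hiso : SpecIso F ξ) :
    ∃ (W₂ : X.Etale) (w₂ : W₂.left) (M : AddCommGrpCat.{u + 1}) (_ : Finite M),
      W₂.hom w₂ = ξ default ∧
      Nonempty (EtCoh.restr F W₂ ≅ cst.{u + 1, u, u + 1} (X.smallEtaleTopology.over W₂) M) := by
  classical
  haveI := finite_stalk_of_constructible F hF ξ
  obtain ⟨U₁, hxU₁, hcard⟩ := exists_open_card_eq hF hiso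
  obtain ⟨W, w, σ, hσ⟩ := exists_splitting F ξ
  have hw₀ : W.hom (Lift.hom w default) = ξ default :=
    congrArg (fun k : Spec (CommRingCat.of Ω) ⟶ X => k default) (Lift.hom_comp w)
  haveI : AlgebraicGeometry.Etale W.hom := W.prop
  -- shrink to an affine open over `U₁`
  obtain ⟨_, ⟨O₁', hO₁ : IsAffineOpen O₁', rfl⟩, hwO₁, hO₁U⟩ :=
    W.left.isBasis_affineOpens.exists_subset_of_mem_open
      (show Lift.hom w default ∈ ((W.hom ⁻¹ᵁ U₁ : W.left.Opens) : Set W.left) by
        show W.hom (Lift.hom w default) ∈ U₁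
        rw [hw₀]; exact hxU₁) (W.hom ⁻¹ᵁ U₁).2
  obtain ⟨O₁, rfl⟩ : ∃ O₁ : W.left.Opens, O₁ = O₁' := ⟨O₁', rfl⟩
  obtain ⟨y₁, hy₁⟩ := exists_lift_restrictOpen O₁ w hwO₁
  haveI : IsAffine (restrictOpen W O₁).left := hO₁
  let σ₁ : (EtCoh.stalk ξ).obj F →+ F.obj.obj (op (restrictOpen W O₁)) :=
    (F.obj.map (restrictOpenι W O₁).op).hom.comp σ
  have hσ₁ : ∀ p, germ ξ F (restrictOpen W O₁) y₁ (σ₁ p) = p := by
    intro p
    show germ ξ F (restrictOpen W O₁) y₁ (F.obj.map (restrictOpenι W O₁).op (σ p)) = p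
    rw [germ_res, hy₁, hσ]
  -- the open set where none of the nonzero sections acquires a zero germ
  have hnot : ∀ p : (EtCoh.stalk ξ).obj F, p ≠ 0 →
      Lift.hom y₁ default ∉ closure (zeroLoc F (restrictOpen W O₁) (σ₁ p)) := fun p hp =>
    not_mem_closure_zeroLoc hF hiso (restrictOpen W O₁) y₁ (σ₁ p) (by rw [hσ₁]; exact hp)
  let O₂ : (restrictOpen W O₁).left.Opens :=
    ⟨⋂ p : {p : (EtCoh.stalk ξ).obj F // p ≠ 0},
        (closure (zeroLoc F (restrictOpen W O₁) (σ₁ p.1)))ᶜ,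
      isOpen_iInter_of_finite (fun _ => isClosed_closure.isOpen_compl)⟩
  have hyO₂ : Lift.hom y₁ default ∈ O₂ := Set.mem_iInter.2 (fun p => hnot p.1 p.2)
  obtain ⟨y₂, hy₂⟩ := exists_lift_restrictOpen O₂ y₁ hyO₂
  let σ₂ : (EtCoh.stalk ξ).obj F →+ F.obj.obj (op (restrictOpen (restrictOpen W O₁) O₂)) :=
    (F.obj.map (restrictOpenι (restrictOpen W O₁) O₂).op).hom.comp σ₁
  have hσ₂ : ∀ p, germ ξ F (restrictOpen (restrictOpen W O₁) O₂) y₂ (σ₂ p) = p := by
    intro p
    show germ ξ F (restrictOpen (restrictOpen W O₁) O₂) y₂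
      (F.obj.map (restrictOpenι (restrictOpen W O₁) O₂).op (σ₁ p)) = p
    rw [germ_res, hy₂, hσ₁]
  have hbij : ∀ (Ω' : Type u) [Field Ω'] [IsSepClosed Ω'] (ζ : Spec (CommRingCat.of Ω') ⟶ X)
      (y : Lift ζ (restrictOpen (restrictOpen W O₁) O₂)),
      Function.Bijective (fun p => germ ζ F (restrictOpen (restrictOpen W O₁) O₂) y (σ₂ p)) := by
    intro Ω' _ _ ζ y
    haveI := finite_stalk_of_constructible F hF ζ
    -- the centre of `y` in `W₁`
    have hc₁ : Lift.hom (Lift.map (restrictOpenι (restrictOpen W O₁) O₂) y) default ∈ O₂ := by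
      rw [Lift.map_hom]
      have : O₂.ι (Lift.hom y default) ∈ Set.range O₂.ι := ⟨_, rfl⟩
      rw [Scheme.Opens.range_ι] at this
      exact this
    have hinj : Function.Injective
        (fun p => germ ζ F (restrictOpen (restrictOpen W O₁) O₂) y (σ₂ p)) := by
      have hadd : (fun p => germ ζ F (restrictOpen (restrictOpen W O₁) O₂) y (σ₂ p)) =
          ⇑((germ ζ F (restrictOpen (restrictOpen W O₁) O₂) y).comp σ₂) := rfl
      rw [hadd, injective_iff_map_eq_zero]
      intro p hp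
      by_contra hp0
      have h1 : germ ζ F (restrictOpen W O₁)
          (Lift.map (restrictOpenι (restrictOpen W O₁) O₂) y) (σ₁ p) = 0 := by
        rw [← germ_res]
        exact hp
      have h2 : Lift.hom (Lift.map (restrictOpenι (restrictOpen W O₁) O₂) y) default ∈
          zeroLoc F (restrictOpen W O₁) (σ₁ p) :=
        ⟨Ω', inferInstance, inferInstance, ζ, _, rfl, h1⟩
      exact (Set.mem_iInter.1 hc₁ ⟨p, hp0⟩) (subset_closure h2)
    have hζU : ζ default ∈ U₁ := by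
      have h3 : Lift.hom y ≫ (restrictOpen (restrictOpen W O₁) O₂).hom = ζ := Lift.hom_comp y
      have h4 : ζ default = W.hom (O₁.ι (O₂.ι (Lift.hom y default))) :=
        (congrArg (fun k : Spec (CommRingCat.of Ω') ⟶ X => k default) h3).symm
      rw [h4]
      have h5 : O₁.ι (O₂.ι (Lift.hom y default)) ∈ O₁ := by
        have : O₁.ι (O₂.ι (Lift.hom y default)) ∈ Set.range O₁.ι := ⟨_, rfl⟩
        rw [Scheme.Opens.range_ι] at this
        exact this
      exact hO₁U h5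
    have hcardζ := hcard Ω' ζ hζU
    exact hinj.bijective_of_nat_card_le hcardζ.le
  haveI := isIso_psi_of_bijective F ξ σ₂ hbij
  have hσ₂inj : Function.Injective σ₂ := fun p p' h => by
    rw [← hσ₂ p, ← hσ₂ p', h]
  haveI : Finite σ₂.range := Finite.of_equiv _ (Equiv.ofInjective σ₂ hσ₂inj)
  refine ⟨restrictOpen (restrictOpen W O₁) O₂, Lift.hom y₂ default, AddCommGrpCat.of σ₂.range,
    ‹_›, ?_, ⟨(asIso (psi F σ₂.range)).symm⟩⟩
  exact congrArg (fun k : Spec (CommRingCat.of Ω) ⟶ X => k default) (Lift.hom_comp y₂)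

/-- **(⇐)**: bijective specialization maps at `ξ` imply finite local constancy near `ξ` -/
theorem exists_open_flc_of_specIso (hF : EtPBC.IsConstructible F) (hiso : SpecIso F ξ) :
    ∃ U : X.Opens, ξ default ∈ U ∧
      EtCoh.IsFiniteLocallyConstant ((EtCoh.pull U.ι).obj F) := by
  obtain ⟨W₂, w₂, M, fM, hw₂, ⟨e⟩⟩ := exists_triv_of_specIso hF hiso
  obtain ⟨O, hO, hflc⟩ := exists_open_flc F W₂ M e
  refine ⟨O, ?_, hflc⟩
  show ξ default ∈ (O : Set X)
  rw [hO, ← hw₂]
  exact ⟨w₂, rfl⟩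

end Groth.Agent.Lib.helper21.LccCrit1
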