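import Mathlib
import Groth.Prelude.Def_EtBase
import Groth.Prelude.Def_PBC
import Groth.Agent.Lib.Helper21.LccCrit1

/-!
# A constructible sheaf which is finite locally constant near a point has bijective specialization
maps into that point
-/

set_option autoImplicit false

open CategoryTheory CategoryTheory.Limits Opposite AlgebraicGeometry Topology

namespace Groth.Agent.Lib.helper21.LccCrit2

open Groth.Agent.Lib.Helper21.ConstGerm
  Groth.Agent.H1.EtStalk Groth.Agent.H1.EtGerm
  Groth.Agent.Lib.helper21.StalkConst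
  Groth.Agent.Lib.helper21.SpecArrow2 Groth.Agent.Lib.helper21.SpecIso1
  Groth.Agent.Lib.helper21.ConsStalk Groth.Agent.Lib.helper21.ZeroLoc
  Groth.Agent.Lib.helper21.StalkPullGerm Groth.Agent.Lib.helper21.CardCrit5
  Groth.Agent.Lib.helper21.SuppConstr
open Groth.Agent.Lib.helper21.CardCrit2 (default_eq_of_range)

universe u

variable {X : Scheme.{u}} {Ω Ω' : Type u} [Field Ω] [IsSepClosed Ω] [Field Ω'] [IsSepClosed Ω']
  {ξ : Spec (CommRingCat.of Ω) ⟶ X} {ξ' : Spec (CommRingCat.of Ω') ⟶ X}
  (φ : Scheme.pointSmallEtale ξ' ⟶ Scheme.pointSmallEtale ξ)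

/-- a morphism of points moves the centre of a lift to a generization -/
lemma center_specializes {V : X.Etale} (v : Lift ξ V) :
    Lift.hom (φ.hom.app V v) default ⤳ Lift.hom v default := by
  rw [specializes_iff_forall_open]
  intro O hO hvO
  obtain ⟨O', rfl⟩ : ∃ O' : V.left.Opens, (O' : Set V.left) = O := ⟨⟨O, hO⟩, rfl⟩
  obtain ⟨vO, hvO'⟩ := exists_lift_restrictOpen O' v hvO
  have hnat := FunctorToTypes.naturality φ.hom (restrictOpenι V O') vO
  have h1 : φ.hom.app V v = Lift.map (restrictOpenι V O')
      (φ.hom.app (restrictOpen V O') vO) := by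
    rw [← hvO']
    exact hnat
  rw [h1, Groth.Agent.Lib.helper21.ZeroLoc.center_map]
  have : O'.ι (Lift.hom (φ.hom.app (restrictOpen V O') vO) default) ∈
      Set.range O'.ι := ⟨_, rfl⟩
  rw [Scheme.Opens.range_ι] at this
  exact this

include φ in
/-- the underlying point of the source of a morphism of points is a generization -/
lemma default_specializes : ξ' default ⤳ ξ default := by
  let u : Lift ξ (EtCoh.top X) := Lift.mk (U := EtCoh.top X) ξ
    (show Spec (CommRingCat.of Ω) ⟶ (EtCoh.top X).left from ξ) (Category.comp_id _)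
  have h := center_specializes φ u
  have h1 : Lift.hom u = ξ := Lift.mk_hom _ _
  have h2 : Lift.hom (φ.hom.app (EtCoh.top X) u) = ξ' :=
    (Category.comp_id _).symm.trans (Lift.hom_comp (φ.hom.app (EtCoh.top X) u))
  have h3 : Lift.hom u default = ξ default :=
    congrArg (fun k : Spec (CommRingCat.of Ω) ⟶ X => k default) h1
  have h4 : Lift.hom (φ.hom.app (EtCoh.top X) u) default = ξ' default :=
    congrArg (fun k : Spec (CommRingCat.of Ω') ⟶ X => k default) h2
  rw [h3, h4] at h
  exact h

/-- **(⇒)**: if a constructible sheaf is finite locally constant near the point of `ξ`, all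
specialization maps out of its stalk at `ξ` are isomorphisms -/
theorem isIso_sheafFiber_of_flc_near (F : EtCoh.Ab X) (hF : EtPBC.IsConstructible F) (U : X.Opens)
    (hxU : ξ default ∈ U) (hU : EtCoh.IsFiniteLocallyConstant ((EtCoh.pull U.ι).obj F)) :
    IsIso ((GrothendieckTopology.Point.Hom.sheafFiber (A := AddCommGrpCat.{u + 1}) φ).app F) := by
  have hsp : ξ' default ⤳ ξ default := default_specializes φ
  have hx'U : ξ' default ∈ U := hsp.mem_open U.2 hxU
  -- injectivity, via zero loci
  have hinj : Function.Injective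
      ((GrothendieckTopology.Point.Hom.sheafFiber (A := AddCommGrpCat.{u + 1}) φ).app F) := by
    rw [injective_iff_map_eq_zero]
    intro p hp
    obtain ⟨V, v, s, rfl⟩ := germ_surjective F p
    rw [sheafFiber_germ] at hp
    have hc' : Lift.hom (φ.hom.app V v) default ∈ zeroLoc F V s :=
      ⟨Ω', inferInstance, inferInstance, ξ', _, rfl, hp⟩
    have hspV := center_specializes φ v
    have hVc : V.hom (Lift.hom v default) = ξ default :=
      congrArg (fun k : Spec (CommRingCat.of Ω) ⟶ X => k default) (Lift.hom_comp v)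
    have hVc' : V.hom (Lift.hom (φ.hom.app V v) default) = ξ' default :=
      congrArg (fun k : Spec (CommRingCat.of Ω') ⟶ X => k default)
        (Lift.hom_comp (φ.hom.app V v))
    obtain ⟨z, hz1, -⟩ := Scheme.Pullback.exists_preimage_pullback (f := V.hom) (g := U.ι)
      (Lift.hom v default) ⟨ξ default, hxU⟩ hVc
    obtain ⟨z', hz'1, -⟩ := Scheme.Pullback.exists_preimage_pullback (f := V.hom) (g := U.ι)
      (Lift.hom (φ.hom.app V v) default) ⟨ξ' default, hx'U⟩ hVc'
    have hzz : z' ⤳ z := by
      apply (pullback.fst V.hom U.ι).isOpenEmbedding.isInducing.specializes_iff.1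
      rw [hz1, hz'1]
      exact hspV
    have hA : IsClosed (zeroLoc ((EtCoh.pull U.ι).obj F) ((EtCoh.bc U.ι).obj V)
        (unitV U.ι F V s)) := isClosed_zeroLoc_of_flc _ _ _ hU
    have hz'A : z' ∈ zeroLoc ((EtCoh.pull U.ι).obj F) ((EtCoh.bc U.ι).obj V)
        (unitV U.ι F V s) := by
      rw [zeroLoc_pull]
      show pullback.fst V.hom U.ι z' ∈ zeroLoc F V s
      rw [hz'1]
      exact hc'
    have hzA := hzz.mem_closed hA hz'A
    rw [zeroLoc_pull] at hzA
    have hzZ : pullback.fst V.hom U.ι z ∈ zeroLoc F V s := hzA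
    rw [hz1] at hzZ
    exact germ_eq_zero_of_mem hzZ v rfl
  -- equality of cardinalities, via the finite locally constant sheaf on `U`
  haveI := finite_stalk_of_constructible F hF ξ
  haveI := finite_stalk_of_constructible F hF ξ'
  have hcard : Nat.card ((EtCoh.stalk ξ').obj F) = Nat.card ((EtCoh.stalk ξ).obj F) := by
    obtain ⟨ζ, hζ, ⟨e⟩⟩ := exists_lift_data U.ι F ξ ⟨ξ default, hxU⟩ rfl
    obtain ⟨ζ', hζ', ⟨e'⟩⟩ := exists_lift_data U.ι F ξ' ⟨ξ' default, hx'U⟩ rfl
    have hsp' : ζ' default ⤳ ζ default := by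
      rw [default_eq_of_range ζ hζ, default_eq_of_range ζ' hζ']
      apply U.ι.isOpenEmbedding.isInducing.specializes_iff.1
      exact hsp
    obtain ⟨ψ⟩ := exists_arrow_of_specializes ζ ζ' hsp'
    haveI := isIso_sheafFiber_of_flc ψ _ hU
    have hb : Function.Bijective
        ((GrothendieckTopology.Point.Hom.sheafFiber (A := AddCommGrpCat.{u + 1}) ψ).app
          ((EtCoh.pull U.ι).obj F)) :=
      (ConcreteCategory.isIso_iff_bijective _).1 inferInstance
    rw [← Nat.card_congr e, ← Nat.card_congr e']
    exact (Nat.card_congr (Equiv.ofBijective _ hb)).symm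
  exact (ConcreteCategory.isIso_iff_bijective _).2 (hinj.bijective_of_nat_card_le hcard.le)

end Groth.Agent.Lib.helper21.LccCrit2
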