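import Mathlib
import Groth.Prelude.Def_ModSite
import Groth.Agent.Lib.Helper21.LocFac
import Groth.Agent.Lib.Helper21.FlatEq
import Groth.Agent.Lib.Helper21.FlatEq2

/-!
Helper library (helper21): a morphism from a finitely presented module to a flat module factors
locally through a finite free module.
-/

set_option autoImplicit false
universe u
open CategoryTheory Opposite Limits

namespace Groth.Agent.Lib.Helper21.LocFac2

open Groth.Agent.Lib.Helper21.LocFac Groth.Agent.Lib.Helper21.FlatEq2 SheafOfModules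

variable {C : Type u} [SmallCategory C] {J : GrothendieckTopology C}
  (O : Sheaf J CommRingCat.{u})

theorem EC_of_isFlat (H : ModSite.Mod O) (hH : ModSite.IsFlat H) : EC O H :=
  fun U _ f s hrel => Groth.Agent.Lib.Helper21.FlatEq.eq_criterion_single O H hH U f s hrel

theorem FP0 (F H : ModSite.Mod O) (hH : ModSite.IsFlat H) (φ : F ⟶ H) (X₀ : C)
    (P : SheafOfModules.Presentation ((ModSite.restr O X₀).obj F)) [P.IsFinite] :
    ∃ S ∈ J X₀, ∀ ⦃V : C⦄ (q : V ⟶ X₀), S q →
      ∃ (n : ℕ) (a : (ModSite.restr O V).obj F ⟶ SheafOfModules.free (ULift.{u} (Fin n)))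
        (b : SheafOfModules.free (ULift.{u} (Fin n)) ⟶ (ModSite.restr O V).obj H),
        a ≫ b = (ModSite.restr O V).map φ := by
  classical
  let R : Sheaf J RingCat.{u} := ModSite.ringSh O
  let M : SheafOfModules.{u} (R.over X₀) := (SheafOfModules.overFunctor R X₀).obj F
  let N₀ : SheafOfModules.{u} (R.over X₀) := (SheafOfModules.overFunctor R X₀).obj H
  let P' : SheafOfModules.Presentation M := P
  let gen : Type u := P'.generators.I
  let rel : Type u := P'.relations.I
  haveI : Finite gen := inferInstanceAs (Finite P.generators.I)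
  haveI : Finite rel := inferInstanceAs (Finite P.relations.I)
  haveI : Fintype gen := Fintype.ofFinite gen
  haveI : Fintype rel := Fintype.ofFinite rel
  let ρ : free rel ⟶ free gen := (freeHomEquiv _).symm P'.relations.s ≫ kernel.ι _
  let π : free gen ⟶ M := P'.generators.π
  have w : ρ ≫ π = 0 := by simp [ρ, π]
  have hc : IsColimit (CokernelCofork.ofπ π w) := P'.isColimit
  let ψ₀ : M ⟶ N₀ := (SheafOfModules.overFunctor R X₀).map φ
  have w' : ρ ≫ π ≫ ψ₀ = 0 := by rw [← Category.assoc, w, Limits.zero_comp]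
  let h : gen → ModSite.sect H X₀ := fun i => ev N₀ (ιFree i ≫ π ≫ ψ₀)
  let A : rel → gen → O.obj.obj (op X₀) := fun r i => evU (ιFree r ≫ ρ ≫ pr i)
  have hrel : ∀ r, ∑ i, A r i • h i = 0 := fun r => rel_sections ρ (π ≫ ψ₀) w' r
  let eg : gen ≃ Fin (Fintype.card gen) := Fintype.equivFin gen
  let er : rel ≃ Fin (Fintype.card rel) := Fintype.equivFin rel
  let A' : Fin (Fintype.card rel) → Fin (Fintype.card gen) → O.obj.obj (op X₀) :=
    fun r j => A (er.symm r) (eg.symm j)
  let s' : Fin (Fintype.card gen) → ModSite.sect H X₀ := fun j => h (eg.symm j)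
  have hA' : ∀ r, ∑ j, A' r j • s' j = 0 := fun r =>
    (Equiv.sum_comp eg.symm (fun i => A (er.symm r) i • h i)).trans (hrel (er.symm r))
  obtain ⟨S, hS, hS'⟩ := EC_sys O H (EC_of_isFlat O H hH) _ X₀ _ A' s' hA'
  refine ⟨S, hS, ?_⟩
  intro V q hq
  obtain ⟨l, t, b, hb1, hb2⟩ := hS' q hq
  let N : SheafOfModules.{u} (R.over V) := (SheafOfModules.overFunctor R V).obj H
  let iF := (SheafOfModules.overFunctorMap.{u} R q).app F
  let ψ : (overMap.{u} R q).obj M ⟶ N := iF.hom ≫ (SheafOfModules.overFunctor R V).map φ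
  let t' : Fin l → N.val.obj (op (T V)) := t
  let b' : gen → Fin l → (R.over V).obj.obj (op (T V)) := fun i k => b (eg i) k
  have h1 : ∀ i, ψ.val.app (op (T V)) (kl R q M (ev M (ιFree i ≫ π))) = ∑ k, b' i k • t' k := by
    intro i
    have e := hb1 (eg i)
    have e' : s' (eg i) = h i := congrArg h (eg.symm_apply_apply i)
    rw [e'] at e
    refine Eq.trans ?_ e
    exact PresheafOfModules.naturality_apply φ.val q.op (ev M (ιFree i ≫ π))
  have h2 : ∀ r k, ∑ i, klU R q (evU (ιFree r ≫ ρ ≫ pr i)) * b' i k = 0 := by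
    intro r k
    have e := hb2 (er r) k
    rw [← Equiv.sum_comp eg] at e
    refine Eq.trans (Finset.sum_congr rfl (fun i _ => ?_)) e
    show _ = b (eg i) k * rho O q (A (er.symm (er r)) (eg.symm (eg i)))
    rw [er.symm_apply_apply, eg.symm_apply_apply, mul_comm]
    rfl
  obtain ⟨a, bb, hab⟩ := key R q ρ π w hc ψ l t' b' h1 h2
  have hfin : (iF.inv ≫ a) ≫ bb = (SheafOfModules.overFunctor R V).map φ := by
    rw [Category.assoc, hab]
    exact iF.inv_hom_id_assoc _
  exact ⟨l, iF.inv ≫ a, bb, hfin⟩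

end Groth.Agent.Lib.Helper21.LocFac2
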