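import Mathlib

/-!
# Domain criteria for Noetherian local rings via principal primes (helper21)

* `isDomain_of_maximalIdeal_eq_span`: a Noetherian local ring whose maximal ideal is generated by a nonzerodivisor is a
  domain.
* `isDomain_of_prime_eq_span`: a Noetherian local ring with a prime `P = (t)`, `t` a nonzerodivisor, whose localization
  at `P` is a domain, is a domain.
* `exists_height_eq_one_le`: below a prime of height `≥ 1` in a Noetherian ring there is a prime of height one.
-/

set_option autoImplicit false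

namespace Groth.Agent.Lib.helper21.LocFact

theorem isDomain_of_maximalIdeal_eq_span {R : Type*} [CommRing R] [IsNoetherianRing R] [IsLocalRing R]
    (t : R) (ht : t ∈ nonZeroDivisors R)
    (hm : IsLocalRing.maximalIdeal R = Ideal.span {t}) : IsDomain R := by
  have hK : ⨅ n : ℕ, (IsLocalRing.maximalIdeal R) ^ n = ⊥ :=
    Ideal.iInf_pow_eq_bot_of_isLocalRing _ (IsLocalRing.maximalIdeal.isMaximal R).ne_top
  have key : ∀ a : R, a ≠ 0 → ∃ (n : ℕ) (u : R), IsUnit u ∧ a = u * t ^ n := by
    intro a ha
    have hex : ∃ n, a ∉ (IsLocalRing.maximalIdeal R) ^ n := by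
      by_contra hcon
      push_neg at hcon
      apply ha
      have : a ∈ ⨅ n : ℕ, (IsLocalRing.maximalIdeal R) ^ n := by
        rw [Ideal.mem_iInf]; exact hcon
      rwa [hK, Ideal.mem_bot] at this
    classical
    set n := Nat.find hex with hn
    have hn1 : a ∉ (IsLocalRing.maximalIdeal R) ^ n := Nat.find_spec hex
    have hn0 : n ≠ 0 := by
      intro h0
      rw [h0, pow_zero] at hn1
      exact hn1 (by simp)
    obtain ⟨k, hk⟩ : ∃ k, n = k + 1 := Nat.exists_eq_succ_of_ne_zero hn0
    have hk1 : a ∈ (IsLocalRing.maximalIdeal R) ^ k := by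
      by_contra hcon
      have := Nat.find_min' hex hcon
      omega
    rw [hm, Ideal.span_singleton_pow, Ideal.mem_span_singleton] at hk1
    obtain ⟨u, hu⟩ := hk1
    refine ⟨k, u, ?_, by rw [hu, mul_comm]⟩
    by_contra hnu
    have hum : u ∈ IsLocalRing.maximalIdeal R := (IsLocalRing.mem_maximalIdeal u).mpr hnu
    apply hn1
    rw [hk, pow_succ, hu]
    refine Ideal.mul_mem_mul ?_ hum
    rw [hm, Ideal.span_singleton_pow]
    exact Ideal.subset_span rfl
  have hpow : ∀ n : ℕ, t ^ n ∈ nonZeroDivisors R := fun n => pow_mem ht n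
  haveI : NoZeroDivisors R := ⟨?_⟩
  · exact NoZeroDivisors.to_isDomain R
  intro a b hab
  by_contra hcon
  push_neg at hcon
  obtain ⟨n, u, hu, rfl⟩ := key a hcon.1
  obtain ⟨k, v, hv, rfl⟩ := key b hcon.2
  have h1 : (u * v) * (t ^ n * t ^ k) = 0 := by
    rw [← hab]; ring
  have h2 : t ^ n * t ^ k = 0 := (hu.mul hv).mul_right_eq_zero.mp h1
  rw [← pow_add] at h2
  have := hpow (n + k)
  rw [h2] at this
  exact zero_notMem_nonZeroDivisors this

theorem isDomain_of_prime_eq_span {R : Type*} [CommRing R] [IsNoetherianRing R] [IsLocalRing R]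
    (P : Ideal R) [P.IsPrime] (t : R) (ht : t ∈ nonZeroDivisors R) (hP : P = Ideal.span {t})
    (S : Type*) [CommRing S] [Algebra R S] [IsLocalization.AtPrime S P] [IsDomain S] : IsDomain R := by
  have hker : RingHom.ker (algebraMap R S) = ⊥ := by
    apply Submodule.eq_bot_of_le_smul_of_le_jacobson_bot P (RingHom.ker (algebraMap R S))
      (IsNoetherian.noetherian _)
    · intro r hr
      rw [RingHom.mem_ker, IsLocalization.map_eq_zero_iff P.primeCompl] at hr
      obtain ⟨s, hs⟩ := hr
      have hrP : r ∈ P := by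
        have h0 : (s : R) * r ∈ P := by rw [hs]; exact P.zero_mem
        rcases (inferInstance : P.IsPrime).mem_or_mem h0 with h | h
        · exact absurd h s.2
        · exact h
      rw [hP, Ideal.mem_span_singleton] at hrP
      obtain ⟨r₁, rfl⟩ := hrP
      have h1 : t * ((s : R) * r₁) = 0 := by rw [← hs]; ring
      have h2 : (s : R) * r₁ = 0 := (mul_left_mem_nonZeroDivisors_eq_zero_iff ht).mp h1
      have hr₁ : r₁ ∈ RingHom.ker (algebraMap R S) := by
        rw [RingHom.mem_ker, IsLocalization.map_eq_zero_iff P.primeCompl]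
        exact ⟨s, h2⟩
      rw [smul_eq_mul, hP]
      exact Ideal.mul_mem_mul (Ideal.subset_span rfl) hr₁
    · rw [IsLocalRing.jacobson_eq_maximalIdeal ⊥ bot_ne_top]
      exact IsLocalRing.le_maximalIdeal (inferInstance : P.IsPrime).ne_top
  have hinj : Function.Injective (algebraMap R S) := (RingHom.injective_iff_ker_eq_bot _).mpr hker
  exact hinj.isDomain (algebraMap R S)

theorem exists_height_eq_one_le {R : Type*} [CommRing R] [IsNoetherianRing R]
    (Q : Ideal R) [Q.IsPrime] (hQ : 1 ≤ Q.height) :
    ∃ P : Ideal R, P.IsPrime ∧ P ≤ Q ∧ P.height = 1 := by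
  by_cases h1 : Q.height = 1
  · exact ⟨Q, inferInstance, le_rfl, h1⟩
  · have hlt : (1 : ℕ∞) < Q.height := lt_of_le_of_ne hQ (Ne.symm h1)
    let q : PrimeSpectrum R := ⟨Q, inferInstance⟩
    have hq : Q.height = Order.height q := PrimeSpectrum.height_eq_orderHeight q
    have hfin : Order.height q < ⊤ := by
      rw [← hq]; exact Ideal.height_lt_top (inferInstance : Q.IsPrime).ne_top
    rw [hq] at hlt
    obtain ⟨y, hy, hy1⟩ := (Order.coe_lt_height_iff (n := 1) hfin).mp (by exact_mod_cast hlt)
    refine ⟨y.asIdeal, y.2, ?_, ?_⟩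
    · exact (PrimeSpectrum.asIdeal_le_asIdeal y q).mpr hy.le
    · rw [PrimeSpectrum.height_eq_orderHeight y, hy1]
      rfl

end Groth.Agent.Lib.helper21.LocFact
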