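import Mathlib
import Groth.Agent.Lib.Helper21.UfdExt1
import Groth.Agent.Lib.Helper16.QCohAss

/-!
# Generizations of a point and primes of its local ring (helper21)

For a scheme `X`, a point `x` and a generization `ζ ⤳ x`:

* `genPrime h`: the prime of `O_{X,x}` attached to `ζ`, the preimage of `𝔪_ζ` under the specialization map;
* `comap_genPrime`: its contraction to an affine chart is the prime of `ζ`;
* `isLocalization_genPrime`: `O_{X,ζ}` is the localization of `O_{X,x}` at `genPrime h`;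
* `exists_generization`: every prime of `O_{X,x}` is `genPrime h` for some generization;
* `ringKrullDim_stalk_eq_height`: `dim O_{X,ζ} = height (genPrime h)`;
* `genPrime_refl`.
-/

set_option autoImplicit false
universe u
open CategoryTheory AlgebraicGeometry TopologicalSpace

namespace Groth.Agent.Lib.helper21.StalkGen

open Groth.Agent.Lib.helper16.QCohAss Groth.Agent.Lib.helper21.UfdExt

variable {X : Scheme.{u}}

/-- the prime of `O_x` attached to a generization `ζ ⤳ x` -/
noncomputable def genPrime {x ζ : X} (h : ζ ⤳ x) : Ideal (X.presheaf.stalk x) :=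
  (IsLocalRing.maximalIdeal (X.presheaf.stalk ζ)).comap (X.presheaf.stalkSpecializes h).hom

instance {x ζ : X} (h : ζ ⤳ x) : (genPrime h).IsPrime := by
  unfold genPrime
  infer_instance

theorem comap_maximalIdeal_germ {W : X.Opens} (hW : IsAffineOpen W) (ζ : X) (hζW : ζ ∈ W) :
    (IsLocalRing.maximalIdeal (X.presheaf.stalk ζ)).comap (X.presheaf.germ W ζ hζW).hom =
      (hW.primeIdealOf ⟨ζ, hζW⟩).asIdeal := by
  letI := TopCat.Presheaf.algebra_section_stalk X.presheaf (⟨ζ, hζW⟩ : W)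
  haveI : IsLocalization.AtPrime (X.presheaf.stalk ζ) (hW.primeIdealOf ⟨ζ, hζW⟩).asIdeal :=
    hW.isLocalization_stalk ⟨ζ, hζW⟩
  exact IsLocalization.AtPrime.comap_maximalIdeal (X.presheaf.stalk ζ)
    (hW.primeIdealOf ⟨ζ, hζW⟩).asIdeal

theorem comap_genPrime {W : X.Opens} (hW : IsAffineOpen W) {x ζ : X} (h : ζ ⤳ x) (hxW : x ∈ W) :
    (genPrime h).comap (X.presheaf.germ W x hxW).hom =
      (hW.primeIdealOf ⟨ζ, h.mem_open W.2 hxW⟩).asIdeal := by
  rw [← comap_maximalIdeal_germ hW ζ (h.mem_open W.2 hxW)]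
  unfold genPrime
  rw [Ideal.comap_comap, ← CommRingCat.hom_comp, TopCat.Presheaf.germ_stalkSpecializes]

/-- `O_{X,ζ}` is the localization of `O_{X,x}` at the prime of `ζ` -/
theorem isLocalization_genPrime {x ζ : X} (h : ζ ⤳ x) :
    letI := (X.presheaf.stalkSpecializes h).hom.toAlgebra
    IsLocalization.AtPrime (X.presheaf.stalk ζ) (genPrime h) := by
  obtain ⟨_, ⟨W, hW, rfl⟩, hxW, -⟩ :=
    X.isBasis_affineOpens.exists_subset_of_mem_open (Set.mem_univ x) isOpen_univ
  have hζW : ζ ∈ W := h.mem_open W.2 hxW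
  letI algAR := TopCat.Presheaf.algebra_section_stalk X.presheaf (⟨x, hxW⟩ : W)
  letI algAT := TopCat.Presheaf.algebra_section_stalk X.presheaf (⟨ζ, hζW⟩ : W)
  letI algRT : Algebra (X.presheaf.stalk x) (X.presheaf.stalk ζ) :=
    (X.presheaf.stalkSpecializes h).hom.toAlgebra
  haveI : IsScalarTower Γ(X, W) (X.presheaf.stalk x) (X.presheaf.stalk ζ) := by
    refine IsScalarTower.of_algebraMap_eq (fun a => ?_)
    have := TopCat.Presheaf.germ_stalkSpecializes X.presheaf hxW h
    exact (congrArg (fun φ => φ.hom a) this).symm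
  haveI : IsLocalization.AtPrime (X.presheaf.stalk x) (hW.primeIdealOf ⟨x, hxW⟩).asIdeal :=
    hW.isLocalization_stalk ⟨x, hxW⟩
  haveI : IsLocalization.AtPrime (X.presheaf.stalk ζ) (hW.primeIdealOf ⟨ζ, hζW⟩).asIdeal :=
    hW.isLocalization_stalk ⟨ζ, hζW⟩
  exact isLocalization_atPrime_of_tower (hW.primeIdealOf ⟨x, hxW⟩).asIdeal (genPrime h)
    (hW.primeIdealOf ⟨ζ, hζW⟩).asIdeal (comap_genPrime hW h hxW).symm

theorem ringKrullDim_stalk_eq_height {x ζ : X} (h : ζ ⤳ x) :
    ringKrullDim (X.presheaf.stalk ζ) = (genPrime h).height := by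
  letI := (X.presheaf.stalkSpecializes h).hom.toAlgebra
  haveI := isLocalization_genPrime h
  exact IsLocalization.AtPrime.ringKrullDim_eq_height (genPrime h) (X.presheaf.stalk ζ)

theorem genPrime_refl (x : X) :
    genPrime (specializes_refl x) = IsLocalRing.maximalIdeal (X.presheaf.stalk x) := by
  unfold genPrime
  rw [TopCat.Presheaf.stalkSpecializes_refl]
  exact Ideal.comap_id _

/-- every prime of `O_{X,x}` comes from a generization -/
theorem exists_generization (x : X) (P : Ideal (X.presheaf.stalk x)) [hP : P.IsPrime] :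
    ∃ (ζ : X) (h : ζ ⤳ x), genPrime h = P := by
  obtain ⟨_, ⟨W, hW, rfl⟩, hxW, -⟩ :=
    X.isBasis_affineOpens.exists_subset_of_mem_open (Set.mem_univ x) isOpen_univ
  letI algAR := TopCat.Presheaf.algebra_section_stalk X.presheaf (⟨x, hxW⟩ : W)
  haveI hloc : IsLocalization.AtPrime (X.presheaf.stalk x) (hW.primeIdealOf ⟨x, hxW⟩).asIdeal :=
    hW.isLocalization_stalk ⟨x, hxW⟩
  set Q : PrimeSpectrum Γ(X, W) :=
    ⟨P.comap (algebraMap Γ(X, W) (X.presheaf.stalk x)), inferInstance⟩ with hQ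
  have hyW : hW.fromSpec Q ∈ W := fromSpec_mem hW Q
  have hprime : hW.primeIdealOf ⟨hW.fromSpec Q, hyW⟩ = Q := primeIdealOf_fromSpec hW Q
  obtain ⟨y, hy⟩ : ∃ y : X, y = hW.fromSpec Q := ⟨_, rfl⟩
  rw [← hy] at hyW
  have hprime' : hW.primeIdealOf ⟨y, hyW⟩ = Q := by subst hy; exact hprime
  have hqp : Q.asIdeal ≤ (hW.primeIdealOf ⟨x, hxW⟩).asIdeal := by
    intro a ha
    by_contra hap
    have hu : IsUnit (algebraMap Γ(X, W) (X.presheaf.stalk x) a) :=
      IsLocalization.map_units (X.presheaf.stalk x)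
        (⟨a, hap⟩ : (hW.primeIdealOf ⟨x, hxW⟩).asIdeal.primeCompl)
    exact hP.ne_top (Ideal.eq_top_of_isUnit_mem _ ha hu)
  have hspec : y ⤳ x := specializes_of_le hW x y hxW hyW (by rw [hprime']; exact hqp)
  refine ⟨y, hspec, ?_⟩
  have h1 : (genPrime hspec).comap (algebraMap Γ(X, W) (X.presheaf.stalk x)) =
      P.comap (algebraMap Γ(X, W) (X.presheaf.stalk x)) := by
    have := comap_genPrime hW hspec hxW
    rw [hprime'] at this
    exact this
  have e1 := IsLocalization.map_comap (hW.primeIdealOf ⟨x, hxW⟩).asIdeal.primeCompl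
      (X.presheaf.stalk x) (genPrime hspec)
  have e2 := IsLocalization.map_comap (hW.primeIdealOf ⟨x, hxW⟩).asIdeal.primeCompl
      (X.presheaf.stalk x) P
  rw [← e1, ← e2]
  exact congrArg (Ideal.map _) h1

/-- a generization is determined by its prime -/
theorem genPrime_injective {x ζ ζ' : X} (h : ζ ⤳ x) (h' : ζ' ⤳ x) (e : genPrime h = genPrime h') :
    ζ = ζ' := by
  obtain ⟨_, ⟨W, hW, rfl⟩, hxW, -⟩ :=
    X.isBasis_affineOpens.exists_subset_of_mem_open (Set.mem_univ x) isOpen_univ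
  have h1 := comap_genPrime hW h hxW
  have h2 := comap_genPrime hW h' hxW
  rw [e, h2] at h1
  have h3 : hW.primeIdealOf ⟨ζ', h'.mem_open W.2 hxW⟩ = hW.primeIdealOf ⟨ζ, h.mem_open W.2 hxW⟩ :=
    PrimeSpectrum.ext h1
  have e1 := hW.fromSpec_primeIdealOf ⟨ζ, h.mem_open W.2 hxW⟩
  have e2 := hW.fromSpec_primeIdealOf ⟨ζ', h'.mem_open W.2 hxW⟩
  rw [h3] at e2
  exact e1.symm.trans e2

end Groth.Agent.Lib.helper21.StalkGen
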