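import Mathlib
import Groth.Agent.Lib.Helper21.StalkGen
import Groth.Agent.Lib.Helper21.LocFact1
import Groth.Agent.S17386

/-!
# Locally factorial schemes and principal codimension one primes (helper21)

`X` locally Noetherian, reduced at isolated points.  If for every point `ζ` with `dim O_ζ = 1` and every
specialization `x` the prime of `ζ` in `O_x` is generated by a nonzerodivisor, then every local ring of `X` is a
factorial domain; and conversely.
-/

set_option autoImplicit false
universe u
open CategoryTheory AlgebraicGeometry TopologicalSpace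

namespace Groth.Agent.Lib.helper21.LocFact

open Groth.Agent.Lib.helper21.StalkGen Groth.Agent.Lib.helper16.QCohAss Groth.Agent.S17386

variable {X : Scheme.{u}} [IsLocallyNoetherian X]

/-- the hypothesis (a''): codimension one primes of all local rings are principal generated by nonzerodivisors -/
def CodimOnePrincipal (X : Scheme.{u}) : Prop :=
  ∀ ζ : X, ringKrullDim (X.presheaf.stalk ζ) = 1 → ∀ (x : X) (h : ζ ⤳ x),
    ∃ t : X.presheaf.stalk x, t ∈ nonZeroDivisors (X.presheaf.stalk x) ∧ genPrime h = Ideal.span {t}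

theorem isDomain_of_dim_one (ha : CodimOnePrincipal X) (ζ : X)
    (hζ : ringKrullDim (X.presheaf.stalk ζ) = 1) : IsDomain (X.presheaf.stalk ζ) := by
  obtain ⟨t, ht, hP⟩ := ha ζ hζ ζ (specializes_refl ζ)
  rw [genPrime_refl] at hP
  exact isDomain_of_maximalIdeal_eq_span t ht hP

theorem isDomain_of_one_le_height (ha : CodimOnePrincipal X) (y : X)
    (hy : 1 ≤ (IsLocalRing.maximalIdeal (X.presheaf.stalk y)).height) :
    IsDomain (X.presheaf.stalk y) := by
  obtain ⟨P, hPprime, -, hP1⟩ := exists_height_eq_one_le _ hy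
  haveI := hPprime
  obtain ⟨ζ, h, hζP⟩ := exists_generization y P
  have hdim : ringKrullDim (X.presheaf.stalk ζ) = 1 := by
    rw [ringKrullDim_stalk_eq_height h, hζP, hP1]
    rfl
  obtain ⟨t, ht, hPt⟩ := ha ζ hdim y h
  haveI := isDomain_of_dim_one ha ζ hdim
  letI := (X.presheaf.stalkSpecializes h).hom.toAlgebra
  haveI := isLocalization_genPrime h
  exact isDomain_of_prime_eq_span (genPrime h) t ht hPt (X.presheaf.stalk ζ)

/-- a maximal point without proper specializations is isolated -/
theorem isOpen_singleton_of_height_zero (x : X)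
    (h0 : (IsLocalRing.maximalIdeal (X.presheaf.stalk x)).height = 0)
    (hsp : ∀ y : X, x ⤳ y → y = x) : IsOpen ({x} : Set X) := by
  classical
  obtain ⟨_, ⟨W, hW, rfl⟩, hxW, -⟩ :=
    X.isBasis_affineOpens.exists_subset_of_mem_open (Set.mem_univ x) isOpen_univ
  haveI : IsNoetherianRing Γ(X, W) := IsLocallyNoetherian.component_noetherian ⟨W, hW⟩
  set p := hW.primeIdealOf ⟨x, hxW⟩ with hp
  letI := TopCat.Presheaf.algebra_section_stalk X.presheaf (⟨x, hxW⟩ : W)
  haveI hloc : IsLocalization.AtPrime (X.presheaf.stalk x) p.asIdeal := hW.isLocalization_stalk ⟨x, hxW⟩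
  have hpmin : p.asIdeal ∈ minimalPrimes Γ(X, W) := by
    rw [← Ideal.height_eq_zero_iff]
    have h1 := IsLocalization.AtPrime.ringKrullDim_eq_height p.asIdeal (X.presheaf.stalk x)
    rw [← IsLocalRing.maximalIdeal_height_eq_ringKrullDim, h0] at h1
    exact_mod_cast h1.symm
  -- primes above `p` equal `p`
  have hpmax : ∀ r : PrimeSpectrum Γ(X, W), p.asIdeal ≤ r.asIdeal → r = p := by
    intro r hr
    have hyW : hW.fromSpec r ∈ W := fromSpec_mem hW r
    have hprime : hW.primeIdealOf ⟨hW.fromSpec r, hyW⟩ = r := primeIdealOf_fromSpec hW r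
    have hspec : x ⤳ hW.fromSpec r :=
      specializes_of_le hW (hW.fromSpec r) x hyW hxW (by rw [hprime]; exact hr)
    have := hsp _ hspec
    rw [← hprime]
    congr 1
    exact Subtype.ext this
  -- the element `b`
  set F : Finset (Ideal Γ(X, W)) :=
    (minimalPrimes.finite_of_isNoetherianRing Γ(X, W)).toFinset.erase p.asIdeal with hF
  have hnot : ¬ (F.prod id ≤ p.asIdeal) := by
    rw [Ideal.IsPrime.prod_le p.2]
    rintro ⟨q, hqF, hqp⟩
    rw [hF, Finset.mem_erase, Set.Finite.mem_toFinset] at hqF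
    have : p.asIdeal ≤ q := hpmin.2 ⟨hqF.2.1.1, bot_le⟩ hqp
    exact hqF.1 (le_antisymm hqp this)
  obtain ⟨b, hbF, hbp⟩ := Set.not_subset.mp hnot
  have hxb : x ∈ X.basicOpen b := (mem_basicOpen_iff_notMem_primeIdealOf hW x hxW b).2 hbp
  have hsingle : (X.basicOpen b : Set X) = {x} := by
    apply Set.eq_singleton_iff_unique_mem.mpr
    refine ⟨hxb, fun z hz => ?_⟩
    have hzW : z ∈ W := X.basicOpen_le b hz
    have hbz : b ∉ (hW.primeIdealOf ⟨z, hzW⟩).asIdeal :=
      (mem_basicOpen_iff_notMem_primeIdealOf hW z hzW b).1 hz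
    obtain ⟨q, hqmin, hqz⟩ := Ideal.exists_minimalPrimes_le
      (bot_le : (⊥ : Ideal Γ(X, W)) ≤ (hW.primeIdealOf ⟨z, hzW⟩).asIdeal)
    have hqp : q = p.asIdeal := by
      by_contra hne
      have hqF : q ∈ F := by
        rw [hF, Finset.mem_erase, Set.Finite.mem_toFinset]
        exact ⟨hne, hqmin⟩
      have hle : F.prod id ≤ q := Ideal.prod_le_inf.trans (Finset.inf_le (f := id) hqF)
      exact hbz (hqz (hle hbF))
    have hz' : hW.primeIdealOf ⟨z, hzW⟩ = p := hpmax _ (by rw [← hqp]; exact hqz)
    have e1 := hW.fromSpec_primeIdealOf ⟨z, hzW⟩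
    have e2 := hW.fromSpec_primeIdealOf ⟨x, hxW⟩
    rw [hz'] at e1
    exact e1.symm.trans e2
  rw [← hsingle]
  exact (X.basicOpen b).2

theorem isDomain_stalk (ha : CodimOnePrincipal X)
    (hred : ∀ x : X, IsOpen ({x} : Set X) → IsReduced (X.presheaf.stalk x)) (x : X) :
    IsDomain (X.presheaf.stalk x) := by
  by_cases h1 : 1 ≤ (IsLocalRing.maximalIdeal (X.presheaf.stalk x)).height
  · exact isDomain_of_one_le_height ha x h1
  have h0 : (IsLocalRing.maximalIdeal (X.presheaf.stalk x)).height = 0 := by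
    rw [Order.one_le_iff_pos, not_lt] at h1
    exact le_antisymm h1 bot_le
  by_cases hsp : ∀ y : X, x ⤳ y → y = x
  · haveI := hred x (isOpen_singleton_of_height_zero x h0 hsp)
    haveI : Ring.KrullDimLE 0 (X.presheaf.stalk x) := by
      rw [Ring.krullDimLE_iff, ← IsLocalRing.maximalIdeal_height_eq_ringKrullDim, h0]
      rfl
    have hf : IsField (X.presheaf.stalk x) := Ring.KrullDimLE.isField_of_isReduced
    letI := hf.toField
    infer_instance
  · push_neg at hsp
    obtain ⟨y, hxy, hne⟩ := hsp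
    have hlt : genPrime hxy < IsLocalRing.maximalIdeal (X.presheaf.stalk y) := by
      refine lt_of_le_of_ne (IsLocalRing.le_maximalIdeal (inferInstance : (genPrime hxy).IsPrime).ne_top) ?_
      intro e
      rw [← genPrime_refl y] at e
      exact hne (genPrime_injective hxy (specializes_refl y) e).symm
    have hy : 1 ≤ (IsLocalRing.maximalIdeal (X.presheaf.stalk y)).height :=
      le_trans le_add_self (Ideal.height_add_one_le_of_lt_of_isPrime hlt)
    haveI := isDomain_of_one_le_height ha y hy
    letI := (X.presheaf.stalkSpecializes hxy).hom.toAlgebra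
    haveI := isLocalization_genPrime hxy
    exact IsLocalization.isDomain_of_atPrime (X.presheaf.stalk x) (genPrime hxy)

theorem ufm_stalk (ha : CodimOnePrincipal X)
    (hred : ∀ x : X, IsOpen ({x} : Set X) → IsReduced (X.presheaf.stalk x)) (x : X) :
    ∃ _ : IsDomain (X.presheaf.stalk x), UniqueFactorizationMonoid (X.presheaf.stalk x) := by
  haveI := isDomain_stalk ha hred x
  refine ⟨inferInstance, UniqueFactorizationMonoid.of_forall_isPrincipal_of_height_eq_one ?_⟩
  intro P hP hP1
  obtain ⟨ζ, h, hζP⟩ := exists_generization x P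
  have hdim : ringKrullDim (X.presheaf.stalk ζ) = 1 := by
    rw [ringKrullDim_stalk_eq_height h, hζP, hP1]
    rfl
  obtain ⟨t, -, hPt⟩ := ha ζ hdim x h
  exact ⟨t, by rw [← hζP, hPt]⟩

theorem codimOnePrincipal_of_ufm
    (hufm : ∀ x : X, ∃ _ : IsDomain (X.presheaf.stalk x),
      UniqueFactorizationMonoid (X.presheaf.stalk x)) : CodimOnePrincipal X := by
  intro ζ hζ x h
  obtain ⟨hdom, hu⟩ := hufm x
  have h1 : (genPrime h).height = 1 := by
    have := ringKrullDim_stalk_eq_height h
    rw [hζ] at this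
    exact_mod_cast this.symm
  obtain ⟨t, ht⟩ := (UniqueFactorizationMonoid.iff_forall_isPrincipal_of_height_eq_one.mp hu)
    (genPrime h) h1
  have ht' : genPrime h = Ideal.span {t} := ht
  refine ⟨t, mem_nonZeroDivisors_of_ne_zero ?_, ht'⟩
  rintro rfl
  apply Ideal.ne_bot_of_height_eq_one h1
  rw [ht']
  simp

end Groth.Agent.Lib.helper21.LocFact
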