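import Mathlib
import Groth.Prelude.Def_Magnet

/-!
Helper library (helper21): a criterion for the square
`eqvHom ρ aZ → eqvHom ρ aX` over `Z → X` (evaluation at a point of `B`) to be cartesian,
for a monomorphism `j : Z ⟶ X`.
-/

set_option autoImplicit false
universe v₁ u₁
open CategoryTheory MonoidalCategory CartesianMonoidalCategory MonObj Opposite Limits
open Magnet Magnet.MonAct

namespace Groth.Agent.Lib.Helper21.MagnetPB

variable {C : Type u₁} [Category.{v₁} C] [CartesianMonoidalCategory C]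
variable {A B X Z : C} [MonObj A] (ρ : MonAct A B) (aZ : MonAct A Z) (aX : MonAct A X)

theorem isPullback_postcomp_evalAt (j : Z ⟶ X) [Mono j] (hj : IsEquivariant aZ aX j)
    (e : 𝟙_ C ⟶ B)
    (H : ∀ (T : C) (φ : B ⊗ T ⟶ X), IsEquivariant (ρ.prod (trivial A T)) aX φ →
      ∀ z : T ⟶ Z, lift (toUnit T ≫ e) (𝟙 T) ≫ φ = z ≫ j → ∃ ψ : B ⊗ T ⟶ Z, ψ ≫ j = φ) :
    IsPullback (eqvHom.postcomp ρ j hj) (eqvHom.evalAt ρ aZ e) (eqvHom.evalAt ρ aX e)
      (yoneda.map j) := by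
  refine IsPullback.of_forall_isPullback_app fun T => ?_
  rw [Limits.Types.isPullback_iff]
  refine ⟨?_, ?_, ?_⟩
  · refine ConcreteCategory.hom_ext _ _ fun φ => ?_
    change lift (toUnit (unop T) ≫ e) (𝟙 (unop T)) ≫ (φ.1 ≫ j) =
      (lift (toUnit (unop T) ≫ e) (𝟙 (unop T)) ≫ φ.1) ≫ j
    rw [Category.assoc]
  · rintro φ ψ ⟨h1, _⟩
    apply Subtype.ext
    have h1' : φ.1 ≫ j = ψ.1 ≫ j := congrArg Subtype.val h1
    exact (cancel_mono j).1 h1'
  · intro φ z h
    have h' : lift (toUnit (unop T) ≫ e) (𝟙 (unop T)) ≫ φ.1 = z ≫ j := h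
    obtain ⟨ψ, hψ⟩ := H (unop T) φ.1 φ.2 z h'
    have hψe : IsEquivariant (ρ.prod (trivial A (unop T))) aZ ψ := by
      have e1 := φ.2
      unfold IsEquivariant at e1 hj ⊢
      rw [← cancel_mono j, Category.assoc, hψ, e1, Category.assoc, hj, ← hψ,
        MonoidalCategory.whiskerLeft_comp, Category.assoc]
    refine ⟨⟨ψ, hψe⟩, Subtype.ext hψ, ?_⟩
    change lift (toUnit (unop T) ≫ e) (𝟙 (unop T)) ≫ ψ = z
    rw [← cancel_mono j, Category.assoc, hψ, h']

/-- The orbit identity: an equivariant map out of `M ⊗ T` (with `A` acting through `i : A ⟶ M`),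
restricted along `i`, is the orbit map of its value at the unit. -/
theorem whiskerRight_comp_eq {M : C} [MonObj M] (i : A ⟶ M) [IsMonHom i] (j : Z ⟶ X)
    (hj : IsEquivariant aZ aX j) {T : C} (φ : M ⊗ T ⟶ X)
    (hφ : IsEquivariant (((regular M).restrict i).prod (trivial A T)) aX φ) (z : T ⟶ Z)
    (hz : lift (toUnit T ≫ η[M]) (𝟙 T) ≫ φ = z ≫ j) :
    (i ▷ T) ≫ φ = ((A ◁ z) ≫ aZ.act) ≫ j := by
  rw [mem_eqvHom_iff] at hφ
  rw [isEquivariant_iff] at hj
  apply hom_ext_lift₂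
  intro T' g t
  have h1 := hφ T' g (toUnit T' ≫ η[M]) t
  have e1 : lift g (toUnit T' ≫ η[M]) ≫ ((regular M).restrict i).act = g ≫ i := by
    rw [lift_restrict_act, lift_regular_act, ← Hom.one_def, _root_.mul_one]
  have e2 : lift (toUnit T' ≫ η[M]) t ≫ φ = (t ≫ z) ≫ j := by
    have : lift (toUnit T' ≫ η[M]) t = t ≫ lift (toUnit T ≫ η[M]) (𝟙 T) := by
      rw [comp_lift, Category.comp_id, ← Category.assoc, toUnit_unique (t ≫ toUnit T) (toUnit T')]
    rw [this, Category.assoc, hz, Category.assoc]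
  rw [e1, e2] at h1
  rw [lift_whiskerRight_assoc, h1, ← hj, Category.assoc, lift_whiskerLeft_assoc]

end Groth.Agent.Lib.Helper21.MagnetPB
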