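import Mathlib
import Groth.Prelude.Def_Magnet

/-!
Helper library (helper21): the functor of equivariant maps `eqvHom ρ a` is a sheaf for any
topology for which the representable presheaf of the target is a sheaf.
-/

set_option autoImplicit false
universe v₁ u₁
open CategoryTheory MonoidalCategory CartesianMonoidalCategory MonObj Opposite
open Magnet Magnet.MonAct

namespace Groth.Agent.Lib.Helper21.MagnetSheaf

variable {C : Type u₁} [Category.{v₁} C] [CartesianMonoidalCategory C] (J : GrothendieckTopology C)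

lemma yoneda_sep {X : C} (hX : Presieve.IsSheaf J (yoneda.obj X)) {T : C} (S : Sieve T) (hS : S ∈ J T)
    (p q : T ⟶ X) (h : ∀ ⦃W : C⦄ (g : W ⟶ T), S g → g ≫ p = g ≫ q) : p = q :=
  ((hX S hS).isSeparatedFor).ext (fun W g hg => h g hg)

lemma fam_congr {P : Cᵒᵖ ⥤ Type v₁} {T : C} {S : Sieve T} (x : Presieve.FamilyOfElements P S.arrows)
    {W : C} {f f' : W ⟶ T} (e : f = f') (hf : S f) (hf' : S f') : x f hf = x f' hf' := by
  subst e; rfl

variable {A B X : C} [MonObj A] (ρ : MonAct A B) (a : MonAct A X)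

theorem isSheaf_eqvHom (hX : Presieve.IsSheaf J (yoneda.obj X)) :
    Presieve.IsSheaf J (eqvHom ρ a) := by
  intro T S hS x hx
  rw [Presieve.compatible_iff_sieveCompatible] at hx
  -- restriction in `eqvHom`
  have hres : ∀ ⦃W W' : C⦄ (f : W ⟶ T) (h : W' ⟶ W) (hf : S f),
      (x (h ≫ f) (S.downward_closed hf h)).1 = (B ◁ h) ≫ (x f hf).1 := by
    intro W W' f h hf
    rw [hx f h hf]
    rfl
  -- the family on `B ⊗ T`
  let y : Presieve.FamilyOfElements (yoneda.obj X) (S.pullback (snd B T)).arrows :=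
    fun W g hg => lift (g ≫ fst B T) (𝟙 W) ≫ (x (g ≫ snd B T) hg).1
  have hy : y.Compatible := by
    rw [Presieve.compatible_iff_sieveCompatible]
    intro W W' g h hg
    show lift ((h ≫ g) ≫ fst B T) (𝟙 W') ≫ (x ((h ≫ g) ≫ snd B T) _).1 =
      h ≫ lift (g ≫ fst B T) (𝟙 W) ≫ (x (g ≫ snd B T) hg).1
    have e : x ((h ≫ g) ≫ snd B T) ((S.pullback (snd B T)).downward_closed hg h) =
        x (h ≫ (g ≫ snd B T)) (S.downward_closed hg h) := fam_congr x (Category.assoc _ _ _) _ _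
    rw [e, hres (g ≫ snd B T) h hg, lift_whiskerLeft_assoc, comp_lift_assoc]
    simp
  have hcov : S.pullback (snd B T) ∈ J (B ⊗ T) := J.pullback_stable _ hS
  obtain ⟨φ, hφ, hφuniq⟩ := hX _ hcov y hy
  have hφ' : ∀ ⦃W : C⦄ (g : W ⟶ B ⊗ T) (hg : S (g ≫ snd B T)),
      g ≫ φ = lift (g ≫ fst B T) (𝟙 W) ≫ (x (g ≫ snd B T) hg).1 := fun W g hg => hφ g hg
  -- restriction of `φ` along a member of `S`
  have hφres : ∀ ⦃W : C⦄ (f : W ⟶ T) (hf : S f), (B ◁ f) ≫ φ = (x f hf).1 := by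
    intro W f hf
    have hg : S ((B ◁ f) ≫ snd B T) := by
      rw [whiskerLeft_snd]
      exact S.downward_closed hf _
    rw [hφ' (B ◁ f) hg]
    have e : x ((B ◁ f) ≫ snd B T) hg = x (snd B W ≫ f) (S.downward_closed hf _) :=
      fam_congr x (whiskerLeft_snd _ _) _ _
    rw [e, hres f (snd B W) hf, lift_whiskerLeft_assoc, whiskerLeft_fst]
    simp
  -- equivariance
  have hequiv : IsEquivariant (ρ.prod (trivial A T)) a φ := by
    unfold IsEquivariant
    have hcov2 : (S.pullback (snd B T)).pullback (snd A (B ⊗ T)) ∈ J (A ⊗ (B ⊗ T)) :=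
      J.pullback_stable _ hcov
    refine yoneda_sep J hX _ hcov2 _ _ ?_
    intro W g hg
    -- write `g` through `A ◁ (B ◁ f)`
    let f : W ⟶ T := (g ≫ snd A (B ⊗ T)) ≫ snd B T
    have hf : S f := hg
    have hgfac : g = lift (g ≫ fst A (B ⊗ T)) (lift ((g ≫ snd A (B ⊗ T)) ≫ fst B T) (𝟙 W)) ≫
        (A ◁ (B ◁ f)) := by
      apply CartesianMonoidalCategory.hom_ext
      · simp
      · apply CartesianMonoidalCategory.hom_ext
        · simp
        · simp [f]
    rw [hgfac]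
    simp only [Category.assoc]
    congr 1
    rw [← prod_trivial_act_whiskerLeft_assoc, hφres f hf, ← MonoidalCategory.whiskerLeft_comp_assoc,
      hφres f hf]
    exact (x f hf).2
  refine ⟨⟨φ, hequiv⟩, ?_, ?_⟩
  · intro W f hf
    apply Subtype.ext
    exact hφres f hf
  · intro ψ hψ
    apply Subtype.ext
    apply hφuniq
    intro W g hg
    show g ≫ ψ.1 = lift (g ≫ fst B T) (𝟙 W) ≫ (x (g ≫ snd B T) hg).1
    have h1 := congrArg Subtype.val (hψ (g ≫ snd B T) hg)
    rw [← h1]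
    show g ≫ ψ.1 = lift (g ≫ fst B T) (𝟙 W) ≫ (B ◁ (g ≫ snd B T)) ≫ ψ.1
    rw [lift_whiskerLeft_assoc]
    simp

theorem isSheaf_fixedPsh (hX : Presieve.IsSheaf J (yoneda.obj X)) :
    Presieve.IsSheaf J (fixedPsh a) := by
  intro T S hS x hx
  rw [Presieve.compatible_iff_sieveCompatible] at hx
  have hres : ∀ ⦃W W' : C⦄ (f : W ⟶ T) (h : W' ⟶ W) (hf : S f),
      (x (h ≫ f) (S.downward_closed hf h)).1 = h ≫ (x f hf).1 := by
    intro W W' f h hf
    rw [hx f h hf]
    rfl
  let y : Presieve.FamilyOfElements (yoneda.obj X) S.arrows := fun W g hg => (x g hg).1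
  have hy : y.Compatible := by
    rw [Presieve.compatible_iff_sieveCompatible]
    intro W W' g h hg
    exact hres g h hg
  obtain ⟨φ, hφ, hφuniq⟩ := hX _ hS y hy
  have hφ' : ∀ ⦃W : C⦄ (g : W ⟶ T) (hg : S g), g ≫ φ = (x g hg).1 := fun W g hg => hφ g hg
  have hfix : ∀ (T' : C) (t : T' ⟶ T) (g : T' ⟶ A), lift g (t ≫ φ) ≫ a.act = t ≫ φ := by
    intro T' t g
    refine yoneda_sep J hX (S.pullback t) (J.pullback_stable t hS) _ _ ?_
    intro W h hh
    have hh' : S (h ≫ t) := hh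
    rw [comp_lift_assoc, ← Category.assoc h t φ, hφ' (h ≫ t) hh']
    have := (x (h ≫ t) hh').2 W (𝟙 W) (h ≫ g)
    simpa using this
  refine ⟨⟨φ, hfix⟩, ?_, ?_⟩
  · intro W f hf
    apply Subtype.ext
    exact hφ' f hf
  · intro ψ hψ
    apply Subtype.ext
    apply hφuniq
    intro W g hg
    exact congrArg Subtype.val (hψ g hg)

end Groth.Agent.Lib.Helper21.MagnetSheaf
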