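import Mathlib
import Groth.Prelude.Def_EtMod2
import Groth.Agent.Lib.Helper21.ModConst
import Groth.Agent.Lib.Helper21.FlcRestr

/-!
# Locally constant sheaves of `Λ`-modules: constant sections, restriction of trivializations,
local homomorphisms (module port of `Helper21/FlcConn` (section `Sec`) and `Helper21/FlcRestr`)
-/

set_option autoImplicit false

open CategoryTheory CategoryTheory.Limits Opposite AlgebraicGeometry

namespace Groth.Agent.Lib.helper21.ModFlc1

open Groth.Agent.Lib.helper21.ModConst Groth.Agent.Lib.Helper21.FlcConn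

universe u

variable {Λ : Type (u + 1)} [CommRing Λ] {X : Scheme.{u}}

/-- a section of a constant sheaf on a localized site is constant near any point -/
lemma local_const_at (U : X.Etale) (M : (ModuleCat.{u + 1} Λ)) (T : Over U)
    (s : (cstM.{u + 1, u, u + 1} Λ (X.smallEtaleTopology.over U) M).obj.obj (op T)) (t : T.left.left) :
    ∃ (V : X.Etale) (g : V ⟶ T.left) (v : V.left), g.left.base v = t ∧
      ∃ b : M, (cstM.{u + 1, u, u + 1} Λ (X.smallEtaleTopology.over U) M).obj.map
        (Over.homMk g : Over.mk (g ≫ T.hom) ⟶ T).op s =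
          etaM.{u + 1, u, u + 1} Λ (X.smallEtaleTopology.over U) M (op (Over.mk (g ≫ T.hom))) b := by
  obtain ⟨S, hS, hb⟩ := local_constM.{u + 1, u, u + 1} Λ (X.smallEtaleTopology.over U) M T s
  rw [GrothendieckTopology.mem_over_iff] at hS
  have eX : X.smallEtaleTopology =
      (X.smallPretopology (P := EtCoh.etaleMP) (Q := EtCoh.etaleMP)).toGrothendieck :=
    Scheme.smallGrothendieckTopology_eq_toGrothendieck_smallPretopology X le_rfl
  rw [eX] at hS
  obtain ⟨Y, f, y, hf, -, hy⟩ := (Scheme.mem_toGrothendieck_smallPretopology T.left _).1 hS t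
  rw [Sieve.overEquiv_iff] at hf
  exact ⟨Y, f, y, hy, hb _ hf⟩

section Sec

variable (F : EtModW.Mod Λ X) {U : X.Etale} {M : (ModuleCat.{u + 1} Λ)}
  (e : EtModW.restr Λ F U ≅ cstM.{u + 1, u, u + 1} Λ (X.smallEtaleTopology.over U) M)

/-- the section of `F` over `V` corresponding to the constant `a` -/
noncomputable def sec0 {V : X.Etale} (q : V ⟶ U) (a : M) : F.obj.obj (op V) :=
  (e.inv.hom.app (op (Over.mk q)) : _ ⟶ _)
    (etaM.{u + 1, u, u + 1} Λ (X.smallEtaleTopology.over U) M (op (Over.mk q)) a)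

lemma sec0_nat {V V' : X.Etale} (q : V ⟶ U) (k : V' ⟶ V) (a : M) :
    F.obj.map k.op (sec0 F e q a) = sec0 F e (k ≫ q) a := by
  have h := ConcreteCategory.congr_hom
    (e.inv.hom.naturality (Over.homMk k : Over.mk (k ≫ q) ⟶ Over.mk q).op)
    (etaM.{u + 1, u, u + 1} Λ (X.smallEtaleTopology.over U) M (op (Over.mk q)) a)
  rw [ConcreteCategory.comp_apply, ConcreteCategory.comp_apply] at h
  rw [etaM_nat] at h
  exact h.symm

lemma sec0_add {V : X.Etale} (q : V ⟶ U) (a a' : M) :
    sec0 F e q (a + a') = sec0 F e q a + sec0 F e q a' := by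
  unfold sec0
  rw [map_add, map_add]
  rfl

lemma sec0_smul {V : X.Etale} (q : V ⟶ U) (c : Λ) (a : M) :
    sec0 F e q (c • a) = c • sec0 F e q a := by
  unfold sec0
  rw [map_smul, map_smul]
  rfl

lemma sec0_inj {V : X.Etale} (q : V ⟶ U) (v : V.left) (a a' : M)
    (h : sec0 F e q a = sec0 F e q a') : a = a' := by
  have h1 : etaM.{u + 1, u, u + 1} Λ (X.smallEtaleTopology.over U) M (op (Over.mk q)) a =
      etaM.{u + 1, u, u + 1} Λ (X.smallEtaleTopology.over U) M (op (Over.mk q)) a' := by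
    have h2 := congrArg (fun t => (e.hom.hom.app (op (Over.mk q)) : _ ⟶ _) t) h
    have h3 : ∀ x, (e.hom.hom.app (op (Over.mk q)) : _ ⟶ _)
        ((e.inv.hom.app (op (Over.mk q)) : _ ⟶ _) x) = x := by
      intro x
      have h4 := congrArg (fun t : cstM.{u + 1, u, u + 1} Λ (X.smallEtaleTopology.over U) M ⟶
        cstM.{u + 1, u, u + 1} Λ (X.smallEtaleTopology.over U) M => t.hom.app (op (Over.mk q)) x) e.inv_hom_id
      exact h4
    unfold sec0 at h2
    simp only [h3] at h2
    exact h2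
  rcases etaM_inj.{u + 1, u, u + 1} Λ (X.smallEtaleTopology.over U) M (Over.mk q) a a' h1 with h5 | h5
  · exact h5
  · exact (not_bot_mem_over U (Over.mk q) v h5).elim

lemma hom_nat {V V' : X.Etale} (q : V ⟶ U) (k : V' ⟶ V) (s : F.obj.obj (op V)) :
    (e.hom.hom.app (op (Over.mk (k ≫ q))) : _ ⟶ _) (F.obj.map k.op s) =
      (cstM.{u + 1, u, u + 1} Λ (X.smallEtaleTopology.over U) M).obj.map
        (Over.homMk k : Over.mk (k ≫ q) ⟶ Over.mk q).op
        ((e.hom.hom.app (op (Over.mk q)) : _ ⟶ _) s) := by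
  have h := ConcreteCategory.congr_hom
    (e.hom.hom.naturality (Over.homMk k : Over.mk (k ≫ q) ⟶ Over.mk q).op) s
  rw [ConcreteCategory.comp_apply, ConcreteCategory.comp_apply] at h
  exact h

lemma inv_hom_app {V : X.Etale} (q : V ⟶ U) (s : F.obj.obj (op V)) :
    (e.inv.hom.app (op (Over.mk q)) : _ ⟶ _)
      ((e.hom.hom.app (op (Over.mk q)) : _ ⟶ _) s) = s := by
  have h4 := congrArg (fun t : EtModW.restr Λ F U ⟶ EtModW.restr Λ F U =>
    t.hom.app (op (Over.mk q)) s) e.hom_inv_id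
  exact h4

lemma eq_sec0_of_eta {V : X.Etale} (q : V ⟶ U) (s : F.obj.obj (op V)) (b : M)
    (h : (e.hom.hom.app (op (Over.mk q)) : _ ⟶ _) s =
      etaM.{u + 1, u, u + 1} Λ (X.smallEtaleTopology.over U) M (op (Over.mk q)) b) :
    s = sec0 F e q b := by
  unfold sec0
  rw [← h, inv_hom_app]

/-- every section of `F` over a pointed `W → U` is locally `sec0` of a constant -/
lemma exists_sec0 {W : X.Etale} (q : W ⟶ U) (s : F.obj.obj (op W)) (w : W.left) :
    ∃ (V : X.Etale) (g : V ⟶ W) (v : V.left), g.left.base v = w ∧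
      ∃ b : M, F.obj.map g.op s = sec0 F e (g ≫ q) b := by
  obtain ⟨V, g, v, hv, b, hb⟩ := local_const_at U M (Over.mk q)
    ((e.hom.hom.app (op (Over.mk q)) : _ ⟶ _) s) w
  refine ⟨V, g, v, hv, b, ?_⟩
  apply eq_sec0_of_eta
  rw [hom_nat]
  exact hb

end Sec


/-- restriction of sheaves on `Over U` to `Over W` along `k : W ⟶ U` -/
noncomputable abbrev resk {U W : X.Etale} (k : W ⟶ U) :
    Sheaf (X.smallEtaleTopology.over U) (ModuleCat.{u + 1} Λ) ⥤
      Sheaf (X.smallEtaleTopology.over W) (ModuleCat.{u + 1} Λ) :=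
  X.smallEtaleTopology.overMapPullback (ModuleCat.{u + 1} Λ) k

/-- restricting `F|_U` further to `W` gives `F|_W` -/
noncomputable def restrIso (F : EtModW.Mod Λ X) {U W : X.Etale} (k : W ⟶ U) :
    (resk k).obj (EtModW.restr Λ F U) ≅ EtModW.restr Λ F W :=
  (fullyFaithfulSheafToPresheaf _ _).preimageIso
    (NatIso.ofComponents (fun T => Iso.refl _) (by
      intro T T' f
      exact (Category.comp_id _).trans (Category.id_comp _).symm))

lemma restrIso_hom_app (F : EtModW.Mod Λ X) {U W : X.Etale} (k : W ⟶ U) (T : Over W)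
    (s : F.obj.obj (op T.left)) :
    ((restrIso F k).hom.hom.app (op T) : _ ⟶ _) s = s := rfl

/-- the constant presheaf restricted along `Over.map k` is the constant presheaf -/
noncomputable def cstIso {U W : X.Etale} (k : W ⟶ U) (M : (ModuleCat.{u + 1} Λ)) :
    (resk k).obj (cstM.{u + 1, u, u + 1} Λ (X.smallEtaleTopology.over U) M) ≅
      cstM.{u + 1, u, u + 1} Λ (X.smallEtaleTopology.over W) M :=
  (((Over.map k).pushforwardContinuousSheafificationCompatibility (ModuleCat.{u + 1} Λ)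
      (X.smallEtaleTopology.over W) (X.smallEtaleTopology.over U)).app
        ((Functor.const (Over U)ᵒᵖ).obj M)).symm ≪≫
    (presheafToSheaf (X.smallEtaleTopology.over W) (ModuleCat.{u + 1} Λ)).mapIso
      ((Functor.constCompWhiskeringLeftIso (Over W)ᵒᵖ (C := (ModuleCat.{u + 1} Λ)) (Over.map k).op).app M)

/-- the presheaf-level description of `cstIso.inv` on units -/
lemma toSheafify_cstIso_inv {U W : X.Etale} (k : W ⟶ U) (M : (ModuleCat.{u + 1} Λ)) :
    toSheafify (X.smallEtaleTopology.over W) ((Functor.const (Over W)ᵒᵖ).obj M) ≫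
      (cstIso k M).inv.hom =
    ((Functor.constCompWhiskeringLeftIso (Over W)ᵒᵖ (C := (ModuleCat.{u + 1} Λ))
        (Over.map k).op).app M).inv ≫
      Functor.whiskerLeft (Over.map k).op
        (toSheafify (X.smallEtaleTopology.over U) ((Functor.const (Over U)ᵒᵖ).obj M)) := by
  have h1 := Functor.toSheafify_pullbackSheafificationCompatibility (Over.map k)
    (ModuleCat.{u + 1} Λ) (X.smallEtaleTopology.over W) (X.smallEtaleTopology.over U)
    ((Functor.const (Over U)ᵒᵖ).obj M)
  have h2 := toSheafify_naturality (X.smallEtaleTopology.over W)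
    ((Functor.constCompWhiskeringLeftIso (Over W)ᵒᵖ (C := (ModuleCat.{u + 1} Λ))
        (Over.map k).op).app M).inv
  refine Eq.trans ?_ (congrArg (fun t => ((Functor.constCompWhiskeringLeftIso (Over W)ᵒᵖ
    (C := (ModuleCat.{u + 1} Λ)) (Over.map k).op).app M).inv ≫ t) h1)
  refine Eq.trans ?_ (Category.assoc _ _ _)
  refine Eq.trans ?_ (congrArg (fun t => t ≫ (((Over.map k).pushforwardContinuousSheafificationCompatibility
    (ModuleCat.{u + 1} Λ) (X.smallEtaleTopology.over W) (X.smallEtaleTopology.over U)).hom.app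
      ((Functor.const (Over U)ᵒᵖ).obj M)).hom) h2.symm)
  refine Eq.trans ?_ (Category.assoc _ _ _).symm
  rfl

lemma cstIso_inv_eta {U W : X.Etale} (k : W ⟶ U) (M : (ModuleCat.{u + 1} Λ)) (T : Over W)
    (a : M) :
    ((cstIso k M).inv.hom.app (op T) : _ ⟶ _)
        (etaM.{u + 1, u, u + 1} Λ (X.smallEtaleTopology.over W) M (op T) a) =
      etaM.{u + 1, u, u + 1} Λ (X.smallEtaleTopology.over U) M (op ((Over.map k).obj T)) a := by
  have h := congrArg (fun t : (Functor.const (Over W)ᵒᵖ).obj M ⟶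
      ((resk k).obj (cstM.{u + 1, u, u + 1} Λ (X.smallEtaleTopology.over U) M)).obj =>
      (t.app (op T) : _ ⟶ _) a) (toSheafify_cstIso_inv k M)
  exact h

/-- a constant trivialization of `F` over `U` restricts to one over `W → U` -/
noncomputable def restrTriv (F : EtModW.Mod Λ X) {U W : X.Etale} (k : W ⟶ U)
    {M : (ModuleCat.{u + 1} Λ)}
    (e : EtModW.restr Λ F U ≅ cstM.{u + 1, u, u + 1} Λ (X.smallEtaleTopology.over U) M) :
    EtModW.restr Λ F W ≅ cstM.{u + 1, u, u + 1} Λ (X.smallEtaleTopology.over W) M :=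
  (restrIso F k).symm ≪≫ (resk k).mapIso e ≪≫ cstIso k M

lemma sec0_restrTriv (F : EtModW.Mod Λ X) {U W V : X.Etale} (k : W ⟶ U)
    {M : (ModuleCat.{u + 1} Λ)}
    (e : EtModW.restr Λ F U ≅ cstM.{u + 1, u, u + 1} Λ (X.smallEtaleTopology.over U) M)
    (q : V ⟶ W) (a : M) :
    sec0 F (restrTriv F k e) q a = sec0 F e (q ≫ k) a := by
  have h1 := cstIso_inv_eta k M (Over.mk q) a
  show ((restrIso F k).hom.hom.app (op (Over.mk q)) : _ ⟶ _)
    ((e.inv.hom.app (op ((Over.map k).obj (Over.mk q))) : _ ⟶ _)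
      (((cstIso k M).inv.hom.app (op (Over.mk q)) : _ ⟶ _)
        (etaM.{u + 1, u, u + 1} Λ (X.smallEtaleTopology.over W) M (op (Over.mk q)) a))) = _
  rw [h1]
  rfl

section Tools

/-- common pointed refinement of a finite family of pointed étale objects over a pointed one -/
lemma exists_common_finset {ι : Type*} {P : X.Etale} (z : P.left) (V : ι → X.Etale)
    (g : ∀ a, V a ⟶ P) (v : ∀ a, (V a).left) (hv : ∀ a, (g a).left.base (v a) = z)
    (s : Finset ι) :
    ∃ (Q : X.Etale) (q : Q ⟶ P) (z' : Q.left), q.left.base z' = z ∧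
      ∀ a ∈ s, ∃ r : Q ⟶ V a, r ≫ g a = q := by
  classical
  induction s using Finset.induction_on with
  | empty => exact ⟨P, 𝟙 P, z, rfl, fun a ha => (Finset.notMem_empty a ha).elim⟩
  | insert a s _ ih =>
    obtain ⟨Q, q, z', hz', hr⟩ := ih
    obtain ⟨Q', l, l', w, hl, hw, hw'⟩ := exists_common q (g a) z' (v a) (hz'.trans (hv a).symm)
    refine ⟨Q', l ≫ q, w, ?_, ?_⟩
    · show q.left.base (l.left.base w) = z
      rw [hw, hz']
    · intro b hb
      rcases Finset.mem_insert.1 hb with rfl | hb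
      · exact ⟨l', hl.symm⟩
      · obtain ⟨r, hr'⟩ := hr b hb
        exact ⟨l ≫ r, by rw [Category.assoc, hr']⟩

/-- the map of constant sheaves induced by a group hom, on units -/
lemma etaM_map {U : X.Etale} {M N : (ModuleCat.{u + 1} Λ)} (h : M ⟶ N) (T : Over U) (a : M) :
    (((constantSheaf (X.smallEtaleTopology.over U) (ModuleCat.{u + 1} Λ)).map h).hom.app (op T) :
        _ ⟶ _) (etaM.{u + 1, u, u + 1} Λ (X.smallEtaleTopology.over U) M (op T) a) =
      etaM.{u + 1, u, u + 1} Λ (X.smallEtaleTopology.over U) N (op T) (h a) := by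
  have h2 := toSheafify_naturality (X.smallEtaleTopology.over U)
    ((Functor.const (Over U)ᵒᵖ).map h)
  have h3 := congrArg (fun t : (Functor.const (Over U)ᵒᵖ).obj M ⟶
      (cstM.{u + 1, u, u + 1} Λ (X.smallEtaleTopology.over U) N).obj =>
      (t.app (op T) : _ ⟶ _) a) h2
  exact h3.symm

variable (F : EtModW.Mod Λ X) {U : X.Etale} {M : (ModuleCat.{u + 1} Λ)}
  (e : EtModW.restr Λ F U ≅ cstM.{u + 1, u, u + 1} Λ (X.smallEtaleTopology.over U) M)

lemma hom_sec0 {V : X.Etale} (q : V ⟶ U) (a : M) :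
    (e.hom.hom.app (op (Over.mk q)) : _ ⟶ _) (sec0 F e q a) =
      etaM.{u + 1, u, u + 1} Λ (X.smallEtaleTopology.over U) M (op (Over.mk q)) a := by
  have h4 := congrArg (fun t : cstM.{u + 1, u, u + 1} Λ (X.smallEtaleTopology.over U) M ⟶
    cstM.{u + 1, u, u + 1} Λ (X.smallEtaleTopology.over U) M => (t.hom.app (op (Over.mk q)) : _ ⟶ _)
      (etaM.{u + 1, u, u + 1} Λ (X.smallEtaleTopology.over U) M (op (Over.mk q)) a)) e.inv_hom_id
  exact h4

end Tools

section LocalHom

variable (F G : EtModW.Mod Λ X) (φ : F ⟶ G)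

lemma phi_nat {V V' : X.Etale} (k : V' ⟶ V) (s : F.obj.obj (op V)) :
    G.obj.map k.op ((φ.hom.app (op V) : _ ⟶ _) s) =
      (φ.hom.app (op V') : _ ⟶ _) (F.obj.map k.op s) := by
  have h := ConcreteCategory.congr_hom (φ.hom.naturality k.op) s
  rw [ConcreteCategory.comp_apply, ConcreteCategory.comp_apply] at h
  exact h.symm

lemma map_comp_apply {V V' V'' : X.Etale} (k : V' ⟶ V) (l : V'' ⟶ V') (s : G.obj.obj (op V)) :
    G.obj.map (l ≫ k).op s = G.obj.map l.op (G.obj.map k.op s) := by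
  rw [op_comp, Functor.map_comp, ConcreteCategory.comp_apply]

variable {P : X.Etale} (z : P.left) {M N : (ModuleCat.{u + 1} Λ)} [Module.Finite Λ M]
  (eF : EtModW.restr Λ F P ≅ cstM.{u + 1, u, u + 1} Λ (X.smallEtaleTopology.over P) M)
  (eG : EtModW.restr Λ G P ≅ cstM.{u + 1, u, u + 1} Λ (X.smallEtaleTopology.over P) N)

/-- `sec0` as a linear map -/
noncomputable def sigL {U : X.Etale} {M : (ModuleCat.{u + 1} Λ)}
    (e : EtModW.restr Λ F U ≅ cstM.{u + 1, u, u + 1} Λ (X.smallEtaleTopology.over U) M)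
    {V : X.Etale} (q : V ⟶ U) : M →ₗ[Λ] F.obj.obj (op V) where
  toFun := sec0 F e q
  map_add' := sec0_add F e q
  map_smul' := sec0_smul F e q

lemma sigL_apply {U : X.Etale} {M : (ModuleCat.{u + 1} Λ)}
    (e : EtModW.restr Λ F U ≅ cstM.{u + 1, u, u + 1} Λ (X.smallEtaleTopology.over U) M)
    {V : X.Etale} (q : V ⟶ U) (a : M) : sigL F e q a = sec0 F e q a := rfl

include z in
/-- near a point, `φ` sends constant sections to constant sections -/
lemma exists_fun : ∃ (Q : X.Etale) (q : Q ⟶ P) (z' : Q.left), q.left.base z' = z ∧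
    ∃ h : M → N, ∀ a : M, (φ.hom.app (op Q) : _ ⟶ _) (sec0 F eF q a) = sec0 G eG q (h a) := by
  classical
  have key : ∀ a : M, ∃ (V : X.Etale) (g : V ⟶ P) (v : V.left), g.left.base v = z ∧
      ∃ b : N, G.obj.map g.op ((φ.hom.app (op P) : _ ⟶ _) (sec0 F eF (𝟙 P) a)) =
        sec0 G eG (g ≫ 𝟙 P) b :=
    fun a => exists_sec0 G eG (𝟙 P) ((φ.hom.app (op P) : _ ⟶ _) (sec0 F eF (𝟙 P) a)) z
  choose V g v hv b hb using key
  obtain ⟨S, hS⟩ := (Module.Finite.fg_top : (⊤ : Submodule Λ M).FG)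
  obtain ⟨Q, q, z', hz', hr⟩ := exists_common_finset z V g v hv S
  -- on generators the image is a constant section
  have hgen : ∀ a ∈ S, (φ.hom.app (op Q) : _ ⟶ _) (sec0 F eF q a) = sec0 G eG q (b a) := by
    intro a ha
    obtain ⟨r, hrq⟩ := hr a ha
    have e1 : sec0 F eF q a = F.obj.map q.op (sec0 F eF (𝟙 P) a) := by
      rw [sec0_nat, Category.comp_id]
    rw [e1, ← phi_nat, ← hrq, map_comp_apply, hb a, sec0_nat, Category.comp_id]
  -- the linear maps
  let ψ : M →ₗ[Λ] G.obj.obj (op Q) := (φ.hom.app (op Q)).hom.comp (sigL F eF q)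
  have hall : ∀ a : M, ψ a ∈ LinearMap.range (sigL G eG q) := by
    intro a
    have ha : a ∈ Submodule.span Λ (S : Set M) := by rw [hS]; trivial
    induction ha using Submodule.span_induction with
    | mem x hx => exact ⟨b x, (hgen x hx).symm⟩
    | zero => rw [map_zero]; exact Submodule.zero_mem _
    | add x y _ _ hx hy => rw [map_add]; exact Submodule.add_mem _ hx hy
    | smul c x _ hx => rw [map_smul]; exact Submodule.smul_mem _ c hx
  choose h hh using hall
  exact ⟨Q, q, z', hz', h, fun a => (hh a).symm⟩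

include z in
/-- near a point, a map from a finite type constant sheaf to a constant sheaf comes from a linear
map -/
theorem exists_local_hom : ∃ (Q : X.Etale) (q : Q ⟶ P) (z' : Q.left), q.left.base z' = z ∧
    ∃ h : M ⟶ N,
      (X.smallEtaleTopology.overPullback (ModuleCat.{u + 1} Λ) Q).map φ ≫
          (restrTriv G q eG).hom =
        (restrTriv F q eF).hom ≫
          (constantSheaf (X.smallEtaleTopology.over Q) (ModuleCat.{u + 1} Λ)).map h := by
  obtain ⟨Q, q, z', hz', h, hh⟩ := exists_fun F G φ z eF eG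
  -- generalized form of `hh`
  have hh' : ∀ {V : X.Etale} (r : V ⟶ Q) (a : M),
      (φ.hom.app (op V) : _ ⟶ _) (sec0 F eF (r ≫ q) a) = sec0 G eG (r ≫ q) (h a) := by
    intro V r a
    rw [← sec0_nat F eF q r, ← phi_nat, hh a, sec0_nat]
  have hadd : ∀ a a' : M, h (a + a') = h a + h a' := by
    intro a a'
    apply sec0_inj G eG q z'
    rw [← hh, sec0_add, map_add, hh, hh, sec0_add]
  have hsmul : ∀ (c : Λ) (a : M), h (c • a) = c • h a := by
    intro c a
    apply sec0_inj G eG q z'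
    rw [← hh, sec0_smul, map_smul, hh, sec0_smul]
  let hLin : M →ₗ[Λ] N := { toFun := h, map_add' := hadd, map_smul' := hsmul }
  refine ⟨Q, q, z', hz', ModuleCat.ofHom hLin, ?_⟩
  rw [← Iso.inv_comp_eq]
  apply Sheaf.hom_ext
  apply sheafify_hom_ext _ _ _ (cstM.{u + 1, u, u + 1} Λ (X.smallEtaleTopology.over Q) N).property
  ext T a
  obtain ⟨V, ⟨⟨⟩⟩, r⟩ := T
  show ((restrTriv G q eG).hom.hom.app (op (Over.mk r)) : _ ⟶ _)
      ((φ.hom.app (op V) : _ ⟶ _) (sec0 F (restrTriv F q eF) r a)) =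
    (((constantSheaf (X.smallEtaleTopology.over Q) (ModuleCat.{u + 1} Λ)).map
      (ModuleCat.ofHom hLin)).hom.app (op (Over.mk r)) : _ ⟶ _)
        (etaM.{u + 1, u, u + 1} Λ (X.smallEtaleTopology.over Q) M (op (Over.mk r)) a)
  rw [etaM_map, sec0_restrTriv, hh', ← sec0_restrTriv G q eG]
  exact hom_sec0 G (restrTriv G q eG) r (h a)

end LocalHom


end Groth.Agent.Lib.helper21.ModFlc1
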