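import Mathlib
import Groth.Prelude.Def_EtMod2
import Groth.Agent.Lib.Helper21.ModFlc1

/-!
# Finite type locally constant sheaves of `Λ`-modules: local form of morphisms, kernels and
cokernels (module port of `Helper21/FlcHom` and `Helper21/FlcSerre`)
-/

set_option autoImplicit false

open CategoryTheory CategoryTheory.Limits Opposite AlgebraicGeometry

namespace Groth.Agent.Lib.helper21.ModFlc2

open Groth.Agent.Lib.helper21.ModConst Groth.Agent.Lib.Helper21.FlcConn
  Groth.Agent.Lib.helper21.ModFlc1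

universe u

variable {Λ : Type (u + 1)} [CommRing Λ] {X : Scheme.{u}}

/-- local form of a map between trivialized sheaves around a common point -/
theorem exists_local_hom_of_triv (F G : EtModW.Mod Λ X) (φ : F ⟶ G) {U₁ U₂ : X.Etale}
    (y₁ : U₁.left) (y₂ : U₂.left) (hy : U₁.hom.base y₁ = U₂.hom.base y₂)
    {M N : (ModuleCat.{u + 1} Λ)} [Module.Finite Λ M]
    (e₁ : EtModW.restr Λ F U₁ ≅ cstM.{u + 1, u, u + 1} Λ (X.smallEtaleTopology.over U₁) M)
    (e₂ : EtModW.restr Λ G U₂ ≅ cstM.{u + 1, u, u + 1} Λ (X.smallEtaleTopology.over U₂) N) :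
    ∃ (Q : X.Etale) (z : Q.left), Q.hom.base z = U₁.hom.base y₁ ∧
      ∃ (h : M ⟶ N)
      (α : EtModW.restr Λ F Q ≅ cstM.{u + 1, u, u + 1} Λ (X.smallEtaleTopology.over Q) M)
      (β : EtModW.restr Λ G Q ≅ cstM.{u + 1, u, u + 1} Λ (X.smallEtaleTopology.over Q) N),
      (X.smallEtaleTopology.overPullback (ModuleCat.{u + 1} Λ) Q).map φ ≫ β.hom =
        α.hom ≫ (constantSheaf (X.smallEtaleTopology.over Q) (ModuleCat.{u + 1} Λ)).map h := by
  let f₁ : U₁ ⟶ EtCoh.top X := MorphismProperty.Over.homMk U₁.hom (Category.comp_id _) trivial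
  let f₂ : U₂ ⟶ EtCoh.top X := MorphismProperty.Over.homMk U₂.hom (Category.comp_id _) trivial
  obtain ⟨P, k, k', z, -, hz, -⟩ := exists_common f₁ f₂ y₁ y₂ hy
  obtain ⟨Q, q, z', hz', h, hh⟩ := exists_local_hom F G φ z (restrTriv F k e₁) (restrTriv G k' e₂)
  refine ⟨Q, z', ?_, h, restrTriv F q (restrTriv F k e₁), restrTriv G q (restrTriv G k' e₂), hh⟩
  have h1 : q.left ≫ P.hom = Q.hom := MorphismProperty.Over.w q
  have h2 : k.left ≫ U₁.hom = P.hom := MorphismProperty.Over.w k
  rw [← h1, ← h2]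
  show U₁.hom.base (k.left.base (q.left.base z')) = _
  rw [hz', hz]

/-- pointed local form of a map of finite type locally constant sheaves -/
theorem exists_local_hom_at (F G : EtModW.Mod Λ X) (φ : F ⟶ G)
    (hF : EtModW.IsFTLocConst Λ F) (hG : EtModW.IsFTLocConst Λ G) (x : X) :
    ∃ (Q : X.Etale) (z : Q.left), Q.hom.base z = x ∧
      ∃ (M N : Type (u + 1)) (_ : AddCommGroup M) (_ : AddCommGroup N)
      (_ : Module Λ M) (_ : Module Λ N) (_ : Module.Finite Λ M) (_ : Module.Finite Λ N)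
      (h : M →ₗ[Λ] N)
      (α : EtModW.restr Λ F Q ≅ (constantSheaf (X.smallEtaleTopology.over Q)
        (ModuleCat.{u + 1} Λ)).obj (ModuleCat.of Λ M))
      (β : EtModW.restr Λ G Q ≅ (constantSheaf (X.smallEtaleTopology.over Q)
        (ModuleCat.{u + 1} Λ)).obj (ModuleCat.of Λ N)),
      (X.smallEtaleTopology.overPullback (ModuleCat.{u + 1} Λ) Q).map φ ≫ β.hom =
        α.hom ≫ (constantSheaf (X.smallEtaleTopology.over Q) (ModuleCat.{u + 1} Λ)).map
          (ModuleCat.ofHom h) := by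
  obtain ⟨ι, U, hU, hM⟩ := hF
  obtain ⟨κ, V, hV, hN⟩ := hG
  obtain ⟨i, y, hy⟩ := hU x
  obtain ⟨j, y', hy'⟩ := hV x
  obtain ⟨M, instM, modM, finM, ⟨e₁⟩⟩ := hM i
  obtain ⟨N, instN, modN, finN, ⟨e₂⟩⟩ := hN j
  haveI : Module.Finite Λ (ModuleCat.of Λ M) := finM
  obtain ⟨Q, z, hz, h, α, β, hh⟩ :=
    exists_local_hom_of_triv F G φ y y' (hy.trans hy'.symm) e₁ e₂
  exact ⟨Q, z, hz.trans hy, M, N, instM, instN, modM, modN, finM, finN, h.hom, α, β, hh⟩

/-- **local form of morphisms** (the statement of S6655) -/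
theorem local_hom_of_ft (F G : EtModW.Mod Λ X) (φ : F ⟶ G)
    (hF : EtModW.IsFTLocConst Λ F) (hG : EtModW.IsFTLocConst Λ G) :
    ∃ (ι : Type u) (U : ι → X.Etale), EtCoh.Covers U ∧ ∀ i, ∃ (M N : Type (u + 1))
      (_ : AddCommGroup M) (_ : AddCommGroup N) (_ : Module Λ M) (_ : Module Λ N) (h : M →ₗ[Λ] N)
      (α : EtModW.restr Λ F (U i) ≅ (constantSheaf (X.smallEtaleTopology.over (U i))
        (ModuleCat.{u + 1} Λ)).obj (ModuleCat.of Λ M))
      (β : EtModW.restr Λ G (U i) ≅ (constantSheaf (X.smallEtaleTopology.over (U i))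
        (ModuleCat.{u + 1} Λ)).obj (ModuleCat.of Λ N)),
      (X.smallEtaleTopology.overPullback (ModuleCat.{u + 1} Λ) (U i)).map φ ≫ β.hom =
        α.hom ≫ (constantSheaf (X.smallEtaleTopology.over (U i)) (ModuleCat.{u + 1} Λ)).map
          (ModuleCat.ofHom h) := by
  have key := exists_local_hom_at F G φ hF hG
  choose Q z hz M N instM instN modM modN finM finN h α β hh using key
  refine ⟨X, Q, ?_, ?_⟩
  · intro x
    exact ⟨x, z x, hz x⟩
  · intro x
    exact ⟨M x, N x, instM x, instN x, modM x, modN x, h x, α x, β x, hh x⟩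

section Exactness

variable (Q : X.Etale)

instance overPullback_preservesFiniteColimits :
    PreservesFiniteColimits (X.smallEtaleTopology.overPullback (ModuleCat.{u + 1} Λ) Q) := by
  have := ((Over.forget Q).sheafAdjunctionCocontinuous (ModuleCat.{u + 1} Λ)
    (X.smallEtaleTopology.over Q) X.smallEtaleTopology).leftAdjoint_preservesColimits
  infer_instance

instance constantSheaf_preservesFiniteLimits :
    PreservesFiniteLimits (constantSheaf (X.smallEtaleTopology.over Q) (ModuleCat.{u + 1} Λ)) := by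
  unfold constantSheaf
  infer_instance

instance constantSheaf_preservesFiniteColimits :
    PreservesFiniteColimits (constantSheaf (X.smallEtaleTopology.over Q) (ModuleCat.{u + 1} Λ)) := by
  unfold constantSheaf
  infer_instance

instance overPullback_additive :
    (X.smallEtaleTopology.overPullback (ModuleCat.{u + 1} Λ) Q).Additive :=
  Functor.additive_of_preserves_binary_products _

instance constantSheaf_additive :
    (constantSheaf (X.smallEtaleTopology.over Q) (ModuleCat.{u + 1} Λ)).Additive :=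
  Functor.additive_of_preserves_binary_products _

end Exactness

section KerCoker

variable {F G : EtModW.Mod Λ X} (φ : F ⟶ G) {Q : X.Etale} {M N : (ModuleCat.{u + 1} Λ)} (h : M ⟶ N)
  (α : EtModW.restr Λ F Q ≅ cstM.{u + 1, u, u + 1} Λ (X.smallEtaleTopology.over Q) M)
  (β : EtModW.restr Λ G Q ≅ cstM.{u + 1, u, u + 1} Λ (X.smallEtaleTopology.over Q) N)
  (hh : (X.smallEtaleTopology.overPullback (ModuleCat.{u + 1} Λ) Q).map φ ≫ β.hom =
    α.hom ≫ (constantSheaf (X.smallEtaleTopology.over Q) (ModuleCat.{u + 1} Λ)).map h)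

/-- the kernel of a locally-trivialized map is trivialized by the kernel module -/
noncomputable def kernelTriv :
    EtModW.restr Λ (kernel φ) Q ≅
      cstM.{u + 1, u, u + 1} Λ (X.smallEtaleTopology.over Q) (kernel h) :=
  PreservesKernel.iso (X.smallEtaleTopology.overPullback (ModuleCat.{u + 1} Λ) Q) φ ≪≫
    kernel.mapIso _ _ α β hh ≪≫
    (PreservesKernel.iso (constantSheaf (X.smallEtaleTopology.over Q) (ModuleCat.{u + 1} Λ)) h).symm

/-- the cokernel of a locally-trivialized map is trivialized by the cokernel module -/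
noncomputable def cokernelTriv :
    EtModW.restr Λ (cokernel φ) Q ≅
      cstM.{u + 1, u, u + 1} Λ (X.smallEtaleTopology.over Q) (cokernel h) :=
  PreservesCokernel.iso (X.smallEtaleTopology.overPullback (ModuleCat.{u + 1} Λ) Q) φ ≪≫
    cokernel.mapIso _ _ α β hh ≪≫
    (PreservesCokernel.iso (constantSheaf (X.smallEtaleTopology.over Q) (ModuleCat.{u + 1} Λ)) h).symm

end KerCoker

lemma finite_kernel [IsNoetherianRing Λ] {M N : (ModuleCat.{u + 1} Λ)} [Module.Finite Λ M]
    (h : M ⟶ N) : Module.Finite Λ (kernel h : (ModuleCat.{u + 1} Λ)) :=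
  Module.Finite.of_injective (kernel.ι h).hom
    ((ModuleCat.mono_iff_injective (kernel.ι h)).1 inferInstance)

lemma finite_cokernel {M N : (ModuleCat.{u + 1} Λ)} [Module.Finite Λ N] (h : M ⟶ N) :
    Module.Finite Λ (cokernel h : (ModuleCat.{u + 1} Λ)) :=
  Module.Finite.of_surjective (cokernel.π h).hom
    ((ModuleCat.epi_iff_surjective (cokernel.π h)).1 inferInstance)

/-- kernels and cokernels of maps of finite type locally constant sheaves of modules over a
Noetherian ring are finite type locally constant -/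
theorem ft_kernel_cokernel [IsNoetherianRing Λ] (F G : EtModW.Mod Λ X) (φ : F ⟶ G)
    (hF : EtModW.IsFTLocConst Λ F) (hG : EtModW.IsFTLocConst Λ G) :
    EtModW.IsFTLocConst Λ (kernel φ) ∧ EtModW.IsFTLocConst Λ (cokernel φ) := by
  have key : ∀ x : X, ∃ (Q : X.Etale) (z : Q.left), Q.hom.base z = x ∧
      (∃ (K : Type (u + 1)) (_ : AddCommGroup K) (_ : Module Λ K) (_ : Module.Finite Λ K),
        Nonempty (EtModW.restr Λ (kernel φ) Q ≅
          (constantSheaf (X.smallEtaleTopology.over Q) (ModuleCat.{u + 1} Λ)).obj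
            (ModuleCat.of Λ K))) ∧
      (∃ (K : Type (u + 1)) (_ : AddCommGroup K) (_ : Module Λ K) (_ : Module.Finite Λ K),
        Nonempty (EtModW.restr Λ (cokernel φ) Q ≅
          (constantSheaf (X.smallEtaleTopology.over Q) (ModuleCat.{u + 1} Λ)).obj
            (ModuleCat.of Λ K))) := by
    intro x
    obtain ⟨Q, z, hz, M, N, instM, instN, modM, modN, finM, finN, h, α, β, hh⟩ :=
      exists_local_hom_at F G φ hF hG x
    haveI : Module.Finite Λ (ModuleCat.of Λ M) := finM
    haveI : Module.Finite Λ (ModuleCat.of Λ N) := finN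
    refine ⟨Q, z, hz, ?_, ?_⟩
    · exact ⟨(kernel (ModuleCat.ofHom h) : (ModuleCat.{u + 1} Λ)), inferInstance, inferInstance,
        finite_kernel (ModuleCat.ofHom h), ⟨kernelTriv φ (ModuleCat.ofHom h) α β hh⟩⟩
    · exact ⟨(cokernel (ModuleCat.ofHom h) : (ModuleCat.{u + 1} Λ)), inferInstance, inferInstance,
        finite_cokernel (ModuleCat.ofHom h), ⟨cokernelTriv φ (ModuleCat.ofHom h) α β hh⟩⟩
  choose Q z hz hker hcoker using key
  exact ⟨⟨X, Q, fun x => ⟨x, z x, hz x⟩, hker⟩, ⟨X, Q, fun x => ⟨x, z x, hz x⟩, hcoker⟩⟩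

end Groth.Agent.Lib.helper21.ModFlc2
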