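import Mathlib
import Groth.Prelude.Def_EtMod2
import Groth.Agent.Lib.Helper21.ModFlc2

/-!
# Extensions of finite type locally constant sheaves of modules over a Noetherian ring are finite
type locally constant (module port of `Helper21/FlcExt`, with generators and relations in place of
the finite cocycle)
-/

set_option autoImplicit false

open CategoryTheory CategoryTheory.Limits Opposite AlgebraicGeometry

namespace Groth.Agent.Lib.helper21.ModFlc3

open Groth.Agent.Lib.helper21.ModConst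
  Groth.Agent.Lib.helper21.ModFlc1 Groth.Agent.Lib.helper21.ModFlc2
open Groth.Agent.Lib.Helper21.FlcConn (exists_common)

universe u

variable {Λ : Type (u + 1)} [CommRing Λ] {X : Scheme.{u}}

section Sections

variable (S : ShortComplex (EtModW.Mod Λ X)) (hS : S.ShortExact)

/-- sections over `V` -/
noncomputable abbrev Γ (V : X.Etale) : EtModW.Mod Λ X ⥤ (ModuleCat.{u + 1} Λ) :=
  sheafToPresheaf _ _ ⋙ (evaluation _ _).obj (op V)

instance (V : X.Etale) : (Γ (Λ := Λ) (X := X) V).Additive where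
  map_add := rfl

lemma pi_iota (V : X.Etale) (t : S.X₁.obj.obj (op V)) :
    (S.g.hom.app (op V) : _ ⟶ _) ((S.f.hom.app (op V) : _ ⟶ _) t) = 0 := by
  have h := congrArg (fun k : S.X₁ ⟶ S.X₃ => (k.hom.app (op V) : _ ⟶ _) t) S.zero
  exact h

include hS in
lemma iota_injective (V : X.Etale) :
    Function.Injective (S.f.hom.app (op V) : S.X₁.obj.obj (op V) ⟶ S.X₂.obj.obj (op V)) := by
  haveI := hS.mono_f
  have : Mono ((Γ V).map S.f) := inferInstance
  exact (ModuleCat.mono_iff_injective ((Γ V).map S.f)).1 inferInstance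

include hS in
lemma exists_iota_eq (V : X.Etale) (t : S.X₂.obj.obj (op V))
    (ht : (S.g.hom.app (op V) : _ ⟶ _) t = 0) :
    ∃ t' : S.X₁.obj.obj (op V), (S.f.hom.app (op V) : _ ⟶ _) t' = t := by
  haveI := hS.mono_f
  have hex : (S.map (Γ V)).Exact :=
    hS.exact.map_of_mono_of_preservesKernel (Γ V) inferInstance inferInstance
  exact (ShortComplex.moduleCat_exact_iff _).1 hex t ht

include hS in
/-- local surjectivity of `S.g` at a point -/
lemma exists_lift_at (V : X.Etale) (t : S.X₃.obj.obj (op V)) (v : V.left) :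
    ∃ (V' : X.Etale) (g : V' ⟶ V) (v' : V'.left), g.left.base v' = v ∧
      ∃ s : S.X₂.obj.obj (op V'), (S.g.hom.app (op V') : _ ⟶ _) s = S.X₃.obj.map g.op t := by
  haveI := hS.epi_g
  have hls : Sheaf.IsLocallySurjective S.g :=
    (Sheaf.isLocallySurjective_iff_epi' (φ := S.g)).2 inferInstance
  have hm := Presheaf.imageSieve_mem X.smallEtaleTopology S.g.hom t
  have eX : X.smallEtaleTopology =
      (X.smallPretopology (P := EtCoh.etaleMP) (Q := EtCoh.etaleMP)).toGrothendieck :=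
    Scheme.smallGrothendieckTopology_eq_toGrothendieck_smallPretopology X le_rfl
  have hm' : Presheaf.imageSieve S.g.hom t ∈
      (X.smallPretopology (P := EtCoh.etaleMP) (Q := EtCoh.etaleMP)).toGrothendieck V := by
    rw [← eX]
    exact hm
  obtain ⟨Y, f, y, hf, -, hy⟩ := (Scheme.mem_toGrothendieck_smallPretopology V _).1 hm' v
  obtain ⟨s, hs⟩ := hf
  exact ⟨Y, f, y, hy, s, hs⟩

end Sections

section ExtData

variable (S : ShortComplex (EtModW.Mod Λ X)) (hS : S.ShortExact) {P : X.Etale} (z : P.left)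
  {M₁ M₃ : (ModuleCat.{u + 1} Λ)}
  (e₁ : EtModW.restr Λ S.X₁ P ≅ cstM.{u + 1, u, u + 1} Λ (X.smallEtaleTopology.over P) M₁)
  (e₃ : EtModW.restr Λ S.X₃ P ≅ cstM.{u + 1, u, u + 1} Λ (X.smallEtaleTopology.over P) M₃)

include hS z in
/-- stage A: lift a finite family of constant sections of `X₃` to `X₂` on a pointed refinement -/
lemma exists_lifts {n : ℕ} (x : Fin n → M₃) :
    ∃ (W : X.Etale) (w : W ⟶ P) (w₀ : W.left), w.left.base w₀ = z ∧
    ∃ s : Fin n → S.X₂.obj.obj (op W),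
      ∀ i, (S.g.hom.app (op W) : _ ⟶ _) (s i) = sec0 S.X₃ e₃ w (x i) := by
  classical
  have key : ∀ i : Fin n, ∃ (V : X.Etale) (g : V ⟶ P) (v : V.left), g.left.base v = z ∧
      ∃ s : S.X₂.obj.obj (op V), (S.g.hom.app (op V) : _ ⟶ _) s =
        S.X₃.obj.map g.op (sec0 S.X₃ e₃ (𝟙 P) (x i)) :=
    fun i => exists_lift_at S hS P (sec0 S.X₃ e₃ (𝟙 P) (x i)) z
  choose V g v hv s₀ hs₀ using key
  obtain ⟨W, q, z', hz', hr⟩ := exists_common_finset z V g v hv Finset.univ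
  choose r hr' using (fun i => hr i (Finset.mem_univ i))
  refine ⟨W, q, z', hz', fun i => S.X₂.obj.map (r i).op (s₀ i), ?_⟩
  intro i
  rw [← phi_nat S.X₂ S.X₃ S.g (r i) (s₀ i), hs₀ i, ← map_comp_apply, hr' i, sec0_nat,
    Category.comp_id]

include hS z in
/-- local extension data on a pointed refinement: a finite free cover `p : Λⁿ → M₃` lifted to a
linear map `σ : Λⁿ → X₂(W)`, whose relations land in the constants of `X₁` -/
theorem exists_ext_data [IsNoetherianRing Λ] [Module.Finite Λ M₃] :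
    ∃ (W : X.Etale) (w : W ⟶ P) (w₀ : W.left), w.left.base w₀ = z ∧
    ∃ (n : ℕ) (p : (Fin n → Λ) →ₗ[Λ] M₃) (σ : (Fin n → Λ) →ₗ[Λ] S.X₂.obj.obj (op W)),
      Function.Surjective p ∧
      (∀ c, (S.g.hom.app (op W) : _ ⟶ _) (σ c) = sec0 S.X₃ e₃ w (p c)) ∧
      (∀ c, p c = 0 → ∃ m₁ : M₁, σ c = (S.f.hom.app (op W) : _ ⟶ _) (sec0 S.X₁ e₁ w m₁)) := by
  classical
  obtain ⟨n, x, hx⟩ := Module.Finite.exists_fin (R := Λ) (M := M₃)
  let p : (Fin n → Λ) →ₗ[Λ] M₃ := Fintype.linearCombination Λ x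
  have hp : Function.Surjective p :=
    (span_range_eq_top_iff_surjective_fintypeLinearCombination Λ x).1 hx
  obtain ⟨W₁, q₁, z₁, hz₁, sA, hsA⟩ := exists_lifts S hS z e₃ x
  let σ₁ : (Fin n → Λ) →ₗ[Λ] S.X₂.obj.obj (op W₁) := Fintype.linearCombination Λ sA
  have hσ₁ : ∀ c, (S.g.hom.app (op W₁) : _ ⟶ _) (σ₁ c) = sec0 S.X₃ e₃ q₁ (p c) := by
    intro c
    show (S.g.hom.app (op W₁) : _ ⟶ _) (∑ i, c i • sA i) = sec0 S.X₃ e₃ q₁ (∑ i, c i • x i)
    rw [map_sum, ← sigL_apply, map_sum]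
    refine Finset.sum_congr rfl (fun i _ => ?_)
    rw [map_smul, map_smul, hsA i, sigL_apply]
  -- the module of relations
  let K : Submodule Λ (Fin n → Λ) := LinearMap.ker p
  haveI : Module.Finite Λ K := inferInstance
  have key : ∀ r : K, ∃ (V : X.Etale) (g : V ⟶ W₁) (v : V.left), g.left.base v = z₁ ∧
      ∃ c : M₁, S.X₂.obj.map g.op (σ₁ r.1) =
        (S.f.hom.app (op V) : _ ⟶ _) (sec0 S.X₁ e₁ (g ≫ q₁) c) := by
    intro r
    have hπ : (S.g.hom.app (op W₁) : _ ⟶ _) (σ₁ r.1) = 0 := by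
      rw [hσ₁, (LinearMap.mem_ker.1 r.2), ← sigL_apply, map_zero]
    obtain ⟨d', hd'⟩ := exists_iota_eq S hS W₁ _ hπ
    obtain ⟨V, g, v, hv, c, hc⟩ := exists_sec0 S.X₁ e₁ q₁ d' z₁
    refine ⟨V, g, v, hv, c, ?_⟩
    rw [← hd', phi_nat S.X₁ S.X₂ S.f g d', hc]
  choose V g v hv c hc using key
  obtain ⟨T, hT⟩ := (Module.Finite.fg_top : (⊤ : Submodule Λ K).FG)
  obtain ⟨W, q, z', hz', hr⟩ := exists_common_finset z₁ V g v hv T
  let σ : (Fin n → Λ) →ₗ[Λ] S.X₂.obj.obj (op W) := (S.X₂.obj.map q.op).hom.comp σ₁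
  refine ⟨W, q ≫ q₁, z', ?_, n, p, σ, hp, ?_, ?_⟩
  · show q₁.left.base (q.left.base z') = z
    rw [hz', hz₁]
  · intro c
    show (S.g.hom.app (op W) : _ ⟶ _) (S.X₂.obj.map q.op (σ₁ c)) = _
    rw [← phi_nat S.X₂ S.X₃ S.g q (σ₁ c), hσ₁ c, sec0_nat]
  · -- the constants of `X₁` over `W` inside `X₂(W)`
    let jW : M₁ →ₗ[Λ] S.X₂.obj.obj (op W) :=
      (S.f.hom.app (op W)).hom.comp (sigL S.X₁ e₁ (q ≫ q₁))
    have hgen : ∀ r ∈ T, σ r.1 ∈ LinearMap.range jW := by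
      intro r hrT
      obtain ⟨k, hk⟩ := hr r hrT
      refine ⟨c r, ?_⟩
      show (S.f.hom.app (op W) : _ ⟶ _) (sec0 S.X₁ e₁ (q ≫ q₁) (c r)) =
        S.X₂.obj.map q.op (σ₁ r.1)
      rw [← hk, map_comp_apply, hc r, phi_nat S.X₁ S.X₂ S.f k, sec0_nat, Category.assoc]
    have hall : ∀ r : K, σ r.1 ∈ LinearMap.range jW := by
      intro r
      have hr' : r ∈ Submodule.span Λ (T : Set K) := by rw [hT]; trivial
      induction hr' using Submodule.span_induction with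
      | mem y hy => exact hgen y hy
      | zero =>
        show σ ((0 : K) : Fin n → Λ) ∈ _
        rw [Submodule.coe_zero, map_zero]; exact Submodule.zero_mem _
      | add y y' _ _ hy hy' =>
        rw [Submodule.coe_add, map_add]; exact Submodule.add_mem _ hy hy'
      | smul a y _ hy =>
        rw [Submodule.coe_smul, map_smul]; exact Submodule.smul_mem _ a hy
    intro c hc0
    obtain ⟨m₁, hm₁⟩ := hall ⟨c, LinearMap.mem_ker.2 hc0⟩
    exact ⟨m₁, hm₁.symm⟩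

end ExtData

section CstHom

/-- morphisms out of a constant sheaf are determined on units -/
lemma cst_hom_ext {U : X.Etale} {A : (ModuleCat.{u + 1} Λ)}
    {G : Sheaf (X.smallEtaleTopology.over U) (ModuleCat.{u + 1} Λ)}
    (f g : cstM.{u + 1, u, u + 1} Λ (X.smallEtaleTopology.over U) A ⟶ G)
    (h : ∀ (T : Over U) (a : A),
      (f.hom.app (op T) : _ ⟶ _)
        (etaM.{u + 1, u, u + 1} Λ (X.smallEtaleTopology.over U) A (op T) a) =
      (g.hom.app (op T) : _ ⟶ _)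
        (etaM.{u + 1, u, u + 1} Λ (X.smallEtaleTopology.over U) A (op T) a)) : f = g := by
  apply Sheaf.hom_ext
  apply sheafify_hom_ext _ _ _ G.property
  ext T a
  exact h T.unop a

variable {U : X.Etale} (F : EtModW.Mod Λ X) (E : Submodule Λ (F.obj.obj (op U)))

/-- the presheaf map from the constant presheaf on a submodule of sections -/
noncomputable def psiPre :
    (Functor.const (Over U)ᵒᵖ).obj (ModuleCat.of Λ E) ⟶ (EtModW.restr Λ F U).obj where
  app T := ModuleCat.ofHom ((F.obj.map T.unop.hom.op).hom.comp E.subtype)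
  naturality T T' f := by
    ext t
    show F.obj.map T'.unop.hom.op t.1 = F.obj.map f.unop.left.op (F.obj.map T.unop.hom.op t.1)
    rw [← map_comp_apply F T.unop.hom f.unop.left t.1, Over.w f.unop]

/-- the map from the constant sheaf on a submodule of sections over `U` to `F|_U` -/
noncomputable def psi :
    cstM.{u + 1, u, u + 1} Λ (X.smallEtaleTopology.over U) (ModuleCat.of Λ E) ⟶
      EtModW.restr Λ F U :=
  ObjectProperty.homMk (sheafifyLift (X.smallEtaleTopology.over U) (psiPre F E)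
    (EtModW.restr Λ F U).property)

lemma psi_eta (T : Over U) (t : E) :
    ((psi F E).hom.app (op T) : _ ⟶ _)
      (etaM.{u + 1, u, u + 1} Λ (X.smallEtaleTopology.over U) (ModuleCat.of Λ E) (op T) t) =
      F.obj.map T.hom.op t.1 := by
  have h := toSheafify_sheafifyLift (X.smallEtaleTopology.over U) (psiPre F E)
    (EtModW.restr Λ F U).property
  have h2 := congrArg (fun k : (Functor.const (Over U)ᵒᵖ).obj (ModuleCat.of Λ E) ⟶
    (EtModW.restr Λ F U).obj => (k.app (op T) : _ ⟶ _) t) h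
  exact h2

end CstHom

section Structure

variable (S : ShortComplex (EtModW.Mod Λ X)) (hS : S.ShortExact) {W : X.Etale} (w₀ : W.left)
  {M₁ M₃ : (ModuleCat.{u + 1} Λ)}
  (e₁ : EtModW.restr Λ S.X₁ W ≅ cstM.{u + 1, u, u + 1} Λ (X.smallEtaleTopology.over W) M₁)
  (e₃ : EtModW.restr Λ S.X₃ W ≅ cstM.{u + 1, u, u + 1} Λ (X.smallEtaleTopology.over W) M₃)
  {n : ℕ} (p : (Fin n → Λ) →ₗ[Λ] M₃) (σ : (Fin n → Λ) →ₗ[Λ] S.X₂.obj.obj (op W))

/-- constants of `X₁` as sections over `W` -/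
noncomputable def sig₁ : M₁ →ₗ[Λ] S.X₁.obj.obj (op W) := sigL S.X₁ e₁ (𝟙 W)

/-- constants of `X₃` as sections over `W` -/
noncomputable def sig₃ : M₃ →ₗ[Λ] S.X₃.obj.obj (op W) := sigL S.X₃ e₃ (𝟙 W)

/-- `ι` on sections over `W` -/
noncomputable def iotaW : S.X₁.obj.obj (op W) →ₗ[Λ] S.X₂.obj.obj (op W) :=
  (S.f.hom.app (op W)).hom

/-- `π` on sections over `W` -/
noncomputable def piW : S.X₂.obj.obj (op W) →ₗ[Λ] S.X₃.obj.obj (op W) :=
  (S.g.hom.app (op W)).hom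

/-- constants of `X₁` as sections of `X₂` over `W` -/
noncomputable def jj : M₁ →ₗ[Λ] S.X₂.obj.obj (op W) := (iotaW S).comp (sig₁ S e₁)

include w₀ in
lemma sig₁_injective : Function.Injective (sig₁ S e₁) :=
  fun a a' h => sec0_inj S.X₁ e₁ (𝟙 W) w₀ a a' h

include w₀ in
lemma sig₃_injective : Function.Injective (sig₃ S e₃) :=
  fun a a' h => sec0_inj S.X₃ e₃ (𝟙 W) w₀ a a' h

include hS w₀ in
lemma jj_injective : Function.Injective (jj S e₁) :=
  (iota_injective S hS W).comp (sig₁_injective S w₀ e₁)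

lemma piW_jj (m : M₁) : piW S (jj S e₁ m) = 0 := pi_iota S W _

variable (hσ : ∀ c, piW S (σ c) = sig₃ S e₃ (p c))
  (hK : ∀ c, p c = 0 → ∃ m₁ : M₁, σ c = jj S e₁ m₁)

/-- the value module of the extension: a finite type submodule of sections of `X₂` over `W` -/
noncomputable def EE : Submodule Λ (S.X₂.obj.obj (op W)) :=
  LinearMap.range (jj S e₁) ⊔ LinearMap.range σ

lemma jj_mem_EE (m₁ : M₁) : jj S e₁ m₁ ∈ EE S e₁ σ :=
  Submodule.mem_sup_left ⟨m₁, rfl⟩

lemma σ_mem_EE (c : Fin n → Λ) : σ c ∈ EE S e₁ σ :=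
  Submodule.mem_sup_right ⟨c, rfl⟩

lemma mem_EE_iff (t : S.X₂.obj.obj (op W)) :
    t ∈ EE S e₁ σ ↔ ∃ (m₁ : M₁) (c : Fin n → Λ), t = jj S e₁ m₁ + σ c := by
  constructor
  · intro ht
    obtain ⟨a, ⟨m₁, rfl⟩, b, ⟨c, rfl⟩, rfl⟩ := Submodule.mem_sup.1 ht
    exact ⟨m₁, c, rfl⟩
  · rintro ⟨m₁, c, rfl⟩
    exact Submodule.add_mem _ (jj_mem_EE S e₁ σ m₁) (σ_mem_EE S e₁ σ c)

lemma finite_EE [Module.Finite Λ M₁] : Module.Finite Λ (EE S e₁ σ) := by
  have h1 : (LinearMap.range (jj S e₁)).FG := by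
    rw [LinearMap.range_eq_map]
    exact Module.Finite.fg_top.map _
  have h2 : (LinearMap.range σ).FG := by
    rw [LinearMap.range_eq_map]
    exact Module.Finite.fg_top.map _
  exact Module.Finite.iff_fg.2 (h1.sup h2)

/-- the inclusion of `M₁` -/
noncomputable def iE : M₁ →ₗ[Λ] EE S e₁ σ :=
  (jj S e₁).codRestrict (EE S e₁ σ) (jj_mem_EE S e₁ σ)

include hσ in
lemma exists_pi_eq (t : EE S e₁ σ) : ∃ m₃ : M₃, piW S t.1 = sig₃ S e₃ m₃ := by
  obtain ⟨t, ht⟩ := t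
  obtain ⟨m₁, c, rfl⟩ := (mem_EE_iff S e₁ σ t).1 ht
  refine ⟨p c, ?_⟩
  show piW S (jj S e₁ m₁ + σ c) = _
  rw [map_add, piW_jj, zero_add, hσ]

include w₀ in
/-- the projection to `M₃` -/
noncomputable def pE : EE S e₁ σ →ₗ[Λ] M₃ where
  toFun t := (exists_pi_eq S e₁ e₃ p σ hσ t).choose
  map_add' t t' := by
    apply sig₃_injective S w₀ e₃
    rw [map_add, ← (exists_pi_eq S e₁ e₃ p σ hσ t).choose_spec,
      ← (exists_pi_eq S e₁ e₃ p σ hσ t').choose_spec,
      ← (exists_pi_eq S e₁ e₃ p σ hσ (t + t')).choose_spec]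
    exact map_add (piW S) t.1 t'.1
  map_smul' a t := by
    apply sig₃_injective S w₀ e₃
    rw [RingHom.id_apply, map_smul, ← (exists_pi_eq S e₁ e₃ p σ hσ t).choose_spec,
      ← (exists_pi_eq S e₁ e₃ p σ hσ (a • t)).choose_spec]
    exact map_smul (piW S) a t.1

lemma pE_spec (t : EE S e₁ σ) : sig₃ S e₃ (pE S w₀ e₁ e₃ p σ hσ t) = piW S t.1 :=
  ((exists_pi_eq S e₁ e₃ p σ hσ t).choose_spec).symm

lemma pE_iE (m₁ : M₁) : pE S w₀ e₁ e₃ p σ hσ (iE S e₁ σ m₁) = 0 := by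
  apply sig₃_injective S w₀ e₃
  rw [pE_spec, map_zero]
  exact piW_jj S e₁ m₁

include hS w₀ in
lemma iE_injective : Function.Injective (iE S e₁ σ) := by
  intro a a' h
  apply jj_injective S hS w₀ e₁
  exact congrArg Subtype.val h

lemma pE_surjective (hp : Function.Surjective p) :
    Function.Surjective (pE S w₀ e₁ e₃ p σ hσ) := by
  intro m₃
  obtain ⟨c, rfl⟩ := hp m₃
  refine ⟨⟨σ c, σ_mem_EE S e₁ σ c⟩, ?_⟩
  apply sig₃_injective S w₀ e₃
  rw [pE_spec]
  exact hσ c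

include hK in
lemma ker_pE (t : EE S e₁ σ) (ht : pE S w₀ e₁ e₃ p σ hσ t = 0) :
    ∃ m₁, iE S e₁ σ m₁ = t := by
  obtain ⟨t, htE⟩ := t
  obtain ⟨m₁, c, rfl⟩ := (mem_EE_iff S e₁ σ t).1 htE
  have h1 := pE_spec S w₀ e₁ e₃ p σ hσ ⟨_, htE⟩
  rw [ht, map_zero] at h1
  have h2 : piW S (jj S e₁ m₁ + σ c) = sig₃ S e₃ (p c) := by
    rw [map_add, piW_jj, zero_add, hσ]
  have h3 : p c = 0 := by
    apply sig₃_injective S w₀ e₃
    rw [map_zero, ← h2]
    exact h1.symm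
  obtain ⟨m₁', hm₁'⟩ := hK c h3
  refine ⟨m₁ + m₁', ?_⟩
  apply Subtype.ext
  show jj S e₁ (m₁ + m₁') = jj S e₁ m₁ + σ c
  rw [map_add, hm₁']

/-- the short complex `0 → M₁ → E → M₃ → 0` of modules -/
noncomputable def TT : ShortComplex (ModuleCat.{u + 1} Λ) :=
  ShortComplex.mk (X₁ := M₁) (X₂ := ModuleCat.of Λ (EE S e₁ σ)) (X₃ := M₃)
    (ModuleCat.ofHom (iE S e₁ σ)) (ModuleCat.ofHom (pE S w₀ e₁ e₃ p σ hσ)) (by
      ext m₁
      exact pE_iE S w₀ e₁ e₃ p σ hσ m₁)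

include hS hK in
lemma TT_shortExact (hp : Function.Surjective p) : (TT S w₀ e₁ e₃ p σ hσ).ShortExact := by
  haveI : Mono (TT S w₀ e₁ e₃ p σ hσ).f :=
    (ModuleCat.mono_iff_injective _).2 (iE_injective S hS w₀ e₁ σ)
  haveI : Epi (TT S w₀ e₁ e₃ p σ hσ).g :=
    (ModuleCat.epi_iff_surjective _).2 (pE_surjective S w₀ e₁ e₃ p σ hσ hp)
  refine ShortComplex.ShortExact.mk' ?_ inferInstance inferInstance
  rw [ShortComplex.moduleCat_exact_iff]
  intro t ht
  exact ker_pE S w₀ e₁ e₃ p σ hσ hK t ht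

/-- the comparison morphism of short complexes of sheaves over `W` -/
noncomputable def Phi :
    (TT S w₀ e₁ e₃ p σ hσ).map
        (constantSheaf (X.smallEtaleTopology.over W) (ModuleCat.{u + 1} Λ)) ⟶
      S.map (X.smallEtaleTopology.overPullback (ModuleCat.{u + 1} Λ) W) where
  τ₁ := e₁.inv
  τ₂ := psi S.X₂ (EE S e₁ σ)
  τ₃ := e₃.inv
  comm₁₂ := by
    apply cst_hom_ext
    intro T m₁
    symm
    show ((psi S.X₂ (EE S e₁ σ)).hom.app (op T) : _ ⟶ _)
        ((((constantSheaf (X.smallEtaleTopology.over W) (ModuleCat.{u + 1} Λ)).map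
          (ModuleCat.ofHom (iE S e₁ σ))).hom.app (op T) : _ ⟶ _)
          (etaM.{u + 1, u, u + 1} Λ (X.smallEtaleTopology.over W) M₁ (op T) m₁)) =
      (S.f.hom.app (op T.left) : _ ⟶ _) (sec0 S.X₁ e₁ T.hom m₁)
    rw [etaM_map]
    refine (psi_eta S.X₂ (EE S e₁ σ) T (iE S e₁ σ m₁)).trans ?_
    show S.X₂.obj.map T.hom.op ((S.f.hom.app (op W) : _ ⟶ _) (sec0 S.X₁ e₁ (𝟙 W) m₁)) = _
    rw [phi_nat S.X₁ S.X₂ S.f T.hom, sec0_nat, Category.comp_id]
  comm₂₃ := by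
    apply cst_hom_ext
    intro T t
    symm
    show (e₃.inv.hom.app (op T) : _ ⟶ _)
        ((((constantSheaf (X.smallEtaleTopology.over W) (ModuleCat.{u + 1} Λ)).map
          (ModuleCat.ofHom (pE S w₀ e₁ e₃ p σ hσ))).hom.app (op T) : _ ⟶ _)
          (etaM.{u + 1, u, u + 1} Λ (X.smallEtaleTopology.over W)
            (ModuleCat.of Λ (EE S e₁ σ)) (op T) t)) =
      (S.g.hom.app (op T.left) : _ ⟶ _)
        (((psi S.X₂ (EE S e₁ σ)).hom.app (op T) : _ ⟶ _)
          (etaM.{u + 1, u, u + 1} Λ (X.smallEtaleTopology.over W)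
            (ModuleCat.of Λ (EE S e₁ σ)) (op T) t))
    rw [etaM_map, psi_eta, ← phi_nat S.X₂ S.X₃ S.g T.hom]
    have h1 : (S.g.hom.app (op W) : _ ⟶ _) t.1 =
        sec0 S.X₃ e₃ (𝟙 W) (pE S w₀ e₁ e₃ p σ hσ t) :=
      (pE_spec S w₀ e₁ e₃ p σ hσ t).symm
    rw [h1, sec0_nat, Category.comp_id]
    rfl

include hS w₀ e₁ e₃ p σ hσ hK in
/-- the structure theorem: on `W` the middle term is constant with the finite type value module
`E` -/
theorem nonempty_triv_middle [Module.Finite Λ M₁] (hp : Function.Surjective p) :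
    ∃ (E : (ModuleCat.{u + 1} Λ)) (_ : Module.Finite Λ E),
      Nonempty (EtModW.restr Λ S.X₂ W ≅
        cstM.{u + 1, u, u + 1} Λ (X.smallEtaleTopology.over W) E) := by
  have h1 : ((TT S w₀ e₁ e₃ p σ hσ).map
      (constantSheaf (X.smallEtaleTopology.over W) (ModuleCat.{u + 1} Λ))).ShortExact :=
    (TT_shortExact S hS w₀ e₁ e₃ p σ hσ hK hp).map_of_exact _
  have h2 : (S.map (X.smallEtaleTopology.overPullback (ModuleCat.{u + 1} Λ) W)).ShortExact :=
    hS.map_of_exact _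
  haveI : IsIso (Phi S w₀ e₁ e₃ p σ hσ).τ₁ := inferInstanceAs (IsIso e₁.inv)
  haveI : IsIso (Phi S w₀ e₁ e₃ p σ hσ).τ₃ := inferInstanceAs (IsIso e₃.inv)
  have h3 : IsIso (Phi S w₀ e₁ e₃ p σ hσ).τ₂ :=
    ShortComplex.isIso₂_of_shortExact_of_isIso₁₃ _ h1 h2
  haveI : IsIso (psi S.X₂ (EE S e₁ σ)) := h3
  exact ⟨ModuleCat.of Λ (EE S e₁ σ), finite_EE S e₁ σ,
    ⟨(asIso (psi S.X₂ (EE S e₁ σ))).symm⟩⟩

end Structure

/-- the middle term of a short exact sequence with finite type locally constant ends is finite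
type locally constant (Noetherian coefficients) -/
theorem ft_of_shortExact [IsNoetherianRing Λ] (S : ShortComplex (EtModW.Mod Λ X))
    (hS : S.ShortExact)
    (h₁ : EtModW.IsFTLocConst Λ S.X₁) (h₃ : EtModW.IsFTLocConst Λ S.X₃) :
    EtModW.IsFTLocConst Λ S.X₂ := by
  have key : ∀ x : X, ∃ (Q : X.Etale) (z : Q.left), Q.hom.base z = x ∧
      ∃ (K : Type (u + 1)) (_ : AddCommGroup K) (_ : Module Λ K) (_ : Module.Finite Λ K),
        Nonempty (EtModW.restr Λ S.X₂ Q ≅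
          (constantSheaf (X.smallEtaleTopology.over Q) (ModuleCat.{u + 1} Λ)).obj
            (ModuleCat.of Λ K)) := by
    intro x
    obtain ⟨ι, U, hU, hM⟩ := h₁
    obtain ⟨κ, V, hV, hN⟩ := h₃
    obtain ⟨i, y, hy⟩ := hU x
    obtain ⟨j, y', hy'⟩ := hV x
    obtain ⟨M, instM, modM, finM, ⟨e₁⟩⟩ := hM i
    obtain ⟨N, instN, modN, finN, ⟨e₃⟩⟩ := hN j
    haveI : Module.Finite Λ (ModuleCat.of Λ M) := finM
    haveI : Module.Finite Λ (ModuleCat.of Λ N) := finN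
    let f₁ : U i ⟶ EtCoh.top X :=
      MorphismProperty.Over.homMk (U i).hom (Category.comp_id _) trivial
    let f₂ : V j ⟶ EtCoh.top X :=
      MorphismProperty.Over.homMk (V j).hom (Category.comp_id _) trivial
    obtain ⟨P, k, k', z, -, hz, -⟩ := exists_common f₁ f₂ y y' (hy.trans hy'.symm)
    obtain ⟨W, w, w₀, hw₀, n, p, σ, hp, hσ, hK⟩ :=
      exists_ext_data S hS z (restrTriv S.X₁ k e₁) (restrTriv S.X₃ k' e₃)
    have hσ' : ∀ c, piW S (σ c) =
        sig₃ S (restrTriv S.X₃ w (restrTriv S.X₃ k' e₃)) (p c) := by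
      intro c
      show (S.g.hom.app (op W) : _ ⟶ _) (σ c) =
        sec0 S.X₃ (restrTriv S.X₃ w (restrTriv S.X₃ k' e₃)) (𝟙 W) (p c)
      rw [sec0_restrTriv, Category.id_comp]
      exact hσ c
    have hK' : ∀ c, p c = 0 → ∃ m₁ : (ModuleCat.of Λ M),
        σ c = jj S (restrTriv S.X₁ w (restrTriv S.X₁ k e₁)) m₁ := by
      intro c hc
      obtain ⟨m₁, hm₁⟩ := hK c hc
      refine ⟨m₁, ?_⟩
      show σ c = (S.f.hom.app (op W) : _ ⟶ _)
        (sec0 S.X₁ (restrTriv S.X₁ w (restrTriv S.X₁ k e₁)) (𝟙 W) m₁)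
      rw [sec0_restrTriv, Category.id_comp]
      exact hm₁
    obtain ⟨E, finE, ⟨eE⟩⟩ := nonempty_triv_middle S hS w₀
      (restrTriv S.X₁ w (restrTriv S.X₁ k e₁)) (restrTriv S.X₃ w (restrTriv S.X₃ k' e₃))
      p σ hσ' hK' hp
    refine ⟨W, w₀, ?_, E, inferInstance, inferInstance, finE, ⟨eE⟩⟩
    have e1 : w.left ≫ P.hom = W.hom := MorphismProperty.Over.w w
    have e2 : k.left ≫ (U i).hom = P.hom := MorphismProperty.Over.w k
    rw [← e1, ← e2]
    show (U i).hom.base (k.left.base (w.left.base w₀)) = x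
    rw [hw₀, hz, hy]
  choose Q z hz hK using key
  exact ⟨X, Q, fun x => ⟨x, z x, hz x⟩, hK⟩

end Groth.Agent.Lib.helper21.ModFlc3
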