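import Mathlib
import Groth.Prelude.Def_EtMod2
import Groth.Agent.Lib.Helper1.EtGerm

/-!
# Germs and constant sheaves for sheaves of `Λ`-modules on the small étale site

Module analogues (values in `ModuleCat.{u+1} Λ`) of `Helper21/ConstGerm` (units of constant sheaves,
local constancy, injectivity of units) and of `Helper1/EtGerm` (germ maps at lifts of a geometric
point), together with elementwise naturality helpers.
-/

set_option autoImplicit false

open CategoryTheory CategoryTheory.Limits Opposite AlgebraicGeometry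

namespace Groth.Agent.Lib.helper21.ModGerm

open Groth.Agent.H1.EtGerm

universe u

variable (Λ : Type (u + 1)) [CommRing Λ] {X : Scheme.{u}}

section Const

/-- the constant sheaf of modules -/
noncomputable abbrev cstM (X : Scheme.{u}) (M : ModuleCat.{u + 1} Λ) : EtModW.Mod Λ X :=
  (constantSheaf X.smallEtaleTopology (ModuleCat.{u + 1} Λ)).obj M

/-- the unit `M → M_X(T)` -/
noncomputable def etaM (M : ModuleCat.{u + 1} Λ) (T : X.Etaleᵒᵖ) :
    M ⟶ (cstM Λ X M).obj.obj T :=
  (toSheafify X.smallEtaleTopology ((Functor.const X.Etaleᵒᵖ).obj M)).app T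

lemma etaM_nat (M : ModuleCat.{u + 1} Λ) {T T' : X.Etaleᵒᵖ} (f : T ⟶ T') (a : M) :
    (cstM Λ X M).obj.map f (etaM Λ M T a) = etaM Λ M T' a := by
  have h := ConcreteCategory.congr_hom
    ((toSheafify X.smallEtaleTopology ((Functor.const X.Etaleᵒᵖ).obj M)).naturality f) a
  rw [ConcreteCategory.comp_apply, ConcreteCategory.comp_apply] at h
  exact h.symm

lemma local_constM (M : ModuleCat.{u + 1} Λ) (V : X.Etale) (s : (cstM Λ X M).obj.obj (op V)) :
    ∃ S ∈ X.smallEtaleTopology V, ∀ ⦃W : X.Etale⦄ (f : W ⟶ V), S f →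
      ∃ a : M, (cstM Λ X M).obj.map f.op s = etaM Λ M (op W) a := by
  refine ⟨_, Presheaf.imageSieve_mem X.smallEtaleTopology
    (toSheafify X.smallEtaleTopology ((Functor.const X.Etaleᵒᵖ).obj M)) s, ?_⟩
  rintro W f ⟨t, ht⟩
  exact ⟨t, ht.symm⟩

lemma etaM_inj (M : ModuleCat.{u + 1} Λ) (W : X.Etale) (a a' : M)
    (h : etaM Λ M (op W) a = etaM Λ M (op W) a') : a = a' ∨ ⊥ ∈ X.smallEtaleTopology W := by
  by_cases haa : a = a'
  · exact Or.inl haa
  · right
    have hm := Presheaf.equalizerSieve_mem X.smallEtaleTopology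
      (toSheafify X.smallEtaleTopology ((Functor.const X.Etaleᵒᵖ).obj M)) a a' h
    refine X.smallEtaleTopology.superset_covering ?_ hm
    intro Y f hf
    exact (haa hf).elim

lemma eX (X : Scheme.{u}) : X.smallEtaleTopology =
    (X.smallPretopology (P := EtCoh.etaleMP) (Q := EtCoh.etaleMP)).toGrothendieck :=
  Scheme.smallGrothendieckTopology_eq_toGrothendieck_smallPretopology X le_rfl

lemma mem_of_pointwise (T : X.Etale) (R : Sieve T)
    (h : ∀ x : T.left, ∃ (Y : X.Etale) (g : Y ⟶ T) (y : Y.left), R g ∧ g.left.base y = x) :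
    R ∈ X.smallEtaleTopology T := by
  have key : R ∈ (X.smallPretopology (P := EtCoh.etaleMP) (Q := EtCoh.etaleMP)).toGrothendieck T →
      R ∈ X.smallEtaleTopology T := by
    intro hR
    rw [eX]
    exact hR
  apply key
  refine (Scheme.mem_toGrothendieck_smallPretopology T _).2 (fun x => ?_)
  obtain ⟨Y, g, y, hg, hy⟩ := h x
  haveI := etale_left g
  exact ⟨Y, g, y, hg, inferInstance, hy⟩

lemma not_bot_mem (T : X.Etale) (t : T.left) : ⊥ ∉ X.smallEtaleTopology T := by
  intro h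
  rw [eX] at h
  obtain ⟨Y, f, y, hf, -, -⟩ := (Scheme.mem_toGrothendieck_smallPretopology T _).1 h t
  exact hf

lemma local_constM_at (M : ModuleCat.{u + 1} Λ) (T : X.Etale)
    (s : (cstM Λ X M).obj.obj (op T)) (t : T.left) :
    ∃ (V : X.Etale) (g : V ⟶ T) (v : V.left), g.left.base v = t ∧
      ∃ b : M, (cstM Λ X M).obj.map g.op s = etaM Λ M (op V) b := by
  obtain ⟨S, hS, hb⟩ := local_constM Λ M T s
  rw [eX] at hS
  obtain ⟨Y, f, y, hf, -, hy⟩ := (Scheme.mem_toGrothendieck_smallPretopology T _).1 hS t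
  exact ⟨Y, f, y, hy, hb _ hf⟩

lemma etaM_map {M N : ModuleCat.{u + 1} Λ} (h : M ⟶ N) (T : X.Etale) (a : M) :
    (((constantSheaf X.smallEtaleTopology (ModuleCat.{u + 1} Λ)).map h).hom.app (op T) : _ ⟶ _)
        (etaM Λ M (op T) a) = etaM Λ N (op T) (h a) := by
  have h2 := toSheafify_naturality X.smallEtaleTopology ((Functor.const X.Etaleᵒᵖ).map h)
  have h3 := congrArg (fun t : (Functor.const X.Etaleᵒᵖ).obj M ⟶
      (cstM Λ X N).obj => (t.app (op T) : _ ⟶ _) a) h2
  exact h3.symm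

end Const

section Germ

variable {Λ}

noncomputable instance pfcM :
    PreservesFilteredColimitsOfSize.{u, u} (forget (ModuleCat.{u + 1} Λ)) :=
  preservesFilteredColimitsOfSize_shrink.{u, u + 1, u, u + 1} (forget (ModuleCat.{u + 1} Λ))

variable {Ω : Type u} [Field Ω] [IsSepClosed Ω] (ξ : Spec (CommRingCat.of Ω) ⟶ X)

/-- the germ map `F(U) → F_ξ` at a lift of `ξ` to `U` -/
noncomputable def germM (F : EtModW.Mod Λ X) (U : X.Etale) (x : Lift ξ U) :
    F.obj.obj (op U) →ₗ[Λ] (EtModW.stalk Λ ξ).obj F :=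
  ((Scheme.pointSmallEtale ξ).toPresheafFiber U x F.obj).hom

variable {ξ}

theorem germM_surjective (F : EtModW.Mod Λ X) (p : (EtModW.stalk Λ ξ).obj F) :
    ∃ (U : X.Etale) (x : Lift ξ U) (s : F.obj.obj (op U)), germM ξ F U x s = p :=
  (Scheme.pointSmallEtale ξ).toPresheafFiber_jointly_surjective p

theorem germM_res (F : EtModW.Mod Λ X) {U V : X.Etale} (g : V ⟶ U) (y : Lift ξ V)
    (s : F.obj.obj (op U)) :
    germM ξ F V y (F.obj.map g.op s) = germM ξ F U (Lift.map g y) s :=
  (Scheme.pointSmallEtale ξ).toPresheafFiber_w_apply g y F.obj s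

theorem germM_eq_iff (F : EtModW.Mod Λ X) (U : X.Etale) (x : Lift ξ U) (s t : F.obj.obj (op U)) :
    germM ξ F U x s = germM ξ F U x t ↔
      ∃ (V : X.Etale) (g : V ⟶ U) (y : Lift ξ V), Lift.map g y = x ∧
        F.obj.map g.op s = F.obj.map g.op t :=
  (Scheme.pointSmallEtale ξ).toPresheafFiber_eq_iff' U x s t

theorem stalkM_map_germ {F G : EtModW.Mod Λ X} (a : F ⟶ G) (U : X.Etale) (x : Lift ξ U)
    (s : F.obj.obj (op U)) :
    (EtModW.stalk Λ ξ).map a (germM ξ F U x s) = germM ξ G U x (a.hom.app (op U) s) :=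
  (Scheme.pointSmallEtale ξ).toPresheafFiber_naturality_apply a.hom U x s

end Germ

section Nat

variable {Λ}
variable (F G : EtModW.Mod Λ X) (φ : F ⟶ G)

lemma phiM_nat {V V' : X.Etale} (k : V' ⟶ V) (s : F.obj.obj (op V)) :
    G.obj.map k.op ((φ.hom.app (op V) : _ ⟶ _) s) =
      (φ.hom.app (op V') : _ ⟶ _) (F.obj.map k.op s) := by
  have h := ConcreteCategory.congr_hom (φ.hom.naturality k.op) s
  rw [ConcreteCategory.comp_apply, ConcreteCategory.comp_apply] at h
  exact h.symm

lemma mapM_comp_apply {V V' V'' : X.Etale} (k : V' ⟶ V) (l : V'' ⟶ V') (s : G.obj.obj (op V)) :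
    G.obj.map (l ≫ k).op s = G.obj.map l.op (G.obj.map k.op s) := by
  rw [op_comp, Functor.map_comp, ConcreteCategory.comp_apply]

/-- sections over `V` -/
noncomputable abbrev ΓM (V : X.Etale) : EtModW.Mod Λ X ⥤ ModuleCat.{u + 1} Λ :=
  sheafToPresheaf _ _ ⋙ (evaluation _ _).obj (op V)

lemma iotaM_inj [Mono φ] (V : X.Etale) :
    Function.Injective (φ.hom.app (op V) : F.obj.obj (op V) ⟶ G.obj.obj (op V)) := by
  have : Mono ((ΓM V).map φ) := inferInstance
  exact (ModuleCat.mono_iff_injective ((ΓM V).map φ)).1 inferInstance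

end Nat

end Groth.Agent.Lib.helper21.ModGerm
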