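import Mathlib
import Groth.Prelude.Def_EtMod2
import Groth.Agent.Lib.Helper21.ModGerm
import Groth.Agent.Lib.Helper21.ModFlc1

/-!
# Stalks of locally constant sheaves of modules; specialization maps of locally constant sheaves of
modules are isomorphisms
-/

set_option autoImplicit false

open CategoryTheory CategoryTheory.Limits Opposite AlgebraicGeometry

namespace Groth.Agent.Lib.helper21.ModStalkConst

open Groth.Agent.Lib.helper21.ModConst Groth.Agent.Lib.helper21.ModFlc1
  Groth.Agent.H1.EtGerm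
open Groth.Agent.Lib.helper21.ModGerm (germM germM_surjective germM_res germM_eq_iff)

universe u

variable {Λ : Type (u + 1)} [CommRing Λ]

section Flc

variable {T : Scheme.{u}} (G : EtModW.Mod Λ T) {U : T.Etale} {M : (ModuleCat.{u + 1} Λ)}
  (e : EtModW.restr Λ G U ≅ cstM.{u + 1, u, u + 1} Λ (T.smallEtaleTopology.over U) M)
  {Ω : Type u} [Field Ω] [IsSepClosed Ω] (ζ : Spec (CommRingCat.of Ω) ⟶ T) (y : Lift ζ U)

/-- the map from the value module to the stalk -/
noncomputable def stalkOfConstM : M →ₗ[Λ] (EtModW.stalk Λ ζ).obj G :=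
  (germM ζ G U y).comp (sigL G e (𝟙 U))

lemma stalkOfConstM_apply (a : M) :
    stalkOfConstM G e ζ y a = germM ζ G U y (sec0 G e (𝟙 U) a) := rfl

lemma stalkOfConstM_injective : Function.Injective (stalkOfConstM G e ζ y) := by
  rw [injective_iff_map_eq_zero]
  intro a ha
  rw [stalkOfConstM_apply] at ha
  have ha' : germM ζ G U y (sec0 G e (𝟙 U) a) = germM ζ G U y 0 := by rw [ha, map_zero]
  obtain ⟨V, g, y', -, hs⟩ := (germM_eq_iff G U y _ _).1 ha'
  rw [sec0_nat, map_zero] at hs
  have h2 : sec0 G e (g ≫ 𝟙 U) (0 : M) = 0 := by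
    rw [← sigL_apply, map_zero]
  exact sec0_inj G e (g ≫ 𝟙 U) (Lift.hom y' default) a 0 (hs.trans h2.symm)

lemma stalkOfConstM_surjective : Function.Surjective (stalkOfConstM G e ζ y) := by
  intro p
  obtain ⟨V, x, s, rfl⟩ := germM_surjective G p
  obtain ⟨⟨W, w⟩, ⟨a, ha⟩, ⟨b, hb⟩, -⟩ := IsCofilteredOrEmpty.cone_objs
    (C := (Scheme.pointSmallEtale ζ).fiber.Elements) ⟨V, x⟩ ⟨U, y⟩
  have ha' : Lift.map a w = x := ha
  have hb' : Lift.map b w = y := hb
  obtain ⟨V', g, v, hv, m, hm⟩ := exists_sec0 G e b (G.obj.map a.op s) (Lift.hom w default)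
  obtain ⟨y', hy', -⟩ := exists_lift_of_point g w v hv
  refine ⟨m, ?_⟩
  rw [stalkOfConstM_apply]
  have h1 : germM ζ G V x s = germM ζ G V' y' (G.obj.map g.op (G.obj.map a.op s)) := by
    rw [germM_res, germM_res, hy', ha']
  have h2 : sec0 G e (g ≫ b) m = G.obj.map (g ≫ b).op (sec0 G e (𝟙 U) m) := by
    rw [sec0_nat, Category.comp_id]
  have h3 : Lift.map (g ≫ b) y' = y := by
    have : Lift.map (g ≫ b) y' = Lift.map b (Lift.map g y') :=
      FunctorToTypes.map_comp_apply (Scheme.pointSmallEtale ζ).fiber g b y'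
    rw [this, hy', hb']
  rw [h1, hm, h2, germM_res, h3]

end Flc

section Spec

variable {X : Scheme.{u}} {Ω Ω' : Type u} [Field Ω] [IsSepClosed Ω] [Field Ω'] [IsSepClosed Ω']
  {ξ : Spec (CommRingCat.of Ω) ⟶ X} {ξ' : Spec (CommRingCat.of Ω') ⟶ X}
  (φ : Scheme.pointSmallEtale ξ' ⟶ Scheme.pointSmallEtale ξ)

/-- specialization maps are compatible with germs -/
lemma sheafFiberM_germ (F : EtModW.Mod Λ X) (U : X.Etale) (y : Lift ξ U) (s : F.obj.obj (op U)) :
    (GrothendieckTopology.Point.Hom.sheafFiber (A := ModuleCat.{u + 1} Λ) φ).app F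
      (germM ξ F U y s) = germM ξ' F U (φ.hom.app U y) s := by
  have h := (Scheme.pointSmallEtale ξ).toPresheafFiber_presheafFiberDesc
    (P := F.obj) (T := (Scheme.pointSmallEtale ξ').presheafFiber.obj F.obj)
    (fun V x => (Scheme.pointSmallEtale ξ').toPresheafFiber V (φ.hom.app V x) F.obj)
    (by
      intro V V' f x
      have := FunctorToTypes.naturality φ.hom f x
      rw [this]
      exact (Scheme.pointSmallEtale ξ').toPresheafFiber_w f _ F.obj) U y
  exact congrArg (fun k : F.obj.obj (op U) ⟶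
    (Scheme.pointSmallEtale ξ').presheafFiber.obj F.obj => k s) h

/-- the specialization maps of a finite type locally constant sheaf of modules are isomorphisms -/
theorem isIso_sheafFiberM_of_lc (F : EtModW.Mod Λ X) (hF : EtModW.IsFTLocConst Λ F) :
    IsIso ((GrothendieckTopology.Point.Hom.sheafFiber (A := ModuleCat.{u + 1} Λ) φ).app F) := by
  obtain ⟨I, U, hcov, h⟩ := hF
  obtain ⟨i, y₀, hy₀⟩ := hcov (ξ default)
  obtain ⟨M, iM, mM, fM, ⟨e⟩⟩ := h i
  haveI : AlgebraicGeometry.Etale (U i).hom := (U i).prop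
  obtain ⟨l, hl1, -⟩ := Scheme.exists_fac_of_etale_of_isSepClosed (U i).hom ξ y₀ hy₀
  let y : Lift ξ (U i) := Lift.mk ξ l hl1
  have hcomp : ∀ a, (GrothendieckTopology.Point.Hom.sheafFiber (A := ModuleCat.{u + 1} Λ) φ).app F
      (stalkOfConstM F e ξ y a) = stalkOfConstM F e ξ' (φ.hom.app (U i) y) a := by
    intro a
    rw [stalkOfConstM_apply, stalkOfConstM_apply]
    exact sheafFiberM_germ φ F (U i) y _
  have hbij : Function.Bijective
      ((GrothendieckTopology.Point.Hom.sheafFiber (A := ModuleCat.{u + 1} Λ) φ).app F) := by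
    have h1 : Function.Bijective (stalkOfConstM F e ξ y) :=
      ⟨stalkOfConstM_injective F e ξ y, stalkOfConstM_surjective F e ξ y⟩
    have h2 : Function.Bijective (stalkOfConstM F e ξ' (φ.hom.app (U i) y)) :=
      ⟨stalkOfConstM_injective F e ξ' _, stalkOfConstM_surjective F e ξ' _⟩
    have h3 : (fun a => (GrothendieckTopology.Point.Hom.sheafFiber
        (A := ModuleCat.{u + 1} Λ) φ).app F (stalkOfConstM F e ξ y a)) =
        fun a => stalkOfConstM F e ξ' (φ.hom.app (U i) y) a := funext hcomp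
    have h4 : Function.Bijective (fun a => (GrothendieckTopology.Point.Hom.sheafFiber
        (A := ModuleCat.{u + 1} Λ) φ).app F (stalkOfConstM F e ξ y a)) := by
      rw [h3]; exact h2
    exact (Function.Bijective.of_comp_iff _ h1).1 h4
  exact (ConcreteCategory.isIso_iff_bijective _).2 hbij

end Spec

end Groth.Agent.Lib.helper21.ModStalkConst
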