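import Mathlib

/-!
# In a connected Noetherian sober space any two points are joined by a zigzag of specializations
-/

set_option autoImplicit false

open Topology

namespace Groth.Agent.Lib.helper21.SpecZigzag

variable {X : Type*} [TopologicalSpace X]

/-- a set which is, together with its complement, stable under specialization and generization
along irreducible components is clopen -/
theorem eqvGen_specializes_of_connected [TopologicalSpace.NoetherianSpace X] [QuasiSober X]
    [PreconnectedSpace X] (x y : X) : Relation.EqvGen (fun a b : X => a ⤳ b) x y := by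
  classical
  let C : Set X := {z | Relation.EqvGen (fun a b : X => a ⤳ b) x z}
  -- every irreducible component meeting `C` is contained in `C`, and conversely
  have key : ∀ Z ∈ irreducibleComponents X, ∀ a ∈ Z, ∀ b ∈ Z,
      Relation.EqvGen (fun a b : X => a ⤳ b) a b := by
    intro Z hZ a ha b hb
    have hZirr : IsIrreducible Z := hZ.1
    have hZcl : IsClosed Z := isClosed_of_mem_irreducibleComponents Z hZ
    have hgen := hZirr.isGenericPoint_genericPoint_closure
    rw [hZcl.closure_eq] at hgen
    have h1 : hZirr.genericPoint ⤳ a := by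
      rw [specializes_iff_mem_closure, hgen.def]; exact ha
    have h2 : hZirr.genericPoint ⤳ b := by
      rw [specializes_iff_mem_closure, hgen.def]; exact hb
    exact Relation.EqvGen.trans _ _ _ (Relation.EqvGen.symm _ _ (Relation.EqvGen.rel _ _ h1))
      (Relation.EqvGen.rel _ _ h2)
  have hfin : (irreducibleComponents X).Finite :=
    TopologicalSpace.NoetherianSpace.finite_irreducibleComponents
  have hC : C = ⋃₀ {Z ∈ irreducibleComponents X | (Z ∩ C).Nonempty} := by
    ext z
    constructor
    · intro hz
      have hz' : z ∈ ⋃₀ irreducibleComponents X := by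
        rw [sUnion_irreducibleComponents]; trivial
      obtain ⟨Z, hZ, hzZ⟩ := hz'
      exact ⟨Z, ⟨hZ, ⟨z, hzZ, hz⟩⟩, hzZ⟩
    · rintro ⟨Z, ⟨hZ, ⟨c, hcZ, hcC⟩⟩, hzZ⟩
      exact Relation.EqvGen.trans _ _ _ hcC (key Z hZ c hcZ z hzZ)
  have hCc : Cᶜ = ⋃₀ {Z ∈ irreducibleComponents X | ¬ (Z ∩ C).Nonempty} := by
    ext z
    constructor
    · intro hz
      have hz' : z ∈ ⋃₀ irreducibleComponents X := by
        rw [sUnion_irreducibleComponents]; trivial
      obtain ⟨Z, hZ, hzZ⟩ := hz'
      refine ⟨Z, ⟨hZ, ?_⟩, hzZ⟩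
      rintro ⟨c, hcZ, hcC⟩
      exact hz (Relation.EqvGen.trans _ _ _ hcC (key Z hZ c hcZ z hzZ))
    · rintro ⟨Z, ⟨hZ, hne⟩, hzZ⟩ hzC
      exact hne ⟨z, hzZ, hzC⟩
  have hclosed : IsClosed C := by
    rw [hC, Set.sUnion_eq_biUnion]
    exact (hfin.subset (fun Z hZ => hZ.1)).isClosed_biUnion
      (fun Z hZ => isClosed_of_mem_irreducibleComponents Z hZ.1)
  have hopen : IsOpen C := by
    rw [← isClosed_compl_iff, hCc, Set.sUnion_eq_biUnion]
    exact (hfin.subset (fun Z hZ => hZ.1)).isClosed_biUnion
      (fun Z hZ => isClosed_of_mem_irreducibleComponents Z hZ.1)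
  have hclopen : IsClopen C := ⟨hclosed, hopen⟩
  have huniv : C = Set.univ :=
    hclopen.eq_univ ⟨x, Relation.EqvGen.refl x⟩
  have : y ∈ C := by rw [huniv]; trivial
  exact this

end Groth.Agent.Lib.helper21.SpecZigzag
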