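import Mathlib
import Groth.Prelude.Def_EtMod2
import Groth.Agent.Lib.Helper1.EtStalk
import Groth.Agent.Lib.Helper21.ModStalkConst
import Groth.Agent.Lib.Helper21.SpecArrow2
import Groth.Agent.Lib.Helper21.SpecZigzag

/-!
# Stalk systems of locally constant sheaves of modules at two geometric points of a connected
Noetherian scheme are isomorphic
-/

set_option autoImplicit false

open CategoryTheory CategoryTheory.Limits Opposite AlgebraicGeometry

namespace Groth.Agent.Lib.helper21.ModSpecSys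

open Groth.Agent.H1.EtStalk Groth.Agent.H1.EtGerm
  Groth.Agent.Lib.helper21.ModStalkConst Groth.Agent.Lib.helper21.SpecArrow2
  Groth.Agent.Lib.helper21.SpecZigzag

universe u

variable {Λ : Type (u + 1)} [CommRing Λ] {X : Scheme.{u}} {J : Type*} [Category J]
  (F : J ⥤ EtModW.Mod Λ X)

/-- the relation "the stalk systems at all geometric points over `x` and `y` are isomorphic" -/
def Rel (x y : X) : Prop :=
  ∀ (Ω Ω' : Type u) [Field Ω] [IsSepClosed Ω] [Field Ω'] [IsSepClosed Ω']
    (s : Spec (CommRingCat.of Ω) ⟶ X) (s' : Spec (CommRingCat.of Ω') ⟶ X),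
    s default = x → s' default = y →
      Nonempty ((F ⋙ EtModW.stalk Λ s) ≅ (F ⋙ EtModW.stalk Λ s'))

variable {F}

lemma Rel.symm {x y : X} (h : Rel F x y) : Rel F y x := by
  intro Ω Ω' _ _ _ _ s s' hs hs'
  obtain ⟨e⟩ := h Ω' Ω s' s hs' hs
  exact ⟨e.symm⟩

lemma Rel.trans {x y z : X} (h : Rel F x y) (h' : Rel F y z) : Rel F x z := by
  intro Ω Ω' _ _ _ _ s s' hs hs'
  obtain ⟨e⟩ := h Ω _ s (geomPt X y) hs (geomPt_default X y)
  obtain ⟨e'⟩ := h' _ Ω' (geomPt X y) s' (geomPt_default X y) hs'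
  exact ⟨e ≪≫ e'⟩

lemma rel_of_specializes (hF : ∀ j, EtModW.IsFTLocConst Λ (F.obj j)) {x x' : X} (h : x' ⤳ x) :
    Rel F x x' := by
  intro Ω Ω' _ _ _ _ s s' hs hs'
  obtain ⟨φ⟩ := exists_arrow_of_specializes s s' (by rw [hs, hs']; exact h)
  let α : (F ⋙ EtModW.stalk Λ s) ⟶ (F ⋙ EtModW.stalk Λ s') :=
    Functor.whiskerLeft F
      (GrothendieckTopology.Point.Hom.sheafFiber (A := ModuleCat.{u + 1} Λ) φ)
  haveI : ∀ j, IsIso (α.app j) := fun j => isIso_sheafFiberM_of_lc φ (F.obj j) (hF j)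
  haveI : IsIso α := NatIso.isIso_of_isIso_app α
  exact ⟨asIso α⟩

theorem rel_of_eqvGen (hF : ∀ j, EtModW.IsFTLocConst Λ (F.obj j)) {x y : X}
    (h : Relation.EqvGen (fun a b : X => a ⤳ b) x y) : Rel F x y := by
  induction h with
  | rel a b hab => exact (rel_of_specializes hF hab).symm
  | refl a => exact rel_of_specializes hF specializes_rfl
  | symm a b _ ih => exact ih.symm
  | trans a b c _ _ ih1 ih2 => exact ih1.trans ih2

/-- on a connected Noetherian scheme, the stalk systems of a diagram of finite type locally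
constant sheaves of modules at any two geometric points are isomorphic -/
theorem nonempty_iso_stalkSystems [IsNoetherian X] [ConnectedSpace X]
    (hF : ∀ j, EtModW.IsFTLocConst Λ (F.obj j))
    {Ω : Type u} [Field Ω] [IsSepClosed Ω] (s : Spec (CommRingCat.of Ω) ⟶ X)
    {Ω' : Type u} [Field Ω'] [IsSepClosed Ω'] (s' : Spec (CommRingCat.of Ω') ⟶ X) :
    Nonempty ((F ⋙ EtModW.stalk Λ s) ≅ (F ⋙ EtModW.stalk Λ s')) :=
  rel_of_eqvGen hF (eqvGen_specializes_of_connected (s default) (s' default)) Ω Ω' s s' rfl rfl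

end Groth.Agent.Lib.helper21.ModSpecSys
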