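import Mathlib

/-!
# Models over a DVR: a proper morphism, flat over the base and an isomorphism over the generic
fibre, is an isomorphism near codimension-one normal points (helper21), part 1

Setting: `R` a domain, `ϖ ≠ 0` in `R`, `πC : C ⟶ Spec R`, `g : Z ⟶ C` with
`g ∣_ πC⁻¹(D(ϖ))` an isomorphism.

* `eq_of_comp_eq_of_generic`: `g` is a monomorphism on morphisms landing in the generic fibre.
* `isSchemeTheoreticallyDominant_basicOpen_ι`: `D(ϖ) ⟶ Spec R` is scheme-theoretically dominant.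
* `valuationRing_of_normal_dim_le_one`.
* `map_ne_zero_of_flat`: a flat ring map from a domain to a nontrivial ring does not kill `ϖ ≠ 0`.
* `isIso_section_of_flat`: for `p : T ⟶ D` separated with a section `σT`, if `T` is flat over `R`
  and `T_η ⟶ T` factors through `σT`, then `σT` is an isomorphism.
-/

set_option autoImplicit false
set_option linter.style.haveILetI false
set_option linter.unusedSectionVars false

universe u

open CategoryTheory CategoryTheory.Limits AlgebraicGeometry TopologicalSpace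

namespace Groth.Agent.Lib.helper21.ModelIso

section Alg

theorem valuationRing_of_normal_dim_le_one (A : Type*) [CommRing A] [IsDomain A]
    [IsNoetherianRing A] [IsLocalRing A] [IsIntegrallyClosed A] (hdim : ringKrullDim A ≤ 1) :
    ValuationRing A := by
  haveI : (⊥ : Ideal A).IsPrime := Ideal.isPrime_bot
  have h1 : Ring.KrullDimLE 1 A := Ring.krullDimLE_iff.mpr hdim
  have h2 := Ring.krullDimLE_one_iff_of_isPrime_bot.mp h1
  have h3 : IsIntegrallyClosed A ∧ ∀ P : Ideal A, P ≠ ⊥ → P.IsPrime →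
      P = IsLocalRing.maximalIdeal A :=
    ⟨inferInstance, fun P hP0 hP => IsLocalRing.eq_maximalIdeal (h2 P hP0 hP)⟩
  exact ((tfae_of_isNoetherianRing_of_isLocalRing_of_isDomain (R := A)).out 1 3).mpr h3

theorem map_ne_zero_of_flat {R A : Type*} [CommRing R] [IsDomain R] [CommRing A] [Nontrivial A]
    (ρ : R →+* A) (hρ : ρ.Flat) (ϖ : R) (hϖ : ϖ ≠ 0) : ρ ϖ ≠ 0 := by
  letI := ρ.toAlgebra
  haveI : Module.Flat R A := hρ
  have hreg : IsSMulRegular A ϖ :=
    Module.Flat.isSMulRegular_of_nonZeroDivisors (mem_nonZeroDivisors_of_ne_zero hϖ)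
  intro h0
  have h1 : ϖ • (1 : A) = ϖ • (0 : A) := by
    rw [smul_zero, Algebra.smul_def, mul_one]
    exact h0
  exact one_ne_zero (hreg h1)

end Alg

/-- `Spec 𝒪_{X,x} ⟶ X` is flat (copy of helper11's `FlatStalk.flat_fromSpecStalk`). -/
theorem flat_fromSpecStalk {X : Scheme.{u}} (x : X) : Flat (X.fromSpecStalk x) := by
  obtain ⟨_, ⟨U, hU, rfl⟩, hxU, -⟩ :=
    X.isBasis_affineOpens.exists_subset_of_mem_open (Set.mem_univ x) isOpen_univ
  rw [← hU.fromSpecStalk_eq_fromSpecStalk hxU, IsAffineOpen.fromSpecStalk]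
  have : Flat (Spec.map (X.presheaf.germ U x hxU)) := by
    rw [Flat.SpecMap_iff]
    letI : Algebra Γ(X, U) (X.presheaf.stalk x) := (X.presheaf.germ U x hxU).hom.toAlgebra
    haveI := hU.isLocalization_stalk ⟨x, hxU⟩
    exact RingHom.flat_algebraMap_iff.mpr
      (IsLocalization.flat _ (hU.primeIdealOf ⟨x, hxU⟩).asIdeal.primeCompl)
  infer_instance

section Geom

variable {R : Type u} [CommRing R] [IsDomain R] {C Z : Scheme.{u}}
  (πC : C ⟶ Spec (CommRingCat.of R)) (g : Z ⟶ C) (ϖ : R)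

theorem isSchemeTheoreticallyDominant_basicOpen_ι (hϖ : ϖ ≠ 0) :
    IsSchemeTheoreticallyDominant
      (Scheme.Opens.ι (X := Spec (CommRingCat.of R)) (PrimeSpectrum.basicOpen ϖ)) := by
  haveI : IsDominant
      (Scheme.Opens.ι (X := Spec (CommRingCat.of R)) (PrimeSpectrum.basicOpen ϖ)) := by
    constructor
    rw [DenseRange, Scheme.Opens.range_ι]
    refine IsOpen.dense (PrimeSpectrum.basicOpen ϖ).2 ?_
    refine ⟨⟨⊥, Ideal.isPrime_bot⟩, ?_⟩
    show ϖ ∉ (⊥ : Ideal R)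
    simpa using hϖ
  exact IsSchemeTheoreticallyDominant.of_isDominant _

theorem eq_of_comp_eq_of_generic
    (hgen : IsIso (g ∣_ (πC ⁻¹ᵁ (PrimeSpectrum.basicOpen ϖ)))) {W : Scheme.{u}} (a b : W ⟶ Z)
    (hab : a ≫ g = b ≫ g)
    (ha : ∀ w : W, (a ≫ g) w ∈ πC ⁻¹ᵁ (PrimeSpectrum.basicOpen ϖ)) : a = b := by
  set U : C.Opens := πC ⁻¹ᵁ (PrimeSpectrum.basicOpen ϖ) with hU
  have ha' : Set.range a ⊆ Set.range (g ⁻¹ᵁ U).ι := by
    rintro _ ⟨w, rfl⟩
    rw [Scheme.Opens.range_ι]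
    exact ha w
  have hb' : Set.range b ⊆ Set.range (g ⁻¹ᵁ U).ι := by
    rintro _ ⟨w, rfl⟩
    rw [Scheme.Opens.range_ι]
    have := ha w
    rw [hab] at this
    exact this
  have e1 : IsOpenImmersion.lift (g ⁻¹ᵁ U).ι a ha' ≫ (g ∣_ U) =
      IsOpenImmersion.lift (g ⁻¹ᵁ U).ι b hb' ≫ (g ∣_ U) := by
    rw [← cancel_mono U.ι, Category.assoc, Category.assoc, morphismRestrict_ι,
      IsOpenImmersion.lift_fac_assoc, IsOpenImmersion.lift_fac_assoc, hab]
  have e2 := (cancel_mono (g ∣_ U)).mp e1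
  rw [← IsOpenImmersion.lift_fac (g ⁻¹ᵁ U).ι a ha', e2, IsOpenImmersion.lift_fac]

end Geom

section Section

variable {R : Type u} [CommRing R] [IsDomain R] {T D : Scheme.{u}}
  (πT : T ⟶ Spec (CommRingCat.of R)) [Flat πT] (p : T ⟶ D) [IsSeparated p] (σT : D ⟶ T)
  (ϖ : R)

theorem isIso_section_of_flat (hϖ : ϖ ≠ 0) (hσ : σT ≫ p = 𝟙 D)
    (hfac : (πT ⁻¹ᵁ (PrimeSpectrum.basicOpen ϖ)).ι ≫ p ≫ σT =
      (πT ⁻¹ᵁ (PrimeSpectrum.basicOpen ϖ)).ι) : IsIso σT := by
  haveI : IsClosedImmersion (σT ≫ p) := by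
    rw [hσ]
    infer_instance
  haveI : IsClosedImmersion σT := IsClosedImmersion.of_comp σT p
  haveI := isSchemeTheoreticallyDominant_basicOpen_ι (R := R) ϖ hϖ
  set Uϖ : (Spec (CommRingCat.of R)).Opens := PrimeSpectrum.basicOpen ϖ with hUϖ
  have hUaff : IsAffineOpen Uϖ := IsAffineOpen.Spec_basicOpen (R := CommRingCat.of R) ϖ
  haveI : IsAffine (Uϖ : Scheme.{u}) := hUaff
  haveI : QuasiCompact Uϖ.ι := inferInstance
  haveI : IsSchemeTheoreticallyDominant (πT ⁻¹ᵁ Uϖ).ι :=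
    IsSchemeTheoreticallyDominant.of_isPullback (isPullback_morphismRestrict πT Uϖ)
  rw [IsClosedImmersion.isIso_iff_ker_eq_bot, ← le_bot_iff]
  calc σT.ker ≤ (((πT ⁻¹ᵁ Uϖ).ι ≫ p) ≫ σT).ker := Scheme.Hom.le_ker_comp _ _
    _ = (πT ⁻¹ᵁ Uϖ).ι.ker := by rw [Category.assoc, hfac]
    _ = ⊥ := Scheme.Hom.ker_eq_bot _

end Section

end Groth.Agent.Lib.helper21.ModelIso
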