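import Mathlib
import Groth.Agent.Lib.Helper21.ModelIso1

/-!
# Models over a DVR, part 2: the section over `Spec 𝒪_{C,c}` (helper21)

* `generic_mem`: the generic point of `Spec 𝒪_{C,c}` lies in the generic fibre of `C`.
* `exists_lift_stalk`: `Spec 𝒪_{C,c} ⟶ C` lifts to `Z` when `𝒪_{C,c}` is a valuation ring.
-/

set_option autoImplicit false
set_option linter.style.haveILetI false
set_option linter.unusedSectionVars false

universe u

open CategoryTheory CategoryTheory.Limits AlgebraicGeometry TopologicalSpace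

namespace Groth.Agent.Lib.helper21.ModelIso

variable {R : Type u} [CommRing R] [IsDomain R] {C Z : Scheme.{u}}
  (πC : C ⟶ Spec (CommRingCat.of R)) [Flat πC] (g : Z ⟶ C) (ϖ : R)

/-- the generic point of `Spec 𝒪_{C,c}` lies over `D(ϖ)` -/
theorem generic_mem (hϖ : ϖ ≠ 0) (c : C) [IsDomain (C.presheaf.stalk c)]
    (x : Spec (CommRingCat.of (FractionRing (C.presheaf.stalk c)))) :
    (Spec.map (CommRingCat.ofHom (algebraMap (C.presheaf.stalk c)
      (FractionRing (C.presheaf.stalk c)))) ≫ C.fromSpecStalk c) x ∈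
      πC ⁻¹ᵁ (PrimeSpectrum.basicOpen ϖ) := by
  haveI := flat_fromSpecStalk c
  let ρ : CommRingCat.of R ⟶ C.presheaf.stalk c := Spec.preimage (C.fromSpecStalk c ≫ πC)
  have hρ : Spec.map ρ = C.fromSpecStalk c ≫ πC := Spec.map_preimage _
  have hρflat : ρ.hom.Flat := by
    rw [← Flat.SpecMap_iff, hρ]
    infer_instance
  have h1 : ρ.hom ϖ ≠ 0 := map_ne_zero_of_flat ρ.hom hρflat ϖ hϖ
  have h2 : algebraMap (C.presheaf.stalk c) (FractionRing (C.presheaf.stalk c)) (ρ.hom ϖ) ≠ 0 := by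
    intro h0
    exact h1 ((IsFractionRing.injective (C.presheaf.stalk c)
      (FractionRing (C.presheaf.stalk c))) (h0.trans (map_zero _).symm))
  have h3 : (Spec.map (CommRingCat.ofHom (algebraMap (C.presheaf.stalk c)
      (FractionRing (C.presheaf.stalk c)))) ≫ C.fromSpecStalk c) ≫ πC =
      Spec.map (ρ ≫ CommRingCat.ofHom (algebraMap (C.presheaf.stalk c)
        (FractionRing (C.presheaf.stalk c)))) := by
    rw [Category.assoc, ← hρ]
    exact (Spec.map_comp _ _).symm
  show (((Spec.map (CommRingCat.ofHom (algebraMap (C.presheaf.stalk c)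
      (FractionRing (C.presheaf.stalk c)))) ≫ C.fromSpecStalk c) ≫ πC) x) ∈
      (PrimeSpectrum.basicOpen ϖ : (Spec (CommRingCat.of R)).Opens)
  rw [h3]
  show ϖ ∉ (PrimeSpectrum.comap (ρ ≫ CommRingCat.ofHom (algebraMap (C.presheaf.stalk c)
        (FractionRing (C.presheaf.stalk c)))).hom x).asIdeal
  intro hmem
  have hmem' : algebraMap (C.presheaf.stalk c) (FractionRing (C.presheaf.stalk c)) (ρ.hom ϖ) ∈
      x.asIdeal := hmem
  have hunit : IsUnit (algebraMap (C.presheaf.stalk c) (FractionRing (C.presheaf.stalk c))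
      (ρ.hom ϖ)) := isUnit_iff_ne_zero.mpr h2
  exact x.2.ne_top (Ideal.eq_top_of_isUnit_mem _ hmem' hunit)

theorem exists_lift_stalk [UniversallyClosed g] (hϖ : ϖ ≠ 0)
    (hgen : IsIso (g ∣_ (πC ⁻¹ᵁ (PrimeSpectrum.basicOpen ϖ)))) (c : C)
    [hd : IsDomain (C.presheaf.stalk c)] [hv : ValuationRing (C.presheaf.stalk c)] :
    ∃ σ : Spec (C.presheaf.stalk c) ⟶ Z, σ ≫ g = C.fromSpecStalk c := by
  set U : C.Opens := πC ⁻¹ᵁ (PrimeSpectrum.basicOpen ϖ) with hU
  let η : Spec (CommRingCat.of (FractionRing (C.presheaf.stalk c))) ⟶ C :=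
    Spec.map (CommRingCat.ofHom (algebraMap (C.presheaf.stalk c)
      (FractionRing (C.presheaf.stalk c)))) ≫ C.fromSpecStalk c
  have hη : Set.range η ⊆ Set.range U.ι := by
    rintro _ ⟨x, rfl⟩
    rw [Scheme.Opens.range_ι]
    exact generic_mem πC ϖ hϖ c x
  let η' := IsOpenImmersion.lift U.ι η hη
  have hη' : η' ≫ U.ι = η := IsOpenImmersion.lift_fac _ _ _
  let i₁ : Spec (CommRingCat.of (FractionRing (C.presheaf.stalk c))) ⟶ Z :=
    η' ≫ inv (g ∣_ U) ≫ (g ⁻¹ᵁ U).ι
  have hi₁ : i₁ ≫ g = η := by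
    show (η' ≫ inv (g ∣_ U) ≫ (g ⁻¹ᵁ U).ι) ≫ g = η
    rw [Category.assoc, Category.assoc, ← morphismRestrict_ι, IsIso.inv_hom_id_assoc, hη']
  let S : ValuativeCommSq g :=
    { R := ↑(C.presheaf.stalk c)
      commRing := (C.presheaf.stalk c).commRing
      domain := hd
      valuationRing := hv
      K := FractionRing (C.presheaf.stalk c)
      field := inferInstance
      algebra := inferInstance
      isFractionRing := inferInstance
      i₁ := i₁
      i₂ := C.fromSpecStalk c
      commSq := ⟨hi₁⟩ }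
  have hex : (ValuativeCriterion.Existence ⊓ @QuasiCompact) g := by
    rw [← UniversallyClosed.eq_valuativeCriterion]
    infer_instance
  have hlift := hex.1 S
  obtain ⟨l⟩ := hlift.exists_lift
  exact ⟨l.l, l.fac_right⟩

end Groth.Agent.Lib.helper21.ModelIso
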