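import Mathlib
import Groth.Agent.Lib.Helper21.ModelIso2

/-!
# Models over a DVR, part 3: the base change to `Spec 𝒪_{C,c}` is trivial (helper21)

Given a section `σ : Spec 𝒪_{C,c} ⟶ Z` of `g` over `Spec 𝒪_{C,c}`, with `Z` flat over `R`,
`g` separated and an isomorphism over `D(ϖ)`:

* `isIso_σT`: the induced section of `Z ×_C Spec 𝒪_{C,c} ⟶ Spec 𝒪_{C,c}` is an isomorphism.
* `fibre_eq`: the fibre of `g` over `c` is the single point `σ(closed point)`.
* `fromSpecStalk_eq_of`: `Spec 𝒪_{Z,z} ⟶ Z` factors through `σ`.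
-/

set_option autoImplicit false
set_option linter.style.haveILetI false
set_option linter.unusedSectionVars false

universe u

open CategoryTheory CategoryTheory.Limits AlgebraicGeometry TopologicalSpace

namespace Groth.Agent.Lib.helper21.ModelIso

variable {R : Type u} [CommRing R] [IsDomain R] {C Z : Scheme.{u}}
  (πC : C ⟶ Spec (CommRingCat.of R)) (g : Z ⟶ C) [IsSeparated g] [Flat (g ≫ πC)] (ϖ : R)
  (c : C) (σ : Spec (C.presheaf.stalk c) ⟶ Z) (hσ : σ ≫ g = C.fromSpecStalk c)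

/-- the section of the base change -/
noncomputable def σT : Spec (C.presheaf.stalk c) ⟶ pullback g (C.fromSpecStalk c) :=
  pullback.lift σ (𝟙 _) (by rw [hσ, Category.id_comp])

theorem σT_snd : σT g c σ hσ ≫ pullback.snd g (C.fromSpecStalk c) = 𝟙 _ :=
  pullback.lift_snd _ _ _

theorem σT_fst : σT g c σ hσ ≫ pullback.fst g (C.fromSpecStalk c) = σ :=
  pullback.lift_fst _ _ _

include πC in
theorem isIso_σT (hϖ : ϖ ≠ 0)
    (hgen : IsIso (g ∣_ (πC ⁻¹ᵁ (PrimeSpectrum.basicOpen ϖ)))) : IsIso (σT g c σ hσ) := by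
  haveI := flat_fromSpecStalk c
  haveI : Flat (pullback.fst g (C.fromSpecStalk c) ≫ g ≫ πC) := inferInstance
  refine isIso_section_of_flat (pullback.fst g (C.fromSpecStalk c) ≫ g ≫ πC)
    (pullback.snd g (C.fromSpecStalk c)) (σT g c σ hσ) ϖ hϖ (σT_snd g c σ hσ) ?_
  set ι := ((pullback.fst g (C.fromSpecStalk c) ≫ g ≫ πC) ⁻¹ᵁ (PrimeSpectrum.basicOpen ϖ)).ι
    with hι
  apply pullback.hom_ext
  · rw [Category.assoc, Category.assoc, σT_fst]
    refine (eq_of_comp_eq_of_generic πC g ϖ hgen (ι ≫ pullback.fst g (C.fromSpecStalk c))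
      (ι ≫ pullback.snd g (C.fromSpecStalk c) ≫ σ) ?_ ?_).symm
    · rw [Category.assoc, Category.assoc, Category.assoc, hσ, pullback.condition]
    · intro w
      have hw : (ι ≫ pullback.fst g (C.fromSpecStalk c) ≫ g ≫ πC) w ∈
          (PrimeSpectrum.basicOpen ϖ : (Spec (CommRingCat.of R)).Opens) := w.2
      show πC (((ι ≫ pullback.fst g (C.fromSpecStalk c)) ≫ g) w) ∈
          (PrimeSpectrum.basicOpen ϖ : (Spec (CommRingCat.of R)).Opens)
      simp only [Scheme.Hom.comp_apply] at hw ⊢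
      exact hw
  · rw [Category.assoc, Category.assoc, σT_snd, Category.comp_id]

include πC in
theorem snd_σT (hϖ : ϖ ≠ 0)
    (hgen : IsIso (g ∣_ (πC ⁻¹ᵁ (PrimeSpectrum.basicOpen ϖ)))) :
    pullback.snd g (C.fromSpecStalk c) ≫ σT g c σ hσ = 𝟙 _ := by
  haveI := isIso_σT πC g ϖ c σ hσ hϖ hgen
  rw [← cancel_epi (σT g c σ hσ), ← Category.assoc, σT_snd, Category.id_comp, Category.comp_id]

include πC hσ in
theorem fibre_eq (hϖ : ϖ ≠ 0)
    (hgen : IsIso (g ∣_ (πC ⁻¹ᵁ (PrimeSpectrum.basicOpen ϖ)))) (z₂ : Z) (h : g z₂ = c) :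
    z₂ = σ (IsLocalRing.closedPoint (C.presheaf.stalk c)) := by
  obtain ⟨t, ht1, ht2⟩ := Scheme.Pullback.exists_preimage_pullback (f := g)
    (g := C.fromSpecStalk c) z₂ (IsLocalRing.closedPoint (C.presheaf.stalk c))
    (h.trans Scheme.fromSpecStalk_closedPoint.symm)
  have h1 : (pullback.snd g (C.fromSpecStalk c) ≫ σT g c σ hσ) t = t := by
    rw [snd_σT πC g ϖ c σ hσ hϖ hgen]
    rfl
  rw [Scheme.Hom.comp_apply, ht2] at h1
  rw [← ht1, ← h1, ← Scheme.Hom.comp_apply, σT_fst]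

include πC hσ in
theorem fromSpecStalk_eq_of (hϖ : ϖ ≠ 0)
    (hgen : IsIso (g ∣_ (πC ⁻¹ᵁ (PrimeSpectrum.basicOpen ϖ)))) (z : Z)
    (δ : Spec (Z.presheaf.stalk z) ⟶ Spec (C.presheaf.stalk c))
    (hδ : δ ≫ C.fromSpecStalk c = Z.fromSpecStalk z ≫ g) :
    Z.fromSpecStalk z = δ ≫ σ := by
  let l : Spec (Z.presheaf.stalk z) ⟶ pullback g (C.fromSpecStalk c) :=
    pullback.lift (Z.fromSpecStalk z) δ hδ.symm
  have h1 : l = δ ≫ σT g c σ hσ := by
    have : l = l ≫ pullback.snd g (C.fromSpecStalk c) ≫ σT g c σ hσ := by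
      rw [snd_σT πC g ϖ c σ hσ hϖ hgen, Category.comp_id]
    rw [this, ← Category.assoc, pullback.lift_snd]
  have h2 : l ≫ pullback.fst g (C.fromSpecStalk c) = Z.fromSpecStalk z := pullback.lift_fst _ _ _
  rw [← h2, h1, Category.assoc, σT_fst]

omit [IsSeparated g] in
theorem exists_δ (z : Z) (hz : g z = c) :
    ∃ δ : Spec (Z.presheaf.stalk z) ⟶ Spec (C.presheaf.stalk c),
      δ ≫ C.fromSpecStalk c = Z.fromSpecStalk z ≫ g := by
  have hs : g z ⤳ c := specializes_of_eq hz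
  refine ⟨Spec.map (C.presheaf.stalkSpecializes hs ≫ g.stalkMap z), ?_⟩
  rw [Spec.map_comp, Category.assoc, Scheme.SpecMap_stalkSpecializes_fromSpecStalk,
    Scheme.SpecMap_stalkMap_fromSpecStalk]

end Groth.Agent.Lib.helper21.ModelIso
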