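import Mathlib

/-!
# Spreading out a section to a local isomorphism (helper21)

* `isIso_morphismRestrict_of_section`: pure diagram lemma.
* `exists_isIso_morphismRestrict_of_section`: let `g : Z ⟶ C` be closed and locally of finite type
  with `Z`, `C` locally Noetherian, `c : C` and `σ : Spec 𝒪_{C,c} ⟶ Z` a lift of
  `Spec 𝒪_{C,c} ⟶ C` such that `σ(closed point)` is the only point over `c` and
  `Spec 𝒪_{Z,z} ⟶ Z` factors through `σ`. Then `g` is an isomorphism over a neighbourhood of `c`.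
-/

set_option autoImplicit false
set_option linter.style.haveILetI false
set_option linter.unusedSectionVars false

universe u

open CategoryTheory CategoryTheory.Limits AlgebraicGeometry TopologicalSpace

namespace Groth.Agent.Lib.helper21.ModelIso

variable {C Z : Scheme.{u}} (g : Z ⟶ C)

theorem isIso_morphismRestrict_of_section (U : C.Opens) (τ : U.toScheme ⟶ Z) (hτ : τ ≫ g = U.ι)
    (W₁ : (g ⁻¹ᵁ U).toScheme.Opens)
    (hW₁ : W₁.ι ≫ (g ⁻¹ᵁ U).ι = W₁.ι ≫ (g ∣_ U) ≫ τ) (V : C.Opens) (hVU : V ≤ U)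
    (hVW : g ⁻¹ᵁ V ≤ (g ⁻¹ᵁ U).ι ''ᵁ W₁) : IsIso (g ∣_ V) := by
  have hrange : Set.range (C.homOfLE hVU ≫ τ) ⊆ Set.range (g ⁻¹ᵁ V).ι := by
    rintro _ ⟨v, rfl⟩
    rw [Scheme.Opens.range_ι]
    show g ((C.homOfLE hVU ≫ τ) v) ∈ V
    rw [← Scheme.Hom.comp_apply, Category.assoc, hτ, Scheme.homOfLE_ι]
    exact v.2
  let inv' := IsOpenImmersion.lift (g ⁻¹ᵁ V).ι (C.homOfLE hVU ≫ τ) hrange
  have hinv' : inv' ≫ (g ⁻¹ᵁ V).ι = C.homOfLE hVU ≫ τ := IsOpenImmersion.lift_fac _ _ _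
  have hk : Set.range (g ⁻¹ᵁ V).ι ⊆ Set.range (W₁.ι ≫ (g ⁻¹ᵁ U).ι) := by
    rw [Scheme.Opens.range_ι]
    intro y hy
    obtain ⟨w, hw, rfl⟩ := hVW hy
    exact ⟨⟨w, hw⟩, rfl⟩
  let k := IsOpenImmersion.lift (W₁.ι ≫ (g ⁻¹ᵁ U).ι) (g ⁻¹ᵁ V).ι hk
  have hk' : k ≫ W₁.ι ≫ (g ⁻¹ᵁ U).ι = (g ⁻¹ᵁ V).ι := IsOpenImmersion.lift_fac _ _ _
  have h1 : k ≫ W₁.ι ≫ (g ∣_ U) = (g ∣_ V) ≫ C.homOfLE hVU := by
    rw [← cancel_mono U.ι]
    simp only [Category.assoc, morphismRestrict_ι, Scheme.homOfLE_ι]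
    rw [← hk']
    simp only [Category.assoc]
  refine ⟨inv', ?_, ?_⟩
  · rw [← cancel_mono (g ⁻¹ᵁ V).ι, Category.assoc, hinv', Category.id_comp, ← Category.assoc,
      ← h1, Category.assoc, Category.assoc, ← hW₁, hk']
  · rw [← cancel_mono V.ι, Category.assoc, morphismRestrict_ι, ← Category.assoc, hinv',
      Category.assoc, hτ, Scheme.homOfLE_ι, Category.id_comp]

theorem exists_isIso_morphismRestrict_of_section [IsLocallyNoetherian C] [IsLocallyNoetherian Z]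
    [LocallyOfFiniteType g] (hclosed : IsClosedMap g) (c : C)
    (σ : Spec (C.presheaf.stalk c) ⟶ Z) (hσ : σ ≫ g = C.fromSpecStalk c)
    (hfib : ∀ z₂ : Z, g z₂ = c → z₂ = σ (IsLocalRing.closedPoint (C.presheaf.stalk c)))
    (hfac : ∀ δ : Spec (Z.presheaf.stalk (σ (IsLocalRing.closedPoint (C.presheaf.stalk c)))) ⟶
        Spec (C.presheaf.stalk c),
      δ ≫ C.fromSpecStalk c =
        Z.fromSpecStalk (σ (IsLocalRing.closedPoint (C.presheaf.stalk c))) ≫ g →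
      Z.fromSpecStalk (σ (IsLocalRing.closedPoint (C.presheaf.stalk c))) = δ ≫ σ)
    (hδ : ∃ δ : Spec (Z.presheaf.stalk (σ (IsLocalRing.closedPoint (C.presheaf.stalk c)))) ⟶
        Spec (C.presheaf.stalk c),
      δ ≫ C.fromSpecStalk c =
        Z.fromSpecStalk (σ (IsLocalRing.closedPoint (C.presheaf.stalk c))) ≫ g) :
    ∃ V : C.Opens, c ∈ V ∧ IsIso (g ∣_ V) := by
  set z := σ (IsLocalRing.closedPoint (C.presheaf.stalk c)) with hz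
  have hgz : g z = c := by
    rw [hz, ← Scheme.Hom.comp_apply, hσ, Scheme.fromSpecStalk_closedPoint]
  -- spread out `σ`
  obtain ⟨U, hcU, τ, hτ1, hτ2⟩ := spread_out_of_isGermInjective' (𝟙 C) g (x := c) σ
    (by rw [hσ, Category.comp_id])
  rw [Category.comp_id] at hτ2
  have hzU : z ∈ g ⁻¹ᵁ U := by
    show g z ∈ U
    rw [hgz]
    exact hcU
  obtain ⟨δ, hδ1⟩ := hδ
  have hδ2 := hfac δ hδ1
  -- the two morphisms on `g⁻¹ U`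
  have hB : (g ⁻¹ᵁ U).fromSpecStalkOfMem z hzU ≫ (g ∣_ U) = δ ≫ U.fromSpecStalkOfMem c hcU := by
    rw [← cancel_mono U.ι, Category.assoc, Category.assoc, morphismRestrict_ι,
      Scheme.Opens.fromSpecStalkOfMem_ι_assoc, Scheme.Opens.fromSpecStalkOfMem_ι, hδ1]
  have hB' : (g ⁻¹ᵁ U).fromSpecStalkOfMem z hzU ≫ (g ⁻¹ᵁ U).ι =
      (g ⁻¹ᵁ U).fromSpecStalkOfMem z hzU ≫ (g ∣_ U) ≫ τ := by
    rw [Scheme.Opens.fromSpecStalkOfMem_ι, ← Category.assoc, hB, Category.assoc, ← hτ1, hδ2]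
  haveI : IsLocallyNoetherian (g ⁻¹ᵁ U).toScheme :=
    isLocallyNoetherian_of_isOpenImmersion (g ⁻¹ᵁ U).ι
  have he : (g ⁻¹ᵁ U).toScheme.fromSpecStalk ⟨z, hzU⟩ ≫ (g ⁻¹ᵁ U).ι =
      (g ⁻¹ᵁ U).toScheme.fromSpecStalk ⟨z, hzU⟩ ≫ (g ∣_ U) ≫ τ := by
    rw [← cancel_epi (Spec.map (inv ((g ⁻¹ᵁ U).ι.stalkMap ⟨z, hzU⟩)))]
    exact hB'
  haveI hgi : (g ⁻¹ᵁ U).toScheme.IsGermInjective := inferInstance
  haveI hgi' : (g ⁻¹ᵁ U).toScheme.IsGermInjectiveAt ⟨z, hzU⟩ := hgi _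
  obtain ⟨W₁, hzW₁, hW₁⟩ := @spread_out_unique_of_isGermInjective' (g ⁻¹ᵁ U).toScheme Z
    ⟨z, hzU⟩ hgi' (g ⁻¹ᵁ U).ι ((g ∣_ U) ≫ τ) he
  -- the open `V`
  set W : Z.Opens := (g ⁻¹ᵁ U).ι ''ᵁ W₁ with hW
  have hzW : z ∈ W := ⟨⟨z, hzU⟩, hzW₁, rfl⟩
  let Vc : C.Opens := ⟨(g '' ((W : Set Z)ᶜ))ᶜ, (hclosed _ W.2.isClosed_compl).isOpen_compl⟩
  refine ⟨U ⊓ Vc, ⟨hcU, ?_⟩, ?_⟩
  · rintro ⟨y, hy, hyc⟩
    have := hfib y hyc
    exact hy (this ▸ hzW)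
  · refine isIso_morphismRestrict_of_section g U τ hτ2 W₁ hW₁ (U ⊓ Vc) inf_le_left ?_
    intro y hy
    have hy2 : g y ∈ Vc := hy.2
    by_contra hyW
    exact hy2 ⟨y, hyW, rfl⟩

end Groth.Agent.Lib.helper21.ModelIso
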