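import Mathlib

/-!
# Monomorphisms into the spectrum of a field, and into disjoint unions of such (helper21)

`bijective_of_epi_field`: an epimorphism from a field to a nontrivial ring is bijective.
`isIso_of_mono_field`: a monomorphism `Z ⟶ Spec K` with `Z` nonempty is an isomorphism.
`exists_iso_sigma_of_mono`: a monomorphism into `∐ Spec kᵢ` is the inclusion of a sub-coproduct.
-/

set_option autoImplicit false

universe u

open CategoryTheory Limits AlgebraicGeometry TensorProduct

namespace Groth.Agent.Lib.helper21.MonoField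

theorem bijective_of_epi_field {K A : Type u} [Field K] [CommRing A] [Nontrivial A] [Algebra K A]
    [Algebra.IsEpi K A] : Function.Bijective (algebraMap K A) := by
  have e : A ⊗[K] A ≃ₗ[A] A := TensorProduct.lid' K A A
  have h1 : Module.rank A (A ⊗[K] A) = Module.rank K A := by
    rw [Module.rank_baseChange, Cardinal.lift_id]
  have h2 : Module.rank K A = 1 := by
    rw [← h1, e.rank_eq, Module.rank_self]
  haveI : Module.Finite K A := Module.finite_of_rank_eq_one h2
  exact ⟨(algebraMap K A).injective,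
    (Algebra.isEpi_iff_surjective_algebraMap_of_finite).mp inferInstance⟩

theorem isIso_of_mono_field {K : Type u} [Field K] {Z : Scheme.{u}}
    (g : Z ⟶ Spec (CommRingCat.of K)) [Mono g] [Nonempty Z] : IsIso g := by
  obtain ⟨z⟩ := ‹Nonempty Z›
  obtain ⟨U, hU, hzU, -⟩ := exists_isAffineOpen_mem_and_subset (x := z) (U := ⊤) trivial
  obtain ⟨φ, hφ'⟩ := Spec.map_surjective (hU.fromSpec ≫ g)
  have hφ : hU.fromSpec ≫ g = Spec.map φ := hφ'.symm
  haveI : Mono (hU.fromSpec ≫ g) := mono_comp _ _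
  haveI : Epi φ := by
    constructor
    intro T α β hαβ
    apply Spec.map_injective
    haveI : Mono (Spec.map φ) := hφ ▸ ‹Mono (hU.fromSpec ≫ g)›
    rw [← cancel_mono (Spec.map φ), ← Spec.map_comp, ← Spec.map_comp, hαβ]
  letI : Algebra K Γ(Z, U) := φ.hom.toAlgebra
  haveI : Algebra.IsEpi K Γ(Z, U) := (CommRingCat.epi_iff_epi (R := K) (S := Γ(Z, U))).mp ‹Epi φ›
  haveI : Nontrivial Γ(Z, U) := by
    haveI : Nonempty U := ⟨⟨z, hzU⟩⟩
    exact (Scheme.component_nontrivial Z U)
  have hbij : Function.Bijective φ.hom := bijective_of_epi_field (K := K) (A := Γ(Z, U))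
  haveI : IsIso φ := by
    rw [ConcreteCategory.isIso_iff_bijective]
    exact hbij
  haveI : IsIso (hU.fromSpec ≫ g) := by rw [hφ]; infer_instance
  -- a section of `g`
  let s := inv (hU.fromSpec ≫ g) ≫ hU.fromSpec
  have hs : s ≫ g = 𝟙 _ := by simp [s]
  have hs' : g ≫ s = 𝟙 _ := by
    rw [← cancel_mono g, Category.assoc, hs, Category.comp_id, Category.id_comp]
  exact ⟨s, hs', hs⟩

open scoped Function in
theorem exists_iso_sigma_of_mono {ι : Type u} (k : ι → Type u) [∀ i, Field (k i)] {Y : Scheme.{u}}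
    (f : Y ⟶ ∐ fun i => Spec (CommRingCat.of (k i))) [Mono f] :
    ∃ (J : Set ι) (e : Y ≅ ∐ fun j : J => Spec (CommRingCat.of (k j.1))),
      e.hom ≫ Sigma.desc (fun j : J => Sigma.ι (fun i => Spec (CommRingCat.of (k i))) j.1) = f := by
  let g : ι → Scheme.{u} := fun i => Spec (CommRingCat.of (k i))
  let J : Set ι := {i | Nonempty ↥(pullback f (Sigma.ι g i))}
  haveI hne : ∀ j : J, Nonempty ↥(pullback f (Sigma.ι g j.1)) := fun j => j.2
  haveI hiso : ∀ j : J, IsIso (pullback.snd f (Sigma.ι g j.1)) := fun j =>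
    isIso_of_mono_field (K := k j.1) (pullback.snd f (Sigma.ι g j.1))
  let α : ∀ j : J, g j.1 ⟶ Y := fun j =>
    inv (pullback.snd f (Sigma.ι g j.1)) ≫ pullback.fst f (Sigma.ι g j.1)
  haveI : ∀ j : J, IsOpenImmersion (α j) := fun j => by
    dsimp only [α]; infer_instance
  have hrange : ∀ j : J, Set.range (α j) ⊆ f ⁻¹' Set.range (Sigma.ι g j.1) := by
    intro j
    rintro _ ⟨x, rfl⟩
    have h1 : (α j) x ∈ Set.range (pullback.fst f (Sigma.ι g j.1)) := by
      dsimp only [α]
      rw [Scheme.Hom.comp_apply]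
      exact ⟨_, rfl⟩
    rwa [Scheme.Pullback.range_fst] at h1
  have hdisj : Pairwise (Disjoint on (Set.range <| α ·)) := by
    intro j j' hjj'
    have hne' : j.1 ≠ j'.1 := fun h => hjj' (Subtype.ext h)
    have hd := disjoint_opensRange_sigmaι g j.1 j'.1 hne'
    rw [Function.onFun, Set.disjoint_iff_forall_ne]
    rintro y hy y' hy' rfl
    have h1 := hrange j hy
    have h2 := hrange j' hy'
    have : f y ∈ ((Sigma.ι g j.1).opensRange ⊓ (Sigma.ι g j'.1).opensRange : (∐ g).Opens) :=
      ⟨h1, h2⟩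
    rw [disjoint_iff.mp hd] at this
    exact this
  haveI : IsOpenImmersion (Sigma.desc α) := isOpenImmersion_sigmaDesc (fun j : J => g j.1) α hdisj
  have hsurj : (Sigma.desc α).opensRange = ⊤ := by
    rw [eq_top_iff]
    rintro y -
    obtain ⟨i, x, hx⟩ : ∃ (i : ι) (x : g i), (Sigma.ι g i) x = f y := by
      obtain ⟨x, hx⟩ := (sigmaOpenCover g).covers (f y)
      exact ⟨(sigmaOpenCover g).idx (f y), x, hx⟩
    have h1 : y ∈ Set.range (pullback.fst f (Sigma.ι g i)) := by
      rw [Scheme.Pullback.range_fst]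
      exact ⟨x, hx⟩
    obtain ⟨w, hw⟩ := h1
    have hiJ : i ∈ J := ⟨w⟩
    refine ⟨(Sigma.ι (fun j : J => g j.1) ⟨i, hiJ⟩) ((pullback.snd f (Sigma.ι g i)) w), ?_⟩
    rw [← Scheme.Hom.comp_apply, Sigma.ι_desc]
    dsimp only [α]
    rw [← Scheme.Hom.comp_apply, ← Category.assoc, IsIso.hom_inv_id, Category.id_comp]
    exact hw
  haveI : IsIso (Sigma.desc α) := isIso_of_isOpenImmersion_of_opensRange_eq_top _ hsurj
  refine ⟨J, (asIso (Sigma.desc α)).symm, ?_⟩
  show inv (Sigma.desc α) ≫ _ = f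
  rw [IsIso.inv_comp_eq]
  apply Sigma.hom_ext
  intro j
  rw [Sigma.ι_desc, ← Category.assoc, Sigma.ι_desc]
  dsimp only [α]
  rw [Category.assoc, pullback.condition, ← Category.assoc, IsIso.inv_hom_id, Category.id_comp]

end Groth.Agent.Lib.helper21.MonoField
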