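import Mathlib
import Groth.Agent.Lib.Helper11.AmpleVan
import Groth.Agent.Lib.Helper11.AmpleAffine
import Groth.Agent.Lib.Helper20.CMVanish
import Groth.Agent.Lib.Helper20.StalkCritProof
import Groth.Agent.Lib.Helper20.TwistEquivPn
import Groth.Agent.Lib.Helper25.StalkTensorBi

/-!
# Vanishing of `H^j(X, F ⊗ L^{-m})`, `m ≫ 0`, for an ample `L` on a proper scheme over a field, in
terms of the depth of `F` at closed points (helper21)

(Enriques–Severi–Zariski–Serre; reduces to helper20's `exists_forall_subsingleton_HH_iff_depth` on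
a closed subscheme of `P^N_k` through an immersion given by a power of `L`.)
-/

set_option autoImplicit false
universe u

open CategoryTheory CategoryTheory.Limits AlgebraicGeometry Opposite TopologicalSpace

namespace Groth.Agent.Lib.helper21.NegTwist

open Groth.Agent.Lib.helper11.PnImm Groth.Agent.Lib.Lead.ModTensor
open Groth.Agent.Lib.helper28 Groth.Agent.Lib.helper12.PullAmple
open Groth.Agent.Lib.helper12.PullTensor
open Scheme.Modules

variable {R : Type u} [CommRing R] {X : Scheme.{u}}

/-- `r^*O(-d)` is inverse to `r^*O(d)` -/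
theorem isInverseOf_pullback_twist {N : ℕ} (r : X ⟶ CohB1.ProjSpace N R) (d : ℤ) :
    ClSub.IsInverseOf ((Scheme.Modules.pullback r).obj (Twist.twistProjSpace N R d))
      ((Scheme.Modules.pullback r).obj (Twist.twistProjSpace N R (-d))) :=
  ⟨(pullTensorIso r (Twist.twistProjSpace N R d) (Twist.twistProjSpace N R (-d))
      (TwistPn.isInvertible N R (-d))).symm ≪≫
    (Scheme.Modules.pullback r).mapIso (Groth.Agent.Lib.Helper20.TwistEquivPn.invIso N R d) ≪≫
    Groth.Agent.Lib.helper11.InvMod.pullbackUnitIso r⟩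

/-- `(F ⊗ M^{⊗ j}) ⊗ r^*O(-d) ≅ F ⊗ M^{⊗ (j + m d)}` when `L^{⊗ m} ≅ r^*O(1)` and `M` is inverse to
`L` -/
theorem nonempty_negTwistIso {N : ℕ} (r : X ⟶ CohB1.ProjSpace N R) {L M : X.Modules}
    (hM : ClSub.IsInverseOf L M) (m : ℕ)
    (τ : CohB1.tensorPow L m ≅ (Scheme.Modules.pullback r).obj (Twist.twistProjSpace N R 1))
    (F : X.Modules) (j d : ℕ) :
    Nonempty (CohB1.tensorMod (CohB1.tensorMod F (CohB1.tensorPow M j))
        ((Scheme.Modules.pullback r).obj (Twist.twistProjSpace N R (-(d : ℤ)))) ≅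
      CohB1.tensorMod F (CohB1.tensorPow M (j + m * d))) := by
  have hO1 : PicF.IsInvertible (Twist.twistProjSpace N R 1) := TwistPn.isInvertible N R 1
  let e1 : (Scheme.Modules.pullback r).obj (Twist.twistProjSpace N R (d : ℤ)) ≅
      CohB1.tensorPow L (m * d) :=
    (Scheme.Modules.pullback r).mapIso (TwistPn.powIso N R d) ≪≫ pullTensorPowIso r hO1 d ≪≫
      (tensorPowIso τ d).symm ≪≫ tensorPowMul L m d
  have hinv1 := isInverseOf_of_iso e1 (Iso.refl _) (isInverseOf_pullback_twist r (d : ℤ))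
  have hinv2 := isInverseOf_tensorPow hM (m * d)
  obtain ⟨e2⟩ := isInverseOf_unique hinv1 hinv2
  exact ⟨tensorIso (Iso.refl _) e2 ≪≫ assoc F _ _ ≪≫
    tensorIso (Iso.refl F) (tensorPowAdd M j (m * d))⟩

/-- tensoring with an invertible module does not change the depth of the stalks -/
theorem depth_stalk_tensor_invertible (F L : X.Modules) (hL : PicF.IsInvertible L) (x : X) :
    LocCoh.depth (X.presheaf.stalk x) ((CohB1.tensorMod F L).presheaf.stalk x) =
      LocCoh.depth (X.presheaf.stalk x) (F.presheaf.stalk x) := by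
  obtain ⟨eL⟩ := Groth.Agent.Lib.Helper20.LargeTwist.nonempty_stalk_linearEquiv L hL x
  have e1 : (CohB1.tensorMod F L).presheaf.stalk x ≃ₗ[X.presheaf.stalk x]
      TensorProduct (X.presheaf.stalk x) (F.presheaf.stalk x) (L.presheaf.stalk x) :=
    (Groth.Agent.Lib.Helper25.StalkPre.tensorBiStalkIso x F L).toLinearEquiv
  have e2 : TensorProduct (X.presheaf.stalk x) (F.presheaf.stalk x) (L.presheaf.stalk x)
      ≃ₗ[X.presheaf.stalk x] F.presheaf.stalk x :=
    (TensorProduct.congr (LinearEquiv.refl _ _) eL).trans (TensorProduct.rid _ _)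
  exact Groth.Agent.Lib.helper26.Depth.idealDepth_congr (e1.trans e2)

end Groth.Agent.Lib.helper21.NegTwist
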