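import Mathlib
import Groth.Agent.Lib.Helper21.NegTwist
import Groth.Agent.Lib.Helper11.SerreGG
import Groth.Agent.Lib.Helper12.TensorInv

/-!
# Vanishing of `H^j(X, F ⊗ L^{-n})`, `n ≫ 0`, `j < depth`, for an ample `L` on a proper scheme over a
field (helper21)
-/

set_option autoImplicit false
universe u

open CategoryTheory CategoryTheory.Limits AlgebraicGeometry Opposite TopologicalSpace

namespace Groth.Agent.Lib.helper21.NegTwist

open Groth.Agent.Lib.helper11.PnImm Groth.Agent.Lib.Lead.ModTensor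
open Scheme.Modules

variable {k : Type u} [Field k] {X : Scheme.{u}}

/-- **Enriques–Severi–Zariski–Serre for an ample module**: if `depth F_x > n'` at all closed points
then `H^j(X, F ⊗ M^{⊗ n}) = 0` for `j ≤ n'`, `n ≫ 0`, where `M` is inverse to the ample `L`. -/
theorem exists_forall_subsingleton_HH_negTwist (q : X ⟶ Spec (CommRingCat.of k)) [IsProper q]
    {L M : X.Modules} (hL : CohB1.IsAmple L) (hM : ClSub.IsInverseOf L M)
    (F : X.Modules) (hF : Coh.IsCoh F) (n' : ℕ)
    (hdepth : ∀ x : X, IsClosed ({x} : Set X) →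
      (n' : ℕ∞) < LocCoh.depth (X.presheaf.stalk x) (F.presheaf.stalk x)) :
    ∃ n₀ : ℕ, ∀ n : ℕ, n₀ ≤ n → ∀ j : ℕ, j ≤ n' →
      Subsingleton (Coh.HH X (CohB1.tensorMod F (CohB1.tensorPow M n)) j) := by
  classical
  have hLi : PicF.IsInvertible L := hL.1
  have hMi : PicF.IsInvertible M :=
    Groth.Agent.Lib.helper11.AmpleAffine.isInvertible_of_isInverseOf hLi hM
  obtain ⟨m₀, hm₀⟩ := isVeryAmpleProj_tensorPow_eventually q hL
  let m := m₀ + 1
  have hm : 0 < m := Nat.succ_pos _
  obtain ⟨N, r, hr, -, ⟨τ⟩⟩ := (hm₀ m (Nat.le_succ _)).exists_closedImmersion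
  have hvan := fun j : ℕ =>
    (Groth.Agent.Lib.Helper20.LargeTwist.exists_forall_subsingleton_HH_iff_depth (i := r)
      (Groth.Agent.Lib.Helper20.LargeTwist.stalkCritAll k N)
      (CohB1.tensorMod F (CohB1.tensorPow M j))
      (Groth.Agent.Lib.helper11.SerreGG.isCoh_twist hMi hF j) n').mpr (fun x hx => by
        rw [depth_stalk_tensor_invertible F _
          (Groth.Agent.Lib.helper12.TensorInv.isInvertible_tensorPow hMi j) x]
        exact hdepth x hx)
  choose d₀ hd₀ using hvan
  let D : ℕ := (Finset.range m).sup d₀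
  refine ⟨m * D, fun n hn p hp => ?_⟩
  let d := n / m
  let j := n % m
  have hjm : j < m := Nat.mod_lt _ hm
  have hn' : j + m * d = n := Nat.mod_add_div n m
  have hDd : D ≤ d := by
    rw [Nat.le_div_iff_mul_le hm, mul_comm]
    exact hn
  have hdj : d₀ j ≤ d :=
    (Finset.le_sup (f := d₀) (Finset.mem_range.mpr hjm)).trans hDd
  have h0 := hd₀ j d hdj p hp
  obtain ⟨e⟩ := nonempty_negTwistIso r hM m τ F j d
  rw [← hn']
  exact Groth.Agent.Lib.Helper20.TwistEquivPn.subsingleton_of_iso e p h0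

end Groth.Agent.Lib.helper21.NegTwist
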