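import Groth.Agent.Lib.Helper21.NonAb

/-!
Helper library (helper21), part 2: construction of the fibre of `π : G ⟶ Q` over a global section.
-/

set_option autoImplicit false
universe w v u
open CategoryTheory Opposite NonAbH1 NonAbH1.GSheaf

namespace Groth.Agent.Lib.Helper21.NonAb

variable {C : Type u} [Category.{v} C] {J : GrothendieckTopology C}

section construct

variable [J.HasSheafCompose (forget GrpCat.{w})] {F G : Sheaf J GrpCat.{w}} (u : F ⟶ G)
  {Q : GSheaf G} (π : trivial G ⟶ Q) (hQ : IsQuotientBy u π)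
  (c : Q.P.obj.sections)

/-- the presheaf of liftings of `c` -/
def fibPsh : Cᵒᵖ ⥤ Type w where
  obj U := {g : G.obj.obj U // π.hom.hom.app U (ofGrp g) = c.1 U}
  map {U V} f := ↾(fun g => ⟨G.obj.map f g.1, by rw [π_nat, g.2]; exact c.2 f⟩)
  map_id U := by
    ext g : 3
    apply Subtype.ext
    change G.obj.map (𝟙 U) g.1 = g.1
    rw [CategoryTheory.Functor.map_id]
    rfl
  map_comp f h := by
    ext g : 3
    apply Subtype.ext
    change G.obj.map (f ≫ h) g.1 = G.obj.map h (G.obj.map f g.1)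
    rw [CategoryTheory.Functor.map_comp]
    rfl

theorem fibPsh_isSheaf : Presheaf.IsSheaf J (fibPsh π c) := by
  rw [isSheaf_iff_isSheaf_of_type]
  intro X S hS
  rw [← Presieve.isSeparatedFor_and_exists_isAmalgamation_iff_isSheafFor]
  constructor
  · intro x t t' ht ht'
    apply Subtype.ext
    apply sh_sep (uSh G) S hS
    intro T φ hφ
    exact congrArg Subtype.val ((ht φ hφ).trans (ht' φ hφ).symm)
  · intro x hx
    rw [Presieve.compatible_iff_sieveCompatible] at hx
    obtain ⟨g, hg⟩ := sh_glue (uSh G) S hS (fun T φ hφ => ofGrp (x φ hφ).1) (by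
      intro T T' φ ψ hφ
      exact (congrArg Subtype.val (hx φ ψ hφ)).symm)
    have hmem : π.hom.hom.app (op X) (ofGrp (toGrp g)) = c.1 (op X) := by
      apply sh_sep Q.P S hS
      intro T φ hφ
      have h1 : G.obj.map φ.op (toGrp g) = (x φ hφ).1 := hg φ hφ
      rw [← π_nat, h1, (x φ hφ).2]
      exact (c.2 φ.op).symm
    refine ⟨⟨toGrp g, hmem⟩, ?_⟩
    intro Y f hf
    apply Subtype.ext
    exact hg f hf

include hQ in
theorem fib_smul_mem {U : Cᵒᵖ} (f : F.obj.obj U) (g : G.obj.obj U)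
    (hg : π.hom.hom.app U (ofGrp g) = c.1 U) :
    π.hom.hom.app U (ofGrp (g * (u.hom.app U f)⁻¹)) = c.1 U := by
  rw [← hg]
  symm
  apply (hQ.1 U _ _).mpr
  exact ⟨f⁻¹, by rw [map_inv]⟩

/-- the `F`-sheaf of liftings of `c` -/
def fib : GSheaf F where
  P := ⟨fibPsh π c, fibPsh_isSheaf π c⟩
  smul {U} f g := ⟨g.1 * (u.hom.app U f)⁻¹, fib_smul_mem u π hQ c f g.1 g.2⟩
  one_smul {U} g := by
    apply Subtype.ext
    change g.1 * (u.hom.app U 1)⁻¹ = g.1
    rw [map_one, inv_one, mul_one]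
  mul_smul {U} f h g := by
    apply Subtype.ext
    change g.1 * (u.hom.app U (f * h))⁻¹ = g.1 * (u.hom.app U h)⁻¹ * (u.hom.app U f)⁻¹
    rw [map_mul, mul_inv_rev, mul_assoc]
  map_smul {U V} k f g := by
    apply Subtype.ext
    change G.obj.map k (g.1 * (u.hom.app U f)⁻¹) =
      G.obj.map k g.1 * (u.hom.app V (F.obj.map k f))⁻¹
    rw [G_map_mul, G_map_inv, u_nat]

theorem fib_isFibreOver : IsFibreOver u π c (fib u π hQ c) := by
  refine ⟨ObjectProperty.homMk { app := fun U => ↾(fun g => ofGrp g.1), naturality := ?_ }, ?_, ?_, ?_⟩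
  · intro U V f
    rfl
  · intro U a b h
    exact Subtype.ext h
  · intro U g
    constructor
    · rintro ⟨t, rfl⟩
      exact t.2
    · intro h
      exact ⟨⟨g, h⟩, rfl⟩
  · intro U f t
    rfl

end construct

end Groth.Agent.Lib.Helper21.NonAb
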