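import Groth.Agent.Lib.Helper21.NonAb2

/-!
Helper library (helper21), part 3: the trivial torsor as the fibre over the base point.
-/

set_option autoImplicit false
universe w v u
open CategoryTheory Opposite NonAbH1 NonAbH1.GSheaf

namespace Groth.Agent.Lib.Helper21.NonAb

variable {C : Type u} [Category.{v} C] {J : GrothendieckTopology C}

section base

variable [J.HasSheafCompose (forget GrpCat.{w})] {F G : Sheaf J GrpCat.{w}} (u : F ⟶ G)
  (hu : ∀ U : Cᵒᵖ, Function.Injective (u.hom.app U))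
  {Q : GSheaf G} (π : trivial G ⟶ Q) (hQ : IsQuotientBy u π)

/-- the image under `π` of a global section of `G`. -/
def πsec (g : (uSh G).obj.sections) : Q.P.obj.sections :=
  ⟨fun U => π.hom.hom.app U (g.1 U), by
    intro U V f
    have h1 : Q.P.obj.map f (π.hom.hom.app U (g.1 U)) =
        π.hom.hom.app V ((uSh G).obj.map f (g.1 U)) :=
      (NatTrans.naturality_apply π.hom.hom f (g.1 U)).symm
    rw [h1, g.2 f]⟩

/-- the unit global section -/
def oneSec : (uSh G).obj.sections :=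
  ⟨fun U => (1 : G.obj.obj U), by
    intro U V f
    change G.obj.map f 1 = 1
    exact map_one _⟩

include hu hQ in
theorem trivial_isFibreOver : IsFibreOver u π (πsec π oneSec) (trivial F) := by
  refine ⟨ObjectProperty.homMk
    { app := fun U => ↾(fun f => ofGrp (u.hom.app U (toGrp f))⁻¹), naturality := ?_ }, ?_, ?_, ?_⟩
  · intro U V k
    ext f
    change (u.hom.app V (F.obj.map k (toGrp f)))⁻¹ = G.obj.map k (u.hom.app U (toGrp f))⁻¹
    rw [u_nat, G_map_inv]
  · intro U a b h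
    have h1 : (u.hom.app U (toGrp a))⁻¹ = (u.hom.app U (toGrp b))⁻¹ := h
    exact hu U (inv_injective h1)
  · intro U g
    constructor
    · rintro ⟨t, rfl⟩
      symm
      apply (hQ.1 U _ _).mpr
      refine ⟨(toGrp t)⁻¹, ?_⟩
      change (u.hom.app U (toGrp t))⁻¹ = 1 * u.hom.app U (toGrp t)⁻¹
      rw [one_mul, map_inv]
    · intro h
      obtain ⟨f, hf⟩ := (hQ.1 U _ _).mp h.symm
      refine ⟨ofGrp f⁻¹, ?_⟩
      change (u.hom.app U f⁻¹)⁻¹ = g
      have hf' : g = 1 * u.hom.app U f := hf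
      rw [hf', one_mul, map_inv, inv_inv]
  · intro U f t
    change (u.hom.app U (f * toGrp t))⁻¹ = (u.hom.app U (toGrp t))⁻¹ * (u.hom.app U f)⁻¹
    rw [map_mul, mul_inv_rev]

include hu hQ in
/-- the fibre over `c` is trivial iff `c` lifts to a global section of `G`. -/
theorem iso_trivial_iff (c : Q.P.obj.sections) {T : GSheaf F} (hT : IsFibreOver u π c T) :
    Nonempty (T ≅ trivial F) ↔
      ∃ g : (uSh G).obj.sections, ∀ U : Cᵒᵖ, π.hom.hom.app U (g.1 U) = c.1 U := by
  have h0 := trivial_isFibreOver u hu π hQ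
  constructor
  · rintro ⟨e⟩
    obtain ⟨g, hg⟩ := translate_of_hom u hu π hQ hT h0 e.hom
    refine ⟨⟨fun U => ofGrp (toGrp (g.1 U))⁻¹, ?_⟩, ?_⟩
    · intro U V f
      change G.obj.map f (toGrp (g.1 U))⁻¹ = (toGrp (g.1 V))⁻¹
      rw [G_map_inv]
      congr 1
      exact g.2 f
    · intro U
      have h1 : Q.smul (toGrp (g.1 U)) (c.1 U) = π.hom.hom.app U (ofGrp (1 : G.obj.obj U)) := hg U
      have h2 : c.1 U = Q.smul (toGrp (g.1 U))⁻¹ (π.hom.hom.app U (ofGrp (1 : G.obj.obj U))) := by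
        rw [← h1, ← Q.mul_smul, inv_mul_cancel, Q.one_smul]
      rw [h2, ← π_smul, mul_one]
  · rintro ⟨g, hg⟩
    refine iso_of_translate u π hT h0 ⟨fun U => ofGrp (toGrp (g.1 U))⁻¹, ?_⟩ ?_
    · intro U V f
      change G.obj.map f (toGrp (g.1 U))⁻¹ = (toGrp (g.1 V))⁻¹
      rw [G_map_inv]
      congr 1
      exact g.2 f
    · intro U
      change Q.smul (toGrp (g.1 U))⁻¹ (c.1 U) = π.hom.hom.app U (ofGrp (1 : G.obj.obj U))
      rw [← hg U]
      change Q.smul (toGrp (g.1 U))⁻¹ (π.hom.hom.app U (ofGrp (toGrp (g.1 U)))) = _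
      rw [← π_smul, inv_mul_cancel]

end base

section cl

variable [J.HasSheafCompose (forget GrpCat.{w})] {F : Sheaf J GrpCat.{w}}

theorem cl_eq_iff (T T' : NonAbH1.Torsor F) :
    T.cl = T'.cl ↔ Nonempty (T.toGSheaf ≅ T'.toGSheaf) := by
  constructor
  · intro h
    have h1 : Relation.EqvGen (fun P Q : NonAbH1.Torsor F => Nonempty (P.toGSheaf ≅ Q.toGSheaf))
      T T' := Quot.eqvGen_exact h
    clear h
    induction h1 with
    | rel _ _ h => exact h
    | refl _ => exact ⟨Iso.refl _⟩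
    | symm _ _ _ ih => exact ⟨ih.some.symm⟩
    | trans _ _ _ _ _ ih1 ih2 => exact ⟨ih1.some ≪≫ ih2.some⟩
  · intro h
    exact Quot.sound h

theorem cl_eq_one_iff (T : NonAbH1.Torsor F) :
    T.cl = 1 ↔ Nonempty (T.toGSheaf ≅ trivial F) :=
  cl_eq_iff T (trivialTorsor F)

end cl

end Groth.Agent.Lib.Helper21.NonAb
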