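import Groth.Agent.Lib.Helper21.NonAb3

/-!
Helper library (helper21), part 4: exactness at `H¹(F)`.
-/

set_option autoImplicit false
universe w v u
open CategoryTheory Opposite NonAbH1 NonAbH1.GSheaf

namespace Groth.Agent.Lib.Helper21.NonAb

variable {C : Type u} [Category.{v} C] {J : GrothendieckTopology C}

section exactH1

variable [J.HasSheafCompose (forget GrpCat.{w})] {F G : Sheaf J GrpCat.{w}} (u : F ⟶ G)
  (hu : ∀ U : Cᵒᵖ, Function.Injective (u.hom.app U))
  {Q : GSheaf G} (π : trivial G ⟶ Q) (hQ : IsQuotientBy u π)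
  {T : GSheaf F}

theorem pushforward_of_fibre (c : Q.P.obj.sections) (hT : IsFibreOver u π c T) :
    IsPushforwardAlong u T (trivial G) := by
  obtain ⟨ι, hinj, hmem, heq⟩ := hT
  refine ⟨ObjectProperty.homMk
    { app := fun U => ↾(fun t => ofGrp (toGrp (ι.hom.app U t))⁻¹), naturality := ?_ }, ?_⟩
  · intro U V k
    ext t
    change (toGrp (ι.hom.app V (T.P.obj.map k t)))⁻¹ = G.obj.map k (toGrp (ι.hom.app U t))⁻¹
    rw [ι_nat, G_map_inv]
  · intro U f t
    change (toGrp (ι.hom.app U (T.smul f t)))⁻¹ = u.hom.app U f * (toGrp (ι.hom.app U t))⁻¹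
    rw [heq, mul_inv_rev, inv_inv]

include hu hQ in
theorem fibre_of_pushforward (hT : T.IsTorsor) (h : IsPushforwardAlong u T (trivial G)) :
    ∃ c : Q.P.obj.sections, IsFibreOver u π c T := by
  obtain ⟨k, hk⟩ := h
  have hk' : ∀ (U : Cᵒᵖ) (f : F.obj.obj U) (t : T.P.obj.obj U),
      toGrp (k.hom.app U (T.smul f t)) = u.hom.app U f * toGrp (k.hom.app U t) := hk
  have knat : ∀ {U V : Cᵒᵖ} (f : U ⟶ V) (t : T.P.obj.obj U),
      toGrp (k.hom.app V (T.P.obj.map f t)) = G.obj.map f (toGrp (k.hom.app U t)) :=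
    fun f t => NatTrans.naturality_apply k.hom f t
  -- the map ι = k⁻¹
  let ι : T.P ⟶ uSh G := ObjectProperty.homMk
    { app := fun U => ↾(fun t => ofGrp (toGrp (k.hom.app U t))⁻¹)
      naturality := by
        intro U V f
        ext t
        change (toGrp (k.hom.app V (T.P.obj.map f t)))⁻¹ = G.obj.map f (toGrp (k.hom.app U t))⁻¹
        rw [knat, G_map_inv] }
  have hι : ∀ (U : Cᵒᵖ) (t : T.P.obj.obj U),
      toGrp (ι.hom.app U t) = (toGrp (k.hom.app U t))⁻¹ := fun U t => rfl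
  have heq : ∀ (U : Cᵒᵖ) (f : F.obj.obj U) (t : T.P.obj.obj U),
      toGrp (ι.hom.app U (T.smul f t)) = toGrp (ι.hom.app U t) * (u.hom.app U f)⁻¹ := by
    intro U f t
    rw [hι, hι, hk', mul_inv_rev]
  have hinj : ∀ U : Cᵒᵖ, Function.Injective (ι.hom.app U) := by
    intro U t t' htt
    obtain ⟨f, hf, _⟩ := hT.1 U t t'
    have h1 : toGrp (ι.hom.app U t) = toGrp (ι.hom.app U t') := htt
    rw [← hf, heq] at h1
    have h2 : (u.hom.app U f)⁻¹ = 1 := by
      have := mul_left_cancel (a := toGrp (ι.hom.app U t)) (b := 1)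
        (c := (u.hom.app U f)⁻¹) (by rw [mul_one]; exact h1)
      exact this.symm
    have h3 : u.hom.app U f = u.hom.app U 1 := by
      rw [map_one]
      exact inv_eq_one.mp h2
    have h4 := hu U h3
    rw [← hf, h4, T.one_smul]
  have hπindep : ∀ (U : Cᵒᵖ) (t t' : T.P.obj.obj U),
      π.hom.hom.app U (ofGrp (toGrp (ι.hom.app U t))) =
        π.hom.hom.app U (ofGrp (toGrp (ι.hom.app U t'))) := by
    intro U t t'
    obtain ⟨f, hf, _⟩ := hT.1 U t t'
    apply (hQ.1 U _ _).mpr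
    refine ⟨f⁻¹, ?_⟩
    rw [← hf, heq, map_inv]
  obtain ⟨c, hc⟩ := sections_glue Q.P (fun V => Nonempty (T.P.obj.obj (op V)))
    (fun V V' ψ ⟨t⟩ => ⟨T.P.obj.map ψ.op t⟩) hT.2
    (fun V z => ∃ t : T.P.obj.obj (op V),
      z = π.hom.hom.app (op V) (ofGrp (toGrp (ι.hom.app (op V) t))))
    (fun V ⟨t⟩ => ⟨_, t, rfl⟩)
    (by
      rintro V z z' ⟨t, rfl⟩ ⟨t', rfl⟩
      exact hπindep _ t t')
    (by
      rintro V V' ψ z ⟨t, rfl⟩
      refine ⟨T.P.obj.map ψ.op t, ?_⟩
      rw [ι_nat, π_nat])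
  refine ⟨c, ι, hinj, ?_, heq⟩
  intro U g
  constructor
  · rintro ⟨t, rfl⟩
    obtain ⟨t₀, ht₀⟩ := hc (V := U.unop) ⟨t⟩
    exact (hπindep U t t₀).trans ht₀.symm
  · intro hg
    obtain ⟨S, hS, hSg⟩ := hT.2 U.unop
    obtain ⟨t, ht⟩ := sh_glue' T.P S hS
      (fun V a t' => toGrp (ι.hom.app (op V) t') = G.obj.map a.op g)
      (by
        intro V a ha
        obtain ⟨t₀, ht₀⟩ := hc (hSg a ha)
        have h1 : π.hom.hom.app (op V) (ofGrp (G.obj.map a.op g)) =
            π.hom.hom.app (op V) (ofGrp (toGrp (ι.hom.app (op V) t₀))) := by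
          rw [π_nat, hg, ← ht₀]
          exact c.2 a.op
        obtain ⟨f, hf⟩ := (hQ.1 (op V) _ _).mp h1.symm
        refine ⟨T.smul f⁻¹ t₀, ?_⟩
        rw [heq, map_inv, inv_inv, hf])
      (by
        intro V a z z' hz hz'
        exact hinj (op V) (hz.trans hz'.symm))
      (by
        intro V V' a ψ z hz
        change toGrp (ι.hom.app (op V') (T.P.obj.map ψ.op z)) = G.obj.map (ψ ≫ a).op g
        rw [ι_nat, hz]
        exact sh_map_comp (uSh G) a ψ (ofGrp g))
    refine ⟨t, ?_⟩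
    apply sh_sep (uSh G) S hS
    intro V a ha
    have := ht a ha
    rw [ι_nat] at this
    exact this

end exactH1

end Groth.Agent.Lib.Helper21.NonAb
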