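import Mathlib

/-!
# Locally constant functions near a unibranch point

* `exists_specializes_of_mem_closure_image`: for a quasi-compact morphism `q : T ⟶ Y` and a clopen
  subset `Z` of `T`, every point of the closure of `q(Z)` is a specialization of a point of `q(Z)`.
* `exists_nhds_const`: if moreover `q` is a topological embedding whose range is stable under
  generization, and the local ring of `Y` at `v` is a domain, then every locally constant function
  on `T` is constant on `q⁻¹(N)` for some open neighbourhood `N` of `v`.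
-/

set_option autoImplicit false

open CategoryTheory AlgebraicGeometry Topology

namespace Groth.Agent.Lib.helper21.TopCore

universe u

/-- a point in the closure of the range of `Spec` of a ring map is a specialization of a point of
the range -/
theorem exists_specializes_of_mem_closure_range_comap {R S : Type u} [CommRing R] [CommRing S]
    (f : R →+* S) {w : PrimeSpectrum R} (hw : w ∈ closure (Set.range (PrimeSpectrum.comap f))) :
    ∃ c ∈ Set.range (PrimeSpectrum.comap f), c ⤳ w := by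
  rw [PrimeSpectrum.closure_range_comap, PrimeSpectrum.mem_zeroLocus] at hw
  have hle : (⊥ : Ideal S).comap f ≤ w.asIdeal := by
    intro a ha
    exact hw ha
  obtain ⟨Q, -, hQ, hQle⟩ := w.asIdeal.exists_ideal_comap_le_prime (⊥ : Ideal S) hle
  refine ⟨PrimeSpectrum.comap f ⟨Q, hQ⟩, ⟨⟨Q, hQ⟩, rfl⟩, ?_⟩
  rw [← PrimeSpectrum.le_iff_specializes]
  exact hQle

/-- the same for a morphism of affine schemes -/
theorem exists_specializes_of_mem_closure_range_affine {A B : Scheme.{u}} [IsAffine A] [IsAffine B]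
    (g : A ⟶ B) {w : B} (hw : w ∈ closure (Set.range g.base)) :
    ∃ c ∈ Set.range g.base, c ⤳ w := by
  let eA : A ≃ₜ PrimeSpectrum Γ(A, ⊤) := A.isoSpec.hom.homeomorph
  let eB : B ≃ₜ PrimeSpectrum Γ(B, ⊤) := B.isoSpec.hom.homeomorph
  have key : ∀ a : A, eB (g.base a) = PrimeSpectrum.comap g.appTop.hom (eA a) := by
    intro a
    have h := congrArg (fun k : A ⟶ Spec Γ(B, ⊤) => k.base a) (Scheme.isoSpec_hom_naturality g)
    exact h.symm
  have hr : eB '' Set.range g.base = Set.range (PrimeSpectrum.comap g.appTop.hom) := by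
    ext y
    constructor
    · rintro ⟨_, ⟨a, rfl⟩, rfl⟩
      exact ⟨eA a, (key a).symm⟩
    · rintro ⟨x, rfl⟩
      refine ⟨g.base (eA.symm x), ⟨_, rfl⟩, ?_⟩
      rw [key, eA.apply_symm_apply]
  have hw' : eB w ∈ closure (Set.range (PrimeSpectrum.comap g.appTop.hom)) := by
    rw [← hr, ← eB.image_closure]
    exact ⟨w, hw, rfl⟩
  obtain ⟨c, ⟨x, rfl⟩, hcw⟩ := exists_specializes_of_mem_closure_range_comap _ hw'
  refine ⟨g.base (eA.symm x), ⟨_, rfl⟩, ?_⟩
  have h2 := hcw.map eB.symm.continuous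
  rw [eB.symm_apply_apply] at h2
  have h3 : eB.symm (PrimeSpectrum.comap g.appTop.hom x) = g.base (eA.symm x) := by
    rw [eB.symm_apply_eq, key, eA.apply_symm_apply]
  rwa [h3] at h2

/-- For a quasi-compact morphism `q` and a clopen `Z`, the closure of `q(Z)` consists of
specializations of points of `q(Z)`. -/
theorem exists_specializes_of_mem_closure_image {Y T : Scheme.{u}} (q : T ⟶ Y) [QuasiCompact q]
    {Z : Set T} (hZo : IsOpen Z) (hZc : IsClosed Z) {v : Y} (hv : v ∈ closure (q.base '' Z)) :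
    ∃ z ∈ Z, q.base z ⤳ v := by
  obtain ⟨Y₀, hY₀, hvY₀, -⟩ := exists_isAffineOpen_mem_and_subset (X := Y) (x := v)
    (U := ⊤) trivial
  -- shrink `Z`
  set Z₀ : Set T := Z ∩ q.base ⁻¹' (Y₀ : Set Y) with hZ₀
  have hZ₀o : IsOpen Z₀ := hZo.inter (Y₀.isOpen.preimage q.base.hom.continuous)
  have hZ₀c : IsCompact Z₀ := by
    have hc : IsCompact (q.base ⁻¹' (Y₀ : Set Y)) :=
      QuasiCompact.isCompact_preimage (f := q) _ Y₀.isOpen hY₀.isCompact
    rw [hZ₀, Set.inter_comm]
    exact hc.inter_right hZc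
  have hv₀ : v ∈ closure (q.base '' Z₀) := by
    rw [mem_closure_iff] at hv ⊢
    intro o ho hvo
    obtain ⟨y, ⟨hyo, hyY⟩, z, hz, rfl⟩ := hv (o ∩ Y₀) (ho.inter Y₀.isOpen) ⟨hvo, hvY₀⟩
    exact ⟨q.base z, hyo, z, ⟨hz, hyY⟩, rfl⟩
  obtain ⟨s, hs, hsZ⟩ :=
    isCompact_and_isOpen_iff_finite_and_eq_biUnion_affineOpens.mp ⟨hZ₀c, hZ₀o⟩
  rw [hsZ, Set.image_iUnion₂, hs.closure_biUnion, Set.mem_iUnion₂] at hv₀
  obtain ⟨i, hi, hvi⟩ := hv₀
  have hiZ : ((i : T.Opens) : Set T) ⊆ Z₀ := by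
    rw [hsZ]
    exact Set.subset_biUnion_of_mem (u := fun j : T.affineOpens => ((j : T.Opens) : Set T)) hi
  -- the restricted morphism of affine schemes
  haveI : IsAffine (i : T.Opens).toScheme := i.2
  haveI : IsAffine Y₀.toScheme := hY₀
  have hr : Set.range ((i : T.Opens).ι ≫ q).base ⊆ Set.range Y₀.ι.base := by
    rintro _ ⟨a, rfl⟩
    rw [Scheme.Opens.range_ι]
    exact (hiZ a.2).2
  let g : (i : T.Opens).toScheme ⟶ Y₀.toScheme := IsOpenImmersion.lift Y₀.ι ((i : T.Opens).ι ≫ q) hr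
  have hg : g ≫ Y₀.ι = (i : T.Opens).ι ≫ q := IsOpenImmersion.lift_fac _ _ hr
  have hg' : ∀ a : (i : T.Opens).toScheme, Y₀.ι.base (g.base a) = q.base ((i : T.Opens).ι.base a) :=
    fun a => congrArg (fun k : (i : T.Opens).toScheme ⟶ Y => k.base a) hg
  have hemb : IsEmbedding Y₀.ι.base := Y₀.ι.isOpenEmbedding.isEmbedding
  have hw : (⟨v, hvY₀⟩ : Y₀.toScheme) ∈ closure (Set.range g.base) := by
    rw [hemb.closure_eq_preimage_closure_image]
    show v ∈ closure (Y₀.ι.base '' Set.range g.base)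
    have : Y₀.ι.base '' Set.range g.base = q.base '' ((i : T.Opens) : Set T) := by
      ext y
      constructor
      · rintro ⟨_, ⟨a, rfl⟩, rfl⟩
        exact ⟨(i : T.Opens).ι.base a, a.2, (hg' a).symm⟩
      · rintro ⟨z, hz, rfl⟩
        exact ⟨g.base ⟨z, hz⟩, ⟨_, rfl⟩, hg' ⟨z, hz⟩⟩
    rw [this]
    exact hvi
  obtain ⟨c, ⟨a, rfl⟩, hc⟩ := exists_specializes_of_mem_closure_range_affine g hw
  refine ⟨(i : T.Opens).ι.base a, (hiZ a.2).1, ?_⟩
  have h2 := hc.map Y₀.ι.base.hom.continuous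
  rw [← hg' a]
  exact h2

/-- **Local constancy near a unibranch point.** -/
theorem exists_nhds_const {Y T : Scheme.{u}} (q : T ⟶ Y) [QuasiCompact q]
    (hq : IsEmbedding q.base) (hgen : StableUnderGeneralization (Set.range q.base))
    (v : Y) (hdom : IsDomain (Y.presheaf.stalk v)) {M : Type*} [Nonempty M] (φ : T → M)
    (hφ : IsLocallyConstant φ) :
    ∃ N : Y.Opens, v ∈ N ∧ ∃ a : M, ∀ z : T, q.base z ∈ N → φ z = a := by
  -- the generic point of `Spec 𝒪_{Y,v}`
  let ξ : Y := (Y.fromSpecStalk v).base ⟨⊥, Ideal.bot_prime⟩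
  have hξ : ∀ y : Y, y ⤳ v → ξ ⤳ y := by
    intro y hy
    have hy' : y ∈ Set.range (Y.fromSpecStalk v) := by
      rw [Scheme.range_fromSpecStalk]
      exact hy
    obtain ⟨𝔭, rfl⟩ := hy'
    have h1 : (⟨⊥, Ideal.bot_prime⟩ : PrimeSpectrum (Y.presheaf.stalk v)) ⤳ 𝔭 := by
      rw [← PrimeSpectrum.le_iff_specializes]
      exact bot_le (a := 𝔭.asIdeal)
    exact h1.map (Y.fromSpecStalk v).base.hom.continuous
  have hconst : ∀ z z' : T, q.base z ⤳ v → q.base z' ⤳ v → φ z = φ z' := by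
    intro z z' hz hz'
    have h1 : ξ ∈ Set.range q.base := hgen (hξ _ hz) ⟨z, rfl⟩
    obtain ⟨ξ', hξ'⟩ := h1
    have key : ∀ z₁ : T, q.base z₁ ⤳ v → φ z₁ = φ ξ' := by
      intro z₁ hz₁
      have h2 : ξ' ⤳ z₁ := by
        rw [← hq.toIsInducing.specializes_iff, hξ']
        exact hξ _ hz₁
      have h3 : ξ' ∈ φ ⁻¹' {φ z₁} := h2.mem_open (hφ _) rfl
      exact h3.symm
    rw [key z hz, key z' hz']
  obtain ⟨a, ha⟩ : ∃ a : M, ∀ z : T, q.base z ⤳ v → φ z = a := by
    by_cases h : ∃ z : T, q.base z ⤳ v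
    · obtain ⟨z₀, hz₀⟩ := h
      exact ⟨φ z₀, fun z hz => hconst z z₀ hz hz₀⟩
    · exact ⟨Classical.arbitrary M, fun z hz => (h ⟨z, hz⟩).elim⟩
  set Z : Set T := φ ⁻¹' {a}ᶜ with hZ
  have hZo : IsOpen Z := hφ _
  have hZc : IsClosed Z := by
    rw [hZ, Set.preimage_compl]
    exact (hφ {a}).isClosed_compl
  have hv : v ∉ closure (q.base '' Z) := by
    intro hv
    obtain ⟨z, hz, hzv⟩ := exists_specializes_of_mem_closure_image q hZo hZc hv
    exact hz (ha z hzv)
  refine ⟨⟨(closure (q.base '' Z))ᶜ, isClosed_closure.isOpen_compl⟩, hv, a, ?_⟩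
  intro z hz
  by_contra hne
  exact hz (subset_closure ⟨z, hne, rfl⟩)

end Groth.Agent.Lib.helper21.TopCore
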