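import Mathlib
import Groth.Prelude.Def_EtBase
import Groth.Prelude.Def_EtCore
import Groth.Prelude.Def_Pi1
import Groth.Agent.Lib.Helper13.Normal2
import Groth.Agent.Lib.Helper21.TopCore
import Groth.Agent.Lib.Helper21.ConstUnit

/-!
# The constant sheaf on a normal scheme is the direct image of the constant sheaf on a dense part
-/

set_option autoImplicit false

open CategoryTheory CategoryTheory.Limits Opposite AlgebraicGeometry Topology

namespace Groth.Agent.Lib.helper21.NormalConst

universe u

/-- a morphism with injective underlying map and subsingleton range is quasi-compact -/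
lemma quasiCompact_of_subsingleton_range {T Y : Scheme.{u}} (q : T ⟶ Y)
    (hq : Function.Injective q.base) (h : (Set.range q.base).Subsingleton) : QuasiCompact q := by
  have hT : Subsingleton T := ⟨fun a b => hq (h ⟨a, rfl⟩ ⟨b, rfl⟩)⟩
  exact ⟨fun U _ _ => (Set.toFinite _).isCompact⟩

/-- local constancy for a quasi-compact preimmersion with generization-stable range into a normal
scheme -/
theorem hloc_of_good {X W : Scheme.{u}} (f : W ⟶ X) [QuasiCompact f] [IsPreimmersion f]
    (hgen : StableUnderGeneralization (Set.range f.base)) (hX : Pi1.IsNormalScheme X)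
    {M : Type*} [Nonempty M] (V : X.Etale) (φ : ((EtCoh.bc f).obj V).left → M)
    (hφ : IsLocallyConstant φ) (v : V.left) :
    ∃ N : V.left.Opens, v ∈ N ∧ ∃ a : M, ∀ z : ((EtCoh.bc f).obj V).left,
      (pullback.fst V.hom f : ((EtCoh.bc f).obj V).left ⟶ V.left).base z ∈ N → φ z = a := by
  haveI : Etale V.hom := V.prop
  have hV := Groth.Agent.Lib.helper13.Normal.of_etale V.hom hX
  refine TopCore.exists_nhds_const (pullback.fst V.hom f) ?_ ?_ v (hV v).1 φ hφ
  · exact (pullback.fst V.hom f).isEmbedding
  · have : Set.range (pullback.fst V.hom f).base = V.hom.base ⁻¹' Set.range f.base :=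
      Scheme.Pullback.range_fst V.hom f
    rw [this]
    exact hgen.preimage V.hom.continuous

section Generic

variable (X : Scheme.{u}) [IsIntegral X]

lemma eq_genericPoint_of_specializes {y : X} (h : y ⤳ genericPoint X) : y = genericPoint X :=
  (h.antisymm (genericPoint_specializes y)).eq

lemma stableUnderGeneralization_singleton_genericPoint :
    StableUnderGeneralization ({genericPoint X} : Set X) := by
  intro x y hyx hx
  rw [Set.mem_singleton_iff] at hx ⊢
  subst hx
  exact eq_genericPoint_of_specializes X hyx

lemma dense_singleton_genericPoint : Dense ({genericPoint X} : Set X) := by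
  rw [dense_iff_closure_eq]
  exact (genericPoint_spec X).def

lemma range_fromSpecStalk_genericPoint :
    Set.range (X.fromSpecStalk (genericPoint X)).base = {genericPoint X} := by
  have h : Set.range (X.fromSpecStalk (genericPoint X)).base = {y | y ⤳ genericPoint X} :=
    Scheme.range_fromSpecStalk
  rw [h]
  ext y
  constructor
  · intro hy
    exact eq_genericPoint_of_specializes X hy
  · rintro rfl
    exact specializes_rfl

lemma range_fromSpecResidueField_genericPoint :
    Set.range (X.fromSpecResidueField (genericPoint X)).base = {genericPoint X} :=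
  Scheme.range_fromSpecResidueField (genericPoint X)

lemma quasiCompact_fromSpecStalk_genericPoint :
    QuasiCompact (X.fromSpecStalk (genericPoint X)) :=
  quasiCompact_of_subsingleton_range _ (X.fromSpecStalk (genericPoint X)).isEmbedding.injective
    (by rw [range_fromSpecStalk_genericPoint]; exact Set.subsingleton_singleton)

lemma quasiCompact_fromSpecResidueField_genericPoint :
    QuasiCompact (X.fromSpecResidueField (genericPoint X)) :=
  quasiCompact_of_subsingleton_range _
    (X.fromSpecResidueField (genericPoint X)).isEmbedding.injective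
    (by rw [range_fromSpecResidueField_genericPoint]; exact Set.subsingleton_singleton)

/-- the constant sheaf on an integral normal scheme is the direct image of the constant sheaf on
the spectrum of the local ring at the generic point -/
theorem isIso_unit_fromSpecStalk (hX : Pi1.IsNormalScheme X) (M : Type) [AddCommGroup M] :
    IsIso ((EtCoh.pullPushAdj (X.fromSpecStalk (genericPoint X))).unit.app (EtCoh.const X M)) := by
  haveI := quasiCompact_fromSpecStalk_genericPoint X
  refine ConstUnit.isIso_unit_const (X.fromSpecStalk (genericPoint X)) M ?_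
    (fun V φ hφ v => hloc_of_good (X.fromSpecStalk (genericPoint X)) ?_ hX V φ hφ v)
  · show Dense (Set.range (X.fromSpecStalk (genericPoint X)).base)
    rw [range_fromSpecStalk_genericPoint]
    exact dense_singleton_genericPoint X
  · rw [range_fromSpecStalk_genericPoint]
    exact stableUnderGeneralization_singleton_genericPoint X

/-- the constant sheaf on an integral normal scheme is the direct image of the constant sheaf on
the spectrum of the function field -/
theorem isIso_unit_fromSpecResidueField (hX : Pi1.IsNormalScheme X) (M : Type) [AddCommGroup M] :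
    IsIso ((EtCoh.pullPushAdj (X.fromSpecResidueField (genericPoint X))).unit.app
      (EtCoh.const X M)) := by
  haveI := quasiCompact_fromSpecResidueField_genericPoint X
  refine ConstUnit.isIso_unit_const (X.fromSpecResidueField (genericPoint X)) M ?_
    (fun V φ hφ v => hloc_of_good (X.fromSpecResidueField (genericPoint X)) ?_ hX V φ hφ v)
  · show Dense (Set.range (X.fromSpecResidueField (genericPoint X)).base)
    rw [range_fromSpecResidueField_genericPoint]
    exact dense_singleton_genericPoint X
  · rw [range_fromSpecResidueField_genericPoint]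
    exact stableUnderGeneralization_singleton_genericPoint X

/-- local constancy for an arbitrary nonempty open of an integral normal scheme, by density of the
generic fibre -/
theorem hloc_opens (hX : Pi1.IsNormalScheme X) (U : X.Opens) (hU : (U : Set X).Nonempty)
    {M : Type*} [Nonempty M] (V : X.Etale) (φ : ((EtCoh.bc U.ι).obj V).left → M)
    (hφ : IsLocallyConstant φ) (v : V.left) :
    ∃ N : V.left.Opens, v ∈ N ∧ ∃ a : M, ∀ z : ((EtCoh.bc U.ι).obj V).left,
      (pullback.fst V.hom U.ι : ((EtCoh.bc U.ι).obj V).left ⟶ V.left).base z ∈ N → φ z = a := by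
  haveI := quasiCompact_fromSpecStalk_genericPoint X
  haveI : Etale V.hom := V.prop
  have hηU : genericPoint X ∈ U :=
    ((genericPoint_spec X).mem_open_set_iff U.isOpen).mpr (by simpa using hU)
  have hr : Set.range (X.fromSpecStalk (genericPoint X)).base ⊆ Set.range U.ι.base := by
    rw [range_fromSpecStalk_genericPoint, Scheme.Opens.range_ι]
    simpa using hηU
  let gU : Spec (X.presheaf.stalk (genericPoint X)) ⟶ U.toScheme :=
    IsOpenImmersion.lift U.ι (X.fromSpecStalk (genericPoint X)) hr
  have hgU : gU ≫ U.ι = X.fromSpecStalk (genericPoint X) := IsOpenImmersion.lift_fac _ _ hr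
  let h : pullback V.hom (X.fromSpecStalk (genericPoint X)) ⟶ pullback V.hom U.ι :=
    pullback.lift (pullback.fst V.hom _) (pullback.snd V.hom _ ≫ gU)
      (by rw [Category.assoc, hgU, pullback.condition])
  have hh : h ≫ pullback.fst V.hom U.ι = pullback.fst V.hom _ := pullback.lift_fst _ _ _
  obtain ⟨N, hvN, a, hN⟩ := hloc_of_good (X.fromSpecStalk (genericPoint X))
    (by rw [range_fromSpecStalk_genericPoint]
        exact stableUnderGeneralization_singleton_genericPoint X) hX V (φ ∘ h.base)
    (hφ.comp_continuous h.continuous) v
  refine ⟨N, hvN, a, fun z hz => ?_⟩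
  have hO : IsOpen (φ ⁻¹' {φ z} ∩ (pullback.fst V.hom U.ι).base ⁻¹' (N : Set V.left)) :=
    (hφ _).inter (N.isOpen.preimage (pullback.fst V.hom U.ι).continuous)
  have hfstO := (pullback.fst V.hom U.ι).isOpenEmbedding.isOpenMap _ hO
  have hVO := V.hom.isOpenMap _ hfstO
  have hη : genericPoint X ∈ V.hom.base '' ((pullback.fst V.hom U.ι).base ''
      (φ ⁻¹' {φ z} ∩ (pullback.fst V.hom U.ι).base ⁻¹' (N : Set V.left))) := by
    refine ((genericPoint_spec X).mem_open_set_iff hVO).mpr ?_
    exact ⟨_, trivial, _, ⟨z, ⟨rfl, hz⟩, rfl⟩, rfl⟩
  obtain ⟨_, ⟨p, ⟨hp1, hp2⟩, rfl⟩, hpη⟩ := hη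
  obtain ⟨pt, hpt⟩ : ∃ pt, (X.fromSpecStalk (genericPoint X)).base pt = genericPoint X := by
    have : genericPoint X ∈ Set.range (X.fromSpecStalk (genericPoint X)).base := by
      rw [range_fromSpecStalk_genericPoint]
      rfl
    exact this
  obtain ⟨z', hz'1, -⟩ := Scheme.Pullback.exists_preimage_pullback (f := V.hom)
    (g := X.fromSpecStalk (genericPoint X)) ((pullback.fst V.hom U.ι).base p) pt
    (hpη.trans hpt.symm)
  have hhz' : h.base z' = p := by
    apply (pullback.fst V.hom U.ι).isOpenEmbedding.injective
    rw [← hz'1]
    exact congrArg (fun k : pullback V.hom (X.fromSpecStalk (genericPoint X)) ⟶ V.left =>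
      k.base z') hh
  have hpa : φ p = a := by
    rw [← hhz']
    exact hN z' (hz'1 ▸ hp2)
  exact hp1.symm.trans hpa

/-- the constant sheaf on an integral normal scheme is the direct image of the constant sheaf on
any nonempty open subscheme -/
theorem isIso_unit_opens (hX : Pi1.IsNormalScheme X) (U : X.Opens) (hU : (U : Set X).Nonempty)
    (M : Type) [AddCommGroup M] :
    IsIso ((EtCoh.pullPushAdj U.ι).unit.app (EtCoh.const X M)) := by
  refine ConstUnit.isIso_unit_const U.ι M ?_ (fun V φ hφ v => hloc_opens X hX U hU V φ hφ v)
  show Dense (Set.range U.ι.base)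
  rw [Scheme.Opens.range_ι]
  exact U.isOpen.dense hU

end Generic

/-- the constant sheaf on a normal scheme is the direct image of the constant sheaf on a dense
quasi-compact open subscheme -/
theorem isIso_unit_of_isOpenImmersion {X U : Scheme.{u}} (hX : Pi1.IsNormalScheme X) (j : U ⟶ X)
    [IsOpenImmersion j] [QuasiCompact j] (hj : Dense (Set.range j.base)) (M : Type)
    [AddCommGroup M] :
    IsIso ((EtCoh.pullPushAdj j).unit.app (EtCoh.const X M)) :=
  ConstUnit.isIso_unit_const j M hj (fun V φ hφ v =>
    hloc_of_good j j.isOpenEmbedding.isOpen_range.stableUnderGeneralization hX V φ hφ v)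

end Groth.Agent.Lib.helper21.NormalConst
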