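import Mathlib
import Groth.Prelude.Def_OmAff
import Groth.Agent.Lib.Helper7.OmegaLocal
import Groth.Agent.Lib.Helper7.OmegaUniv

/-!
# `OmAff.toSpec` is bijective
-/

set_option autoImplicit false
universe u
open CategoryTheory AlgebraicGeometry

namespace Groth.Agent.Lib.helper21.OmAffSpec

theorem toSpec_bijective (A B : Type u) [CommRing A] [CommRing B] [Algebra A B] :
    Function.Bijective (OmAff.toSpec A B) := by
  have hU : IsAffineOpen (⊤ : (Spec (CommRingCat.of B)).Opens) := isAffineOpen_top _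
  have hV : IsAffineOpen (⊤ : (Spec (CommRingCat.of A)).Opens) := isAffineOpen_top _
  have e : (⊤ : (Spec (CommRingCat.of B)).Opens) ≤
      (Spec.map (CommRingCat.ofHom (algebraMap A B))) ⁻¹ᵁ ⊤ := le_of_eq rfl
  letI algA'B' : Algebra Γ(Spec (CommRingCat.of A), ⊤) Γ(Spec (CommRingCat.of B), ⊤) :=
    ((Spec.map (CommRingCat.ofHom (algebraMap A B))).appLE ⊤ ⊤ e).hom.toAlgebra
  obtain ⟨ψ, hψ⟩ := Groth.Agent.Lib.helper7.OmegaLocal.exists_sectionsEquiv_dSect
    (Spec.map (CommRingCat.ofHom (algebraMap A B))) hU hV e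
  have hspan := Groth.Agent.Lib.helper7.OmegaUniv.span_dSect
    (Spec.map (CommRingCat.ofHom (algebraMap A B))) hU hV e
  let σ : Γ(Spec (CommRingCat.of B), ⊤) →+* B := (Scheme.ΓSpecIso (CommRingCat.of B)).hom.hom
  have hσ : ∀ b : B, σ (OmAff.toΓ B b) = b := fun b => by
    change ((Scheme.ΓSpecIso (CommRingCat.of B)).inv ≫ (Scheme.ΓSpecIso (CommRingCat.of B)).hom) b = b
    rw [Iso.inv_hom_id]; rfl
  have hσ' : ∀ r : Γ(Spec (CommRingCat.of B), ⊤), OmAff.toΓ B (σ r) = r := fun r => by
    change ((Scheme.ΓSpecIso (CommRingCat.of B)).hom ≫ (Scheme.ΓSpecIso (CommRingCat.of B)).inv) r = r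
    rw [Iso.hom_inv_id]; rfl
  constructor
  · -- injectivity: construct a left inverse
    letI modB' : Module Γ(Spec (CommRingCat.of B), ⊤) (Ω[B⁄A]) := Module.compHom _ σ
    let δ : Γ(Spec (CommRingCat.of B), ⊤) →+ Ω[B⁄A] :=
      { toFun := fun r => KaehlerDifferential.D A B (σ r)
        map_zero' := by simp
        map_add' := fun r s => by simp }
    have h1 : ∀ a b : Γ(Spec (CommRingCat.of B), ⊤), δ (a * b) = a • δ b + b • δ a := by
      intro a b
      change KaehlerDifferential.D A B (σ (a * b)) =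
        σ a • KaehlerDifferential.D A B (σ b) + σ b • KaehlerDifferential.D A B (σ a)
      rw [map_mul, Derivation.leibniz]
    have h2 : ∀ a : Γ(Spec (CommRingCat.of A), ⊤),
        δ (algebraMap Γ(Spec (CommRingCat.of A), ⊤) Γ(Spec (CommRingCat.of B), ⊤) a) = 0 := by
      intro a
      change KaehlerDifferential.D A B (σ ((Spec.map (CommRingCat.ofHom
        (algebraMap A B))).appLE ⊤ ⊤ e a)) = 0
      have hnat := Scheme.ΓSpecIso_naturality (CommRingCat.ofHom (algebraMap A B))
      have h3 : σ ((Spec.map (CommRingCat.ofHom (algebraMap A B))).appLE ⊤ ⊤ e a) =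
          algebraMap A B ((Scheme.ΓSpecIso (CommRingCat.of A)).hom a) := by
        have h4 : (Spec.map (CommRingCat.ofHom (algebraMap A B))).appLE ⊤ ⊤ e =
            (Spec.map (CommRingCat.ofHom (algebraMap A B))).appTop := by
          simp [Scheme.Hom.appLE, Scheme.Hom.appTop]
        rw [h4]
        exact congr($hnat a)
      rw [h3]
      exact (KaehlerDifferential.D A B).map_algebraMap _
    obtain ⟨η, hη⟩ := Groth.Agent.Lib.helper7.OmegaUniv.exists_lift_of_leibniz
      Γ(Spec (CommRingCat.of A), ⊤) Γ(Spec (CommRingCat.of B), ⊤) (Ω[B⁄A]) δ h1 h2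
    have hG : ∀ x : Ω[B⁄A], η (ψ (OmAff.toSpec A B x)) = x := by
      intro x
      have hx : x ∈ Submodule.span B (Set.range (KaehlerDifferential.D A B)) := by
        rw [KaehlerDifferential.span_range_derivation]; trivial
      induction hx using Submodule.span_induction with
      | mem y hy =>
        obtain ⟨b, rfl⟩ := hy
        rw [OmAff.toSpec_D, hψ, hη]
        change KaehlerDifferential.D A B (σ (OmAff.toΓ B b)) = _
        rw [hσ]
      | zero => simp
      | add y z _ _ hy hz => rw [map_add, map_add, map_add, hy, hz]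
      | smul b y _ hy =>
        rw [LinearMap.map_smulₛₗ, map_smul, map_smul, hy]
        change σ (OmAff.toΓ B b) • y = b • y
        rw [hσ]
    intro x y hxy
    rw [← hG x, ← hG y, hxy]
  · -- surjectivity
    intro s
    have hs : s ∈ Submodule.span Γ(Spec (CommRingCat.of B), ⊤)
        (Set.range (OmegaSh.dSect (Spec.map (CommRingCat.ofHom (algebraMap A B))) ⊤)) := by
      rw [hspan]; trivial
    induction hs using Submodule.span_induction with
    | mem y hy =>
      obtain ⟨r, rfl⟩ := hy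
      exact ⟨KaehlerDifferential.D A B (σ r), by rw [OmAff.toSpec_D, hσ']⟩
    | zero => exact ⟨0, map_zero _⟩
    | add y z _ _ hy hz =>
      obtain ⟨x, rfl⟩ := hy
      obtain ⟨x', rfl⟩ := hz
      exact ⟨x + x', map_add _ _ _⟩
    | smul r y _ hy =>
      obtain ⟨x, rfl⟩ := hy
      exact ⟨σ r • x, by rw [LinearMap.map_smulₛₗ, hσ']⟩

end Groth.Agent.Lib.helper21.OmAffSpec
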