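import Mathlib
import Groth.Agent.Lib.Helper21.AbShriek

/-!
# Restriction of injective presheaves along `Over W ⥤ D`, for `u : C ⥤ D` preserving pullbacks
-/

open CategoryTheory Limits Opposite

universe u

namespace Groth.Agent.Lib.Helper21.OverPostFlat

variable {C D : Type u} [SmallCategory C] [SmallCategory D] [HasPullbacks C]
  (u : C ⥤ D) [PreservesLimitsOfShape WalkingCospan u] (W : C)

instance : HasTerminal (Over W) := Over.over_hasTerminal W

instance hasFiniteLimits_over : HasFiniteLimits (Over W) := hasFiniteLimits_of_hasTerminal_and_pullbacks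

instance preservesPullbacks_post :
    PreservesLimitsOfShape WalkingCospan (Over.post u : Over W ⥤ Over (u.obj W)) := by
  haveI : PreservesLimitsOfShape WalkingCospan
      ((Over.post u : Over W ⥤ Over (u.obj W)) ⋙ Over.forget (u.obj W)) :=
    inferInstanceAs (PreservesLimitsOfShape WalkingCospan (Over.forget W ⋙ u))
  exact preservesLimitsOfShape_of_reflects_of_preserves _ (Over.forget (u.obj W))

instance preservesTerminal_post :
    PreservesLimitsOfShape (Discrete.{0} PEmpty) (Over.post u : Over W ⥤ Over (u.obj W)) := by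
  haveI : PreservesLimit (Functor.empty.{0} (Over W)) (Over.post u : Over W ⥤ Over (u.obj W)) := by
    apply preservesTerminal_of_iso
    have h1 : IsTerminal ((Over.post u : Over W ⥤ Over (u.obj W)).obj (Over.mk (𝟙 W))) :=
      IsTerminal.ofIso Over.mkIdTerminal (Over.isoMk (Iso.refl _) (by
        show 𝟙 (u.obj W) ≫ u.map (𝟙 W) = 𝟙 (u.obj W)
        rw [u.map_id, Category.comp_id]))
    have e1 : (⊤_ (Over W)) ≅ Over.mk (𝟙 W) := terminalIsTerminal.uniqueUpToIso Over.mkIdTerminal
    exact (Over.post u).mapIso e1 ≪≫ h1.uniqueUpToIso terminalIsTerminal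
  exact preservesLimitsOfShape_pempty_of_preservesTerminal _

instance preservesFiniteLimits_post :
    PreservesFiniteLimits (Over.post u : Over W ⥤ Over (u.obj W)) :=
  preservesFiniteLimits_of_preservesTerminal_and_pullbacks _

instance flat_post : RepresentablyFlat (Over.post u : Over W ⥤ Over (u.obj W)) :=
  flat_of_preservesFiniteLimits _

/-- restriction of an injective presheaf on `D` along `Over W ⥤ C ⥤ D` is injective. -/
theorem injective_restrict (I : Dᵒᵖ ⥤ AddCommGrpCat.{u}) [Injective I] :
    Injective ((Over.forget W).op ⋙ u.op ⋙ I) := by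
  haveI h1 : Injective ((Over.forget (u.obj W)).op ⋙ I) :=
    Injective.injective_of_adjoint ((Over.forget (u.obj W)).op.lanAdjunction AddCommGrpCat.{u}) I
  haveI : PreservesFiniteLimits ((Over.post u : Over W ⥤ Over (u.obj W)).op.lan :
      ((Over W)ᵒᵖ ⥤ AddCommGrpCat.{u}) ⥤ _) := by
    apply lan_preservesFiniteLimits_of_flat
  exact Injective.injective_of_adjoint
    ((Over.post u : Over W ⥤ Over (u.obj W)).op.lanAdjunction AddCommGrpCat.{u})
    ((Over.forget (u.obj W)).op ⋙ I)

end Groth.Agent.Lib.Helper21.OverPostFlat
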