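import Mathlib

/-!
# Restricting generating sections and presentations to smaller objects (helper21)

For a sheaf of modules `M` on a site with pullbacks and `f : W ⟶ U`:
* `genOver M G f`: generating sections of `M.over W` from generating sections `G` of `M.over U`
  (same index type; `π` an isomorphism if that of `G` is);
* `presOver M P f`: a presentation of `M.over W` from a presentation of `M.over U` (same index
  types).
-/

set_option autoImplicit false
universe u v₁ u₁
open CategoryTheory Limits

namespace Groth.Agent.Lib.helper21.OverRestrict

variable {C : Type u₁} [Category.{v₁} C] [HasPullbacks C] {J : GrothendieckTopology C}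
  {R : Sheaf J RingCat.{u}}
  [∀ X, HasSheafify (J.over X) AddCommGrpCat.{u}]
  [∀ X, (J.over X).WEqualsLocallyBijective AddCommGrpCat.{u}]

open SheafOfModules

instance preservesColimits_overMap {W U : C} (f : W ⟶ U) :
    PreservesColimitsOfSize.{u, u} (overMap.{u} R f) :=
  Functor.instPreservesColimitsOfSizeOfIsLeftAdjoint _

/-- restriction of generating sections -/
noncomputable def genOver (M : SheafOfModules.{u} R) {W U : C}
    (G : (M.over U).GeneratingSections) (f : W ⟶ U) : (M.over W).GeneratingSections :=
  GeneratingSections.equivOfIso ((overFunctorMap.{u} R f).app M)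
    (G.map (overMap.{u} R f) (overMapUnitIso f).symm)

lemma genOver_I (M : SheafOfModules.{u} R) {W U : C}
    (G : (M.over U).GeneratingSections) (f : W ⟶ U) : (genOver M G f).I = G.I := rfl

lemma isIso_genOver_π (M : SheafOfModules.{u} R) {W U : C}
    (G : (M.over U).GeneratingSections) (f : W ⟶ U) [IsIso G.π] : IsIso (genOver M G f).π := by
  unfold genOver
  rw [show (GeneratingSections.equivOfIso ((overFunctorMap.{u} R f).app M))
      (G.map (overMap.{u} R f) (overMapUnitIso f).symm) =
      (G.map (overMap.{u} R f) (overMapUnitIso f).symm).ofEpi
        ((overFunctorMap.{u} R f).app M).hom from rfl, GeneratingSections.ofEpi_π]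
  have h1 : IsIso (G.map (overMap.{u} R f) (overMapUnitIso f).symm).π := inferInstance
  exact @IsIso.comp_isIso _ _ _ _ _ _ _ h1 inferInstance

/-- restriction of presentations -/
noncomputable def presOver (M : SheafOfModules.{u} R) {W U : C}
    (P : (M.over U).Presentation) (f : W ⟶ U) : (M.over W).Presentation :=
  (P.map (overMap.{u} R f) (overMapUnitIso f).symm).ofIsIso ((overFunctorMap.{u} R f).app M).hom

lemma presOver_generators_I (M : SheafOfModules.{u} R) {W U : C}
    (P : (M.over U).Presentation) (f : W ⟶ U) :
    (presOver M P f).generators.I = P.generators.I := rfl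

lemma presOver_relations_I (M : SheafOfModules.{u} R) {W U : C}
    (P : (M.over U).Presentation) (f : W ⟶ U) :
    (presOver M P f).relations.I = P.relations.I := rfl

end Groth.Agent.Lib.helper21.OverRestrict
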