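import Groth.Agent.Lib.Helper21.PPBCAlg1
import Groth.Agent.Lib.Helper21.PrinPart7
import Groth.Agent.Lib.Helper21.PrinPart16
import Groth.Agent.Lib.Helper21.GrBC2

/-!
# Principal parts and base change (helper21, S5954)
-/

set_option autoImplicit false
set_option linter.style.haveILetI false
universe u
open CategoryTheory CategoryTheory.Limits AlgebraicGeometry TopologicalSpace Opposite

namespace Groth.Agent.Lib.helper21.PPBC

open _root_.PrinPart Scheme.Modules TensorProduct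
open Groth.Agent.Lib.helper8.PullbackUnit Groth.Agent.Lib.helper21.PrinPart
open Groth.Agent.Lib.helper21.GrBC (appLin ρ_rfl)

section Basic
variable {X S : Scheme.{u}} (f : X ⟶ S) (n : ℕ)

theorem dn_map {W W' : X.Opens} (i : W' ≤ W) (b : Γ(X, W)) :
    dn f n W' (X.presheaf.map (homOfLE i).op b) =
      (P f n).presheaf.map (homOfLE i).op (dn f n W b) :=
  dP_map f n (Coh.structureModule X) i (OmegaSh.strSect X W b)

variable {U : X.Opens} (hU : IsAffineOpen U) {V : S.Opens} (hV : IsAffineOpen V) (e : U ≤ f ⁻¹ᵁ V)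

theorem qP_tmul (b b' : Γ(X, U)) :
    letI := (f.appLE V U e).hom.toAlgebra
    (secP f n U).symm (Φ f hU hV e n (b ⊗ₜ[Γ(S, V)] b')) = b • dn f n U b' := by
  letI := (f.appLE V U e).hom.toAlgebra
  apply (secP f n U).injective
  rw [AddEquiv.apply_symm_apply, secP_smul, secP_dn, Φ_tmul, Scheme.Hom.app_eq_appLE]

theorem qP_smul (b : Γ(X, U)) :
    letI := (f.appLE V U e).hom.toAlgebra
    ∀ x : Γ(X, U) ⊗[Γ(S, V)] Γ(X, U),
    (secP f n U).symm (Φ f hU hV e n (b • x)) = b • (secP f n U).symm (Φ f hU hV e n x) := by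
  letI := (f.appLE V U e).hom.toAlgebra
  intro x
  apply (secP f n U).injective
  rw [AddEquiv.apply_symm_apply, secP_smul, AddEquiv.apply_symm_apply, Algebra.smul_def,
    Algebra.TensorProduct.algebraMap_apply, map_mul, Φ_tmul, map_one, mul_one,
    Scheme.Hom.app_eq_appLE]
  rfl

end Basic

section Chart
variable {X S X' S' : Scheme.{u}} (f : X ⟶ S) (g : S' ⟶ S) (u : X' ⟶ X) (f' : X' ⟶ S')
  (hsq : IsPullback u f' f g) (n : ℕ)
  (φ : (Scheme.Modules.pullback u).obj (P f n) ⟶ P f' n) (hφ : IsPMap f f' u n φ)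

include hφ in
theorem kmapP_dn {W : X.Opens} {W' : X'.Opens} (i : W' ≤ u ⁻¹ᵁ W) (b : Γ(X, W)) :
    (φ.app W').hom (ρ u i (P f n) (dn f n W b)) = dn f' n W' ((u.appLE W W' i).hom b) := by
  rw [ρ_apply]
  have h3 := app_map' φ (homOfLE i) (OmegaSh.pullSect u (P f n) W (dn f n W b))
  refine h3.trans ?_
  have h4 : (φ.app (u ⁻¹ᵁ W)).hom (OmegaSh.pullSect u (P f n) W (dn f n W b)) =
      dn f' n (u ⁻¹ᵁ W) (u.app W b) := hφ W b
  rw [h4]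
  exact (dn_map f' n i _).symm

variable {U : X.Opens} (hU : IsAffineOpen U) {V : S.Opens} (hV : IsAffineOpen V) (e : U ≤ f ⁻¹ᵁ V)
  {V' : S'.Opens} (hV' : IsAffineOpen V') (eV : V' ≤ g ⁻¹ᵁ V)

include hsq hU hV e hV' eV in
theorem isAffineOpen_chart : IsAffineOpen (u ⁻¹ᵁ U ⊓ f' ⁻¹ᵁ V') := by
  have : IsAffine V := hV
  have : IsAffine V' := hV'
  have : IsAffine U := hU
  exact .of_isIso (Scheme.Hom.isPullback_resLE hsq eV e rfl).isoPullback.hom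

include hsq hφ hU hV e hV' eV in
theorem chartP_bijective : Function.Bijective (φ.app (u ⁻¹ᵁ U ⊓ f' ⁻¹ᵁ V')).hom := by
  have hU' := isAffineOpen_chart f g u f' hsq hU hV e hV' eV
  have e' : u ⁻¹ᵁ U ⊓ f' ⁻¹ᵁ V' ≤ f' ⁻¹ᵁ V' := inf_le_right
  have eU : u ⁻¹ᵁ U ⊓ f' ⁻¹ᵁ V' ≤ u ⁻¹ᵁ U := inf_le_left
  have hpo := ((isIso_pushoutSection_iff hsq eV e rfl).mp
    (isIso_pushoutSection_of_isAffineOpen hsq eV e rfl hV hV' hU)).flip
  letI i1 : Algebra Γ(S, V) Γ(S', V') := (g.appLE V V' eV).hom.toAlgebra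
  letI i2 : Algebra Γ(S, V) Γ(X, U) := (f.appLE V U e).hom.toAlgebra
  letI i3 : Algebra Γ(S', V') Γ(X', u ⁻¹ᵁ U ⊓ f' ⁻¹ᵁ V') := (f'.appLE V' _ e').hom.toAlgebra
  letI i4 : Algebra Γ(X, U) Γ(X', u ⁻¹ᵁ U ⊓ f' ⁻¹ᵁ V') := (u.appLE U _ eU).hom.toAlgebra
  letI i5 : Algebra Γ(S, V) Γ(X', u ⁻¹ᵁ U ⊓ f' ⁻¹ᵁ V') :=
    (g.appLE V V' eV ≫ f'.appLE V' _ e').hom.toAlgebra
  haveI : IsScalarTower Γ(S, V) Γ(S', V') Γ(X', u ⁻¹ᵁ U ⊓ f' ⁻¹ᵁ V') :=
    IsScalarTower.of_algebraMap_eq' rfl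
  haveI : IsScalarTower Γ(S, V) Γ(X, U) Γ(X', u ⁻¹ᵁ U ⊓ f' ⁻¹ᵁ V') :=
    IsScalarTower.of_algebraMap_eq' (by
      change (g.appLE V V' eV ≫ f'.appLE V' _ e').hom = (f.appLE V U e ≫ u.appLE U _ eU).hom
      rw [hpo.w])
  haveI : Algebra.IsPushout Γ(S, V) Γ(S', V') Γ(X, U) Γ(X', u ⁻¹ᵁ U ⊓ f' ⁻¹ᵁ V') :=
    CommRingCat.isPushout_iff_isPushout.mp hpo
  have hρ := isBC_ρ u hU hU' eU (P f n)
  let q : Γ(X, U) ⊗[Γ(S, V)] Γ(X, U) →+ Γ(P f n, U) :=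
    (secP f n U).symm.toAddMonoidHom.comp (Φ f hU hV e n).toAddMonoidHom
  let q' : Γ(X', u ⁻¹ᵁ U ⊓ f' ⁻¹ᵁ V') ⊗[Γ(S', V')] Γ(X', u ⁻¹ᵁ U ⊓ f' ⁻¹ᵁ V') →ₗ[Γ(X', u ⁻¹ᵁ U ⊓ f' ⁻¹ᵁ V')]
      Γ(P f' n, u ⁻¹ᵁ U ⊓ f' ⁻¹ᵁ V') :=
    { toFun := fun z => (secP f' n _).symm (Φ f' hU' hV' e' n z)
      map_add' := fun a b => by rw [map_add, map_add]
      map_smul' := fun b x => qP_smul f' n hU' hV' e' b x }
  let k : Γ(P f n, U) →+ Γ(P f' n, u ⁻¹ᵁ U ⊓ f' ⁻¹ᵁ V') :=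
    (φ.app (u ⁻¹ᵁ U ⊓ f' ⁻¹ᵁ V')).hom.comp (ρ u eU (P f n))
  have hk : IsBC (u.appLE U _ eU).hom k := by
    refine isBC_quot Γ(S, V) Γ(S', V') Γ(X, U) Γ(X', u ⁻¹ᵁ U ⊓ f' ⁻¹ᵁ V') n q q' k ?_ ?_ ?_ ?_ ?_ ?_
    · intro y
      obtain ⟨z, hz⟩ := Φ_surjective f hU hV e n (secP f n U y)
      refine ⟨z, ?_⟩
      change (secP f n U).symm (Φ f hU hV e n z) = y
      rw [hz, AddEquiv.symm_apply_apply]
    · intro b x
      exact qP_smul f n hU hV e b x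
    · intro y
      obtain ⟨z, hz⟩ := Φ_surjective f' hU' hV' e' n (secP f' n _ y)
      refine ⟨z, ?_⟩
      change (secP f' n _).symm (Φ f' hU' hV' e' n z) = y
      rw [hz, AddEquiv.symm_apply_apply]
    · intro x hx
      change (secP f n U).symm (Φ f hU hV e n x) = 0
      rw [← ker_Φ f hU hV e n, RingHom.mem_ker] at hx
      rw [hx, map_zero]
    · intro x' hx'
      have h1 : (secP f' n _).symm (Φ f' hU' hV' e' n x') = 0 := hx'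
      rw [← ker_Φ f' hU' hV' e' n, RingHom.mem_ker]
      exact (AddEquiv.map_eq_zero_iff _).mp h1
    · intro b₁ b₂
      change k ((secP f n U).symm (Φ f hU hV e n (b₁ ⊗ₜ b₂))) =
        (secP f' n _).symm (Φ f' hU' hV' e' n
          ((u.appLE U _ eU).hom b₁ ⊗ₜ (u.appLE U _ eU).hom b₂))
      rw [qP_tmul f n hU hV e, qP_tmul f' n hU' hV' e']
      change (φ.app _).hom (ρ u eU (P f n) (b₁ • dn f n U b₂)) = _
      rw [hρ.map_smul]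
      refine (Scheme.Modules.Hom.app_smul φ _ _).trans ?_
      congr 1
      exact kmapP_dn f u f' n φ hφ eU b₂
  exact IsBC.bijective_of_comp hρ hk (appLin φ _) (fun _ => rfl)

end Chart

section Global
variable {X S X' S' : Scheme.{u}} (f : X ⟶ S) (g : S' ⟶ S) (u : X' ⟶ X) (f' : X' ⟶ S')
  (hsq : IsPullback u f' f g) (n : ℕ)
  (φ : (Scheme.Modules.pullback u).obj (P f n) ⟶ P f' n) (hφ : IsPMap f f' u n φ)

include hsq in
theorem exists_chartP (x' : X') : ∃ (U : X.Opens) (V : S.Opens) (V' : S'.Opens),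
    IsAffineOpen U ∧ IsAffineOpen V ∧ U ≤ f ⁻¹ᵁ V ∧ IsAffineOpen V' ∧ V' ≤ g ⁻¹ᵁ V ∧
      x' ∈ u ⁻¹ᵁ U ⊓ f' ⁻¹ᵁ V' := by
  obtain ⟨_, ⟨V, hV, rfl⟩, hxV, -⟩ := S.isBasis_affineOpens.exists_subset_of_mem_open
    (Set.mem_univ (f (u x'))) isOpen_univ
  obtain ⟨_, ⟨U, hU, rfl⟩, hxU, hUV⟩ := X.isBasis_affineOpens.exists_subset_of_mem_open
    (show u x' ∈ ((f ⁻¹ᵁ V : X.Opens) : Set X) from hxV) (f ⁻¹ᵁ V).2
  have hx2 : f' x' ∈ ((g ⁻¹ᵁ V : S'.Opens) : Set S') := by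
    change (f' ≫ g) x' ∈ V
    rw [← hsq.w]
    exact hxV
  obtain ⟨_, ⟨V', hV', rfl⟩, hxV', hVV'⟩ := S'.isBasis_affineOpens.exists_subset_of_mem_open
    hx2 (g ⁻¹ᵁ V).2
  exact ⟨U, V, V', hU, hV, hUV, hV', hVV', hxU, hxV'⟩

include hsq hφ in
/-- S5954 -/
theorem isIso_PMap : IsIso φ := by
  haveI : ((Scheme.Modules.pullback u).obj (P f n)).IsQuasicoherent :=
    Groth.Agent.Lib.helper16.QCohPullback.isQuasicoherent_pullback u _
  choose U V V' hU hV e hV' eV hx using exists_chartP f g u f' hsq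
  exact Groth.Agent.Lib.helper7.KerSections.isIso_of_bijective_cover φ
    (fun x' : X' => u ⁻¹ᵁ (U x') ⊓ f' ⁻¹ᵁ (V' x'))
    (fun x' => isAffineOpen_chart f g u f' hsq (hU x') (hV x') (e x') (hV' x') (eV x'))
    (fun x' => ⟨x', hx x'⟩)
    (fun x' => chartP_bijective f g u f' hsq n φ hφ (hU x') (hV x') (e x') (hV' x') (eV x'))

end Global

end Groth.Agent.Lib.helper21.PPBC
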