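import Groth.Agent.Lib.Helper21.GrBCAlg1

/-!
# Algebra for base change of principal parts (helper21, S5954)

* `isBC_of_surjective`: a base change `h : N → N'` along `ψ : B → B'` descends to quotients
  `N → M`, `N' → M'` when the kernel of `N' → M'` is `B'`-spanned by the image of the kernel of `N → M`.
* `map_le_span`: for a ring map `h : R → R'` (`R` a `B`-algebra, `R'` a `B'`-algebra) whose image spans `R'`
  over `B'`, the extension of an ideal `K` is `B'`-spanned by `h K`.
* `tmap : B ⊗[A] B →+* B' ⊗[A'] B'`, `isBC_tmap` (for `B' = A' ⊗[A] B`), `ideal_map_tmap`.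
-/

set_option autoImplicit false
set_option linter.style.haveILetI false
universe u
open TensorProduct

namespace Groth.Agent.Lib.helper21.PPBC

open Groth.Agent.Lib.helper8.PullbackUnit Groth.Agent.Lib.helper21.GrBCAlg

section StepA
variable {B B' : Type u} [CommRing B] [CommRing B'] {ψ : B →+* B'}
  {N N' M M' : Type u} [AddCommGroup N] [Module B N] [AddCommGroup N'] [Module B' N']
  [AddCommGroup M] [Module B M] [AddCommGroup M'] [Module B' M']
  {h : N →+ N'} {q : N →+ M} {q' : N' →ₗ[B'] M'} {k : M →+ M'}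

theorem isBC_of_surjective (hh : IsBC ψ h) (hq : Function.Surjective q)
    (hqs : ∀ (b : B) (n : N), q (b • n) = b • q n)
    (hq' : Function.Surjective q') (hcomm : ∀ n, k (q n) = q' (h n))
    (hker : LinearMap.ker q' ≤ Submodule.span B' (h '' {n | q n = 0})) : IsBC ψ k := by
  constructor
  · intro b m
    obtain ⟨n, rfl⟩ := hq m
    rw [← hqs, hcomm, hcomm, hh.map_smul, _root_.map_smul]
  · intro T _ _ ℓ hℓ
    obtain ⟨ℓ₁, hℓ₁, hu₁⟩ := hh.existsUnique_lift T (ℓ.comp q) (by
      intro b n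
      change ℓ (q (b • n)) = ψ b • ℓ (q n)
      rw [hqs, hℓ])
    have hle : LinearMap.ker q' ≤ LinearMap.ker ℓ₁ := by
      refine hker.trans ?_
      rw [Submodule.span_le]
      rintro _ ⟨n, hn, rfl⟩
      change ℓ₁ (h n) = 0
      rw [hℓ₁]
      change ℓ (q n) = 0
      rw [hn, map_zero]
    let ℓ₂ : M' →ₗ[B'] T := ((LinearMap.ker q').liftQ ℓ₁ hle).comp
      (q'.quotKerEquivOfSurjective hq').symm.toLinearMap
    have hℓ₂ : ∀ n', ℓ₂ (q' n') = ℓ₁ n' := by
      intro n'
      have : (q'.quotKerEquivOfSurjective hq').symm (q' n') = Submodule.Quotient.mk n' := by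
        rw [LinearEquiv.symm_apply_eq]
        rfl
      change ((LinearMap.ker q').liftQ ℓ₁ hle) ((q'.quotKerEquivOfSurjective hq').symm (q' n')) = _
      rw [this]
      rfl
    refine ⟨ℓ₂, fun m => ?_, fun ℓ₃ hℓ₃ => ?_⟩
    · obtain ⟨n, rfl⟩ := hq m
      rw [hcomm, hℓ₂, hℓ₁]
      rfl
    · have h1 : ℓ₃.comp q' = ℓ₁ := hu₁ _ (fun n => by
        change ℓ₃ (q' (h n)) = ℓ (q n)
        rw [← hcomm, hℓ₃])
      ext m'
      obtain ⟨n', rfl⟩ := hq' m'
      rw [hℓ₂, ← h1]
      rfl

end StepA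

section StepB
variable {B' : Type u} [CommRing B'] {R R' : Type u} [CommRing R] [CommRing R'] [Algebra B' R']

theorem map_le_span (h : R →+* R') (hspan : Submodule.span B' (Set.range h) = ⊤) (K : Ideal R)
    (x : R') (hx : x ∈ K.map h) : x ∈ Submodule.span B' (h '' (K : Set R)) := by
  have key : ∀ (z : R') (y : R'), y ∈ Submodule.span B' (h '' (K : Set R)) →
      z * y ∈ Submodule.span B' (h '' (K : Set R)) := by
    intro z y hy
    induction hy using Submodule.span_induction with
    | mem y hy =>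
      obtain ⟨k, hk, rfl⟩ := hy
      have hz : z ∈ Submodule.span B' (Set.range h) := by rw [hspan]; trivial
      induction hz using Submodule.span_induction with
      | mem z hz =>
        obtain ⟨n, rfl⟩ := hz
        rw [← map_mul]
        exact Submodule.subset_span ⟨n * k, K.mul_mem_left n hk, rfl⟩
      | zero => rw [zero_mul]; exact Submodule.zero_mem _
      | add a b _ _ ha hb => rw [add_mul]; exact Submodule.add_mem _ ha hb
      | smul c a _ ha => rw [Algebra.smul_mul_assoc]; exact Submodule.smul_mem _ _ ha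
    | zero => rw [mul_zero]; exact Submodule.zero_mem _
    | add a b _ _ ha hb => rw [mul_add]; exact Submodule.add_mem _ ha hb
    | smul c a _ ha => rw [Algebra.mul_smul_comm]; exact Submodule.smul_mem _ _ ha
  rw [Ideal.map] at hx
  induction hx using Submodule.span_induction with
  | mem y hy => exact Submodule.subset_span hy
  | zero => exact Submodule.zero_mem _
  | add a b _ _ ha hb => exact Submodule.add_mem _ ha hb
  | smul z a _ ha => exact key z a ha

end StepB

section StepC
variable (A A' B B' : Type u) [CommRing A] [CommRing A'] [CommRing B] [CommRing B']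
  [Algebra A A'] [Algebra A B] [Algebra A' B'] [Algebra B B'] [Algebra A B']
  [IsScalarTower A A' B'] [IsScalarTower A B B']

/-- `B ⊗[A] B → B' ⊗[A'] B'` -/
noncomputable def tmap : B ⊗[A] B →+* B' ⊗[A'] B' :=
  (Algebra.TensorProduct.mapOfCompatibleSMul A' A A B' B').toRingHom.comp
    (Algebra.TensorProduct.map (IsScalarTower.toAlgHom A B B')
      (IsScalarTower.toAlgHom A B B')).toRingHom

@[simp] theorem tmap_tmul (b₁ b₂ : B) :
    tmap A A' B B' (b₁ ⊗ₜ[A] b₂) = algebraMap B B' b₁ ⊗ₜ[A'] algebraMap B B' b₂ := rfl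

theorem tmap_smul (b : B) (x : B ⊗[A] B) :
    tmap A A' B B' (b • x) = algebraMap B B' b • tmap A A' B B' x := by
  rw [Algebra.smul_def, Algebra.smul_def, map_mul, Algebra.TensorProduct.algebraMap_apply,
    Algebra.TensorProduct.algebraMap_apply, tmap_tmul, map_one]
  rfl

end StepC

section StepD
variable (A A' B B' : Type u) [CommRing A] [CommRing A'] [CommRing B] [CommRing B']
  [Algebra A A'] [Algebra A B] [Algebra A' B'] [Algebra B B'] [Algebra A B']
  [IsScalarTower A A' B'] [IsScalarTower A B B'] [Algebra.IsPushout A A' B B']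

theorem isBC_tmap :
    IsBC (algebraMap B B') ((tmap A A' B B' : B ⊗[A] B →+* B' ⊗[A'] B') : B ⊗[A] B →+ B' ⊗[A'] B') := by
  refine ⟨tmap_smul A A' B B', ?_⟩
  intro T _ _ ℓ hℓ
  letI : Module A' T := Module.compHom T (algebraMap A' B')
  haveI : IsScalarTower A' B' T := ⟨fun a' b' t => by
    change (a' • b') • t = algebraMap A' B' a' • b' • t
    rw [Algebra.smul_def, mul_smul]⟩
  have hψ : IsBC (algebraMap A A')
      ((IsScalarTower.toAlgHom A B B').toLinearMap.toAddMonoidHom : B →+ B') :=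
    IsBC.of_isBaseChange _ (Algebra.IsPushout.out)
  let lam : B →+ T := ℓ.comp ((Algebra.TensorProduct.includeRight : B →ₐ[A] B ⊗[A] B) : B →+ B ⊗[A] B)
  have hlam : ∀ (a : A) (y : B), lam (a • y) = algebraMap A A' a • lam y := by
    intro a y
    change ℓ ((1 : B) ⊗ₜ[A] (a • y)) = algebraMap A' B' (algebraMap A A' a) • ℓ ((1 : B) ⊗ₜ[A] y)
    have h1 : (1 : B) ⊗ₜ[A] (a • y) = algebraMap A B a • ((1 : B) ⊗ₜ[A] y) := by
      rw [TensorProduct.tmul_smul, ← algebraMap_smul B a ((1 : B) ⊗ₜ[A] y)]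
    rw [h1, hℓ, ← IsScalarTower.algebraMap_apply, ← IsScalarTower.algebraMap_apply]
  obtain ⟨lam', hlam', hu'⟩ := hψ.existsUnique_lift T lam hlam
  let β : B' →ₗ[A'] B' →ₗ[A'] T := LinearMap.mk₂ A' (fun x' y' => x' • lam' y')
    (fun a b c => add_smul a b _) (fun c a b => by rw [smul_assoc])
    (fun a b c => by rw [map_add, smul_add]) (fun c a b => by rw [map_smul, smul_comm])
  let L₀ : B' ⊗[A'] B' →ₗ[A'] T := TensorProduct.lift β
  have hL₀ : ∀ x' y', L₀ (x' ⊗ₜ y') = x' • lam' y' := fun x' y' => rfl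
  let L : B' ⊗[A'] B' →ₗ[B'] T :=
    { toFun := L₀
      map_add' := map_add L₀
      map_smul' := fun c z => by
        induction z using TensorProduct.induction_on with
        | zero => simp
        | tmul x' y' =>
          rw [TensorProduct.smul_tmul', hL₀, RingHom.id_apply, hL₀, smul_eq_mul, mul_smul]
        | add z w hz hw => rw [smul_add, map_add, map_add, hz, hw, smul_add] }
  have hL : ∀ z, L (tmap A A' B B' z) = ℓ z := by
    intro z
    induction z using TensorProduct.induction_on with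
    | zero => rw [map_zero, map_zero, map_zero]
    | tmul b₁ b₂ =>
      change L₀ (algebraMap B B' b₁ ⊗ₜ algebraMap B B' b₂) = _
      rw [hL₀]
      have h2 : lam' (algebraMap B B' b₂) = ℓ ((1 : B) ⊗ₜ[A] b₂) := hlam' b₂
      rw [h2, ← hℓ, TensorProduct.smul_tmul', smul_eq_mul, mul_one]
    | add z w hz hw => rw [map_add, map_add, map_add, hz, hw]
  refine ⟨L, hL, fun L' hL' => ?_⟩
  -- uniqueness
  let μ : B' →ₗ[A'] T :=
    { toFun := fun y' => L' ((1 : B') ⊗ₜ[A'] y')
      map_add' := fun a b => by rw [TensorProduct.tmul_add, map_add]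
      map_smul' := fun a' y' => by
        rw [TensorProduct.tmul_smul, RingHom.id_apply,
          ← algebraMap_smul B' a' ((1 : B') ⊗ₜ[A'] y'), _root_.map_smul]
        rfl }
  have hμ : μ = lam' := hu' μ (fun y => by
    change L' ((1 : B') ⊗ₜ[A'] algebraMap B B' y) = ℓ ((1 : B) ⊗ₜ[A] y)
    rw [← hL']
    change L' ((1 : B') ⊗ₜ[A'] algebraMap B B' y) = L' (algebraMap B B' 1 ⊗ₜ[A'] algebraMap B B' y)
    rw [map_one])
  refine LinearMap.ext (fun z => ?_)
  induction z using TensorProduct.induction_on with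
  | zero => rw [map_zero, map_zero]
  | tmul x' y' =>
    have h3 : x' ⊗ₜ[A'] y' = x' • ((1 : B') ⊗ₜ[A'] y') := by
      rw [TensorProduct.smul_tmul', smul_eq_mul, mul_one]
    rw [h3, _root_.map_smul, _root_.map_smul]
    congr 1
    change μ y' = L₀ ((1 : B') ⊗ₜ y')
    rw [hμ, hL₀, one_smul]
  | add z w hz hw => rw [map_add, map_add, hz, hw]

end StepD

section StepE
variable (A A' B B' : Type u) [CommRing A] [CommRing A'] [CommRing B] [CommRing B']
  [Algebra A A'] [Algebra A B] [Algebra A' B'] [Algebra B B'] [Algebra A B']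
  [IsScalarTower A A' B'] [IsScalarTower A B B'] [Algebra.IsPushout A A' B B']

theorem ideal_map_tmap :
    (KaehlerDifferential.ideal A B).map (tmap A A' B B') = KaehlerDifferential.ideal A' B' := by
  apply le_antisymm
  · rw [Ideal.map_le_iff_le_comap, ← KaehlerDifferential.span_range_eq_ideal, Ideal.span_le]
    rintro _ ⟨s, rfl⟩
    change tmap A A' B B' ((1 : B) ⊗ₜ[A] s - s ⊗ₜ[A] (1 : B)) ∈ KaehlerDifferential.ideal A' B'
    rw [map_sub, tmap_tmul, tmap_tmul, map_one]
    exact KaehlerDifferential.one_smul_sub_smul_one_mem_ideal A' _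
  · rw [← KaehlerDifferential.span_range_eq_ideal A' B', Ideal.span_le]
    rintro _ ⟨y', rfl⟩
    change (1 : B') ⊗ₜ[A'] y' - y' ⊗ₜ[A'] (1 : B') ∈
      (KaehlerDifferential.ideal A B).map (tmap A A' B B')
    have hbc : IsBaseChange A' (IsScalarTower.toAlgHom A B B').toLinearMap := Algebra.IsPushout.out
    refine hbc.inductionOn y'
      (fun y' => (1 : B') ⊗ₜ[A'] y' - y' ⊗ₜ[A'] (1 : B') ∈
        (KaehlerDifferential.ideal A B).map (tmap A A' B B')) ?_ ?_ ?_ ?_
    · simp
    · intro y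
      have h1 : (1 : B') ⊗ₜ[A'] (algebraMap B B' y) - (algebraMap B B' y) ⊗ₜ[A'] (1 : B') =
          tmap A A' B B' ((1 : B) ⊗ₜ[A] y - y ⊗ₜ[A] (1 : B)) := by
        rw [map_sub, tmap_tmul, tmap_tmul, map_one]
      change (1 : B') ⊗ₜ[A'] (algebraMap B B' y) - (algebraMap B B' y) ⊗ₜ[A'] (1 : B') ∈ _
      rw [h1]
      exact Ideal.mem_map_of_mem _ (KaehlerDifferential.one_smul_sub_smul_one_mem_ideal A y)
    · intro a' y' hy'
      have h2 : (1 : B') ⊗ₜ[A'] (a' • y') - (a' • y') ⊗ₜ[A'] (1 : B') =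
          a' • ((1 : B') ⊗ₜ[A'] y' - y' ⊗ₜ[A'] (1 : B')) := by
        rw [smul_sub, TensorProduct.tmul_smul a' (1 : B') y',
          ← TensorProduct.smul_tmul' a' y' (1 : B')]
      rw [h2, Algebra.smul_def]
      exact Ideal.mul_mem_left _ _ hy'
    · intro y₁ y₂ h₁ h₂
      have h3 : (1 : B') ⊗ₜ[A'] (y₁ + y₂) - (y₁ + y₂) ⊗ₜ[A'] (1 : B') =
          ((1 : B') ⊗ₜ[A'] y₁ - y₁ ⊗ₜ[A'] (1 : B')) + ((1 : B') ⊗ₜ[A'] y₂ - y₂ ⊗ₜ[A'] (1 : B')) := by
        rw [TensorProduct.tmul_add, TensorProduct.add_tmul]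
        abel
      rw [h3]
      exact Ideal.add_mem _ h₁ h₂

theorem ideal_pow_map_tmap (n : ℕ) :
    (KaehlerDifferential.ideal A B ^ n).map (tmap A A' B B') = KaehlerDifferential.ideal A' B' ^ n := by
  rw [Ideal.map_pow, ideal_map_tmap]

end StepE

section StepF
variable (A A' B B' : Type u) [CommRing A] [CommRing A'] [CommRing B] [CommRing B']
  [Algebra A A'] [Algebra A B] [Algebra A' B'] [Algebra B B'] [Algebra A B']
  [IsScalarTower A A' B'] [IsScalarTower A B B'] [Algebra.IsPushout A A' B B']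

include A A' in
/-- base change of `(B ⊗[A] B) ⧸ I ^ (n + 1)` -/
theorem isBC_quot (n : ℕ) {M M' : Type u} [AddCommGroup M] [Module B M] [AddCommGroup M']
    [Module B' M'] (q : B ⊗[A] B →+ M) (q' : B' ⊗[A'] B' →ₗ[B'] M') (k : M →+ M')
    (hq : Function.Surjective q) (hqs : ∀ (b : B) (x : B ⊗[A] B), q (b • x) = b • q x)
    (hq' : Function.Surjective q')
    (hkq : ∀ x, x ∈ KaehlerDifferential.ideal A B ^ (n + 1) → q x = 0)
    (hkq' : ∀ x', q' x' = 0 → x' ∈ KaehlerDifferential.ideal A' B' ^ (n + 1))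
    (hcomm : ∀ b₁ b₂ : B, k (q (b₁ ⊗ₜ[A] b₂)) = q' (algebraMap B B' b₁ ⊗ₜ[A'] algebraMap B B' b₂)) :
    IsBC (algebraMap B B') k := by
  have hcomm' : ∀ x, k (q x) = q' (tmap A A' B B' x) := by
    intro x
    induction x using TensorProduct.induction_on with
    | zero => rw [map_zero, map_zero, map_zero, map_zero]
    | tmul b₁ b₂ => exact hcomm b₁ b₂
    | add x y hx hy => rw [map_add, map_add, map_add, map_add, hx, hy]
  have hbc := isBC_tmap A A' B B'
  have hspan : Submodule.span B' (Set.range (tmap A A' B B')) = ⊤ := IsBC.span_range hbc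
  refine isBC_of_surjective hbc hq hqs hq' hcomm' ?_
  intro x' hx'
  have h1 : x' ∈ (KaehlerDifferential.ideal A B ^ (n + 1)).map (tmap A A' B B') := by
    rw [ideal_pow_map_tmap]
    exact hkq' x' hx'
  have h2 := map_le_span (B' := B') (tmap A A' B B') hspan _ x' h1
  refine Submodule.span_mono ?_ h2
  rintro _ ⟨y, hy, rfl⟩
  exact ⟨y, hkq y hy, rfl⟩

end StepF

end Groth.Agent.Lib.helper21.PPBC
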