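import Mathlib
import Groth.Prelude.Def_ModSite
import Groth.Prelude.Def_ModSite2
import Groth.Agent.Lib.Helper21.ExtZeroS

/-!
Helper library (helper21): the stalk of `p_! N` (extension by zero of a presheaf of modules
along `C/X → C`) at a point `p` of the site is the coproduct over `x ∈ p.fiber X` of the
stalks of `N` at the points `p.over x` of `C/X`; consequently the same holds for `j_!` of sheaves
of modules.
-/

set_option autoImplicit false
universe u
open CategoryTheory Opposite Limits

namespace Groth.Agent.Lib.Helper21.PointShriek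

open Groth.Agent.Lib.Helper21.TensorW Groth.Agent.Lib.Helper21.ExtZeroP
open scoped Classical DirectSum

variable {C : Type u} [SmallCategory C] {J : GrothendieckTopology C}
  (p : GrothendieckTopology.Point.{u} J)
  {R : Cᵒᵖ ⥤ CommRingCat.{u}} {X : C} (N : PMX R X)

/-- the family of stalks of `N` at the points of `C/X` over `p` -/
noncomputable abbrev fam (x : p.fiber.obj X) : AddCommGrpCat.{u} :=
  (p.over x).presheafFiber.obj N.presheaf

/-- the coproduct of the stalks of `N` at the points over `p` -/
noncomputable abbrev tgt : AddCommGrpCat.{u} := ∐ fam p N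

/-- the map of the summand at `f`, given a point `y` of the fibre at the source of `f` -/
noncomputable def leg {Y : C} (y : p.fiber.obj Y) (f : Y ⟶ X) :
    N.obj (op (Over.mk f)) →+ tgt p N :=
  ((p.over (p.fiber.map f y)).toPresheafFiber (Over.mk f) ⟨y, rfl⟩ N.presheaf ≫
    Sigma.ι (fam p N) (p.fiber.map f y)).hom

lemma leg_eq {Y : C} (y : p.fiber.obj Y) (f : Y ⟶ X) (x : p.fiber.obj X)
    (h : p.fiber.map f y = x) :
    ((p.over x).toPresheafFiber (Over.mk f) ⟨y, h⟩ N.presheaf ≫ Sigma.ι (fam p N) x).hom =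
      leg p N y f := by
  subst h
  rfl

/-- the map out of `T N Y` given a point `y` of the fibre at `Y` -/
noncomputable def legT {Y : C} (y : p.fiber.obj Y) : T N (op Y) →+ tgt p N :=
  DirectSum.toAddMonoid fun f => leg p N y f

lemma legT_of {Y : C} (y : p.fiber.obj Y) (f : Y ⟶ X) (n : N.obj (op (Over.mk f))) :
    legT p N y (DirectSum.of (fun f' : (Y ⟶ X) => comp N (op Y) f') f n) = leg p N y f n := by
  simp [legT]

lemma leg_rmap {Y' Y : C} (g : Y' ⟶ Y) (y' : p.fiber.obj Y') (f : Y ⟶ X)
    (n : N.obj (op (Over.mk f))) :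
    leg p N y' (g ≫ f) (rmap N (ovHom g.op f) n) = leg p N (p.fiber.map g y') f n := by
  have h : p.fiber.map f (p.fiber.map g y') = p.fiber.map (g ≫ f) y' := by
    simp
  rw [← leg_eq p N (p.fiber.map g y') f (p.fiber.map (g ≫ f) y') h]
  have hw := (p.over (p.fiber.map (g ≫ f) y')).toPresheafFiber_w
    (Over.homMk g rfl : Over.mk (g ≫ f) ⟶ Over.mk f) ⟨y', rfl⟩ N.presheaf
  have hw' := congrArg (fun φ => (φ ≫ Sigma.ι (fam p N) (p.fiber.map (g ≫ f) y')).hom n) hw
  exact hw'

lemma legT_resT {Y' Y : C} (g : Y' ⟶ Y) (y' : p.fiber.obj Y') (t : T N (op Y)) :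
    legT p N y' (resT N g.op t) = legT p N (p.fiber.map g y') t := by
  induction t using DirectSum.induction_on with
  | zero => simp
  | of f n =>
    rw [resT_of]
    exact (legT_of p N y' (g ≫ f) _).trans
      ((leg_rmap p N g y' f n).trans (legT_of p N (p.fiber.map g y') f n).symm)
  | add t t' ht ht' => rw [map_add, map_add, map_add, ht, ht']

/-- the comparison map from the stalk of `p_! N` to the coproduct of stalks -/
noncomputable def β : p.presheafFiber.obj (abPsh N) ⟶ tgt p N :=
  p.presheafFiberDesc (P := abPsh N) (fun Y y => AddCommGrpCat.ofHom (legT p N y)) (by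
    intro Y' Y g y'
    refine AddCommGrpCat.hom_ext (AddMonoidHom.ext fun t => ?_)
    exact legT_resT p N g y' t)

lemma toPresheafFiber_β {Y : C} (y : p.fiber.obj Y) :
    p.toPresheafFiber Y y (abPsh N) ≫ β p N = AddCommGrpCat.ofHom (legT p N y) :=
  p.toPresheafFiber_presheafFiberDesc _ _ Y y

/-- the component of the inverse map at a point `x` of the fibre at `X` -/
noncomputable def αx (x : p.fiber.obj X) : fam p N x ⟶ p.presheafFiber.obj (abPsh N) :=
  (p.over x).presheafFiberDesc (P := N.presheaf)
    (fun A a => AddCommGrpCat.ofHom (ofA N (op A)) ≫ p.toPresheafFiber A.left a.1 (abPsh N)) (by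
    intro A B φ a
    refine AddCommGrpCat.hom_ext (AddMonoidHom.ext fun n => ?_)
    have h1 : ofA N (op A) (rmap N φ.op n) = resT N φ.left.op (ofA N (op B) n) :=
      ofA_rmap N φ.op n
    have hw := p.toPresheafFiber_w φ.left a.1 (abPsh N)
    have hw' := congrArg (fun ψ => ψ.hom (ofA N (op B) n)) hw
    refine Eq.trans ?_ hw'
    exact congrArg (fun t => (p.toPresheafFiber A.left a.1 (abPsh N)).hom t) h1)

lemma toPresheafFiber_αx (x : p.fiber.obj X) (A : Over X) (a : (p.over x).fiber.obj A) :
    (p.over x).toPresheafFiber A a N.presheaf ≫ αx p N x =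
      AddCommGrpCat.ofHom (ofA N (op A)) ≫ p.toPresheafFiber A.left a.1 (abPsh N) :=
  (p.over x).toPresheafFiber_presheafFiberDesc _ _ A a

/-- the inverse comparison map -/
noncomputable def α : tgt p N ⟶ p.presheafFiber.obj (abPsh N) :=
  Sigma.desc fun x => αx p N x

lemma α_β : α p N ≫ β p N = 𝟙 _ := by
  refine Sigma.hom_ext _ _ fun x => ?_
  rw [α, Sigma.ι_desc_assoc, Category.comp_id]
  refine (p.over x).presheafFiber_hom_ext fun A a => ?_
  refine AddCommGrpCat.hom_ext (AddMonoidHom.ext fun n => ?_)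
  have e1 := congrArg (fun ψ => (β p N).hom (ψ.hom n)) (toPresheafFiber_αx p N x A a)
  have e2 := congrArg (fun ψ => ψ.hom (ofA N (op A) n)) (toPresheafFiber_β p N a.1)
  refine e1.trans (e2.trans ?_)
  obtain ⟨Y, ⟨⟨⟩⟩, f⟩ := A
  obtain ⟨y, hy⟩ := a
  have h1 : legT p N y (ofA N (op (Over.mk f)) n) = leg p N y f n := legT_of p N y f n
  have h2 := congrArg (fun ψ => ψ n) (leg_eq p N y f x hy)
  exact h1.trans h2.symm

lemma β_α : β p N ≫ α p N = 𝟙 _ := by
  refine p.presheafFiber_hom_ext fun Y y => ?_
  rw [← Category.assoc, toPresheafFiber_β, Category.comp_id]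
  refine AddCommGrpCat.hom_ext (AddMonoidHom.ext fun t => ?_)
  induction t using DirectSum.induction_on with
  | zero =>
    exact (map_zero (AddCommGrpCat.ofHom (legT p N y) ≫ α p N).hom).trans
      (map_zero (p.toPresheafFiber Y y (abPsh N)).hom).symm
  | of f n =>
    have h0 : (AddCommGrpCat.ofHom (legT p N y) ≫ α p N).hom
        (DirectSum.of (fun f' : (Y ⟶ X) => comp N (op Y) f') f n) =
        (α p N).hom (leg p N y f n) := congrArg (fun t => (α p N).hom t) (legT_of p N y f n)
    refine h0.trans ?_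
    have h1 : ((p.over (p.fiber.map f y)).toPresheafFiber (Over.mk f) ⟨y, rfl⟩ N.presheaf ≫
        Sigma.ι (fam p N) (p.fiber.map f y)) ≫ α p N =
        AddCommGrpCat.ofHom (ofA N (op (Over.mk f))) ≫ p.toPresheafFiber Y y (abPsh N) := by
      rw [Category.assoc, α, Sigma.ι_desc]
      exact toPresheafFiber_αx p N _ (Over.mk f) ⟨y, rfl⟩
    exact congrArg (fun ψ => ψ.hom n) h1
  | add t t' ht ht' =>
    exact (map_add (AddCommGrpCat.ofHom (legT p N y) ≫ α p N).hom t t').trans
      ((congrArg₂ (· + ·) ht ht').trans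
        (map_add (p.toPresheafFiber Y y (abPsh N)).hom t t').symm)

/-- the stalk of `p_! N` at `p` is the coproduct of the stalks of `N` at the points over `p` -/
noncomputable def fiberExtIso : p.presheafFiber.obj (abPsh N) ≅ tgt p N where
  hom := β p N
  inv := α p N
  hom_inv_id := β_α p N
  inv_hom_id := α_β p N

section sheaves

open Groth.Agent.Lib.Helper21.TensorAdj Groth.Agent.Lib.Helper21.TensorMon
  Groth.Agent.Lib.Helper21.ExtZeroS

variable (O : Sheaf J CommRingCat.{u}) (U : C) (G : ModSite.Mod (O.over U))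

/-- the stalk of `j_! G` at `p` is the stalk of the presheaf `p_! G` -/
noncomputable def stalkExtZeroIso :
    ModSite.stalkAb p ((ModSite.extZero O U).obj G) ≅
      p.presheafFiber.obj (abPsh (R := O.obj) (X := U) G.val) :=
  (SheafOfModules.toSheaf (ModSite.ringSh O) ⋙ p.sheafFiber (A := AddCommGrpCat.{u})).mapIso
      ((extZeroIso O U).app G) ≪≫
    (p.presheafToSheafCompSheafFiberIso AddCommGrpCat.{u}).app
      (abPsh (R := O.obj) (X := U) G.val)

/-- the stalk of `j_! G` at `p` is the coproduct of the stalks of `G` at the points over `p` -/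
noncomputable def stalkExtZeroCoprodIso :
    ModSite.stalkAb p ((ModSite.extZero O U).obj G) ≅
      ∐ fun x : p.fiber.obj U => ModSite.stalkAb (p.over x) G :=
  stalkExtZeroIso p O U G ≪≫ fiberExtIso p (R := O.obj) (X := U) G.val

end sheaves

end Groth.Agent.Lib.Helper21.PointShriek
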