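import Mathlib

/-!
# An object presented by generators and relations is the filtered colimit of its finite sub-presentations (helper21)

`ψ : ∐ Y ⟶ ∐ X` in an abelian category with coproducts, such that each relation `Sigma.ι Y j ≫ ψ` only involves
finitely many generators (`hcpt`), and `π : ∐ X ⟶ F` a cokernel of `ψ`. Then `F` is the colimit of the diagram
`D X Y ψ` indexed by the directed poset `Idx X Y ψ` of pairs `(S, T)` of finite subsets such that the relations
in `T` only involve the generators in `S`, with `D (S, T) = cokernel (∐_T Y ⟶ ∐_S X)` (`isColimit`).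
-/

set_option autoImplicit false
universe u v w

open CategoryTheory CategoryTheory.Limits Opposite

namespace Groth.Agent.Lib.helper21.PresColim

section sub

variable {𝒜 : Type w} [Category.{v} 𝒜] [Preadditive 𝒜] [HasCoproducts.{u} 𝒜] {I : Type u} (X : I → 𝒜)

/-- the finite subcoproduct -/
noncomputable abbrev PS (S : Finset I) : 𝒜 := ∐ fun i : S => X i.1

/-- inclusion of a finite subcoproduct -/
noncomputable def inc (S : Finset I) : PS X S ⟶ ∐ X := Sigma.desc fun i => Sigma.ι X i.1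

open Classical in
/-- projection onto a finite subcoproduct -/
noncomputable def prj (S : Finset I) : ∐ X ⟶ PS X S :=
  Sigma.desc fun i => if h : i ∈ S then Sigma.ι (fun i : S => X i.1) ⟨i, h⟩ else 0

@[reassoc (attr := simp)]
lemma ι_inc (S : Finset I) (i : S) : Sigma.ι (fun i : S => X i.1) i ≫ inc X S = Sigma.ι X i.1 :=
  Sigma.ι_desc _ _

@[reassoc]
lemma ι_prj_of_mem (S : Finset I) (i : I) (h : i ∈ S) :
    Sigma.ι X i ≫ prj X S = Sigma.ι (fun i : S => X i.1) ⟨i, h⟩ := by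
  unfold prj
  rw [Sigma.ι_desc, dif_pos h]

@[reassoc (attr := simp)]
lemma inc_prj (S : Finset I) : inc X S ≫ prj X S = 𝟙 _ := by
  apply Sigma.hom_ext
  intro i
  rw [ι_inc_assoc, ι_prj_of_mem X S i.1 i.2, Category.comp_id]

instance (S : Finset I) : Mono (inc X S) := mono_of_mono_fac (inc_prj X S)

/-- inclusion between finite subcoproducts -/
noncomputable def incSS {S S' : Finset I} (h : S ⊆ S') : PS X S ⟶ PS X S' :=
  Sigma.desc fun i => Sigma.ι (fun i : S' => X i.1) ⟨i.1, h i.2⟩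

@[reassoc (attr := simp)]
lemma ι_incSS {S S' : Finset I} (h : S ⊆ S') (i : S) :
    Sigma.ι (fun i : S => X i.1) i ≫ incSS X h = Sigma.ι (fun i : S' => X i.1) ⟨i.1, h i.2⟩ :=
  Sigma.ι_desc _ _

@[reassoc (attr := simp)]
lemma incSS_inc {S S' : Finset I} (h : S ⊆ S') : incSS X h ≫ inc X S' = inc X S := by
  apply Sigma.hom_ext
  intro i
  rw [ι_incSS_assoc, ι_inc, ι_inc]

/-- the idempotent projecting onto a finite subcoproduct -/
noncomputable def e (S : Finset I) : ∐ X ⟶ ∐ X := prj X S ≫ inc X S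

@[reassoc (attr := simp)]
lemma inc_e (S : Finset I) : inc X S ≫ e X S = inc X S := by
  unfold e
  rw [inc_prj_assoc]

lemma ι_e_of_mem (S : Finset I) (i : I) (h : i ∈ S) : Sigma.ι X i ≫ e X S = Sigma.ι X i := by
  unfold e
  rw [ι_prj_of_mem_assoc X S i h, ι_inc]

lemma e_e_of_subset {S S' : Finset I} (h : S ⊆ S') : e X S ≫ e X S' = e X S := by
  unfold e
  rw [Category.assoc, ← incSS_inc X h, Category.assoc, inc_prj_assoc]

lemma comp_e_of_subset {P : 𝒜} (x : P ⟶ ∐ X) {S S' : Finset I} (h : S ⊆ S')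
    (hx : x ≫ e X S = x) : x ≫ e X S' = x := by
  rw [← hx, Category.assoc, e_e_of_subset X h]

lemma sum_comp_e {P : 𝒜} (S : Finset I) (σ : ∀ i, P ⟶ X i) :
    (∑ i ∈ S, σ i ≫ Sigma.ι X i) ≫ e X S = ∑ i ∈ S, σ i ≫ Sigma.ι X i := by
  rw [Preadditive.sum_comp]
  apply Finset.sum_congr rfl
  intro i hi
  rw [Category.assoc, ι_e_of_mem X S i hi]

end sub

section pres

variable {𝒜 : Type w} [Category.{v} 𝒜] [Abelian 𝒜] [HasCoproducts.{u} 𝒜] {I J : Type u}
  (X : I → 𝒜) (Y : J → 𝒜) (ψ : ∐ Y ⟶ ∐ X)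

/-- the index poset: pairs of finite subsets such that the relations in `T` only involve generators in `S` -/
structure Idx where
  /-- generators -/
  S : Finset I
  /-- relations -/
  T : Finset J
  h : ∀ j ∈ T, (Sigma.ι Y j ≫ ψ) ≫ e X S = Sigma.ι Y j ≫ ψ

variable {X Y ψ}

instance : Preorder (Idx X Y ψ) where
  le a b := a.S ⊆ b.S ∧ a.T ⊆ b.T
  le_refl a := ⟨Finset.Subset.refl _, Finset.Subset.refl _⟩
  le_trans a b c h h' := ⟨h.1.trans h'.1, h.2.trans h'.2⟩

instance : Nonempty (Idx X Y ψ) := ⟨⟨∅, ∅, fun j hj => absurd hj (Finset.notMem_empty j)⟩⟩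

open Classical in
instance : IsDirected (Idx X Y ψ) (· ≤ ·) where
  directed a b := by
    refine ⟨⟨a.S ∪ b.S, a.T ∪ b.T, ?_⟩, ⟨Finset.subset_union_left, Finset.subset_union_left⟩,
      ⟨Finset.subset_union_right, Finset.subset_union_right⟩⟩
    intro j hj
    rcases Finset.mem_union.1 hj with h | h
    · exact comp_e_of_subset X _ Finset.subset_union_left (a.h j h)
    · exact comp_e_of_subset X _ Finset.subset_union_right (b.h j h)

lemma Idx.h' (a : Idx X Y ψ) : (inc Y a.T ≫ ψ) ≫ e X a.S = inc Y a.T ≫ ψ := by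
  apply Sigma.hom_ext
  intro j
  rw [← Category.assoc, ← Category.assoc, ι_inc, a.h j.1 j.2]

/-- the map of relations at a stage -/
noncomputable def Idx.ψ' (a : Idx X Y ψ) : PS Y a.T ⟶ PS X a.S := inc Y a.T ≫ ψ ≫ prj X a.S

@[reassoc]
lemma Idx.ψ'_inc (a : Idx X Y ψ) : a.ψ' ≫ inc X a.S = inc Y a.T ≫ ψ := by
  have := a.h'
  unfold e at this
  unfold Idx.ψ'
  simpa using this

@[reassoc]
lemma Idx.ψ'_incSS {a b : Idx X Y ψ} (h : a ≤ b) : a.ψ' ≫ incSS X h.1 = incSS Y h.2 ≫ b.ψ' := by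
  rw [← cancel_mono (inc X b.S), Category.assoc, incSS_inc, a.ψ'_inc, Category.assoc, b.ψ'_inc,
    incSS_inc_assoc]

/-- the transition maps -/
noncomputable def Dmap {a b : Idx X Y ψ} (h : a ≤ b) : cokernel a.ψ' ⟶ cokernel b.ψ' :=
  cokernel.map a.ψ' b.ψ' (incSS Y h.2) (incSS X h.1) (Idx.ψ'_incSS h)

@[reassoc (attr := simp)]
lemma π_Dmap {a b : Idx X Y ψ} (h : a ≤ b) :
    cokernel.π a.ψ' ≫ Dmap h = incSS X h.1 ≫ cokernel.π b.ψ' :=
  cokernel.π_desc _ _ _

lemma incSS_refl (S : Finset I) (h : S ⊆ S) : incSS X h = 𝟙 _ := by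
  apply Sigma.hom_ext
  intro i
  rw [ι_incSS, Category.comp_id]

lemma incSS_trans {S S' S'' : Finset I} (h : S ⊆ S') (h' : S' ⊆ S'') :
    incSS X h ≫ incSS X h' = incSS X (h.trans h') := by
  apply Sigma.hom_ext
  intro i
  rw [ι_incSS_assoc, ι_incSS, ι_incSS]

variable (X Y ψ)

/-- the diagram of cokernels -/
noncomputable def D : Idx X Y ψ ⥤ 𝒜 where
  obj a := cokernel a.ψ'
  map {a b} f := Dmap (leOfHom f)
  map_id a := by
    apply coequalizer.hom_ext
    have h1 : cokernel.π a.ψ' ≫ Dmap (leOfHom (𝟙 a)) = cokernel.π a.ψ' ≫ 𝟙 _ := by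
      rw [π_Dmap, incSS_refl, Category.id_comp, Category.comp_id]
    exact h1
  map_comp {a b c} f g := by
    apply coequalizer.hom_ext
    have h1 : cokernel.π a.ψ' ≫ Dmap (leOfHom (f ≫ g)) =
        cokernel.π a.ψ' ≫ Dmap (leOfHom f) ≫ Dmap (leOfHom g) := by
      rw [π_Dmap, π_Dmap_assoc, π_Dmap, ← Category.assoc, incSS_trans]
    exact h1

variable {X Y ψ} {F : 𝒜} (π : ∐ X ⟶ F) (w : ψ ≫ π = 0)

/-- the map from a stage to the presented object -/
noncomputable def toF (a : Idx X Y ψ) : cokernel a.ψ' ⟶ F :=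
  cokernel.desc a.ψ' (inc X a.S ≫ π) (by rw [a.ψ'_inc_assoc, w, comp_zero])

@[reassoc (attr := simp)]
lemma π_toF (a : Idx X Y ψ) : cokernel.π a.ψ' ≫ toF π w a = inc X a.S ≫ π :=
  cokernel.π_desc _ _ _

lemma Dmap_toF {a b : Idx X Y ψ} (h : a ≤ b) : Dmap h ≫ toF π w b = toF π w a := by
  apply coequalizer.hom_ext
  have h1 : cokernel.π a.ψ' ≫ Dmap h ≫ toF π w b = cokernel.π a.ψ' ≫ toF π w a := by
    rw [π_Dmap_assoc, π_toF, π_toF, incSS_inc_assoc]
  exact h1

/-- the cocone -/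
noncomputable def cocone : Cocone (D X Y ψ) where
  pt := F
  ι :=
    { app := fun a => toF π w a
      naturality := by
        intro a b f
        exact (Dmap_toF π w (leOfHom f)).trans (Category.comp_id _).symm }

end pres

section colim

variable {𝒜 : Type w} [Category.{v} 𝒜] [Abelian 𝒜] [HasCoproducts.{u} 𝒜] {I J : Type u}
  {X : I → 𝒜} {Y : J → 𝒜} {ψ : ∐ Y ⟶ ∐ X} {F : 𝒜} (π : ∐ X ⟶ F) (w : ψ ≫ π = 0)
  (hπ : IsColimit (CokernelCofork.ofπ π w))
  (hcpt : ∀ j, ∃ S : Finset I, (Sigma.ι Y j ≫ ψ) ≫ e X S = Sigma.ι Y j ≫ ψ)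

variable (X Y ψ) in
/-- the stage of a single generator -/
def single (i : I) : Idx X Y ψ := ⟨{i}, ∅, fun j hj => absurd hj (Finset.notMem_empty j)⟩

variable (X Y ψ) in
lemma single_mem (i : I) : i ∈ (single X Y ψ i).S := Finset.mem_singleton_self i

variable (Y ψ) in
/-- a generator in its stage -/
noncomputable def comp (i : I) : X i ⟶ cokernel (single X Y ψ i).ψ' :=
  Sigma.ι (fun k : (single X Y ψ i).S => X k.1) ⟨i, single_mem X Y ψ i⟩ ≫ cokernel.π _

/-- the map induced by a cocone on the generators -/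
noncomputable def σ (s : Cocone (D X Y ψ)) : ∐ X ⟶ s.pt :=
  Sigma.desc fun i => comp Y ψ i ≫ s.ι.app (single X Y ψ i)

lemma inc_σ (s : Cocone (D X Y ψ)) (a : Idx X Y ψ) :
    inc X a.S ≫ σ s = cokernel.π a.ψ' ≫ s.ι.app a := by
  apply Sigma.hom_ext
  intro i
  have hle : single X Y ψ i.1 ≤ a := ⟨Finset.singleton_subset_iff.2 i.2, Finset.empty_subset _⟩
  have hw : s.ι.app (single X Y ψ i.1) = Dmap hle ≫ s.ι.app a := (s.w (homOfLE hle)).symm
  rw [ι_inc_assoc]
  unfold σ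
  rw [Sigma.ι_desc, hw]
  unfold comp
  rw [Category.assoc, π_Dmap_assoc, ι_incSS_assoc]

include hcpt in
lemma ψ_σ (s : Cocone (D X Y ψ)) : ψ ≫ σ s = 0 := by
  apply Sigma.hom_ext
  intro j
  rw [comp_zero]
  obtain ⟨S, hS⟩ := hcpt j
  let a : Idx X Y ψ := ⟨S, {j}, fun j' hj' => by rw [Finset.mem_singleton.1 hj']; exact hS⟩
  have h1 : Sigma.ι Y j ≫ ψ = Sigma.ι (fun k : ({j} : Finset J) => Y k.1)
      ⟨j, Finset.mem_singleton_self j⟩ ≫ a.ψ' ≫ inc X a.S := by
    rw [a.ψ'_inc, ι_inc_assoc]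
  rw [← Category.assoc, h1, Category.assoc, Category.assoc, inc_σ, cokernel.condition_assoc, zero_comp,
    comp_zero]

lemma comp_toF (i : I) : comp Y ψ i ≫ toF π w (single X Y ψ i) = Sigma.ι X i ≫ π := by
  unfold comp
  rw [Category.assoc, π_toF, ι_inc_assoc]

/-- the presented object is the colimit of the diagram of finite presentations -/
noncomputable def isColimit : IsColimit (cocone π w) where
  desc s := hπ.desc (CokernelCofork.ofπ (σ s) (ψ_σ hcpt s))
  fac s a := by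
    have hd : π ≫ hπ.desc (CokernelCofork.ofπ (σ s) (ψ_σ hcpt s)) = σ s :=
      Cofork.IsColimit.π_desc hπ
    apply coequalizer.hom_ext
    have h1 : cokernel.π a.ψ' ≫ toF π w a ≫ hπ.desc (CokernelCofork.ofπ (σ s) (ψ_σ hcpt s)) =
        cokernel.π a.ψ' ≫ s.ι.app a := by
      rw [π_toF_assoc, hd, inc_σ]
    exact h1
  uniq s m hm := by
    have hd : π ≫ hπ.desc (CokernelCofork.ofπ (σ s) (ψ_σ hcpt s)) = σ s :=
      Cofork.IsColimit.π_desc hπ
    apply Cofork.IsColimit.hom_ext hπ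
    refine Eq.trans ?_ hd.symm
    apply Sigma.hom_ext
    intro i
    have h2 : toF π w (single X Y ψ i) ≫ m = s.ι.app (single X Y ψ i) := hm (single X Y ψ i)
    unfold σ
    rw [Sigma.ι_desc, ← h2, ← Category.assoc (comp Y ψ i), comp_toF, Category.assoc]
    rfl

end colim

end Groth.Agent.Lib.helper21.PresColim
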