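import Groth.Agent.Lib.Helper21.PrinPart1

/-!
# The symmetry of the infinitesimal neighbourhoods of the diagonal (helper21)

* `swap f`, `swap_swap`, `diagonal_swap`, `swap_preimage_coborder`.
* `swapW f : W ⟶ W` (`W` the coborder of the diagonal), `swapW_ι`, `swapW_swapW`, `diagCl_swapW`.
* `σ f n : nbhd f n ⟶ nbhd f n`, `σ_infNbhdι`, `σ_nbhdι`, `σ_σ`, `σ_pr1`, `σ_pr2`, `toNbhd_σ` (S5969).
-/

set_option autoImplicit false
universe u
open CategoryTheory CategoryTheory.Limits AlgebraicGeometry TopologicalSpace Opposite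

namespace Groth.Agent.Lib.helper21.PrinPart

open _root_.PrinPart

section Sym
variable {X S : Scheme.{u}} (f : X ⟶ S)

/-- The symmetry of `X ×_S X`. -/
noncomputable abbrev swap : pullback f f ⟶ pullback f f := (pullbackSymmetry f f).hom

@[reassoc (attr := simp)]
theorem swap_swap : swap f ≫ swap f = 𝟙 _ := by
  apply pullback.hom_ext <;> simp [swap]

@[reassoc (attr := simp)]
theorem diagonal_swap : pullback.diagonal f ≫ swap f = pullback.diagonal f := by
  apply pullback.hom_ext <;> simp [swap]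

theorem swap_apply_swap_apply (x : ↥(pullback f f)) : swap f (swap f x) = x := by
  rw [← Scheme.Hom.comp_apply, swap_swap]; rfl

theorem swap_preimage_range :
    (swap f) ⁻¹' Set.range (pullback.diagonal f) = Set.range (pullback.diagonal f) := by
  ext x
  constructor
  · rintro ⟨y, hy⟩
    refine ⟨y, ?_⟩
    rw [← swap_apply_swap_apply f x, ← hy, ← Scheme.Hom.comp_apply, diagonal_swap]
  · rintro ⟨y, rfl⟩
    exact ⟨y, by rw [← Scheme.Hom.comp_apply, diagonal_swap]⟩

instance : IsIso (swap f) := by unfold swap; infer_instance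

theorem swap_preimage_coborder :
    swap f ⁻¹ᵁ (pullback.diagonal f).coborderRange = (pullback.diagonal f).coborderRange := by
  ext x
  change swap f x ∈ coborder (Set.range (pullback.diagonal f)) ↔
    x ∈ coborder (Set.range (pullback.diagonal f))
  have h := (Scheme.homeoOfIso (asIso (swap f))).isOpenEmbedding.coborder_preimage
    (Set.range (pullback.diagonal f))
  have h2 : (Scheme.homeoOfIso (asIso (swap f))) ⁻¹' Set.range (pullback.diagonal f) =
      Set.range (pullback.diagonal f) := swap_preimage_range f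
  rw [h2] at h
  have h3 : x ∈ coborder (Set.range (pullback.diagonal f)) ↔
      swap f x ∈ coborder (Set.range (pullback.diagonal f)) := by
    conv_lhs => rw [h]
    rfl
  exact h3.symm

/-- The symmetry restricted to the coborder of the diagonal. -/
noncomputable def swapW : ((pullback.diagonal f).coborderRange : Scheme.{u}) ⟶
    ((pullback.diagonal f).coborderRange : Scheme.{u}) :=
  IsOpenImmersion.lift (pullback.diagonal f).coborderRange.ι
    ((pullback.diagonal f).coborderRange.ι ≫ swap f) (by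
      rintro _ ⟨x, rfl⟩
      rw [Scheme.Opens.range_ι]
      have hx : (pullback.diagonal f).coborderRange.ι x ∈
          swap f ⁻¹ᵁ (pullback.diagonal f).coborderRange := by
        rw [swap_preimage_coborder]; exact x.2
      exact hx)

@[reassoc (attr := simp)]
theorem swapW_ι : swapW f ≫ (pullback.diagonal f).coborderRange.ι =
    (pullback.diagonal f).coborderRange.ι ≫ swap f :=
  IsOpenImmersion.lift_fac _ _ _

@[reassoc (attr := simp)]
theorem swapW_swapW : swapW f ≫ swapW f = 𝟙 _ := by
  rw [← cancel_mono (pullback.diagonal f).coborderRange.ι]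
  simp

instance : IsIso (swapW f) := ⟨swapW f, swapW_swapW f, swapW_swapW f⟩

@[reassoc (attr := simp)]
theorem diagCl_swapW : diagCl f ≫ swapW f = diagCl f := by
  rw [← cancel_mono (pullback.diagonal f).coborderRange.ι]
  simp

theorem map_ker_diagCl_le (U : ((pullback.diagonal f).coborderRange : Scheme.{u}).Opens) :
    Ideal.map ((swapW f).app U).hom (RingHom.ker ((diagCl f).app U).hom) ≤
      RingHom.ker ((diagCl f).app (swapW f ⁻¹ᵁ U)).hom := by
  rw [Ideal.map_le_iff_le_comap]
  intro b hb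
  rw [RingHom.mem_ker] at hb
  rw [Ideal.mem_comap, RingHom.mem_ker]
  have h2 := Scheme.Hom.congr_app (diagCl_swapW f) U
  have h3 : ((diagCl f ≫ swapW f).app U).hom b = 0 := by
    rw [h2, CommRingCat.hom_comp, RingHom.comp_apply, hb, map_zero]
  exact h3

theorem ker_infNbhdι_le (n : ℕ) :
    (infNbhdι (diagCl f) n).ker ≤ (infNbhdι (diagCl f) n ≫ swapW f).ker := by
  intro U
  rw [Scheme.Hom.ker_apply, Scheme.Hom.ker_apply]
  have hU' : IsAffineOpen (swapW f ⁻¹ᵁ U.1) := U.2.preimage (swapW f)
  have h1 := ker_infNbhdι_app (diagCl f) n U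
  have h2 := ker_infNbhdι_app (diagCl f) n ⟨_, hU'⟩
  rw [h1]
  intro a ha
  rw [RingHom.mem_ker]
  change ((infNbhdι (diagCl f) n).app (swapW f ⁻¹ᵁ U.1)).hom (((swapW f).app U.1).hom a) = 0
  rw [← RingHom.mem_ker, h2]
  have h4 : ((swapW f).app U.1).hom a ∈
      Ideal.map ((swapW f).app U.1).hom (RingHom.ker ((diagCl f).app U.1).hom ^ (n + 1)) :=
    Ideal.mem_map_of_mem _ ha
  rw [Ideal.map_pow] at h4
  exact Ideal.pow_right_mono (map_ker_diagCl_le f U.1) (n + 1) h4

/-- The symmetry `σ` of the `n`-th infinitesimal neighbourhood of the diagonal. -/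
noncomputable def σ (n : ℕ) : nbhd f n ⟶ nbhd f n :=
  IsClosedImmersion.lift (infNbhdι (diagCl f) n) (infNbhdι (diagCl f) n ≫ swapW f)
    (ker_infNbhdι_le f n)

@[reassoc (attr := simp)]
theorem σ_infNbhdι (n : ℕ) :
    σ f n ≫ infNbhdι (diagCl f) n = infNbhdι (diagCl f) n ≫ swapW f :=
  IsClosedImmersion.lift_fac _ _ _

@[reassoc (attr := simp)]
theorem σ_nbhdι (n : ℕ) : σ f n ≫ nbhdι f n = nbhdι f n ≫ swap f := by
  simp [nbhdι]

instance mono_nbhdι (n : ℕ) : Mono (nbhdι f n) := by
  unfold nbhdι; infer_instance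

@[reassoc (attr := simp)]
theorem σ_σ (n : ℕ) : σ f n ≫ σ f n = 𝟙 _ := by
  rw [← cancel_mono (nbhdι f n)]
  simp

@[reassoc (attr := simp)]
theorem σ_pr1 (n : ℕ) : σ f n ≫ pr1 f n = pr2 f n := by
  simp [pr1, pr2, swap]

@[reassoc (attr := simp)]
theorem σ_pr2 (n : ℕ) : σ f n ≫ pr2 f n = pr1 f n := by
  simp [pr1, pr2, swap]

@[reassoc (attr := simp)]
theorem toNbhd_σ (n : ℕ) : toNbhd f n ≫ σ f n = toNbhd f n := by
  rw [← cancel_mono (nbhdι f n)]
  simp

instance (n : ℕ) : IsIso (σ f n) := ⟨σ f n, σ_σ f n, σ_σ f n⟩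

end Sym

end Groth.Agent.Lib.helper21.PrinPart
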