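import Groth.Agent.Lib.Helper21.PrinPart7
import Groth.Agent.Lib.Helper21.PrinPart10
import Groth.Agent.Lib.Helper21.PrinPart11
import Groth.Agent.Lib.Helper8.FlatSections
import Groth.Agent.Lib.Helper25.PullFlatExact

/-!
# `P^n_{X/S}` flat ⟹ `F ↦ P^n_{X/S}(F)` is exact (helper21, S5967)

* `appTop_restrict_of_app`: for a ring hom property `Q` respecting isos, `Q (h.app V)` ⟹ `Q ((h ∣_ V).appTop)`.
* `flat_of_flat_app`: an affine morphism `h` with all `h.app U` (`U` affine) flat is flat.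
* `flat_app_pr1`, `flat_pr1`, `flat_pr2`, `preservesFiniteLimits_PMod`.
-/

set_option autoImplicit false
set_option linter.style.haveILetI false
universe u
open CategoryTheory CategoryTheory.Limits AlgebraicGeometry TopologicalSpace Opposite

namespace Groth.Agent.Lib.helper21.PrinPart

open _root_.PrinPart

theorem of_iso_comp4 {Q : ∀ {R S : Type u} [CommRing R] [CommRing S], (R →+* S) → Prop}
    (hQ : RingHom.RespectsIso @Q) {R S T W W' : CommRingCat.{u}} (a : R ⟶ S) (b : S ⟶ T)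
    (c : T ⟶ W) (d : W ⟶ W') (ha : IsIso a) (hc : IsIso c) (hd : IsIso d) (H : Q b.hom) :
    Q ((a ≫ b ≫ c) ≫ d).hom := by
  rw [CommRingCat.hom_comp, hQ.cancel_right_isIso, CommRingCat.hom_comp,
    hQ.cancel_left_isIso, CommRingCat.hom_comp, hQ.cancel_right_isIso]
  exact H

theorem appTop_restrict_of_app {Q : ∀ {R S : Type u} [CommRing R] [CommRing S], (R →+* S) → Prop}
    (hQ : RingHom.RespectsIso @Q) {Z Y : Scheme.{u}} (h : Z ⟶ Y) (V : Y.Opens)
    (H : Q (h.app V).hom) : Q ((h ∣_ V).appTop).hom := by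
  rw [morphismRestrict_appTop, Scheme.Hom.app_eq h V.ι_image_top]
  exact of_iso_comp4 hQ _ _ _ _ (isIso_map_eqToHom_op _) (isIso_map_eqToHom_op _)
    (isIso_map_eqToHom_op _) H

theorem flat_of_flat_app {Z X : Scheme.{u}} (h : Z ⟶ X) [IsAffineHom h]
    (H : ∀ U : X.affineOpens, (h.app U.1).hom.Flat) : Flat h := by
  rw [IsZariskiLocalAtTarget.iff_of_iSup_eq_top (P := @Flat) _ (iSup_affineOpens_eq_top _)]
  intro U
  haveI : IsAffine (h ⁻¹ᵁ U.1) := U.2.preimage h
  haveI : IsAffine U.1 := U.2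
  rw [HasRingHomProperty.iff_of_isAffine (P := @Flat)]
  exact appTop_restrict_of_app RingHom.Flat.respectsIso h U.1 (H U)

section PFlat
variable {X S : Scheme.{u}} (f : X ⟶ S) (n : ℕ)

theorem flat_app_pr1 (hP : FlatMod.IsFlat (P f n)) (U : X.affineOpens) :
    ((pr1 f n).app U.1).hom.Flat := by
  haveI : Module.Flat Γ(X, U.1) Γ(P f n, U.1) :=
    (Groth.Agent.Lib.helper8.FlatSections.isFlat_iff_flat_sections (P f n)).mp hP U.1 U.2
  letI : Algebra Γ(X, U.1) Γ(nbhd f n, pr1 f n ⁻¹ᵁ U.1) := ((pr1 f n).app U.1).hom.toAlgebra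
  let e : Γ(nbhd f n, pr1 f n ⁻¹ᵁ U.1) ≃ₗ[Γ(X, U.1)] Γ(P f n, U.1) :=
    LinearEquiv.symm
      { secP f n U.1 with
        map_smul' := fun b x => by
          change secP f n U.1 (b • x) = (pr1 f n).app U.1 b * secP f n U.1 x
          exact secP_smul f n U.1 b x }
  exact Module.Flat.of_linearEquiv e

theorem flat_pr1 (hP : FlatMod.IsFlat (P f n)) : Flat (pr1 f n) :=
  flat_of_flat_app (pr1 f n) (flat_app_pr1 f n hP)

theorem flat_pr2 (hP : FlatMod.IsFlat (P f n)) : Flat (pr2 f n) := by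
  haveI := flat_pr1 f n hP
  rw [← σ_pr1 f n]
  infer_instance

theorem preservesFiniteLimits_PMod (hP : FlatMod.IsFlat (P f n)) :
    PreservesFiniteLimits
      ((Scheme.Modules.pullback (pr2 f n)) ⋙ (Scheme.Modules.pushforward (pr1 f n))) := by
  haveI := flat_pr2 f n hP
  haveI : PreservesFiniteLimits (Scheme.Modules.pullback (pr2 f n)) :=
    Groth.Agent.Lib.Helper25.PullFlatExact.preservesFiniteLimits_pullback (pr2 f n)
  haveI : (Scheme.Modules.pushforward (pr1 f n)).IsRightAdjoint :=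
    (Scheme.Modules.pullbackPushforwardAdjunction (pr1 f n)).isRightAdjoint
  infer_instance

end PFlat

end Groth.Agent.Lib.helper21.PrinPart
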