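import Groth.Agent.Lib.Helper7.IdealMod
import Groth.Agent.Lib.Helper16.CohFinite
import Groth.Agent.Lib.Helper16.QCohPullback2
import Groth.Prelude.Def_OmegaPn

/-!
# `Gr_n` of a closed immersion locally of finite presentation is coherent (helper21, S5973)

* `fg_ker_app`: the kernel of `Γ(X,U) → Γ(Y,f⁻¹U)` is finitely generated (`U` affine).
* `isCoh_idealMod_ker_pow`: `I^n` is quasi-coherent of finite type; `isCoh_grMod`.
-/

set_option autoImplicit false
set_option linter.style.haveILetI false
universe u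
open CategoryTheory CategoryTheory.Limits AlgebraicGeometry TopologicalSpace Opposite

namespace Groth.Agent.Lib.helper21.PrinPart

open _root_.PrinPart

section Gr
variable {Y X : Scheme.{u}} (f : Y ⟶ X) [IsClosedImmersion f] [LocallyOfFinitePresentation f]

theorem fg_ker_app (U : X.affineOpens) : (RingHom.ker (f.app U.1).hom).FG := by
  have hsurj : Function.Surjective (f.app U.1).hom := f.app_surjective U.1 U.2
  have hfp : (f.app U.1).hom.FinitePresentation := by
    rw [Scheme.Hom.app_eq_appLE]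
    exact f.finitePresentation_appLE U.2 (U.2.preimage f) le_rfl
  letI : Algebra Γ(X, U.1) Γ(Y, f ⁻¹ᵁ U.1) := (f.app U.1).hom.toAlgebra
  haveI : Algebra.FinitePresentation Γ(X, U.1) Γ(Y, f ⁻¹ᵁ U.1) := hfp
  exact Algebra.FinitePresentation.ker_fG_of_surjective
    (Algebra.ofId Γ(X, U.1) Γ(Y, f ⁻¹ᵁ U.1)) hsurj

theorem isCoh_idealMod_ker_pow (n : ℕ) : Coh.IsCoh (ClSub.idealMod (f.ker ^ n)) := by
  refine Groth.Agent.Lib.helper16.CohFinite.isCoh_of_finite_sections _
    (fun U : X.affineOpens => U.1) (fun U => U.2) (iSup_affineOpens_eq_top X) (fun U => ?_)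
  have hfg : ((f.ker ^ n).ideal U).FG := by
    rw [Scheme.IdealSheafData.ideal_pow, Pi.pow_apply, Scheme.Hom.ker_apply]
    exact (fg_ker_app f U).pow
  haveI : Module.Finite Γ(X, U.1) ((f.ker ^ n).ideal U) := Module.Finite.iff_fg.mpr hfg
  exact Module.Finite.equiv (Groth.Agent.Lib.helper7.IdealMod.sectionsEquiv (f.ker ^ n) U).symm

theorem isCoh_grMod (n : ℕ) : Coh.IsCoh (grMod f n) := by
  have hF := isCoh_idealMod_ker_pow f n
  haveI : (ClSub.idealMod (f.ker ^ n)).IsQuasicoherent := hF.1
  exact ⟨Groth.Agent.Lib.helper16.QCohPullback.isQuasicoherent_pullback f _,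
    Groth.Agent.Lib.helper16.QCohPullback2.isFiniteType_pullback f _ hF.2⟩

end Gr

end Groth.Agent.Lib.helper21.PrinPart
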