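import Groth.Agent.Lib.Helper21.PrinPart1

/-!
# Principal parts of order `0` (helper21, S5979)

* `isIso_toInfNbhd_zero`: `Y ⟶ Y^{(0)}` is an isomorphism for a closed immersion.
* `isIso_pr2_zero`, `pr1_zero_eq_pr2`.
* `isIso_unit_app_of_isIso`: the unit `F ⟶ ψ_* ψ^* F` is an isomorphism for an isomorphism `ψ`.
* `pullSect_bijective_of_isIso`, `dP_zero_bijective`.
-/

set_option autoImplicit false
universe u
open CategoryTheory CategoryTheory.Limits AlgebraicGeometry TopologicalSpace Opposite

namespace Groth.Agent.Lib.helper21.PrinPart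

open _root_.PrinPart

theorem isIso_inclusion_of_eq {X : Scheme.{u}} {I J : X.IdealSheafData} (h : I = J) :
    IsIso (Scheme.IdealSheafData.inclusion h.le) := by
  subst h
  rw [Scheme.IdealSheafData.inclusion_id]
  infer_instance

instance isIso_toInfNbhd_zero {X Y : Scheme.{u}} (i : Y ⟶ X) [IsClosedImmersion i] :
    IsIso (toInfNbhd i 0) := by
  unfold toInfNbhd
  haveI : IsIso (Scheme.IdealSheafData.inclusion (ker_pow_succ_le i 0)) :=
    isIso_inclusion_of_eq (by rw [zero_add, pow_one])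
  infer_instance

theorem isIso_unit_app_of_isIso {X' X : Scheme.{u}} (ψ : X' ⟶ X) [IsIso ψ] (F : X.Modules) :
    IsIso ((Scheme.Modules.pullbackPushforwardAdjunction ψ).unit.app F) := by
  refine Adjunction.isIso_unit_app_of_iso _ (X := (Scheme.Modules.pushforward (inv ψ)).obj F) ?_
  exact ((Scheme.Modules.pushforwardId X).app F).symm ≪≫
    (Scheme.Modules.pushforwardCongr (IsIso.inv_hom_id ψ).symm).app F ≪≫
    ((Scheme.Modules.pushforwardComp (inv ψ) ψ).app F).symm

theorem pullSect_bijective_of_isIso {X' X : Scheme.{u}} (ψ : X' ⟶ X) [IsIso ψ] (F : X.Modules)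
    (U : X.Opens) : Function.Bijective (OmegaSh.pullSect ψ F U).hom := by
  have h0 := isIso_unit_app_of_isIso ψ F
  have h : IsIso (OmegaSh.pullSect ψ F U) :=
    Scheme.Modules.Hom.isIso_iff_isIso_app.mp h0 U
  exact (ConcreteCategory.isIso_iff_bijective _).mp h

section Zero
variable {X S : Scheme.{u}} (f : X ⟶ S)

theorem pr2_zero_eq_inv : pr2 f 0 = inv (toNbhd f 0) :=
  (IsIso.inv_eq_of_hom_inv_id (toNbhd_pr2 f 0)).symm

theorem pr1_zero_eq_inv : pr1 f 0 = inv (toNbhd f 0) :=
  (IsIso.inv_eq_of_hom_inv_id (toNbhd_pr1 f 0)).symm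

theorem pr1_zero_eq_pr2 : pr1 f 0 = pr2 f 0 := by
  rw [pr1_zero_eq_inv, pr2_zero_eq_inv]

instance isIso_pr2_zero : IsIso (pr2 f 0) := by
  rw [pr2_zero_eq_inv]; infer_instance

instance isIso_pr1_zero : IsIso (pr1 f 0) := by
  rw [pr1_zero_eq_inv]; infer_instance

theorem dP_zero_bijective (F : X.Modules) (U : X.Opens) : Function.Bijective (dP f 0 F U) := by
  have h1 := pullSect_bijective_of_isIso (pr2 f 0) F U
  have h2 : IsIso (((Scheme.Modules.pullback (pr2 f 0)).obj F).presheaf.map
      (homOfLE (preimage_pr1 f 0 U).le).op) := by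
    have : homOfLE (preimage_pr1 f 0 U).le = eqToHom (preimage_pr1 f 0 U) :=
      Subsingleton.elim _ _
    rw [this]
    infer_instance
  have h3 := (ConcreteCategory.isIso_iff_bijective _).mp h2
  exact h3.comp h1

end Zero

end Groth.Agent.Lib.helper21.PrinPart
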