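import Groth.Agent.Lib.Helper21.PrinPart14

/-!
# Differential operators of order `0` are the linear maps (helper21, S5957)
-/

set_option autoImplicit false
universe u
open CategoryTheory CategoryTheory.Limits AlgebraicGeometry TopologicalSpace Opposite

namespace Groth.Agent.Lib.helper21.PrinPart

open _root_.PrinPart

section Zero
variable {X S : Scheme.{u}} (f : X ⟶ S)

theorem pr2_app_res_zero (U : X.Opens) (a : Γ(X, U)) :
    (nbhd f 0).presheaf.map (homOfLE (preimage_pr1 f 0 U).le).op ((pr2 f 0).app U a) =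
      (pr1 f 0).app U a := by
  have h := Scheme.Hom.congr_app (pr1_zero_eq_pr2 f) U
  rw [h, CommRingCat.comp_apply]
  rfl

theorem dP_zero_smul (F : X.Modules) (U : X.Opens) (a : Γ(X, U)) (t : Γ(F, U)) :
    dP f 0 F U (a • t) = a • dP f 0 F U t := by
  rw [dP_apply, dP_apply, OmegaSh.pullSect_smul, Scheme.Modules.map_smul, pr2_app_res_zero]
  rfl

theorem linear_of_isDiffOpLE_zero (F G : X.Modules) (D : F.presheaf ⟶ G.presheaf)
    (h : IsDiffOpLE f F G 0 D) (U : X.Opens) (a : Γ(X, U)) (t : Γ(F, U)) :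
    D.app (op U) (a • t) = a • D.app (op U) t := by
  obtain ⟨u, hu⟩ := h
  rw [hu, hu, dP_zero_smul, Scheme.Modules.Hom.app_smul]

instance isIso_dPHom_zero (F : X.Modules) : IsIso (dPHom f 0 F) := by
  haveI : ∀ U, IsIso ((dPHom f 0 F).app U) := fun U =>
    (ConcreteCategory.isIso_iff_bijective _).mpr (dP_zero_bijective f F U.unop)
  exact NatIso.isIso_of_isIso_app _

theorem inv_dPHom_zero_dP (F : X.Modules) (U : X.Opens) (s : Γ(F, U)) :
    (inv (dPHom f 0 F)).app (op U) (dP f 0 F U s) = s := by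
  have h : (dPHom f 0 F).app (op U) ≫ (inv (dPHom f 0 F)).app (op U) = 𝟙 _ := by
    rw [← NatTrans.comp_app, IsIso.hom_inv_id]; rfl
  exact congr($h s)

theorem isDiffOpLE_zero_of_linear (F G : X.Modules) (D : F.presheaf ⟶ G.presheaf)
    (hD : ∀ (U : X.Opens) (a : Γ(X, U)) (t : Γ(F, U)),
      D.app (op U) (a • t) = a • D.app (op U) t) : IsDiffOpLE f F G 0 D := by
  let φ : (PMod f 0 F).presheaf ⟶ G.presheaf := inv (dPHom f 0 F) ≫ D
  have key : ∀ (U : X.Opens) (s : Γ(F, U)), φ.app (op U) (dP f 0 F U s) = D.app (op U) s := by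
    intro U s
    change D.app (op U) ((inv (dPHom f 0 F)).app (op U) (dP f 0 F U s)) = _
    rw [inv_dPHom_zero_dP]
  refine ⟨⟨PresheafOfModules.homMk φ ?_⟩, fun U t => (key U t).symm⟩
  intro V r m
  obtain ⟨U⟩ := V
  have main : ∀ (r' : Γ(X, U)) (m' : Γ(PMod f 0 F, U)),
      φ.app (op U) (r' • m') = r' • φ.app (op U) m' := by
    intro r' m'
    obtain ⟨t, rfl⟩ := (dP_zero_bijective f F U).2 m'
    rw [← dP_zero_smul, key, key]
    exact hD U r' t
  exact main r m

end Zero

end Groth.Agent.Lib.helper21.PrinPart
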