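import Groth.Agent.Lib.Helper21.PrinPart1

/-!
# Affine charts of the infinitesimal neighbourhoods of the diagonal (helper21)

`f : X ⟶ S`, `U` an affine open of `X` mapping into the affine open `V` of `S`; `B = Γ(X, U)`, `A = Γ(S, V)`.
* `chartW_le_coborder`: helper7's chart `W = pr₁⁻¹U ∩ pr₂⁻¹U` of `X ×_S X` lies in the coborder of the diagonal.
* `nbhdι_preimage_chartW`: its preimage in `X^{(n)}_Δ` is `(p_1^{(n)})⁻¹ U`.
* `Φ : B ⊗[A] B →+* Γ(X^{(n)}_Δ, p_1⁻¹ U)`, `Φ_tmul`, `Φ_surjective`, `ker_Φ = I ^ (n + 1)`.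
-/

set_option autoImplicit false
set_option linter.style.haveILetI false
universe u
open CategoryTheory CategoryTheory.Limits AlgebraicGeometry TopologicalSpace Opposite
open Groth.Agent.Lib.helper7 Groth.Agent.Lib.helper7.OmegaAffine Groth.Agent.Lib.helper7.OmegaLocal

namespace Groth.Agent.Lib.helper21.PrinPart

open _root_.PrinPart TensorProduct

section Chart
variable {X S : Scheme.{u}} (f : X ⟶ S) {U : X.Opens} (hU : IsAffineOpen U)
  {V : S.Opens} (hV : IsAffineOpen V) (e : U ≤ f ⁻¹ᵁ V)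

theorem preimage_range_diagonal :
    letI := (f.appLE V U e).hom.toAlgebra
    (diagChart f hU hV e) ⁻¹' (Set.range (pullback.diagonal f)) =
      Set.range (Spec.map (CommRingCat.ofHom (OmegaAlg.mulHom Γ(S, V) Γ(X, U)))) := by
  letI := (f.appLE V U e).hom.toAlgebra
  ext y
  constructor
  · rintro ⟨x, hx⟩
    have hxW : x ∈ pullback.diagonal f ⁻¹ᵁ (chartOpen (diagChart f hU hV e)).1 := by
      change pullback.diagonal f x ∈ (chartOpen (diagChart f hU hV e)).1
      rw [hx]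
      exact ⟨y, trivial, rfl⟩
    rw [← diagChart_cart f hU hV e] at hxW
    obtain ⟨z, -, rfl⟩ := hxW
    refine ⟨z, (diagChart f hU hV e).isOpenEmbedding.injective ?_⟩
    rw [← Scheme.Hom.comp_apply, ← fromSpec_comp_diagonal f hU hV e, Scheme.Hom.comp_apply]
    exact hx
  · rintro ⟨z, rfl⟩
    refine ⟨hU.fromSpec z, ?_⟩
    rw [← Scheme.Hom.comp_apply, fromSpec_comp_diagonal f hU hV e, Scheme.Hom.comp_apply]

theorem chartW_le_coborder : chartW f hU hV e ≤ (pullback.diagonal f).coborderRange := by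
  letI := (f.appLE V U e).hom.toAlgebra
  rintro _ ⟨y, -, rfl⟩
  change diagChart f hU hV e y ∈ coborder (Set.range (pullback.diagonal f))
  rw [← Set.mem_preimage, ← (diagChart f hU hV e).isOpenEmbedding.coborder_preimage,
    preimage_range_diagonal f hU hV e]
  have hcl : IsClosed (Set.range (Spec.map (CommRingCat.ofHom (OmegaAlg.mulHom Γ(S, V) Γ(X, U))))) := by
    haveI : IsClosedImmersion (Spec.map (CommRingCat.ofHom (OmegaAlg.mulHom Γ(S, V) Γ(X, U)))) :=
      IsClosedImmersion.spec_of_surjective _ (OmegaAlg.mulHom_surjective _ _)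
    exact (Spec.map (CommRingCat.ofHom (OmegaAlg.mulHom Γ(S, V) Γ(X, U)))).isClosedEmbedding.isClosed_range
  rw [hcl.coborder_eq]
  trivial

theorem nbhdι_preimage_chartW (n : ℕ) : nbhdι f n ⁻¹ᵁ chartW f hU hV e = pr1 f n ⁻¹ᵁ U := by
  ext x
  change nbhdι f n x ∈ (chartW f hU hV e : Set ↥(pullback f f)) ↔ pr1 f n x ∈ U
  rw [chartW_eq f hU hV e]
  change (pullback.fst f f (nbhdι f n x) ∈ U ∧ pullback.snd f f (nbhdι f n x) ∈ U) ↔ _
  rw [← Scheme.Hom.comp_apply, ← Scheme.Hom.comp_apply]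
  change (pr1 f n x ∈ U ∧ pr2 f n x ∈ U) ↔ _
  rw [← pr1_apply, and_self]

/-- the canonical ring homomorphism `B ⊗[A] B → Γ(X^{(n)}_Δ, p₁⁻¹U)` -/
noncomputable def Φ (n : ℕ) :
    letI := (f.appLE V U e).hom.toAlgebra
    Γ(X, U) ⊗[Γ(S, V)] Γ(X, U) →+* Γ(nbhd f n, pr1 f n ⁻¹ᵁ U) :=
  letI := (f.appLE V U e).hom.toAlgebra
  ((chartRingIso (diagChart f hU hV e)).hom ≫
    (nbhdι f n).appLE (chartW f hU hV e) (pr1 f n ⁻¹ᵁ U) (nbhdι_preimage_chartW f hU hV e n).ge).hom

theorem Φ_apply (n : ℕ) :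
    letI := (f.appLE V U e).hom.toAlgebra
    ∀ x : Γ(X, U) ⊗[Γ(S, V)] Γ(X, U), Φ f hU hV e n x =
      (nbhdι f n).appLE (chartW f hU hV e) (pr1 f n ⁻¹ᵁ U) (nbhdι_preimage_chartW f hU hV e n).ge
        ((chartRingIso (diagChart f hU hV e)).hom x) := fun _ => rfl

theorem chartRingIso_includeLeft (b : Γ(X, U)) :
    letI := (f.appLE V U e).hom.toAlgebra
    (chartRingIso (diagChart f hU hV e)).hom (b ⊗ₜ[Γ(S, V)] (1 : Γ(X, U))) =
      (pullback.fst f f).appLE U (chartW f hU hV e) ((chartW_le f hU hV e).trans inf_le_left) b := by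
  letI := (f.appLE V U e).hom.toAlgebra
  have h2 := appLE_comp_chartRingIso_inv f hU hV e (pullback.fst f f) _ (diagChart_fst f hU hV e)
    ((chartW_le f hU hV e).trans inf_le_left)
  rw [Iso.comp_inv_eq] at h2
  rw [h2]
  rfl

theorem chartRingIso_includeRight (b : Γ(X, U)) :
    letI := (f.appLE V U e).hom.toAlgebra
    (chartRingIso (diagChart f hU hV e)).hom ((1 : Γ(X, U)) ⊗ₜ[Γ(S, V)] b) =
      (pullback.snd f f).appLE U (chartW f hU hV e) ((chartW_le f hU hV e).trans inf_le_right) b := by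
  letI := (f.appLE V U e).hom.toAlgebra
  have h2 := appLE_comp_chartRingIso_inv f hU hV e (pullback.snd f f) _ (diagChart_snd f hU hV e)
    ((chartW_le f hU hV e).trans inf_le_right)
  rw [Iso.comp_inv_eq] at h2
  rw [h2]
  rfl

theorem Φ_tmul (n : ℕ) (b b' : Γ(X, U)) :
    letI := (f.appLE V U e).hom.toAlgebra
    Φ f hU hV e n (b ⊗ₜ[Γ(S, V)] b') =
      (pr1 f n).appLE U (pr1 f n ⁻¹ᵁ U) le_rfl b *
        (pr2 f n).appLE U (pr1 f n ⁻¹ᵁ U) (preimage_pr1 f n U).le b' := by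
  letI := (f.appLE V U e).hom.toAlgebra
  have h : b ⊗ₜ[Γ(S, V)] b' = (b ⊗ₜ[Γ(S, V)] (1 : Γ(X, U))) * ((1 : Γ(X, U)) ⊗ₜ[Γ(S, V)] b') := by
    rw [Algebra.TensorProduct.tmul_mul_tmul, mul_one, one_mul]
  rw [h, map_mul, Φ_apply, Φ_apply, chartRingIso_includeLeft, chartRingIso_includeRight,
    ← CommRingCat.comp_apply, ← CommRingCat.comp_apply, Scheme.Hom.appLE_comp_appLE,
    Scheme.Hom.appLE_comp_appLE]
  rfl

theorem nbhdι_appLE_chartW (n : ℕ) (x : Γ(pullback f f, chartW f hU hV e)) :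
    (nbhdι f n).appLE (chartW f hU hV e) (pr1 f n ⁻¹ᵁ U) (nbhdι_preimage_chartW f hU hV e n).ge x =
      (nbhd f n).presheaf.map (homOfLE (nbhdι_preimage_chartW f hU hV e n).ge).op
        ((nbhdι f n).app (chartW f hU hV e) x) := rfl

theorem Φ_surjective (n : ℕ) :
    letI := (f.appLE V U e).hom.toAlgebra
    Function.Surjective (Φ f hU hV e n) := by
  letI := (f.appLE V U e).hom.toAlgebra
  intro y
  haveI := isIso_presheaf_map_of_eq (nbhdι_preimage_chartW f hU hV e n).symm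
    (nbhdι_preimage_chartW f hU hV e n).ge
  obtain ⟨y1, rfl⟩ := (ConcreteCategory.bijective_of_isIso ((nbhd f n).presheaf.map
    (homOfLE (nbhdι_preimage_chartW f hU hV e n).ge).op)).2 y
  obtain ⟨y2, rfl⟩ := nbhdι_app_surjective f n (chartOpen (diagChart f hU hV e)).2
    (chartW_le_coborder f hU hV e) y1
  obtain ⟨y3, rfl⟩ := (ConcreteCategory.bijective_of_isIso
    (chartRingIso (diagChart f hU hV e)).hom).2 y2
  exact ⟨y3, rfl⟩

theorem diagonal_app_chartW_eq_zero_iff (x : Γ(pullback f f, chartW f hU hV e)) :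
    letI := (f.appLE V U e).hom.toAlgebra
    (pullback.diagonal f).app (chartW f hU hV e) x = 0 ↔
      OmegaAlg.mulHom Γ(S, V) Γ(X, U) ((chartRingIso (diagChart f hU hV e)).inv x) = 0 := by
  letI := (f.appLE V U e).hom.toAlgebra
  have h3 := chartRingIso_comp_diagonal f hU hV e
  rw [← Iso.eq_inv_comp] at h3
  have h4 : OmegaAlg.mulHom Γ(S, V) Γ(X, U) ((chartRingIso (diagChart f hU hV e)).inv x) =
      (pullback.diagonal f).appLE (chartW f hU hV e) U (le_preimage_chartW f hU hV e) x := by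
    rw [h3]
    rfl
  rw [h4]
  have hUeq : U = pullback.diagonal f ⁻¹ᵁ chartW f hU hV e := by
    rw [← diagChart_cart f hU hV e, Scheme.Hom.image_top_eq_opensRange]
    exact hU.opensRange_fromSpec.symm
  haveI := isIso_presheaf_map_of_eq hUeq (le_preimage_chartW f hU hV e)
  change _ ↔ X.presheaf.map (homOfLE (le_preimage_chartW f hU hV e)).op
    ((pullback.diagonal f).app (chartW f hU hV e) x) = 0
  constructor
  · intro hx
    rw [hx, map_zero]
  · intro hx
    exact (ConcreteCategory.bijective_of_isIso (X.presheaf.map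
      (homOfLE (le_preimage_chartW f hU hV e)).op)).1 (hx.trans (map_zero _).symm)

theorem ker_Φ (n : ℕ) :
    letI := (f.appLE V U e).hom.toAlgebra
    RingHom.ker (Φ f hU hV e n) = KaehlerDifferential.ideal Γ(S, V) Γ(X, U) ^ (n + 1) := by
  letI := (f.appLE V U e).hom.toAlgebra
  let ψ : Γ(X, U) ⊗[Γ(S, V)] Γ(X, U) ≃+* Γ(pullback f f, chartW f hU hV e) :=
    (chartRingIso (diagChart f hU hV e)).commRingCatIsoToRingEquiv
  have hK : RingHom.ker ((pullback.diagonal f).app (chartW f hU hV e)).hom =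
      (KaehlerDifferential.ideal Γ(S, V) Γ(X, U)).comap ψ.symm := by
    ext x
    rw [RingHom.mem_ker, Ideal.mem_comap, ← ker_mulHom, RingHom.mem_ker]
    exact diagonal_app_chartW_eq_zero_iff f hU hV e x
  have h1 : RingHom.ker (Φ f hU hV e n) =
      (RingHom.ker ((nbhdι f n).app (chartW f hU hV e)).hom).comap ψ := by
    ext x
    rw [RingHom.mem_ker, Ideal.mem_comap, RingHom.mem_ker, Φ_apply, nbhdι_appLE_chartW]
    haveI := isIso_presheaf_map_of_eq (nbhdι_preimage_chartW f hU hV e n).symm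
      (nbhdι_preimage_chartW f hU hV e n).ge
    constructor
    · intro hx
      exact (ConcreteCategory.bijective_of_isIso ((nbhd f n).presheaf.map
        (homOfLE (nbhdι_preimage_chartW f hU hV e n).ge).op)).1 (hx.trans (map_zero _).symm)
    · intro hx
      change (nbhd f n).presheaf.map _ (((nbhdι f n).app (chartW f hU hV e)).hom (ψ x)) = 0
      rw [hx, map_zero]
  rw [h1, ker_nbhdι_app f n (chartOpen (diagChart f hU hV e)).2 (chartW_le_coborder f hU hV e), hK,
    Ideal.comap_symm, ← Ideal.map_pow, ← Ideal.comap_symm]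
  ext x
  rw [Ideal.mem_comap, Ideal.mem_comap, RingEquiv.symm_apply_apply]

end Chart

end Groth.Agent.Lib.helper21.PrinPart
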