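import Groth.Agent.Lib.Helper21.PrinPart2
import Groth.Agent.Lib.Helper11.InvPullback

/-!
# Sections of the sheaf of principal parts `P^n_{X/S}` (helper21)

* `unitHom_pullSect`: `g^* O_X ≅ O_Y` sends the pullback of the function `a` to `g♯ a`.
* `secP f n U : Γ(P f n, U) ≃+ Γ(X^{(n)}_Δ, p₁⁻¹ U)`, with `secP_smul` (`b • x ↦ p₁♯ b * x`) and
  `secP_dn` (`d^n b ↦ p₂♯ b`).
-/

set_option autoImplicit false
set_option linter.style.haveILetI false
universe u
open CategoryTheory CategoryTheory.Limits AlgebraicGeometry TopologicalSpace Opposite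
open Groth.Agent.Lib.helper11.InvMod Groth.Agent.Lib.helper11.InvPullback

namespace Groth.Agent.Lib.helper21.PrinPart

open _root_.PrinPart TensorProduct

section Unit
variable {X Y : Scheme.{u}} (g : Y ⟶ X)

theorem unitHom_pullSect (U : X.Opens) (a : Γ(X, U)) :
    (pullbackUnitHom g).app (g ⁻¹ᵁ U)
      (OmegaSh.pullSect g (Coh.structureModule X) U (OmegaSh.strSect X U a)) =
      OmegaSh.strSect Y (g ⁻¹ᵁ U) (g.app U a) := by
  have h1 : (Scheme.Modules.pullbackPushforwardAdjunction g).homEquiv _ _ (pullbackUnitHom g) =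
      unitToPush g := by
    rw [pullbackUnitHom_eq]
    exact Equiv.apply_symm_apply _ _
  rw [Adjunction.homEquiv_unit] at h1
  exact congrArg (fun φ : Coh.structureModule X ⟶
      (Scheme.Modules.pushforward g).obj (Coh.structureModule Y) =>
      (φ.app U) (OmegaSh.strSect X U a)) h1

theorem app_map {M N : X.Modules} (φ : M ⟶ N) {W W' : X.Opens} (i : W' ≤ W) (x : Γ(M, W)) :
    φ.app W' (M.presheaf.map (homOfLE i).op x) = N.presheaf.map (homOfLE i).op (φ.app W x) :=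
  congr($((Scheme.Modules.Hom.mapPresheaf φ).naturality (homOfLE i).op) x)

end Unit

section Str
variable {X S : Scheme.{u}} (f : X ⟶ S) (n : ℕ)

/-- sections of `P^n_{X/S}` over `U` are the functions on `p₁⁻¹ U ⊆ X^{(n)}_Δ` -/
noncomputable def secP (U : X.Opens) : Γ(P f n, U) ≃+ Γ(nbhd f n, pr1 f n ⁻¹ᵁ U) where
  toFun x := OmegaSh.fnSect (nbhd f n) (pr1 f n ⁻¹ᵁ U)
    ((pullbackUnitIso (pr2 f n)).hom.app (pr1 f n ⁻¹ᵁ U) x)
  invFun y := (pullbackUnitIso (pr2 f n)).inv.app (pr1 f n ⁻¹ᵁ U)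
    (OmegaSh.strSect (nbhd f n) (pr1 f n ⁻¹ᵁ U) y)
  left_inv x := by
    change ((pullbackUnitIso (pr2 f n)).hom.app (pr1 f n ⁻¹ᵁ U) ≫
      (pullbackUnitIso (pr2 f n)).inv.app (pr1 f n ⁻¹ᵁ U)) x = x
    rw [← Scheme.Modules.Hom.comp_app, Iso.hom_inv_id]
    rfl
  right_inv y := by
    change ((pullbackUnitIso (pr2 f n)).inv.app (pr1 f n ⁻¹ᵁ U) ≫
      (pullbackUnitIso (pr2 f n)).hom.app (pr1 f n ⁻¹ᵁ U)) y = y
    rw [← Scheme.Modules.Hom.comp_app, Iso.inv_hom_id]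
    rfl
  map_add' x y :=
    map_add ((OmegaSh.fnSect (nbhd f n) (pr1 f n ⁻¹ᵁ U)).comp
      ((pullbackUnitIso (pr2 f n)).hom.app (pr1 f n ⁻¹ᵁ U)).hom) x y

theorem secP_smul (U : X.Opens) (b : Γ(X, U)) (x : Γ(P f n, U)) :
    secP f n U (b • x) = (pr1 f n).app U b * secP f n U x := by
  change OmegaSh.fnSect (nbhd f n) (pr1 f n ⁻¹ᵁ U)
    ((pullbackUnitIso (pr2 f n)).hom.app (pr1 f n ⁻¹ᵁ U)
      (((pr1 f n).app U b : Γ(nbhd f n, pr1 f n ⁻¹ᵁ U)) •
        (show Γ((Scheme.Modules.pullback (pr2 f n)).obj (Coh.structureModule X), pr1 f n ⁻¹ᵁ U) from x))) = _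
  rw [Scheme.Modules.Hom.app_smul]
  rfl

theorem secP_dn (U : X.Opens) (b : Γ(X, U)) :
    secP f n U (dn f n U b) = (pr2 f n).appLE U (pr1 f n ⁻¹ᵁ U) (preimage_pr1 f n U).le b := by
  change OmegaSh.fnSect (nbhd f n) (pr1 f n ⁻¹ᵁ U)
    ((pullbackUnitHom (pr2 f n)).app (pr1 f n ⁻¹ᵁ U)
      (((Scheme.Modules.pullback (pr2 f n)).obj (Coh.structureModule X)).presheaf.map
        (homOfLE (preimage_pr1 f n U).le).op
        (OmegaSh.pullSect (pr2 f n) (Coh.structureModule X) U (OmegaSh.strSect X U b)))) = _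
  rw [app_map, unitHom_pullSect]
  rfl

end Str

end Groth.Agent.Lib.helper21.PrinPart
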