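import Groth.Agent.Lib.Helper21.PrinPart3
import Groth.Agent.Lib.Helper16.QCohAffinePush

/-!
# `p_1^{(n)}` is affine; `P^n_{X/S}(F)` is quasi-coherent for quasi-coherent `F` (helper21)
-/

set_option autoImplicit false
set_option linter.style.haveILetI false
universe u
open CategoryTheory CategoryTheory.Limits AlgebraicGeometry TopologicalSpace Opposite
open Groth.Agent.Lib.helper7 Groth.Agent.Lib.helper7.OmegaAffine Groth.Agent.Lib.helper7.OmegaLocal

namespace Groth.Agent.Lib.helper21.PrinPart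

open _root_.PrinPart TensorProduct

section Affine
variable {X S : Scheme.{u}} (f : X ⟶ S) (n : ℕ)

theorem isAffineOpen_nbhdι_preimage {O : (pullback f f).Opens} (hO : IsAffineOpen O)
    (hle : O ≤ (pullback.diagonal f).coborderRange) : IsAffineOpen (nbhdι f n ⁻¹ᵁ O) :=
  (isAffineOpen_preimage_coborder f hO hle).preimage (infNbhdι (diagCl f) n)

theorem isAffineOpen_pr1_preimage {U : X.Opens} (hU : IsAffineOpen U) {V : S.Opens}
    (hV : IsAffineOpen V) (e : U ≤ f ⁻¹ᵁ V) : IsAffineOpen (pr1 f n ⁻¹ᵁ U) := by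
  rw [← nbhdι_preimage_chartW f hU hV e n]
  letI := (f.appLE V U e).hom.toAlgebra
  exact isAffineOpen_nbhdι_preimage f n (chartOpen (diagChart f hU hV e)).2
    (chartW_le_coborder f hU hV e)

/-- every point of `X` has an affine open neighbourhood mapping into an affine open of `S` -/
theorem exists_affine_chart (x : X) : ∃ (U : X.Opens) (V : S.Opens), x ∈ U ∧ IsAffineOpen U ∧
    IsAffineOpen V ∧ U ≤ f ⁻¹ᵁ V := by
  obtain ⟨_, ⟨V, hV, rfl⟩, hxV, -⟩ := S.isBasis_affineOpens.exists_subset_of_mem_open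
    (Set.mem_univ (f x)) isOpen_univ
  obtain ⟨_, ⟨U, hU, rfl⟩, hxU, hUV⟩ := X.isBasis_affineOpens.exists_subset_of_mem_open
    (show x ∈ ((f ⁻¹ᵁ V : X.Opens) : Set X) from hxV) (f ⁻¹ᵁ V).2
  exact ⟨U, V, hxU, hU, hV, hUV⟩

instance isAffineHom_pr1 : IsAffineHom (pr1 f n) := by
  apply isAffineHom_of_forall_exists_isAffineOpen
  intro x
  obtain ⟨U, V, hxU, hU, hV, e⟩ := exists_affine_chart f x
  exact ⟨U, hxU, hU, isAffineOpen_pr1_preimage f n hU hV e⟩

theorem isQuasicoherent_PMod (F : X.Modules) [F.IsQuasicoherent] :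
    (PMod f n F).IsQuasicoherent := by
  haveI := Groth.Agent.Lib.helper16.QCohPullback.isQuasicoherent_pullback (pr2 f n) F
  exact Groth.Agent.Lib.helper16.QCohAffinePush.isQuasicoherent_push (pr1 f n)
    ((Scheme.Modules.pullback (pr2 f n)).obj F)

end Affine

end Groth.Agent.Lib.helper21.PrinPart
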