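import Mathlib
import Groth.Agent.Lib.Helper8.PullbackUnit

/-!
# Algebra for principal parts: finiteness of `(B ⊗[A] B) / I^(n+1)` over `B` (helper21)

* `finite_of_ker_eq`, `finitePresentation_of_ker_eq`: a `B`-algebra `R` which is a quotient of `B ⊗[A] B`
  by `I ^ (n + 1)` is a finite (resp. finitely presented) `B`-module if `B` is of finite type
  (resp. finitely presented) over `A`.
* `isBC_finite`, `isBC_finitePresentation`: base change (helper8's `IsBC`) preserves finiteness.
* `finite_of_isBC`, `finitePresentation_of_isBC`: the combination used for `P^n_{X/S}(F)`.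
-/

set_option autoImplicit false
universe u

namespace Groth.Agent.Lib.helper21.PrinPartAlg

open TensorProduct
open Groth.Agent.Lib.helper8.PullbackUnit (IsBC)

section Quot
variable {A B R : Type u} [CommRing A] [CommRing B] [CommRing R] [Algebra A B] [Algebra B R]
  (Φ : B ⊗[A] B →ₐ[B] R) (hs : Function.Surjective Φ) (n : ℕ)
  (hk : RingHom.ker Φ = KaehlerDifferential.ideal A B ^ (n + 1))

include hs hk in
theorem finite_of_ker_eq [Algebra.FiniteType A B] : Module.Finite B R := by
  classical
  obtain ⟨σ, hσ⟩ := (Algebra.FiniteType.out : (⊤ : Subalgebra A B).FG)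
  have h1 : Algebra.adjoin B (((1 : B) ⊗ₜ[A] ·) '' (σ : Set B)) = ⊤ :=
    Algebra.TensorProduct.adjoin_one_tmul_image_eq_top (σ : Set B) hσ
  have h2 : Algebra.adjoin B (Φ '' (((1 : B) ⊗ₜ[A] ·) '' (σ : Set B))) = ⊤ := by
    rw [← AlgHom.map_adjoin, h1, Algebra.map_top, AlgHom.range_eq_top]
    exact hs
  have h3 : (Algebra.adjoin B (Φ '' (((1 : B) ⊗ₜ[A] ·) '' (σ : Set B)))).toSubmodule.FG := by
    refine fg_adjoin_of_finite ((σ.finite_toSet.image _).image _) ?_
    rintro _ ⟨_, ⟨s, -, rfl⟩, rfl⟩
    have h4 : (1 : B) ⊗ₜ[A] s = ((1 : B) ⊗ₜ[A] s - s ⊗ₜ[A] (1 : B)) + algebraMap B (B ⊗[A] B) s := by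
      rw [Algebra.TensorProduct.algebraMap_apply, Algebra.algebraMap_self, RingHom.id_apply]
      ring
    show IsIntegral B (Φ ((1 : B) ⊗ₜ[A] s))
    rw [h4, map_add, AlgHom.commutes]
    refine IsIntegral.add ⟨Polynomial.X ^ (n + 1), Polynomial.monic_X_pow _, ?_⟩ isIntegral_algebraMap
    rw [Polynomial.eval₂_pow, Polynomial.eval₂_X, ← map_pow]
    have h5 : ((1 : B) ⊗ₜ[A] s - s ⊗ₜ[A] (1 : B)) ^ (n + 1) ∈ RingHom.ker Φ := by
      rw [hk]
      exact Ideal.pow_mem_pow (KaehlerDifferential.one_smul_sub_smul_one_mem_ideal A s) _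
    exact h5
  rw [h2] at h3
  exact ⟨by simpa using h3⟩

include hs hk in
theorem finitePresentation_of_ker_eq [Algebra.FinitePresentation A B] :
    Module.FinitePresentation B R := by
  haveI : Module.Finite B R := finite_of_ker_eq Φ hs n hk
  haveI : Algebra.FinitePresentation B R := by
    refine Algebra.FinitePresentation.of_surjective hs ?_
    change (RingHom.ker Φ).FG
    rw [hk]
    exact (KaehlerDifferential.ideal_fg A B).pow
  exact Module.FinitePresentation.of_finite_of_finitePresentation B R

end Quot

section BC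
variable {R R' : Type u} [CommRing R] [CommRing R'] {φ : R →+* R'} {N P : Type u}
    [AddCommGroup N] [Module R N] [AddCommGroup P] [Module R' P] {k : N →+ P}

theorem isBC_exists_isBaseChange (hk : IsBC φ k) :
    letI := φ.toAlgebra
    letI : Module R P := Module.compHom P φ
    ∃ (_ : IsScalarTower R R' P) (kl : N →ₗ[R] P), IsBaseChange R' kl := by
  letI := φ.toAlgebra
  letI : Module R P := Module.compHom P φ
  haveI : IsScalarTower R R' P := IsScalarTower.of_algebraMap_smul (fun _ _ => rfl)
  let kl : N →ₗ[R] P := { toFun := k, map_add' := k.map_add, map_smul' := hk.map_smul }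
  exact ⟨inferInstance, kl, IsBC.isBaseChange kl hk⟩

theorem isBC_finite (hk : IsBC φ k) [Module.Finite R N] : Module.Finite R' P := by
  letI := φ.toAlgebra
  letI : Module R P := Module.compHom P φ
  obtain ⟨_, kl, hb⟩ := isBC_exists_isBaseChange hk
  exact Module.Finite.equiv hb.equiv

theorem isBC_finitePresentation (hk : IsBC φ k) [Module.FinitePresentation R N] :
    Module.FinitePresentation R' P := by
  letI := φ.toAlgebra
  letI : Module R P := Module.compHom P φ
  obtain ⟨_, kl, hb⟩ := isBC_exists_isBaseChange hk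
  exact FinitePresentation.of_isBaseChange kl hb

end BC

section Combo
variable {B R : Type u} [CommRing B] [CommRing R] [Algebra B R] (p₂ : B →+* R) {M N : Type u}
  [AddCommGroup M] [Module B M] [AddCommGroup N] [Module R N] [Module B N] [IsScalarTower B R N]
  {k : M →+ N}

theorem finite_of_isBC (hk : IsBC p₂ k) [Module.Finite B R] [Module.Finite B M] :
    Module.Finite B N := by
  haveI : Module.Finite R N := isBC_finite hk
  exact Module.Finite.trans R N

theorem finitePresentation_of_isBC (hk : IsBC p₂ k) [Module.FinitePresentation B R]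
    [Module.FinitePresentation B M] : Module.FinitePresentation B N := by
  haveI : Module.FinitePresentation R N := isBC_finitePresentation hk
  exact Module.FinitePresentation.trans B N R

end Combo

end Groth.Agent.Lib.helper21.PrinPartAlg
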