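import Groth.Agent.Lib.Helper21.PrinPart4
import Groth.Agent.Lib.Helper21.PrinPartAlg2
import Groth.Agent.Lib.Helper16.CohFinite
import Groth.Agent.Lib.Helper16.CohFP

/-!
# `P^n_{X/S}(F)` is of finite type / finitely presented (helper21)

`f : X ⟶ S`, `U` affine open of `X` over the affine open `V` of `S`.
* `ΦAlg`: `Φ` as a `Γ(X,U)`-algebra homomorphism (`Γ(X^{(n)}_Δ, p₁⁻¹U)` an algebra through `p₁♯`).
* `finite_sections_PMod`, `fp_sections_PMod`.
* `isCoh_PMod` (S5968), `isFP_PMod` (S5971).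
-/

set_option autoImplicit false
set_option linter.style.haveILetI false
universe u
open CategoryTheory CategoryTheory.Limits AlgebraicGeometry TopologicalSpace Opposite
open Groth.Agent.Lib.helper7 Groth.Agent.Lib.helper7.OmegaAffine Groth.Agent.Lib.helper7.OmegaLocal

namespace Groth.Agent.Lib.helper21.PrinPart

open _root_.PrinPart TensorProduct
open Groth.Agent.Lib.helper8.PullbackUnit (IsBC)

section ModSec
variable {X S : Scheme.{u}} (f : X ⟶ S) (n : ℕ) {U : X.Opens} (hU : IsAffineOpen U)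
  {V : S.Opens} (hV : IsAffineOpen V) (e : U ≤ f ⁻¹ᵁ V)

/-- `Φ` as an algebra homomorphism over `Γ(X, U)`, the target being an algebra through `p₁♯` -/
noncomputable def ΦAlg :
    letI := (f.appLE V U e).hom.toAlgebra
    letI : Algebra Γ(X, U) Γ(nbhd f n, pr1 f n ⁻¹ᵁ U) := ((pr1 f n).app U).hom.toAlgebra
    Γ(X, U) ⊗[Γ(S, V)] Γ(X, U) →ₐ[Γ(X, U)] Γ(nbhd f n, pr1 f n ⁻¹ᵁ U) :=
  letI := (f.appLE V U e).hom.toAlgebra
  letI : Algebra Γ(X, U) Γ(nbhd f n, pr1 f n ⁻¹ᵁ U) := ((pr1 f n).app U).hom.toAlgebra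
  { Φ f hU hV e n with
    commutes' := fun b => by
      change Φ f hU hV e n (b ⊗ₜ[Γ(S, V)] (1 : Γ(X, U))) = (pr1 f n).app U b
      rw [Φ_tmul, map_one, mul_one, ← Scheme.Hom.app_eq_appLE] }

variable (F : X.Modules) [F.IsQuasicoherent]

include hU hV e in
theorem finite_sections_PMod [LocallyOfFiniteType f] [Module.Finite Γ(X, U) Γ(F, U)] :
    Module.Finite Γ(X, U) Γ(PMod f n F, U) := by
  letI := (f.appLE V U e).hom.toAlgebra
  letI : Algebra Γ(X, U) Γ(nbhd f n, pr1 f n ⁻¹ᵁ U) := ((pr1 f n).app U).hom.toAlgebra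
  haveI : Algebra.FiniteType Γ(S, V) Γ(X, U) := f.finiteType_appLE hV hU e
  haveI : Module.Finite Γ(X, U) Γ(nbhd f n, pr1 f n ⁻¹ᵁ U) :=
    Groth.Agent.Lib.helper21.PrinPartAlg.finite_of_ker_eq (ΦAlg f n hU hV e)
      (Φ_surjective f hU hV e n) n (ker_Φ f hU hV e n)
  letI instB : Module Γ(X, U) Γ((Scheme.Modules.pullback (pr2 f n)).obj F, pr1 f n ⁻¹ᵁ U) :=
    (inferInstance : Module Γ(X, U) Γ(PMod f n F, U))
  haveI : IsScalarTower Γ(X, U) Γ(nbhd f n, pr1 f n ⁻¹ᵁ U)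
      Γ((Scheme.Modules.pullback (pr2 f n)).obj F, pr1 f n ⁻¹ᵁ U) :=
    ⟨fun b r x => mul_smul ((pr1 f n).app U b) r x⟩
  have hk := Groth.Agent.Lib.helper8.PullbackUnit.isBC_ρ (pr2 f n) hU
    (isAffineOpen_pr1_preimage f n hU hV e) (preimage_pr1 f n U).le F
  have h : Module.Finite Γ(X, U)
      Γ((Scheme.Modules.pullback (pr2 f n)).obj F, pr1 f n ⁻¹ᵁ U) :=
    Groth.Agent.Lib.helper21.PrinPartAlg.finite_of_isBC _ hk
  exact h

include hU hV e in
theorem fp_sections_PMod [LocallyOfFinitePresentation f]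
    [Module.FinitePresentation Γ(X, U) Γ(F, U)] :
    Module.FinitePresentation Γ(X, U) Γ(PMod f n F, U) := by
  letI := (f.appLE V U e).hom.toAlgebra
  letI : Algebra Γ(X, U) Γ(nbhd f n, pr1 f n ⁻¹ᵁ U) := ((pr1 f n).app U).hom.toAlgebra
  haveI : Algebra.FinitePresentation Γ(S, V) Γ(X, U) := f.finitePresentation_appLE hV hU e
  haveI : Module.FinitePresentation Γ(X, U) Γ(nbhd f n, pr1 f n ⁻¹ᵁ U) :=
    Groth.Agent.Lib.helper21.PrinPartAlg.finitePresentation_of_ker_eq (ΦAlg f n hU hV e)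
      (Φ_surjective f hU hV e n) n (ker_Φ f hU hV e n)
  letI instB : Module Γ(X, U) Γ((Scheme.Modules.pullback (pr2 f n)).obj F, pr1 f n ⁻¹ᵁ U) :=
    (inferInstance : Module Γ(X, U) Γ(PMod f n F, U))
  haveI : IsScalarTower Γ(X, U) Γ(nbhd f n, pr1 f n ⁻¹ᵁ U)
      Γ((Scheme.Modules.pullback (pr2 f n)).obj F, pr1 f n ⁻¹ᵁ U) :=
    ⟨fun b r x => mul_smul ((pr1 f n).app U b) r x⟩
  have hk := Groth.Agent.Lib.helper8.PullbackUnit.isBC_ρ (pr2 f n) hU
    (isAffineOpen_pr1_preimage f n hU hV e) (preimage_pr1 f n U).le F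
  have h : Module.FinitePresentation Γ(X, U)
      Γ((Scheme.Modules.pullback (pr2 f n)).obj F, pr1 f n ⁻¹ᵁ U) :=
    Groth.Agent.Lib.helper21.PrinPartAlg.finitePresentation_of_isBC _ hk
  exact h

end ModSec

section Global
variable {X S : Scheme.{u}} (f : X ⟶ S) (n : ℕ) (F : X.Modules)

/-- affine charts: an affine open of `X` mapping into an affine open of `S` -/
abbrev Chart : Type u := {p : X.affineOpens × S.affineOpens // p.1.1 ≤ f ⁻¹ᵁ p.2.1}

theorem iSup_chart : ⨆ p : Chart f, p.1.1.1 = ⊤ := by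
  rw [eq_top_iff]
  intro x _
  obtain ⟨U, V, hxU, hU, hV, e⟩ := exists_affine_chart f x
  exact Opens.mem_iSup.mpr ⟨⟨(⟨U, hU⟩, ⟨V, hV⟩), e⟩, hxU⟩

/-- **S5968** -/
theorem isCoh_PMod [LocallyOfFiniteType f] (hF : Coh.IsCoh F) : Coh.IsCoh (PMod f n F) := by
  haveI : F.IsQuasicoherent := hF.1
  haveI := isQuasicoherent_PMod f n F
  refine Groth.Agent.Lib.helper16.CohFinite.isCoh_of_finite_sections (PMod f n F)
    (fun p : Chart f => p.1.1.1) (fun p => p.1.1.2) (iSup_chart f) (fun p => ?_)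
  haveI := Groth.Agent.Lib.helper16.CohFinite.finite_sections_of_isCoh F hF p.1.1.2
  exact finite_sections_PMod f n p.1.1.2 p.1.2.2 p.2 F

/-- **S5971** -/
theorem isFP_PMod [LocallyOfFinitePresentation f] (hF : CohB1.IsFP F) :
    CohB1.IsFP (PMod f n F) := by
  haveI : F.IsQuasicoherent :=
    (Groth.Agent.Lib.helper16.CohFinite.isCoh_of_isFinitePresentation F hF).1
  haveI := isQuasicoherent_PMod f n F
  refine Groth.Agent.Lib.helper16.CohFinite.isFinitePresentation_of_fp_sections (PMod f n F)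
    (fun p : Chart f => p.1.1.1) (fun p => p.1.1.2) (iSup_chart f) (fun p => ?_)
  haveI := Groth.Agent.Lib.helper16.CohFP.fp_sections_of_isFinitePresentation F hF p.1.1.2
  exact fp_sections_PMod f n p.1.1.2 p.1.2.2 p.2 F

end Global

end Groth.Agent.Lib.helper21.PrinPart
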