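import Groth.Agent.Lib.Helper21.PrinPart4
import Groth.Agent.Lib.Helper16.PushColim3

/-!
# `p_1^{(n)}` is a homeomorphism; `F ↦ P^n_{X/S}(F)` commutes with colimits (helper21)
-/

set_option autoImplicit false
universe u
open CategoryTheory CategoryTheory.Limits AlgebraicGeometry TopologicalSpace Opposite

namespace Groth.Agent.Lib.helper21.PrinPart

open _root_.PrinPart

section Homeo
variable {X S : Scheme.{u}} (f : X ⟶ S) (n : ℕ)

theorem toNbhd_pr1_apply (x : nbhd f n) : toNbhd f n (pr1 f n x) = x := by
  obtain ⟨y, rfl⟩ := toInfNbhd_surjective (diagCl f) n x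
  change toNbhd f n (pr1 f n (toNbhd f n y)) = toNbhd f n y
  rw [← Scheme.Hom.comp_apply (toNbhd f n) (pr1 f n), toNbhd_pr1]
  rfl

theorem pr1_toNbhd_apply (y : X) : pr1 f n (toNbhd f n y) = y := by
  rw [← Scheme.Hom.comp_apply, toNbhd_pr1]
  rfl

/-- `p_1^{(n)}` is a homeomorphism on the underlying spaces -/
noncomputable def pr1Homeo : nbhd f n ≃ₜ X where
  toFun := pr1 f n
  invFun := toNbhd f n
  left_inv := toNbhd_pr1_apply f n
  right_inv := pr1_toNbhd_apply f n
  continuous_toFun := (pr1 f n).continuous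
  continuous_invFun := (toNbhd f n).continuous

theorem isClosedEmbedding_pr1 : Topology.IsClosedEmbedding (pr1 f n) :=
  (pr1Homeo f n).isClosedEmbedding

/-- pushforward of modules along `p_1^{(n)}` preserves colimits -/
theorem preservesColimits_pushforward_pr1 :
    PreservesColimitsOfSize.{u, u} (Scheme.Modules.pushforward (pr1 f n)) := by
  have h1 := Groth.Agent.Lib.Helper21.ModSh.toSheaf_preservesColimits (nbhd f n).ringCatSheaf
  have h2 := Groth.Agent.Lib.helper16.PushColim.preservesColimits_pushforward_of_isClosedEmbedding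
    (pr1 f n).base (isClosedEmbedding_pr1 f n)
  have h3 : PreservesColimitsOfSize.{u, u}
    (SheafOfModules.toSheaf.{u} (nbhd f n).ringCatSheaf ⋙
      TopCat.Sheaf.pushforward AddCommGrpCat.{u} (pr1 f n).base) :=
    @comp_preservesColimits _ _ _ _ _ _ _ _ h1 h2
  have h4 : PreservesColimitsOfSize.{u, u}
      (Scheme.Modules.pushforward (pr1 f n) ⋙ SheafOfModules.toSheaf X.ringCatSheaf) :=
    @preservesColimits_of_natIso _ _ _ _ _ _
      (Groth.Agent.Lib.helper16.PushColim.pushToSheafIso (pr1 f n)).symm h3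
  have h5 := Groth.Agent.Lib.helper16.PushColim.reflectsColimits_toSheaf (X := X)
  refine ⟨fun {J} _ => ⟨fun {K} => ?_⟩⟩
  exact @preservesColimit_of_reflects_of_preserves _ _ _ _ _ _ K _ _
      (Scheme.Modules.pushforward (pr1 f n))
      (SheafOfModules.toSheaf X.ringCatSheaf) (h4.preservesColimitsOfShape.preservesColimit)
      (h5.reflectsColimitsOfShape.reflectsColimit)

/-- **S5966** -/
theorem preservesColimits_PMod :
    PreservesColimitsOfSize.{u, u}
      ((Scheme.Modules.pullback (pr2 f n)) ⋙ (Scheme.Modules.pushforward (pr1 f n))) := by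
  haveI := preservesColimits_pushforward_pr1 f n
  haveI : PreservesColimitsOfSize.{u, u} (Scheme.Modules.pullback (pr2 f n)) :=
    (Scheme.Modules.pullbackPushforwardAdjunction (pr2 f n)).leftAdjoint_preservesColimits
  exact comp_preservesColimits _ _

end Homeo

end Groth.Agent.Lib.helper21.PrinPart
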