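import Groth.Agent.Lib.Helper21.PrinPart4

/-!
# The augmentation ideal of `P^n_{X/S}` is nilpotent of order `n + 1` (helper21)

* `δ f n U a = p₂♯ a - p₁♯ a ∈ Γ(X^{(n)}_Δ, p₁⁻¹U)`, `δ_res`, `δ_eq_Φ`.
* `prod_δ_eq_zero`: a product of `n + 1` such differences vanishes (any open `U`).
* `dn_mul` : in `Γ(P^1_{X/S}, U)`, `d^1(ab) = a • d^1 b + b • d^1 a - (ab) • d^1 1`.
* `dn_app`: `d^n (f♯ c) = f♯ c • d^n 1`.
-/

set_option autoImplicit false
set_option linter.style.haveILetI false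
universe u
open CategoryTheory CategoryTheory.Limits AlgebraicGeometry TopologicalSpace Opposite

namespace Groth.Agent.Lib.helper21.PrinPart

open _root_.PrinPart TensorProduct

section Vanish
variable {X S : Scheme.{u}} (f : X ⟶ S) (n : ℕ)

theorem exists_affine_chart_le (U : X.Opens) (x : X) (hx : x ∈ U) :
    ∃ (U' : X.Opens) (V : S.Opens), x ∈ U' ∧ U' ≤ U ∧ IsAffineOpen U' ∧ IsAffineOpen V ∧
      U' ≤ f ⁻¹ᵁ V := by
  obtain ⟨_, ⟨V, hV, rfl⟩, hxV, -⟩ := S.isBasis_affineOpens.exists_subset_of_mem_open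
    (Set.mem_univ (f x)) isOpen_univ
  obtain ⟨_, ⟨U', hU', rfl⟩, hxU', hUV⟩ := X.isBasis_affineOpens.exists_subset_of_mem_open
    (show x ∈ ((f ⁻¹ᵁ V ⊓ U : X.Opens) : Set X) from ⟨hxV, hx⟩) (f ⁻¹ᵁ V ⊓ U).2
  exact ⟨U', V, hxU', fun y hy => (hUV hy).2, hU', hV, fun y hy => (hUV hy).1⟩

/-- the difference `p₂♯ a - p₁♯ a` of the two pullbacks of a function -/
noncomputable def δ (U : X.Opens) (a : Γ(X, U)) : Γ(nbhd f n, pr1 f n ⁻¹ᵁ U) :=
  (pr2 f n).appLE U (pr1 f n ⁻¹ᵁ U) (preimage_pr1 f n U).le a -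
    (pr1 f n).appLE U (pr1 f n ⁻¹ᵁ U) le_rfl a

theorem δ_res {U U' : X.Opens} (h : U' ≤ U) (a : Γ(X, U)) :
    (nbhd f n).presheaf.map (homOfLE ((pr1 f n).preimage_mono h)).op (δ f n U a) =
      δ f n U' (X.presheaf.map (homOfLE h).op a) := by
  rw [δ, δ, map_sub, ← CommRingCat.comp_apply, ← CommRingCat.comp_apply, Scheme.Hom.appLE_map,
    Scheme.Hom.appLE_map, ← CommRingCat.comp_apply, ← CommRingCat.comp_apply, Scheme.Hom.map_appLE,
    Scheme.Hom.map_appLE]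

theorem δ_eq_Φ {U : X.Opens} (hU : IsAffineOpen U) {V : S.Opens} (hV : IsAffineOpen V)
    (e : U ≤ f ⁻¹ᵁ V) (b : Γ(X, U)) :
    letI := (f.appLE V U e).hom.toAlgebra
    δ f n U b = Φ f hU hV e n ((1 : Γ(X, U)) ⊗ₜ[Γ(S, V)] b - b ⊗ₜ[Γ(S, V)] (1 : Γ(X, U))) := by
  letI := (f.appLE V U e).hom.toAlgebra
  rw [map_sub, Φ_tmul, Φ_tmul, map_one, map_one, one_mul, mul_one]
  rfl

theorem prod_δ_eq_zero (U : X.Opens) (a : Fin (n + 1) → Γ(X, U)) :
    ∏ i, δ f n U (a i) = 0 := by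
  refine (nbhd f n).IsSheaf.section_ext fun x hx => ?_
  obtain ⟨U', V, hxU', hle, hU', hV, e⟩ := exists_affine_chart_le f U (pr1 f n x) hx
  refine ⟨pr1 f n ⁻¹ᵁ U', (pr1 f n).preimage_mono hle, hxU', ?_⟩
  letI := (f.appLE V U' e).hom.toAlgebra
  rw [map_zero, map_prod]
  have h1 : ∀ i, (nbhd f n).presheaf.map (homOfLE ((pr1 f n).preimage_mono hle)).op
      (δ f n U (a i)) = Φ f hU' hV e n ((1 : Γ(X, U')) ⊗ₜ[Γ(S, V)]
        (X.presheaf.map (homOfLE hle).op (a i)) -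
          (X.presheaf.map (homOfLE hle).op (a i)) ⊗ₜ[Γ(S, V)] (1 : Γ(X, U'))) := by
    intro i
    rw [δ_res, δ_eq_Φ f n hU' hV e]
  simp_rw [h1]
  rw [← map_prod, ← RingHom.mem_ker, ker_Φ]
  have h2 := Ideal.prod_mem_prod (s := Finset.univ)
    (I := fun _ : Fin (n + 1) => KaehlerDifferential.ideal Γ(S, V) Γ(X, U'))
    (x := fun i => (1 : Γ(X, U')) ⊗ₜ[Γ(S, V)] (X.presheaf.map (homOfLE hle).op (a i)) -
          (X.presheaf.map (homOfLE hle).op (a i)) ⊗ₜ[Γ(S, V)] (1 : Γ(X, U')))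
    (fun i _ => KaehlerDifferential.one_smul_sub_smul_one_mem_ideal Γ(S, V) _)
  rw [Finset.prod_const, Finset.card_univ, Fintype.card_fin] at h2
  exact h2

theorem δ_mul_δ_eq_zero (U : X.Opens) (a b : Γ(X, U)) : δ f 1 U a * δ f 1 U b = 0 := by
  have h := prod_δ_eq_zero f 1 U ![a, b]
  rw [Fin.prod_univ_two] at h
  exact h

/-- the Leibniz rule in `P^1_{X/S}` -/
theorem dn_mul (U : X.Opens) (a b : Γ(X, U)) :
    dn f 1 U (a * b) = a • dn f 1 U b + b • dn f 1 U a - (a * b) • dn f 1 U 1 := by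
  apply (secP f 1 U).injective
  rw [map_sub, map_add, secP_smul, secP_smul, secP_smul, secP_dn, secP_dn, secP_dn, secP_dn,
    Scheme.Hom.app_eq_appLE, map_one, mul_one, map_mul, map_mul]
  have h := δ_mul_δ_eq_zero f U a b
  rw [δ, δ] at h
  rw [← sub_eq_zero, ← h]
  ring

/-- `d^n` of a function coming from the base -/
theorem dn_app (V : S.Opens) (c : Γ(S, V)) :
    dn f n (f ⁻¹ᵁ V) (f.app V c) = f.app V c • dn f n (f ⁻¹ᵁ V) 1 := by
  apply (secP f n (f ⁻¹ᵁ V)).injective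
  rw [secP_smul, secP_dn, secP_dn, map_one, mul_one, Scheme.Hom.app_eq_appLE,
    ← CommRingCat.comp_apply, ← CommRingCat.comp_apply, Scheme.Hom.app_eq_appLE,
    Scheme.Hom.appLE_comp_appLE, Scheme.Hom.appLE_comp_appLE]
  exact congr($(OmegaSh.appLE_congr_hom (pr1_comp f n).symm _ _) c)

end Vanish

end Groth.Agent.Lib.helper21.PrinPart
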