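import Mathlib

/-!
# Algebra for principal parts of order one: `(B ⊗[A] B) / I² = B ⊕ Ω[B⁄A]` (helper21)

`Φ : B ⊗[A] B →+* R` surjective with kernel `I ^ 2`.
* `J Φ hk : Ω[B⁄A] →+ R`, class of `i ∈ I` ↦ `Φ i`; `J_toCotangent`, `J_D`, `J_smul`.
* `decomp_surj`, `decomp_inj`: every `r : R` is uniquely `Φ (s ⊗ 1) + J ω`.
* `eq_J_of_D`: a semilinear additive map `Ω[B⁄A] →+ R` with the values of `J` on the `D b` is `J`.
-/

set_option autoImplicit false
universe u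

namespace Groth.Agent.Lib.helper21.PrinPartAlg

open TensorProduct

section P1
variable {A B R : Type u} [CommRing A] [CommRing B] [CommRing R] [Algebra A B]
  (Φ : B ⊗[A] B →+* R) (hk : RingHom.ker Φ = KaehlerDifferential.ideal A B ^ 2)

/-- `Φ` on the quotient by `I ^ 2` -/
noncomputable def Φq : (B ⊗[A] B) ⧸ KaehlerDifferential.ideal A B ^ 2 →+* R :=
  Ideal.Quotient.lift (KaehlerDifferential.ideal A B ^ 2) Φ (fun x hx => by
    rw [← hk] at hx
    exact hx)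

/-- `Ω[B⁄A] → R`: the class of `i ∈ I` goes to `Φ i` -/
noncomputable def J : Ω[B⁄A] →+ R :=
  (Φq Φ hk).toAddMonoidHom.comp
    (KaehlerDifferential.ideal A B).cotangentToQuotientSquare.toAddMonoidHom

theorem J_toCotangent (i : KaehlerDifferential.ideal A B) :
    J Φ hk (KaehlerDifferential.fromIdeal A B i) = Φ i := by
  change Φq Φ hk ((KaehlerDifferential.ideal A B).cotangentToQuotientSquare
    ((KaehlerDifferential.ideal A B).toCotangent i)) = Φ i
  rw [Ideal.toCotangent_to_quotient_square]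
  exact Ideal.Quotient.lift_mk _ _ _

theorem J_D (b : B) :
    J Φ hk (KaehlerDifferential.D A B b) = Φ ((1 : B) ⊗ₜ[A] b - b ⊗ₜ[A] (1 : B)) := by
  rw [KaehlerDifferential.D_apply]
  exact J_toCotangent Φ hk ⟨(1 : B) ⊗ₜ[A] b - b ⊗ₜ[A] (1 : B),
    KaehlerDifferential.one_smul_sub_smul_one_mem_ideal A b⟩

theorem J_smul (b : B) (ω : Ω[B⁄A]) :
    J Φ hk (b • ω) = Φ (b ⊗ₜ[A] (1 : B)) * J Φ hk ω := by
  obtain ⟨i, rfl⟩ := KaehlerDifferential.fromIdeal_surjective A B ω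
  have h1 : b • KaehlerDifferential.fromIdeal A B i =
      KaehlerDifferential.fromIdeal A B ((b ⊗ₜ[A] (1 : B)) • i) := by
    rw [map_smul]
    have : (b ⊗ₜ[A] (1 : B)) = algebraMap B (B ⊗[A] B) b := rfl
    rw [this, algebraMap_smul]
  rw [h1, J_toCotangent, J_toCotangent]
  change Φ ((b ⊗ₜ[A] (1 : B)) * (i : B ⊗[A] B)) = _
  rw [map_mul]

include hk in
theorem decomp_surj (hs : Function.Surjective Φ) (r : R) :
    ∃ (s : B) (ω : Ω[B⁄A]), r = Φ (s ⊗ₜ[A] (1 : B)) + J Φ hk ω := by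
  obtain ⟨p, rfl⟩ := hs r
  let s : B := Algebra.TensorProduct.lmul' A (S := B) p
  have hi : p - s ⊗ₜ[A] (1 : B) ∈ KaehlerDifferential.ideal A B := by
    change Algebra.TensorProduct.lmul' A (S := B) (p - s ⊗ₜ[A] (1 : B)) = 0
    rw [map_sub, Algebra.TensorProduct.lmul'_apply_tmul, mul_one, sub_self]
  refine ⟨s, KaehlerDifferential.fromIdeal A B ⟨_, hi⟩, ?_⟩
  rw [J_toCotangent, ← map_add]
  exact congrArg Φ (add_sub_cancel (s ⊗ₜ[A] (1 : B)) p).symm

include hk in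
theorem decomp_inj (s : B) (ω : Ω[B⁄A]) (h : Φ (s ⊗ₜ[A] (1 : B)) + J Φ hk ω = 0) :
    s = 0 ∧ ω = 0 := by
  obtain ⟨i, rfl⟩ := KaehlerDifferential.fromIdeal_surjective A B ω
  rw [J_toCotangent, ← map_add, ← RingHom.mem_ker, hk] at h
  have h1 : s ⊗ₜ[A] (1 : B) + (i : B ⊗[A] B) ∈ KaehlerDifferential.ideal A B :=
    Ideal.pow_le_self (two_ne_zero) h
  have h2 : s ⊗ₜ[A] (1 : B) ∈ KaehlerDifferential.ideal A B := by
    have := Ideal.sub_mem _ h1 i.2
    rwa [add_sub_cancel_right] at this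
  have hs0 : s = 0 := by
    have : Algebra.TensorProduct.lmul' A (S := B) (s ⊗ₜ[A] (1 : B)) = 0 := h2
    rwa [Algebra.TensorProduct.lmul'_apply_tmul, mul_one] at this
  refine ⟨hs0, ?_⟩
  rw [hs0, TensorProduct.zero_tmul, zero_add] at h
  exact ((KaehlerDifferential.ideal A B).toCotangent_eq_zero i).mpr h

theorem eq_J_of_D (g : Ω[B⁄A] →+ R)
    (hg : ∀ (b : B) (ω : Ω[B⁄A]), g (b • ω) = Φ (b ⊗ₜ[A] (1 : B)) * g ω)
    (hD : ∀ b : B, g (KaehlerDifferential.D A B b) = Φ ((1 : B) ⊗ₜ[A] b - b ⊗ₜ[A] (1 : B)))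
    (ω : Ω[B⁄A]) : g ω = J Φ hk ω := by
  have hω : ω ∈ Submodule.span B (Set.range (KaehlerDifferential.D A B)) := by
    rw [KaehlerDifferential.span_range_derivation]; trivial
  induction hω using Submodule.span_induction with
  | mem x hx =>
    obtain ⟨b, rfl⟩ := hx
    rw [hD, J_D]
  | zero => rw [map_zero, map_zero]
  | add x y _ _ hx hy => rw [map_add, map_add, hx, hy]
  | smul b x _ hx => rw [hg, J_smul, hx]

end P1

end Groth.Agent.Lib.helper21.PrinPartAlg
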