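import Groth.Agent.Lib.Helper21.PrinPart8
import Groth.Agent.Lib.Helper21.PrinPart7
import Groth.Agent.Lib.Helper21.PrinPart5
import Groth.Agent.Lib.Helper21.PrinPartAlg3
import Groth.Agent.Lib.Helper7.KerSections
import Groth.Agent.Lib.Helper16.QCohFibre

/-!
# `P^1_{X/S} = O_X ⊕ Ω_{X/S}` (helper21)
-/

set_option autoImplicit false
set_option linter.style.haveILetI false
universe u
open CategoryTheory CategoryTheory.Limits AlgebraicGeometry TopologicalSpace Opposite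
open Groth.Agent.Lib.helper7 Groth.Agent.Lib.helper7.OmegaAffine Groth.Agent.Lib.helper7.OmegaLocal

namespace Groth.Agent.Lib.helper21.PrinPart

open _root_.PrinPart TensorProduct Groth.Agent.Lib.helper21.PrinPartAlg

section CoprodSections
variable {X : Scheme.{u}} {M N : X.Modules}

theorem coprod_decomp :
    (coprod.desc (𝟙 M) 0 : M ⨿ N ⟶ M) ≫ coprod.inl + (coprod.desc 0 (𝟙 N) : M ⨿ N ⟶ N) ≫ coprod.inr =
      𝟙 (M ⨿ N) := by
  apply coprod.hom_ext
  · rw [Preadditive.comp_add, coprod.inl_desc_assoc, coprod.inl_desc_assoc, Category.id_comp,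
      zero_comp, add_zero, Category.comp_id]
  · rw [Preadditive.comp_add, coprod.inr_desc_assoc, coprod.inr_desc_assoc, Category.id_comp,
      zero_comp, zero_add, Category.comp_id]

theorem coprod_section_eq (U : X.Opens) (x : Γ(M ⨿ N, U)) :
    x = (coprod.inl : M ⟶ M ⨿ N).app U ((coprod.desc (𝟙 M) 0 : M ⨿ N ⟶ M).app U x) +
      (coprod.inr : N ⟶ M ⨿ N).app U ((coprod.desc 0 (𝟙 N) : M ⨿ N ⟶ N).app U x) := by
  have h := congrArg (fun φ : M ⨿ N ⟶ M ⨿ N => φ.app U x) (coprod_decomp (M := M) (N := N))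
  exact h.symm

theorem coprod_desc_app {K : X.Modules} (a : M ⟶ K) (b : N ⟶ K) (U : X.Opens) (m : Γ(M, U))
    (n : Γ(N, U)) :
    (coprod.desc a b).app U ((coprod.inl : M ⟶ M ⨿ N).app U m + (coprod.inr : N ⟶ M ⨿ N).app U n) =
      a.app U m + b.app U n := by
  rw [map_add]
  have h1 := congrArg (fun φ : M ⟶ K => φ.app U m) (coprod.inl_desc a b)
  have h2 := congrArg (fun φ : N ⟶ K => φ.app U n) (coprod.inr_desc a b)
  exact congrArg₂ (· + ·) h1 h2

instance isQuasicoherent_coprod [M.IsQuasicoherent] [N.IsQuasicoherent] :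
    (M ⨿ N).IsQuasicoherent := by
  haveI := Groth.Agent.Lib.helper16.QCohFibre.isQuasicoherent_biprod M N
  exact Groth.Agent.Lib.helper16.QCohFibre.isQuasicoherent_of_iso (biprod.isoCoprod M N)

end CoprodSections

section P1
variable {X S : Scheme.{u}} (f : X ⟶ S) [QuasiSeparated f]
    (ε : Coh.structureModule X ⟶ P f 1)
    (hε : ∀ (U : X.Opens) (s : Γ(X, U)), ε.app U (OmegaSh.strSect X U s) = s • dn f 1 U 1)
    (ι : Omega.sheaf f ⟶ P f 1)
    (hι : ∀ (U : X.Opens) (s : Γ(X, U)),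
      ι.app U ((OmegaSh.dOmega f).app U s) = dn f 1 U s - s • dn f 1 U 1)
    {U : X.Opens} (hU : IsAffineOpen U) {V : S.Opens} (hV : IsAffineOpen V) (e : U ≤ f ⁻¹ᵁ V)

include hε hι hU hV e in
theorem exists_chart_data :
    letI := (f.appLE V U e).hom.toAlgebra
    ∃ (hk : RingHom.ker (Φ f hU hV e 1) = KaehlerDifferential.ideal Γ(S, V) Γ(X, U) ^ 2)
      (ψ : Γ(Omega.sheaf f, U) ≃ₗ[Γ(X, U)] Ω[Γ(X, U)⁄Γ(S, V)]),
      (∀ s : Γ(X, U), secP f 1 U (ε.app U (OmegaSh.strSect X U s)) =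
        Φ f hU hV e 1 (s ⊗ₜ[Γ(S, V)] (1 : Γ(X, U)))) ∧
      ∀ w : Γ(Omega.sheaf f, U), secP f 1 U (ι.app U w) = J (Φ f hU hV e 1) hk (ψ w) := by
  letI := (f.appLE V U e).hom.toAlgebra
  have hk : RingHom.ker (Φ f hU hV e 1) = KaehlerDifferential.ideal Γ(S, V) Γ(X, U) ^ 2 :=
    ker_Φ f hU hV e 1
  obtain ⟨ψ, hψ⟩ := exists_sectionsEquiv_dSect f hU hV e
  have h1 : ∀ s : Γ(X, U), Φ f hU hV e 1 (s ⊗ₜ[Γ(S, V)] (1 : Γ(X, U))) = (pr1 f 1).app U s := by
    intro s
    rw [Φ_tmul, map_one, mul_one, ← Scheme.Hom.app_eq_appLE]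
  refine ⟨hk, ψ, fun s => ?_, fun w => ?_⟩
  · rw [hε, secP_smul, secP_dn, map_one, mul_one, h1]
  · let g : Ω[Γ(X, U)⁄Γ(S, V)] →+ Γ(nbhd f 1, pr1 f 1 ⁻¹ᵁ U) :=
      (secP f 1 U).toAddMonoidHom.comp ((ι.app U).hom.comp ψ.symm.toLinearMap.toAddMonoidHom)
    have hg : ∀ (b : Γ(X, U)) (ω : Ω[Γ(X, U)⁄Γ(S, V)]),
        g (b • ω) = Φ f hU hV e 1 (b ⊗ₜ[Γ(S, V)] (1 : Γ(X, U))) * g ω := by
      intro b ω
      change secP f 1 U (ι.app U (ψ.symm (b • ω))) = _ * secP f 1 U (ι.app U (ψ.symm ω))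
      rw [map_smul, Scheme.Modules.Hom.app_smul, secP_smul, h1]
    have hD : ∀ b : Γ(X, U), g (KaehlerDifferential.D Γ(S, V) Γ(X, U) b) =
        Φ f hU hV e 1 ((1 : Γ(X, U)) ⊗ₜ[Γ(S, V)] b - b ⊗ₜ[Γ(S, V)] (1 : Γ(X, U))) := by
      intro b
      change secP f 1 U (ι.app U (ψ.symm (KaehlerDifferential.D Γ(S, V) Γ(X, U) b))) = _
      rw [← hψ b, LinearEquiv.symm_apply_apply]
      have h2 := hι U b
      change ι.app U (OmegaSh.dSect f U b) = _ at h2
      rw [h2, map_sub, secP_smul, secP_dn, secP_dn, map_one, mul_one, ← δ_eq_Φ f 1 hU hV e b,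
        Scheme.Hom.app_eq_appLE]
      rfl
    have := eq_J_of_D (Φ f hU hV e 1) hk g hg hD (ψ w)
    rw [← this]
    change _ = secP f 1 U (ι.app U (ψ.symm (ψ w)))
    rw [LinearEquiv.symm_apply_apply]

include hε hι hU hV e in
theorem bijective_desc_app : Function.Bijective ((coprod.desc ε ι).app U).hom := by
  letI := (f.appLE V U e).hom.toAlgebra
  obtain ⟨hk, ψ, h1, h2⟩ := exists_chart_data f ε hε ι hι hU hV e
  constructor
  · rw [injective_iff_map_eq_zero]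
    intro x hx
    rw [coprod_section_eq U x] at hx ⊢
    set a := (coprod.desc (𝟙 (Coh.structureModule X)) 0 :
      Coh.structureModule X ⨿ Omega.sheaf f ⟶ _).app U x with ha
    set w := (coprod.desc 0 (𝟙 (Omega.sheaf f)) :
      Coh.structureModule X ⨿ Omega.sheaf f ⟶ _).app U x with hw
    have hx' : ε.app U a + ι.app U w = 0 := by
      rw [← coprod_desc_app ε ι U a w]
      exact hx
    have hx'' := congrArg (secP f 1 U) hx'
    rw [map_add, map_zero, h2] at hx''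
    have h3 := h1 (OmegaSh.fnSect X U a)
    have h4 : OmegaSh.strSect X U (OmegaSh.fnSect X U a) = a := rfl
    rw [h4] at h3
    rw [h3] at hx''
    obtain ⟨hs0, hw0⟩ := decomp_inj (Φ f hU hV e 1) hk _ _ hx''
    have ha0 : a = 0 := hs0
    have hw0' : w = 0 := ψ.injective (hw0.trans (map_zero ψ).symm)
    rw [ha0, hw0', map_zero, map_zero, add_zero]
  · intro y
    obtain ⟨s, ω, hy⟩ := decomp_surj (Φ f hU hV e 1) hk (Φ_surjective f hU hV e 1) (secP f 1 U y)
    refine ⟨(coprod.inl : _ ⟶ Coh.structureModule X ⨿ Omega.sheaf f).app U (OmegaSh.strSect X U s) +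
      (coprod.inr : _ ⟶ Coh.structureModule X ⨿ Omega.sheaf f).app U (ψ.symm ω), ?_⟩
    apply (secP f 1 U).injective
    have := coprod_desc_app ε ι U (OmegaSh.strSect X U s) (ψ.symm ω)
    rw [hy]
    refine (congrArg (secP f 1 U) this).trans ?_
    rw [map_add, h1, h2, LinearEquiv.apply_symm_apply]

include hε hι in
/-- **S5978** -/
theorem isIso_desc : IsIso (coprod.desc ε ι) := by
  haveI : (Coh.structureModule X).IsQuasicoherent :=
    Groth.Agent.Lib.helper16.FLF.isQuasicoherent_of_isFinLocFree _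
      (Groth.Agent.Lib.helper16.FLF.isFinLocFree_structureModule X)
  refine Groth.Agent.Lib.helper7.KerSections.isIso_of_bijective_cover (coprod.desc ε ι)
    (fun p : Chart f => p.1.1.1) (fun p => p.1.1.2) (fun x => ?_) (fun p => ?_)
  · obtain ⟨U, V, hxU, hU, hV, e⟩ := exists_affine_chart f x
    exact ⟨⟨(⟨U, hU⟩, ⟨V, hV⟩), e⟩, hxU⟩
  · exact bijective_desc_app f ε hε ι hι p.1.1.2 p.1.2.2 p.2

end P1

end Groth.Agent.Lib.helper21.PrinPart
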