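import Mathlib

/-!
# Algebra for principal parts: transport of `B ⊗[A] B` along ring isomorphisms (helper21)
-/

set_option autoImplicit false
universe u

namespace Groth.Agent.Lib.helper21.PrinPartAlg

open TensorProduct

section Transport
variable {A B A' B' : Type u} [CommRing A] [CommRing B] [CommRing A'] [CommRing B']
  [Algebra A B] [Algebra A' B'] (βA : A ≃+* A') (βB : B ≃+* B')
  (h : ∀ a, βB (algebraMap A B a) = algebraMap A' B' (βA a))

/-- the ring isomorphism `B ⊗[A] B ≃+* B' ⊗[A'] B'` induced by compatible ring isomorphisms -/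
noncomputable def tensorEquiv : B ⊗[A] B ≃+* B' ⊗[A'] B' := by
  letI algAA' : Algebra A A' := βA.toRingHom.toAlgebra
  letI algAB' : Algebra A B' := ((algebraMap A' B').comp βA.toRingHom).toAlgebra
  haveI : IsScalarTower A A' B' := IsScalarTower.of_algebraMap_eq (fun _ => rfl)
  let βBa : B ≃ₐ[A] B' := { βB with commutes' := h }
  haveI : CompatibleSMul A A' B' B' := ⟨fun a' m n => by
    obtain ⟨a, rfl⟩ := βA.surjective a'
    have h1 : ∀ m : B', βA a • m = a • m := fun m => (algebraMap_smul A' a m)
    rw [h1, h1, TensorProduct.smul_tmul]⟩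
  exact ((Algebra.TensorProduct.congr βBa βBa).trans
    (Algebra.TensorProduct.equivOfCompatibleSMul A' A A B' B')).toRingEquiv

theorem tensorEquiv_tmul (b b' : B) :
    tensorEquiv βA βB h (b ⊗ₜ[A] b') = βB b ⊗ₜ[A'] βB b' := rfl

theorem lmul'_tensorEquiv (x : B ⊗[A] B) :
    Algebra.TensorProduct.lmul' A' (S := B') (tensorEquiv βA βB h x) =
      βB (Algebra.TensorProduct.lmul' A (S := B) x) := by
  induction x using TensorProduct.induction_on with
  | zero => simp
  | tmul b b' => rw [tensorEquiv_tmul]; simp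
  | add x y hx hy => rw [map_add, map_add, hx, hy, map_add, map_add]

theorem tensorEquiv_mem_ideal_iff (x : B ⊗[A] B) :
    tensorEquiv βA βB h x ∈ KaehlerDifferential.ideal A' B' ↔ x ∈ KaehlerDifferential.ideal A B := by
  rw [KaehlerDifferential.ideal, KaehlerDifferential.ideal, RingHom.mem_ker, RingHom.mem_ker]
  rw [lmul'_tensorEquiv, map_eq_zero_iff βB βB.injective]

theorem ideal_map_tensorEquiv :
    (KaehlerDifferential.ideal A B).map (tensorEquiv βA βB h) = KaehlerDifferential.ideal A' B' := by
  rw [← Ideal.comap_symm]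
  ext y
  rw [Ideal.mem_comap, ← tensorEquiv_mem_ideal_iff βA βB h, RingEquiv.apply_symm_apply]

theorem tensorEquiv_mem_ideal_pow_iff (n : ℕ) (x : B ⊗[A] B) :
    tensorEquiv βA βB h x ∈ KaehlerDifferential.ideal A' B' ^ n ↔
      x ∈ KaehlerDifferential.ideal A B ^ n := by
  rw [← ideal_map_tensorEquiv βA βB h, ← Ideal.map_pow, ← Ideal.comap_symm, Ideal.mem_comap,
    RingEquiv.symm_apply_apply]

end Transport

end Groth.Agent.Lib.helper21.PrinPartAlg
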