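import Mathlib
import Groth.Agent.Lib.Helper27.ExtAdj

/-!
# Injectivity of the degree-one edge map `Ext¹(P, G F) → Ext¹(L P, F)`

For an adjunction `L ⊣ G` between abelian categories with `L` exact, the comparison map
`Ψ : Ext¹(P, G F) → Ext¹(L P, F)` of helper27's `ExtAdj` is injective (no acyclicity hypothesis):
this is the injectivity of the first edge map of the Leray/Grothendieck spectral sequence.
-/

set_option autoImplicit false
set_option linter.style.haveILetI false

namespace Groth.Agent.Lib.helper21.PsiOneInj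

open CategoryTheory Limits Abelian Groth.Agent.Lib.helper27

universe w w' v u v' u'

variable {A : Type u} [Category.{v} A] [Abelian A] [HasExt.{w} A]
  {B : Type u'} [Category.{v'} B] [Abelian B] [HasExt.{w'} B]
  {L : B ⥤ A} {G : A ⥤ B} (adj : L ⊣ G) [L.Additive] [PreservesFiniteLimits L]
  [PreservesFiniteColimits L] [G.Additive] [EnoughInjectives A]

theorem Ψ_one_injective (P : B) (F : A) : Function.Injective (ExtAdj.Ψ adj P F 1) := by
  rw [injective_iff_map_eq_zero]
  intro x hx
  -- the injective sequence `0 → F → I → Q → 0`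
  let I : A := Injective.under F
  let ι : F ⟶ I := Injective.ι F
  let q : I ⟶ cokernel ι := cokernel.π ι
  let S : ShortComplex A := ShortComplex.mk ι q (cokernel.condition ι)
  have hS : S.ShortExact := cokerSES_shortExact ι
  -- `G` preserves the mono
  haveI : PreservesLimitsOfSize.{0, 0} G := adj.rightAdjoint_preservesLimits
  haveI : PreservesFiniteLimits G := PreservesLimitsOfSize.preservesFiniteLimits _
  haveI : Mono (G.map ι) := inferInstance
  let q' : G.obj I ⟶ cokernel (G.map ι) := cokernel.π (G.map ι)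
  let S' : ShortComplex B := ShortComplex.mk (G.map ι) q' (cokernel.condition (G.map ι))
  have hS' : S'.ShortExact := cokerSES_shortExact (G.map ι)
  have hGI : Injective (G.obj I) := Injective.injective_of_adjoint adj I
  -- the comparison `j : coker (G ι) ⟶ G Q`, a mono
  have hex : (S.map G).Exact :=
    hS.exact.map_of_mono_of_preservesKernel G hS.mono_f inferInstance
  have hj : Mono (cokernel.desc (G.map ι) (G.map q) (S.map G).zero) := hex.mono_cokernelDesc
  let j : cokernel (G.map ι) ⟶ G.obj (cokernel ι) :=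
    cokernel.desc (G.map ι) (G.map q) (S.map G).zero
  have hπj : q' ≫ j = G.map q := cokernel.π_desc _ _ _
  -- `x` comes from `c₀ : P ⟶ coker (G ι)`
  obtain ⟨c, hc⟩ : ∃ c : Ext.{w'} P S'.X₃ 0, c.comp hS'.extClass (zero_add 1) = x :=
    Ext.covariant_sequence_exact₁ P hS' x (Ext.eq_zero_of_injective (I := G.obj I) _) (zero_add 1)
  obtain ⟨c₀, rfl⟩ := (Ext.mk₀_bijective _ _).2 c
  -- the counit as a morphism of short complexes `L S' ⟶ S`
  let φ : S'.map L ⟶ S :=
    { τ₁ := adj.counit.app F
      τ₂ := adj.counit.app I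
      τ₃ := L.map j ≫ adj.counit.app (cokernel ι)
      comm₁₂ := (adj.counit.naturality ι).symm
      comm₂₃ := by
        change adj.counit.app I ≫ q = L.map q' ≫ L.map j ≫ adj.counit.app (cokernel ι)
        rw [← L.map_comp_assoc, hπj]
        exact (adj.counit.naturality q).symm }
  have nat : (hS'.map_of_exact L).extClass.comp (Ext.mk₀ (adj.counit.app F)) (add_zero 1) =
      (Ext.mk₀ (L.map j ≫ adj.counit.app (cokernel ι))).comp hS.extClass (zero_add 1) :=
    ShortComplex.ShortExact.extClass_naturality (hS'.map_of_exact L) hS φ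
  have e2 : (hS'.extClass.mapExactFunctor L) = (hS'.map_of_exact L).extClass :=
    Ext.mapExactFunctor_extClass L hS'
  have hΨ : ExtAdj.Ψ adj P F 1 x =
      (Ext.mk₀ (L.map c₀ ≫ L.map j ≫ adj.counit.app (cokernel ι))).comp hS.extClass
        (zero_add 1) := by
    rw [ExtAdj.Ψ_apply, ← hc, Ext.mapExactFunctor_comp, Ext.mapExactFunctor_mk₀, e2,
      Ext.comp_assoc_of_third_deg_zero]
    refine (congrArg (fun y => (Ext.mk₀ (L.map c₀)).comp y (zero_add 1)) nat).trans ?_
    exact Ext.mk₀_comp_mk₀_assoc (L.map c₀) (L.map j ≫ adj.counit.app (cokernel ι)) hS.extClass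
  rw [hΨ] at hx
  obtain ⟨d, hd⟩ := Ext.covariant_sequence_exact₃ (L.obj P) hS _ (zero_add 1) hx
  obtain ⟨d₀, rfl⟩ := (Ext.mk₀_bijective _ _).2 d
  rw [Ext.mk₀_comp_mk₀] at hd
  have hd' : d₀ ≫ q = L.map c₀ ≫ L.map j ≫ adj.counit.app (cokernel ι) :=
    (Ext.mk₀_bijective _ _).1 hd
  -- adjoint of `d₀`
  have key : adj.homEquiv P I d₀ ≫ q' = c₀ := by
    rw [← cancel_mono j, Category.assoc, hπj, ← Adjunction.homEquiv_naturality_right, hd',
      ← L.map_comp_assoc]
    have := Adjunction.homEquiv_counit adj (X := P) (Y := cokernel ι) (g := c₀ ≫ j)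
    rw [← this, Equiv.apply_symm_apply]
  rw [← hc, ← key, ← Ext.mk₀_comp_mk₀, Ext.comp_assoc_of_second_deg_zero]
  have h0 : (Ext.mk₀ q').comp hS'.extClass (zero_add 1) = 0 := hS'.comp_extClass
  rw [h0, Ext.comp_zero]

end Groth.Agent.Lib.helper21.PsiOneInj
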