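import Mathlib
import Groth.Prelude.Def_CohSite
import Groth.Prelude.Def_CohCx
import Groth.Agent.Lib.Helper21.OverPostFlat
import Groth.Agent.Lib.Helper27.CechInj
import Groth.Agent.Lib.Helper27.CohPsh
import Groth.Agent.Lib.Helper27.DeltaSeq
import Groth.Agent.S0861

/-!
# `g⁻¹` of an injective abelian sheaf is acyclic on objects; comparison `H^p(U, g⁻¹F) ≅ H^p(uU, F)`
-/

open CategoryTheory Limits Opposite

universe u

namespace Groth.Agent.Lib.Helper21.PushInjAcyclic

variable {C D : Type u} [SmallCategory C] [SmallCategory D] [HasPullbacks C]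
  (J : GrothendieckTopology C) (K : GrothendieckTopology D) (u : C ⥤ D)
  [PreservesLimitsOfShape WalkingCospan u] [u.IsContinuous J K]

theorem subsingleton_HU_push_injective
    (I : Sheaf K AddCommGrpCat.{u}) [Injective I] (U : C) (p : ℕ) :
    Subsingleton (CohSite.HU ((CohSite.push K J u).obj I) (p + 1) U) := by
  refine Groth.Agent.S0861.result J Set.univ
    (fun W ι Y => Sieve.ofArrows (fun i => (Y i).left) (fun i => (Y i).hom) ∈ J W)
    ?_ ?_ ((CohSite.push K J u).obj I) ?_ U (Set.mem_univ _) p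
  · intro W ι Y h
    exact ⟨trivial, h, fun _ _ => trivial⟩
  · intro W _ T hT
    refine ⟨(Σ V : C, {f : V ⟶ W // T f}), fun i => Over.mk i.2.1, ?_, fun i => i.2.2⟩
    refine J.superset_covering ?_ hT
    intro V f hf
    exact Sieve.ofArrows_mk _ _ (⟨V, f, hf⟩ : Σ V : C, {f : V ⟶ W // T f})
  · intro W ι Y hY q
    haveI : Injective I.obj :=
      Injective.injective_of_adjoint (sheafificationAdjunction K AddCommGrpCat.{u}) I
    have hinj : Injective ((Over.forget W).op ⋙ ((CohSite.push K J u).obj I).obj) :=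
      Groth.Agent.Lib.Helper21.OverPostFlat.injective_restrict u W I.obj
    exact (HomologicalComplex.exactAt_iff_isZero_homology _ _).1
      (@Groth.Agent.Lib.helper27.Cech.exactAt_of_injective _ _ _ _ Y
        ((Over.forget W).op ⋙ ((CohSite.push K J u).obj I).obj) hinj q)

open Groth.Agent.Lib.helper27 Groth.Agent.Lib.helper7

variable [u.IsCocontinuous J K]

instance push_preservesFiniteLimits : PreservesFiniteLimits (CohSite.push K J u) := by
  haveI : PreservesLimitsOfSize.{0, 0} (CohSite.push K J u) :=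
    (u.sheafAdjunctionContinuous AddCommGrpCat.{u} J K).rightAdjoint_preservesLimits
  infer_instance

instance push_preservesFiniteColimits : PreservesFiniteColimits (CohSite.push K J u) := by
  haveI : PreservesColimitsOfSize.{0, 0} (CohSite.push K J u) :=
    (u.sheafAdjunctionCocontinuous AddCommGrpCat.{u} J K).leftAdjoint_preservesColimits
  infer_instance

/-- `F ↦ H^n(uU, F)` -/
noncomputable abbrev T (U : C) (n : ℕ) : Sheaf K AddCommGrpCat.{u} ⥤ AddCommGrpCat.{u} :=
  ExtPsh.Tp (FreeYoneda.freeSheaf K) n ⋙ (evaluation _ _).obj (op (u.obj U))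

/-- `F ↦ H^n(U, g⁻¹F)` -/
noncomputable abbrev T' (U : C) (n : ℕ) : Sheaf K AddCommGrpCat.{u} ⥤ AddCommGrpCat.{u} :=
  CohSite.push K J u ⋙ ExtPsh.Tp (FreeYoneda.freeSheaf J) n ⋙ (evaluation _ _).obj (op U)

lemma isExSeq_T (U : C) : DeltaSeq.IsExSeq (T K u U) :=
  (ExtPsh.isExSeq_Tp (FreeYoneda.freeSheaf K)).comp ((evaluation _ _).obj (op (u.obj U)))

lemma isExSeq_T' (U : C) : DeltaSeq.IsExSeq (T' J K u U) :=
  ((ExtPsh.isExSeq_Tp (FreeYoneda.freeSheaf J)).comp ((evaluation _ _).obj (op U))).precomp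
    (CohSite.push K J u) (by
      intro I hI i
      haveI := hI
      have h := subsingleton_HU_push_injective J K u I U i
      exact AddCommGrpCat.isZero_of_subsingleton
        (AddCommGrpCat.of (CohSite.HU ((CohSite.push K J u).obj I) (i + 1) U)))

/-- sections of `g⁻¹F` over `U` are sections of `F` over `uU` -/
noncomputable def secIso (U : C) : sheafToPresheaf K AddCommGrpCat.{u} ⋙ (evaluation _ _).obj (op (u.obj U)) ≅
    CohSite.push K J u ⋙ sheafToPresheaf J AddCommGrpCat.{u} ⋙ (evaluation _ _).obj (op U) :=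
  NatIso.ofComponents (fun F => Iso.refl _)

noncomputable def e₀ (U : C) : T K u U 0 ≅ T' J K u U 0 :=
  Functor.isoWhiskerRight (CohPsh.tp₀Iso K) _ ≪≫ secIso J K u U ≪≫
    Functor.isoWhiskerLeft (CohSite.push K J u)
      (Functor.isoWhiskerRight (CohPsh.tp₀Iso J).symm ((evaluation _ _).obj (op U)))

theorem HU_push_equiv (F : Sheaf K AddCommGrpCat.{u}) (U : C) (p : ℕ) :
    Nonempty (CohSite.HU ((CohSite.push K J u).obj F) p U ≃+ CohSite.HU F p (u.obj U)) := by
  obtain ⟨e⟩ := DeltaSeq.iso (isExSeq_T K u U) (isExSeq_T' J K u U) (e₀ J K u U) p F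
  exact ⟨e.symm.addCommGroupIsoToAddEquiv⟩

end Groth.Agent.Lib.Helper21.PushInjAcyclic
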