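import Mathlib
import Groth.Prelude.Def_CohSite
import Groth.Prelude.Def_SpSeq
import Groth.Agent.Lib.Helper21.AbPull
import Groth.Agent.Lib.Helper27.PshSS
import Groth.Agent.Lib.Helper27.CompAcyc
import Groth.Agent.Lib.Helper27.CohPsh
import Groth.Agent.Lib.Helper27.RpushSheafify

/-!
# Direct image along a morphism of topoi given by a continuous functor: injectives, Leray (helper21)
-/

set_option autoImplicit false

universe u

open CategoryTheory CategoryTheory.Limits Opposite Groth.Agent.Lib.helper27 Groth.Agent.Lib.helper7

namespace Groth.Agent.Lib.helper21.PushSS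

variable {C D : Type u} [SmallCategory C] [SmallCategory D]
    (J : GrothendieckTopology C) (K : GrothendieckTopology D) (u : D ⥤ C) [u.IsContinuous K J]

/-- the direct image preserves injectives when the pullback of sheaves of sets is exact -/
lemma push_injective (hu : PreservesFiniteLimits (u.sheafPullback (Type u) K J))
    (Q : Sheaf J AddCommGrpCat.{u}) [Injective Q] : Injective ((CohSite.push J K u).obj Q) := by
  haveI := AbPull.preservesFiniteLimits_La J K u hu
  exact Injective.injective_of_adjoint (AbPull.adjA J K u) Q

instance push_preservesFiniteLimits : PreservesFiniteLimits (CohSite.push J K u) := by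
  haveI : PreservesLimitsOfSize.{0, 0} (CohSite.push J K u) :=
    (u.sheafAdjunctionContinuous AddCommGrpCat.{u} K J).rightAdjoint_preservesLimits
  infer_instance

/-- `Hom(ℤ_{uV}, F) ≅ Hom(ℤ_V, u_* F)`, naturally in `F` -/
noncomputable def coyPushIso (V : D) :
    preadditiveCoyoneda.obj (op ((FreeYoneda.freeSheaf J).obj (u.obj V))) ≅
      CohSite.push J K u ⋙ preadditiveCoyoneda.obj (op ((FreeYoneda.freeSheaf K).obj V)) :=
  NatIso.ofComponents (fun F => ((CohPsh.homAddEquiv J (u.obj V) F).trans
      (CohPsh.homAddEquiv K V ((CohSite.push J K u).obj F)).symm).toAddCommGrpIso) (by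
    intro F F' φ
    apply AddCommGrpCat.hom_ext
    apply AddMonoidHom.ext
    intro x
    apply (CohPsh.homAddEquiv K V ((CohSite.push J K u).obj F')).injective
    show FreeYoneda.homEquiv K V _ ((FreeYoneda.homEquiv K V _).symm
        (FreeYoneda.homEquiv J (u.obj V) F' (x ≫ φ))) =
      FreeYoneda.homEquiv K V _ ((FreeYoneda.homEquiv K V _).symm
        (FreeYoneda.homEquiv J (u.obj V) F x) ≫ (CohSite.push J K u).map φ)
    rw [Equiv.apply_symm_apply, FreeYoneda.homEquiv_naturality_right,
      FreeYoneda.homEquiv_naturality_right, Equiv.apply_symm_apply]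
    rfl)

end Groth.Agent.Lib.helper21.PushSS
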