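import Mathlib
import Groth.Prelude.Def_CohCx
import Groth.Prelude.Def_ToposFin2
import Groth.Agent.Lib.Helper21.ToposCech2

/-!
Helper library (helper21): objects of a topos which are quasi-compact and quasi-separated
relative to a class `S` of objects satisfying covering-closure conditions (every epimorphism onto
a member is refined by a member, products and equalizers of members are covered by members).
-/

set_option autoImplicit false
set_option linter.unusedSectionVars false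
set_option linter.unusedVariables false

universe u
open CategoryTheory Limits Opposite

namespace Groth.Agent.Lib.Helper21.QcqsRel

open Groth.Agent.Lib.helper27 Groth.Agent.Lib.Helper14.Topos ToposFin
  Groth.Agent.Lib.Helper21.ToposCech

variable {C : Type u} [SmallCategory C] {J : GrothendieckTopology C}

/-- base change of an epimorphism of sheaves of sets -/
lemma epi_of_isPullback {P X Y Z : Sheaf J (Type u)} {fst : P ⟶ X} {snd : P ⟶ Y} {f : X ⟶ Z}
    {g : Y ⟶ Z} (h : IsPullback fst snd f g) [Epi g] : Epi fst := by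
  rw [epi_iff_jsurj]
  have hb : JSurj (fun _ : PUnit.{1} => g) := (epi_iff_jsurj g).1 inferInstance
  exact hb.base_change f (fun _ => snd) (fun _ => fst) (fun _ => h.flip)

lemma epi_prod_map_id {X X' : Sheaf J (Type u)} (f : X ⟶ X') [Epi f] (Y : Sheaf J (Type u)) :
    Epi (prod.map f (𝟙 Y)) :=
  epi_of_isPullback (IsPullback.of_prod_fst_with_id f Y).flip

set_option backward.isDefEq.respectTransparency false in
lemma epi_prod_map {X X' Y Y' : Sheaf J (Type u)} (f : X ⟶ X') (g : Y ⟶ Y') [Epi f] [Epi g] :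
    Epi (prod.map f g) := by
  have h1 : Epi (prod.map f (𝟙 Y)) := epi_prod_map_id f Y
  have h2 : Epi (prod.map g (𝟙 X')) := epi_prod_map_id g X'
  have e : prod.map f g = prod.map f (𝟙 Y) ≫ (prod.braiding X' Y).hom ≫ prod.map g (𝟙 X') ≫
      (prod.braiding Y' X').hom := by
    apply Limits.prod.hom_ext <;> simp
  rw [e]
  infer_instance

/-- the comparison of equalizers along an epimorphism is an epimorphism -/
lemma epi_equalizer_lift {W' W X : Sheaf J (Type u)} (π : W' ⟶ W) [Epi π] (a b : W ⟶ X) :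
    Epi (equalizer.lift (equalizer.ι (π ≫ a) (π ≫ b) ≫ π)
      (by simpa only [Category.assoc] using equalizer.condition (π ≫ a) (π ≫ b)) :
      equalizer (π ≫ a) (π ≫ b) ⟶ equalizer a b) := by
  refine epi_of_isPullback (snd := equalizer.ι (π ≫ a) (π ≫ b)) (f := equalizer.ι a b) (g := π)
    ⟨⟨equalizer.lift_ι _ _⟩, ⟨PullbackCone.IsLimit.mk _ (fun s => equalizer.lift s.snd ?_)
      (fun s => ?_) (fun s => ?_) (fun s m h1 h2 => ?_)⟩⟩
  · have := s.condition
    rw [← Category.assoc, ← Category.assoc, ← this, Category.assoc, Category.assoc,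
      equalizer.condition]
  · apply equalizer.hom_ext
    rw [Category.assoc, equalizer.lift_ι, equalizer.lift_ι_assoc]
    exact s.condition.symm
  · exact equalizer.lift_ι _ _
  · apply equalizer.hom_ext
    rw [equalizer.lift_ι]
    exact h2

section defs

variable (S : Set (Sheaf J (Type u)))

/-- covered by a member of `S` -/
def Cvd (X : Sheaf J (Type u)) : Prop := ∃ K ∈ S, ∃ f : K ⟶ X, Epi f

/-- equalizers of maps from covered objects are covered -/
def QSeq (X : Sheaf J (Type u)) : Prop :=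
  ∀ (W : Sheaf J (Type u)) (a b : W ⟶ X), Cvd S W → Cvd S (equalizer a b)

/-- the class of objects quasi-compact and quasi-separated relative to `S` -/
def T : Set (Sheaf J (Type u)) := {X | Cvd S X ∧ QSeq S X}

end defs

variable {S : Set (Sheaf J (Type u))}

lemma cvd_of_mem {K : Sheaf J (Type u)} (hK : K ∈ S) : Cvd S K := ⟨K, hK, 𝟙 K, inferInstance⟩

lemma cvd_of_epi {X Y : Sheaf J (Type u)} (f : X ⟶ Y) [Epi f] (hX : Cvd S X) : Cvd S Y := by
  obtain ⟨K, hK, g, hg⟩ := hX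
  exact ⟨K, hK, g ≫ f, epi_comp g f⟩

lemma qseq_of_mono {X Y : Sheaf J (Type u)} (i : X ⟶ Y) [Mono i] (hY : QSeq S Y) : QSeq S X := by
  intro W a b hW
  have h := hY W (a ≫ i) (b ≫ i) hW
  let m : equalizer (a ≫ i) (b ≫ i) ⟶ equalizer a b :=
    equalizer.lift (equalizer.ι (a ≫ i) (b ≫ i)) (by
      rw [← cancel_mono i, Category.assoc, Category.assoc]
      exact equalizer.condition (a ≫ i) (b ≫ i))
  let σ : equalizer a b ⟶ equalizer (a ≫ i) (b ≫ i) :=
    equalizer.lift (equalizer.ι a b) (by rw [equalizer.condition_assoc])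
  have hσ : σ ≫ m = 𝟙 _ := by
    apply equalizer.hom_ext
    simp [σ, m]
  haveI : IsSplitEpi m := IsSplitEpi.mk' ⟨σ, hσ⟩
  exact cvd_of_epi m h

section closure

variable
  (h2 : ∀ (F : Sheaf J (Type u)) (K : Sheaf J (Type u)) (g : F ⟶ K), K ∈ S → Epi g →
      ∃ (K' : Sheaf J (Type u)) (k : K' ⟶ F), K' ∈ S ∧ Epi (k ≫ g))
  (h3 : ∀ K ∈ S, ∀ K' ∈ S, ∃ (K'' : Sheaf J (Type u)) (g : K'' ⟶ K ⨯ K'), K'' ∈ S ∧ Epi g)
  (h4 : ∀ K ∈ S, ∀ K' ∈ S, ∀ (a b : K ⟶ K'),
      ∃ (K'' : Sheaf J (Type u)) (g : K'' ⟶ equalizer a b), K'' ∈ S ∧ Epi g)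

include h2 in
lemma cvd_refine {X L : Sheaf J (Type u)} (hX : Cvd S X) (g : L ⟶ X) [Epi g] :
    ∃ K' ∈ S, ∃ h : K' ⟶ L, Epi (h ≫ g) := by
  obtain ⟨K, hK, π, hπ⟩ := hX
  have h1 : Epi (pullback.snd g π) := epi_of_isPullback (IsPullback.of_hasPullback g π).flip
  obtain ⟨K', k, hK', hk⟩ := h2 _ K (pullback.snd g π) hK h1
  refine ⟨K', hK', k ≫ pullback.fst g π, ?_⟩
  have e : (k ≫ pullback.fst g π) ≫ g = (k ≫ pullback.snd g π) ≫ π := by
    rw [Category.assoc, Category.assoc, pullback.condition]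
  rw [e]
  exact epi_comp _ _

include h4 in
lemma cvd_equalizer_of_mem {K W : Sheaf J (Type u)} (hK : K ∈ S) (hW : Cvd S W) (a b : W ⟶ K) :
    Cvd S (equalizer a b) := by
  obtain ⟨K₃, hK₃, π, hπ⟩ := hW
  obtain ⟨K₄, g, hK₄, hg⟩ := h4 K₃ hK₃ K hK (π ≫ a) (π ≫ b)
  haveI := epi_equalizer_lift π a b
  exact cvd_of_epi (equalizer.lift (equalizer.ι (π ≫ a) (π ≫ b) ≫ π) _) ⟨K₄, hK₄, g, hg⟩

include h4 in
lemma mem_T_of_mem {K : Sheaf J (Type u)} (hK : K ∈ S) : K ∈ T S :=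
  ⟨cvd_of_mem hK, fun W a b hW => cvd_equalizer_of_mem h4 hK hW a b⟩

include h3 in
lemma cvd_prod {X Y : Sheaf J (Type u)} (hX : Cvd S X) (hY : Cvd S Y) : Cvd S (X ⨯ Y) := by
  obtain ⟨K₁, hK₁, π₁, hπ₁⟩ := hX
  obtain ⟨K₂, hK₂, π₂, hπ₂⟩ := hY
  obtain ⟨K₃, g, hK₃, hg⟩ := h3 K₁ hK₁ K₂ hK₂
  haveI := epi_prod_map π₁ π₂
  exact cvd_of_epi (prod.map π₁ π₂) ⟨K₃, hK₃, g, hg⟩

include h3 in
lemma cvd_pullback {X Y Z : Sheaf J (Type u)} (hZ : QSeq S Z) (hX : Cvd S X) (hY : Cvd S Y)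
    (f : X ⟶ Z) (g : Y ⟶ Z) : Cvd S (pullback f g) := by
  have h := hZ (X ⨯ Y) (prod.fst ≫ f) (prod.snd ≫ g) (cvd_prod h3 hX hY)
  let ι := equalizer.ι ((prod.fst : X ⨯ Y ⟶ X) ≫ f) (prod.snd ≫ g)
  let m : equalizer ((prod.fst : X ⨯ Y ⟶ X) ≫ f) (prod.snd ≫ g) ⟶ pullback f g :=
    pullback.lift (ι ≫ prod.fst) (ι ≫ prod.snd) (by
      simpa only [Category.assoc] using equalizer.condition ((prod.fst : X ⨯ Y ⟶ X) ≫ f) _)
  let σ : pullback f g ⟶ equalizer ((prod.fst : X ⨯ Y ⟶ X) ≫ f) (prod.snd ≫ g) :=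
    equalizer.lift (prod.lift (pullback.fst f g) (pullback.snd f g)) (by
      rw [prod.lift_fst_assoc, prod.lift_snd_assoc, pullback.condition])
  have hσ : σ ≫ m = 𝟙 _ := by
    apply pullback.hom_ext
    · rw [Category.assoc, pullback.lift_fst, equalizer.lift_ι_assoc, prod.lift_fst,
        Category.id_comp]
    · rw [Category.assoc, pullback.lift_snd, equalizer.lift_ι_assoc, prod.lift_snd,
        Category.id_comp]
  haveI : IsSplitEpi m := IsSplitEpi.mk' ⟨σ, hσ⟩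
  exact cvd_of_epi m h

lemma qseq_pullback {X Y Z : Sheaf J (Type u)} (hX : QSeq S X) (hY : QSeq S Y)
    (f : X ⟶ Z) (g : Y ⟶ Z) : QSeq S (pullback f g) := by
  intro W a b hW
  have hE₁ := hX W (a ≫ pullback.fst f g) (b ≫ pullback.fst f g) hW
  let ι₁ := equalizer.ι (a ≫ pullback.fst f g) (b ≫ pullback.fst f g)
  have hE₂ := hY _ (ι₁ ≫ a ≫ pullback.snd f g) (ι₁ ≫ b ≫ pullback.snd f g) hE₁
  let ι₂ := equalizer.ι (ι₁ ≫ a ≫ pullback.snd f g) (ι₁ ≫ b ≫ pullback.snd f g)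
  let m : equalizer (ι₁ ≫ a ≫ pullback.snd f g) (ι₁ ≫ b ≫ pullback.snd f g) ⟶ equalizer a b :=
    equalizer.lift (ι₂ ≫ ι₁) (by
      apply pullback.hom_ext
      · simp only [Category.assoc]
        exact congrArg (ι₂ ≫ ·) (equalizer.condition (a ≫ pullback.fst f g) _)
      · simp only [Category.assoc]
        exact equalizer.condition (ι₁ ≫ a ≫ pullback.snd f g) _)
  let σ₁ : equalizer a b ⟶ equalizer (a ≫ pullback.fst f g) (b ≫ pullback.fst f g) :=
    equalizer.lift (equalizer.ι a b) (by rw [equalizer.condition_assoc])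
  let σ : equalizer a b ⟶
      equalizer (ι₁ ≫ a ≫ pullback.snd f g) (ι₁ ≫ b ≫ pullback.snd f g) :=
    equalizer.lift σ₁ (by
      simp only [σ₁, ι₁, equalizer.lift_ι_assoc]
      rw [equalizer.condition_assoc])
  have hσ : σ ≫ m = 𝟙 _ := by
    apply equalizer.hom_ext
    simp [σ, m, σ₁, ι₁, ι₂]
  haveI : IsSplitEpi m := IsSplitEpi.mk' ⟨σ, hσ⟩
  exact cvd_of_epi m hE₂

include h3 in
lemma mem_T_pullback {X Y Z : Sheaf J (Type u)} (hX : X ∈ T S) (hY : Y ∈ T S) (hZ : Z ∈ T S)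
    (f : X ⟶ Z) (g : Y ⟶ Z) : pullback f g ∈ T S :=
  ⟨cvd_pullback h3 hZ.2 hX.1 hY.1 f g, qseq_pullback hX.2 hY.2 f g⟩

lemma mem_T_of_iso {X Y : Sheaf J (Type u)} (e : X ≅ Y) (hX : X ∈ T S) : Y ∈ T S :=
  ⟨cvd_of_epi e.hom hX.1, qseq_of_mono e.inv hX.2⟩

lemma terminal_mem_T (h1 : ∃ K ∈ S, Epi (terminal.from K)) : (⊤_ (Sheaf J (Type u))) ∈ T S := by
  obtain ⟨K, hK, hK'⟩ := h1
  refine ⟨⟨K, hK, terminal.from K, hK'⟩, fun W a b hW => ?_⟩
  obtain rfl : a = b := Subsingleton.elim _ _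
  exact cvd_of_epi (inv (equalizer.ι a a)) hW

include h3 in
lemma mem_T_WP {K' K : Sheaf J (Type u)} (f : K' ⟶ K) (hK' : K' ∈ T S) (hK : K ∈ T S) :
    ∀ n : ℕ, WP f n ∈ T S := by
  intro n
  induction n with
  | zero => exact mem_T_of_iso (nerveZeroIso f).symm hK'
  | succ n ih => exact mem_T_of_iso (nerveSuccIso f n).symm (mem_T_pullback h3 ih hK' hK _ _)

include h3 in
lemma mem_T_nerve {K' K : Sheaf J (Type u)} (f : K' ⟶ K) (hK' : K' ∈ T S) (hK : K ∈ T S)
    (n : ℕ) : nerveObj J f n ∈ T S :=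
  mem_T_WP h3 f hK' hK n

end closure

end Groth.Agent.Lib.Helper21.QcqsRel
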