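import Mathlib
import Groth.Prelude.Def_CohCx
import Groth.Prelude.Def_ToposFin2
import Groth.Agent.Lib.Helper21.ToposCech2
import Groth.Agent.Lib.Helper14.ToposFP1
import Groth.Agent.Lib.Helper27.FiltCohD

/-!
Helper library (helper21): morphisms from the free abelian sheaf on a coherent object into a
filtered colimit of abelian sheaves.
-/

set_option autoImplicit false
set_option linter.unusedSectionVars false
set_option linter.unusedVariables false

universe u
open CategoryTheory Limits Opposite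

namespace Groth.Agent.Lib.Helper21.ToposCech

open Groth.Agent.Lib.helper27 Groth.Agent.Lib.Helper14.Topos ToposFin

variable {C : Type u} [SmallCategory C] {J : GrothendieckTopology C}

/-- the underlying sheaf of sets of an abelian sheaf commutes with filtered colimits -/
theorem preservesColimit_U {Λ : Type u} [SmallCategory Λ] [IsFiltered Λ]
    (E : Λ ⥤ Sheaf J AddCommGrpCat.{u}) : PreservesColimit E (U J) := by
  let G₁ := presheafToSheaf J AddCommGrpCat.{u}
  let G₂ := presheafToSheaf J (Type u)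
  let adj₁ := sheafificationAdjunction J AddCommGrpCat.{u}
  let adj₂ := sheafificationAdjunction J (Type u)
  let F := forget AddCommGrpCat.{u}
  let e : E ≅ (E ⋙ sheafToPresheaf J AddCommGrpCat.{u}) ⋙ G₁ :=
    Functor.isoWhiskerLeft E (asIso adj₁.counit).symm
  let H := E ⋙ sheafToPresheaf J AddCommGrpCat.{u}
  have hL : PreservesColimit H G₁ := by
    haveI := adj₁.leftAdjoint_preservesColimits
    infer_instance
  have hLG : PreservesColimit H (G₁ ⋙ sheafCompose J F) := by
    have : PreservesColimit H ((Functor.whiskeringRight Cᵒᵖ AddCommGrpCat.{u} (Type u)).obj F ⋙ G₂) := by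
      haveI := adj₂.leftAdjoint_preservesColimits
      infer_instance
    exact preservesColimit_of_natIso H (sheafComposeNatIso J F adj₁ adj₂)
  have h1 : PreservesColimit (H ⋙ G₁) (sheafCompose J F) := by
    refine preservesColimit_of_preserves_colimit_cocone
      (isColimitOfPreserves G₁ (colimit.isColimit H)) ?_
    exact IsColimit.ofIsoColimit
      (isColimitOfPreserves (G₁ ⋙ sheafCompose J F) (colimit.isColimit H))
      (Cocone.ext (Iso.refl _) (fun j => by simp))
  exact preservesColimit_of_iso_diagram _ e.symm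

section hom

variable (hE : HasQCGenerators J) {X : Sheaf J (Type u)} (hX : IsCoherent X)
  {Λ : Type u} [SmallCategory Λ] [IsFiltered Λ] (F : Λ ⥤ Sheaf J AddCommGrpCat.{u})

/-- the comparison isomorphism for underlying sheaves of sets -/
noncomputable def uColimIso : colimit (F ⋙ U J) ≅ (U J).obj (colimit F) :=
  haveI := preservesColimit_U F
  (preservesColimitIso (U J) F).symm

lemma ι_uColimIso_hom (μ : Λ) :
    colimit.ι (F ⋙ U J) μ ≫ (uColimIso F).hom = (U J).map (colimit.ι F μ) := by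
  haveI := preservesColimit_U F
  exact ι_preservesColimitIso_inv (U J) F μ

include hE hX in
theorem hom_surj (y : (G J).obj X ⟶ colimit F) :
    ∃ (μ : Λ) (x : (G J).obj X ⟶ F.obj μ), x ≫ colimit.ι F μ = y := by
  let y' : X ⟶ (U J).obj (colimit F) := (TotAcyc.adj J).homEquiv X _ y
  obtain ⟨k, f, hf⟩ := exists_factor_of_isCoherent hE hX (F ⋙ U J) (y' ≫ (uColimIso F).inv)
  refine ⟨k, ((TotAcyc.adj J).homEquiv X _).symm f, ?_⟩
  rw [← Adjunction.homEquiv_naturality_right_symm]
  have h1 : f ≫ (U J).map (colimit.ι F k) = y' := by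
    rw [← ι_uColimIso_hom, ← Category.assoc, hf, Category.assoc, Iso.inv_hom_id, Category.comp_id]
  rw [h1]
  exact Equiv.symm_apply_apply _ _

include hX in
theorem hom_inj (μ : Λ) (x x' : (G J).obj X ⟶ F.obj μ)
    (h : x ≫ colimit.ι F μ = x' ≫ colimit.ι F μ) :
    ∃ (μ' : Λ) (s : μ ⟶ μ'), x ≫ F.map s = x' ≫ F.map s := by
  let a : X ⟶ (F ⋙ U J).obj μ := (TotAcyc.adj J).homEquiv X _ x
  let a' : X ⟶ (F ⋙ U J).obj μ := (TotAcyc.adj J).homEquiv X _ x'
  have h1 : a ≫ colimit.ι (F ⋙ U J) μ = a' ≫ colimit.ι (F ⋙ U J) μ := by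
    have e : ∀ z : (G J).obj X ⟶ F.obj μ,
        (TotAcyc.adj J).homEquiv X _ z ≫ colimit.ι (F ⋙ U J) μ =
          (TotAcyc.adj J).homEquiv X _ (z ≫ colimit.ι F μ) ≫ (uColimIso F).inv := by
      intro z
      rw [Adjunction.homEquiv_naturality_right, ← ι_uColimIso_hom, Category.assoc, Category.assoc,
        Iso.hom_inv_id, Category.comp_id]
    rw [e x, e x', h]
  obtain ⟨k, s, hs⟩ := exists_eq_of_isQC hX.1 (F ⋙ U J) a a' h1
  refine ⟨k, s, ?_⟩
  apply ((TotAcyc.adj J).homEquiv X _).injective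
  rw [Adjunction.homEquiv_naturality_right, Adjunction.homEquiv_naturality_right]
  exact hs

include hE hX in
/-- `Hom(Z[X], -)` commutes with filtered colimits, for `X` coherent -/
theorem colimLike_zero :
    FiltCoh.ColimLike.{u} ((G J).obj X) 0 F (colimit.cocone F) where
  surj y := by
    obtain ⟨μ, x, hx⟩ := hom_surj hE hX F (Abelian.Ext.homEquiv₀ y)
    refine ⟨μ, Abelian.Ext.mk₀ x, ?_⟩
    rw [FiltCoh.post_def, Abelian.Ext.mk₀_comp_mk₀]
    show Abelian.Ext.mk₀ (x ≫ colimit.ι F μ) = y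
    rw [hx, Abelian.Ext.mk₀_homEquiv₀_apply]
  inj μ x hx := by
    obtain ⟨x₀, rfl⟩ := (Abelian.Ext.mk₀_bijective _ _).2 x
    rw [FiltCoh.post_def, Abelian.Ext.mk₀_comp_mk₀, Abelian.Ext.mk₀_eq_zero_iff] at hx
    have hx' : x₀ ≫ colimit.ι F μ = 0 ≫ colimit.ι F μ := by
      rw [zero_comp]
      exact hx
    obtain ⟨μ', s, hs⟩ := hom_inj hX F μ x₀ 0 hx'
    refine ⟨μ', s, ?_⟩
    rw [FiltCoh.post_def, Abelian.Ext.mk₀_comp_mk₀, hs, zero_comp, Abelian.Ext.mk₀_zero]

end hom

end Groth.Agent.Lib.Helper21.ToposCech
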