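import Mathlib
import Groth.Prelude.Def_CohCx
import Groth.Prelude.Def_ToposFin2
import Groth.Agent.Lib.Helper21.ToposCech3

/-!
Helper library (helper21): in a topos with a generating class `S` of quasi-compact objects closed
under fibre products, `S`-acyclic abelian sheaves are stable under filtered colimits and
`H^q(K, -)` commutes with filtered colimits for `K ∈ S`.
-/

set_option autoImplicit false
set_option linter.unusedSectionVars false
set_option linter.unusedVariables false

universe u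
open CategoryTheory Limits Opposite

namespace Groth.Agent.Lib.Helper21.ToposCech

open Groth.Agent.Lib.helper27 Groth.Agent.Lib.Helper14.Topos ToposFin

variable {C : Type u} [SmallCategory C] {J : GrothendieckTopology C}

section cech

variable (hE : HasQCGenerators J) {K' K : Sheaf J (Type u)} (f : K' ⟶ K)
  (hcoh : ∀ n : ℕ, IsCoherent (nerveObj J f n))
  {Λ : Type u} [SmallCategory Λ] [IsFiltered Λ] (F : Λ ⥤ Sheaf J AddCommGrpCat.{u})

include hE hcoh in
/-- Čech complexes of coherent nerves commute with filtered colimits: exactness passes to the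
colimit -/
theorem isZero_cech_colimit (q : ℕ)
    (h : ∀ μ : Λ, IsZero ((CohCx.cechNerveCx (F.obj μ) f).homology (q + 1))) :
    IsZero ((CohCx.cechNerveCx (colimit F) f).homology (q + 1)) := by
  let P := NerveCx.P J f
  have hμ : ∀ μ : Λ, ((NerveHom.Cx P).obj (F.obj μ)).ExactAt (q + 1) := fun μ =>
    (HomologicalComplex.exactAt_iff_isZero_homology _ _).2 (h μ)
  show IsZero (((NerveHom.Cx P).obj (colimit F)).homology (q + 1))
  rw [← HomologicalComplex.exactAt_iff_isZero_homology,
    HomologicalComplex.exactAt_iff' _ q (q + 1) (q + 2) (by simp) (by simp),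
    ShortComplex.ab_exact_iff]
  intro x hx
  have hx' : (NerveHom.K P).d (q + 2) (q + 1) ≫ NerveHom.toHom P x = 0 :=
    (NerveHom.d_apply P (colimit F) (q + 1) x).symm.trans hx
  -- lift the cocycle to a finite stage
  obtain ⟨μ, xμ, hxμ⟩ : ∃ (μ : Λ) (xμ : (NerveHom.K P).X (q + 1) ⟶ F.obj μ),
      xμ ≫ colimit.ι F μ = NerveHom.toHom P x :=
    hom_surj hE (hcoh (q + 1)) F (NerveHom.toHom P x)
  have h0 : ((NerveHom.K P).d (q + 2) (q + 1) ≫ xμ) ≫ colimit.ι F μ =
      (0 : (NerveHom.K P).X (q + 2) ⟶ F.obj μ) ≫ colimit.ι F μ :=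
    (Category.assoc _ _ _).trans
      ((congrArg ((NerveHom.K P).d (q + 2) (q + 1) ≫ ·) hxμ).trans (hx'.trans zero_comp.symm))
  obtain ⟨μ', s, hs⟩ := hom_inj (hcoh (q + 2)) F μ
    ((NerveHom.K P).d (q + 2) (q + 1) ≫ xμ : (G J).obj (nerveObj J f (q + 2)) ⟶ F.obj μ)
    (0 : (G J).obj (nerveObj J f (q + 2)) ⟶ F.obj μ) h0
  have hs' : (NerveHom.K P).d (q + 2) (q + 1) ≫ (xμ ≫ F.map s) = 0 :=
    (Category.assoc _ _ _).symm.trans (hs.trans zero_comp)
  -- use exactness at the stage `μ'`
  have hex := (HomologicalComplex.exactAt_iff' _ q (q + 1) (q + 2) (by simp) (by simp)).1 (hμ μ')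
  rw [ShortComplex.ab_exact_iff] at hex
  obtain ⟨y', hy'⟩ := hex (NerveHom.ofHom P (xμ ≫ F.map s))
    ((NerveHom.d_apply P (F.obj μ') (q + 1) _).trans hs')
  have hy : (NerveHom.K P).d (q + 1) q ≫ NerveHom.toHom P y' = xμ ≫ F.map s :=
    (NerveHom.d_apply P (F.obj μ') q y').symm.trans hy'
  refine ⟨NerveHom.ofHom P (NerveHom.toHom P y' ≫ colimit.ι F μ'), ?_⟩
  refine (NerveHom.d_apply P (colimit F) q _).trans ?_
  show (NerveHom.K P).d (q + 1) q ≫ NerveHom.toHom P y' ≫ colimit.ι F μ' = NerveHom.toHom P x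
  refine (Category.assoc _ _ _).symm.trans ?_
  refine (congrArg (· ≫ colimit.ι F μ') hy).trans ?_
  refine (Category.assoc _ _ _).trans ?_
  exact (congrArg (xμ ≫ ·) (colimit.w F s)).trans hxμ

end cech

section main

variable {S : Set (Sheaf J (Type u))} (hqc : ∀ K ∈ S, IsQC K) (hgen : IsGenerating S)
  (hiso : ∀ ⦃K L : Sheaf J (Type u)⦄, K ∈ S → (K ≅ L) → L ∈ S)
  (hpb : ClosedUnderPullbacks S)
  {Λ : Type u} [SmallCategory Λ] [IsFiltered Λ]

include hqc hgen hiso hpb

/-- `S`-acyclic abelian sheaves are stable under filtered colimits -/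
theorem acycOn_colimit (F : Λ ⥤ Sheaf J AddCommGrpCat.{u})
    (hF : ∀ (μ : Λ) (p : ℕ), AcycOn J S (F.obj μ) p) (p : ℕ) : AcycOn J S (colimit F) p := by
  let 𝒞 := covClass hqc hgen hiso hpb
  have hE : HasQCGenerators J := hasQCGenerators_of_isGenerating hqc hgen
  refine acycOn_of_cechAcyc 𝒞 p (colimit F) ?_
  intro K' K f hf q
  refine isZero_cech_colimit hE f
    (fun n => isCoherent_of_splus hqc hgen hpb (splus_nerve f hiso hpb hf.1 hf.2.2 n)) F q
    (fun μ => cechAcyc_of_acycOn 𝒞 (F.obj μ) (hF μ) f hf q)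

/-- `H^p(K, -)` commutes with filtered colimits for `K ∈ S`, elementwise -/
theorem colimLike_of_mem {K : Sheaf J (Type u)} (hK : K ∈ S) (p : ℕ)
    (F : Λ ⥤ Sheaf J AddCommGrpCat.{u}) :
    FiltCoh.ColimLike.{u} ((G J).obj K) p F (colimit.cocone F) := by
  have hE : HasQCGenerators J := hasQCGenerators_of_isGenerating hqc hgen
  refine FiltCoh.colimLike_all _
    (fun F' => colimLike_zero hE (isCoherent_of_mem hqc hgen hpb hK) F')
    (fun I hI q x => ?_) p F
  refine acycOn_colimit hqc hgen hiso hpb I (fun μ p' K' hK' y => ?_) q K hK x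
  haveI := hI μ
  exact Abelian.Ext.eq_zero_of_injective y

/-- `H^p(K, -)` commutes with filtered colimits for `K ∈ S` -/
theorem preservesColimit_of_mem {K : Sheaf J (Type u)} (hK : K ∈ S) (p : ℕ)
    (F : Λ ⥤ Sheaf J AddCommGrpCat.{u}) :
    PreservesColimit F (Abelian.extFunctorObj.{u} ((G J).obj K) p) :=
  FiltCoh.preservesColimit_extFunctorObj ((G J).obj K) p F _ (colimit.isColimit F)
    (colimLike_of_mem hqc hgen hiso hpb hK p F)

end main

end Groth.Agent.Lib.Helper21.ToposCech
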