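import Mathlib
import Groth.Prelude.Def_CohCx
import Groth.Prelude.Def_ToposFin2
import Groth.Agent.Lib.Helper21.ToposCech4

/-!
Helper library (helper21): removing the hypothesis that the generating class is closed under
isomorphisms; final forms of the theorems on filtered colimits and cohomology in a topos with a
generating class of quasi-compact objects closed under fibre products.
-/

set_option autoImplicit false
set_option linter.unusedSectionVars false
set_option linter.unusedVariables false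

universe u
open CategoryTheory Limits Opposite

namespace Groth.Agent.Lib.Helper21.ToposCech

open Groth.Agent.Lib.helper27 Groth.Agent.Lib.Helper14.Topos ToposFin
  Groth.Agent.Lib.helper23.QCHom

variable {C : Type u} [SmallCategory C] {J : GrothendieckTopology C}

/-- the closure of a class of objects under isomorphisms -/
def isoClosure (S : Set (Sheaf J (Type u))) : Set (Sheaf J (Type u)) :=
  {X | ∃ K ∈ S, Nonempty (K ≅ X)}

variable {S : Set (Sheaf J (Type u))}

lemma subset_isoClosure {K : Sheaf J (Type u)} (hK : K ∈ S) : K ∈ isoClosure S :=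
  ⟨K, hK, ⟨Iso.refl _⟩⟩

lemma isoClosure_iso ⦃K L : Sheaf J (Type u)⦄ (hK : K ∈ isoClosure S) (e : K ≅ L) :
    L ∈ isoClosure S := by
  obtain ⟨K₀, hK₀, ⟨e₀⟩⟩ := hK
  exact ⟨K₀, hK₀, ⟨e₀ ≪≫ e⟩⟩

lemma isoClosure_isQC (hqc : ∀ K ∈ S, IsQC K) : ∀ K ∈ isoClosure S, IsQC K := by
  rintro K ⟨K₀, hK₀, ⟨e⟩⟩
  exact isQC_of_iso e (hqc K₀ hK₀)

lemma isoClosure_isGenerating (hgen : IsGenerating S) : IsGenerating (isoClosure S) := by
  intro X
  obtain ⟨ι, F, π, hF, hπ⟩ := hgen X
  exact ⟨ι, F, π, fun i => subset_isoClosure (hF i), hπ⟩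

lemma isoClosure_closedUnderPullbacks (hpb : ClosedUnderPullbacks S) :
    ClosedUnderPullbacks (isoClosure S) := by
  rintro K L M f g ⟨K₀, hK₀, ⟨eK⟩⟩ ⟨L₀, hL₀, ⟨eL⟩⟩ ⟨M₀, hM₀, ⟨eM⟩⟩
  obtain ⟨P, p, q, hP, hpq⟩ := hpb (eK.hom ≫ f ≫ eM.inv) (eL.hom ≫ g ≫ eM.inv) hK₀ hL₀ hM₀
  refine ⟨P, p ≫ eK.hom, q ≫ eL.hom, subset_isoClosure hP, ?_⟩
  exact hpq.of_iso (Iso.refl _) eK eL eM (by simp) (by simp) (by simp) (by simp)

lemma isoClosure_acycOn (F : Sheaf J AddCommGrpCat.{u}) (p : ℕ) (h : AcycOn J S F p) :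
    AcycOn J (isoClosure S) F p := by
  rintro K ⟨K₀, hK₀, ⟨e⟩⟩ x
  exact ext_eq_zero_of_iso e.symm F (p + 1) (fun y => h K₀ hK₀ y) x

section main

variable (hqc : ∀ K ∈ S, IsQC K) (hgen : IsGenerating S) (hpb : ClosedUnderPullbacks S)
  {Λ : Type u} [SmallCategory Λ] [IsFiltered Λ]

include hqc hgen hpb

/-- `S`-acyclic abelian sheaves are stable under filtered colimits -/
theorem acycOn_colimit' (F : Λ ⥤ Sheaf J AddCommGrpCat.{u})
    (hF : ∀ (μ : Λ) (p : ℕ), AcycOn J S (F.obj μ) p) (p : ℕ) : AcycOn J S (colimit F) p := by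
  intro K hK x
  exact acycOn_colimit (isoClosure_isQC hqc) (isoClosure_isGenerating hgen)
    isoClosure_iso (isoClosure_closedUnderPullbacks hpb) F
    (fun μ p' => isoClosure_acycOn _ p' (hF μ p')) p K (subset_isoClosure hK) x

/-- `H^p(K, -)` commutes with filtered colimits for `K ∈ S` -/
theorem preservesColimit_of_mem' {K : Sheaf J (Type u)} (hK : K ∈ S) (p : ℕ)
    (F : Λ ⥤ Sheaf J AddCommGrpCat.{u}) :
    PreservesColimit F (Abelian.extFunctorObj.{u} ((G J).obj K) p) :=
  preservesColimit_of_mem (isoClosure_isQC hqc) (isoClosure_isGenerating hgen)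
    isoClosure_iso (isoClosure_closedUnderPullbacks hpb) (subset_isoClosure hK) p F

end main

end Groth.Agent.Lib.Helper21.ToposCech
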