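import Mathlib
import Groth.Prelude.Def_CohCx
import Groth.Prelude.Def_ToposFin2
import Groth.Agent.Lib.Helper21.ToposCech5

/-!
Helper library (helper21): in an algebraic topos the coherent objects form a generating class of
quasi-compact objects closed under fibre products; cohomology of coherent objects commutes with
filtered colimits.
-/

set_option autoImplicit false
set_option linter.unusedSectionVars false
set_option linter.unusedVariables false

universe u
open CategoryTheory Limits Opposite

namespace Groth.Agent.Lib.Helper21.ToposCech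

open Groth.Agent.Lib.helper27 Groth.Agent.Lib.Helper14.Topos ToposFin
  Groth.Agent.Lib.helper23.QCHom

variable {C : Type u} [SmallCategory C] {J : GrothendieckTopology C}

/-- the class of coherent objects -/
def Coh (J : GrothendieckTopology C) : Set (Sheaf J (Type u)) := {X | IsCoherent X}

section algebraic

variable {S₀ : Set (Sheaf J (Type u))} (hqc : ∀ K ∈ S₀, IsQC K) (hgen : IsGenerating S₀)
  (hpb : ClosedUnderPullbacks S₀) (heq : ClosedUnderEqualizers S₀)

lemma coh_isQC : ∀ K ∈ Coh J, IsQC K := fun _ h => h.1

include hqc hgen hpb in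
lemma coh_isGenerating : IsGenerating (Coh J) := by
  intro X
  obtain ⟨ι, F, π, hF, hπ⟩ := hgen X
  exact ⟨ι, F, π, fun i => isCoherent_of_mem hqc hgen hpb (hF i), hπ⟩

include hqc hgen heq in
lemma isCoherent_pullback {X Y Z : Sheaf J (Type u)} (a : X ⟶ Z) (b : Y ⟶ Z)
    (hX : IsCoherent X) (hY : IsCoherent Y) (hZ : IsCoherent Z) : IsCoherent (pullback a b) := by
  refine ⟨hZ.2 _ _ a b hX.1 hY.1, ?_⟩
  have ha : IsQSHom a := isQSHom_of_isQS_source hqc hgen heq a hX.2
  exact isQS_of_isQSHom (pullback.snd a b)
    (isQSHom_of_isPullback (IsPullback.of_hasPullback a b) ha) hY.2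

include hqc hgen heq in
lemma coh_closedUnderPullbacks : ClosedUnderPullbacks (Coh J) := by
  intro K L M f g hK hL hM
  exact ⟨pullback f g, pullback.fst f g, pullback.snd f g,
    isCoherent_pullback hqc hgen heq f g hK hL hM, IsPullback.of_hasPullback f g⟩

end algebraic

/-- in an algebraic topos, `H^q(K, -)` commutes with filtered colimits for `K` coherent -/
theorem preservesColimit_of_isCoherent (hE : IsAlgebraic J) {K : Sheaf J (Type u)}
    (hK : IsCoherent K) {Λ : Type u} [SmallCategory Λ] [IsFiltered Λ] (q : ℕ)
    (F : Λ ⥤ Sheaf J AddCommGrpCat.{u}) :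
    PreservesColimit F (Abelian.extFunctorObj.{u} ((G J).obj K) q) := by
  obtain ⟨S₀, hqc, hgen, hpb, heq⟩ := hE
  exact preservesColimit_of_mem' coh_isQC (coh_isGenerating hqc hgen hpb)
    (coh_closedUnderPullbacks hqc hgen heq) (show K ∈ Coh J from hK) q F

end Groth.Agent.Lib.Helper21.ToposCech
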