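import Mathlib
import Groth.Prelude.Def_CohCx
import Groth.Prelude.Def_ToposFin2
import Groth.Agent.Lib.Helper21.ToposCech6

/-!
Helper library (helper21): cohomology with supports in the closed complement of a coherent open
of a coherent topos commutes with filtered colimits.
-/

set_option autoImplicit false
set_option linter.unusedSectionVars false
set_option linter.unusedVariables false

universe u
open CategoryTheory Limits Opposite

namespace Groth.Agent.Lib.Helper21.ToposCech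

open Groth.Agent.Lib.helper27 Groth.Agent.Lib.Helper14.Topos ToposFin

variable {C : Type u} [SmallCategory C] {J : GrothendieckTopology C}

/-- the elementwise criterion in degree `0` from statements about morphisms -/
theorem colimLike_zero_of_hom {Λ : Type u} [SmallCategory Λ] (Z : Sheaf J AddCommGrpCat.{u})
    (F : Λ ⥤ Sheaf J AddCommGrpCat.{u})
    (hs : ∀ y : Z ⟶ colimit F, ∃ (μ : Λ) (x : Z ⟶ F.obj μ), x ≫ colimit.ι F μ = y)
    (hi : ∀ (μ : Λ) (x : Z ⟶ F.obj μ), x ≫ colimit.ι F μ = 0 →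
      ∃ (μ' : Λ) (s : μ ⟶ μ'), x ≫ F.map s = 0) :
    FiltCoh.ColimLike.{u} Z 0 F (colimit.cocone F) where
  surj y := by
    obtain ⟨μ, x, hx⟩ := hs (Abelian.Ext.homEquiv₀ y)
    refine ⟨μ, Abelian.Ext.mk₀ x, ?_⟩
    rw [FiltCoh.post_def, Abelian.Ext.mk₀_comp_mk₀]
    show Abelian.Ext.mk₀ (x ≫ colimit.ι F μ) = y
    rw [hx, Abelian.Ext.mk₀_homEquiv₀_apply]
  inj μ x hx := by
    obtain ⟨x₀, rfl⟩ := (Abelian.Ext.mk₀_bijective _ _).2 x
    rw [FiltCoh.post_def, Abelian.Ext.mk₀_comp_mk₀, Abelian.Ext.mk₀_eq_zero_iff] at hx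
    obtain ⟨μ', s, hs'⟩ := hi μ x₀ hx
    refine ⟨μ', s, ?_⟩
    rw [FiltCoh.post_def, Abelian.Ext.mk₀_comp_mk₀, hs', Abelian.Ext.mk₀_zero]

instance : (G J).PreservesMonomorphisms := by
  have h1 : (sheafToPresheaf J (Type u)).PreservesMonomorphisms := inferInstance
  have h2 : ((Functor.whiskeringRight Cᵒᵖ (Type u) AddCommGrpCat.{u}).obj
      AddCommGrpCat.free.{u}).PreservesMonomorphisms := by
    refine ⟨fun {X Y} f hf => ?_⟩
    rw [NatTrans.mono_iff_mono_app] at hf ⊢
    intro c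
    exact AddCommGrpCat.free.{u}.map_mono (f.app c)
  have h3 : (presheafToSheaf J AddCommGrpCat.{u}).PreservesMonomorphisms := inferInstance
  exact inferInstanceAs (sheafToPresheaf J (Type u) ⋙
    (Functor.whiskeringRight Cᵒᵖ (Type u) AddCommGrpCat.{u}).obj AddCommGrpCat.free.{u} ⋙
      presheafToSheaf J AddCommGrpCat.{u}).PreservesMonomorphisms

section supp

variable (hE : IsAlgebraic J) (hT : IsCoherent (⊤_ (Sheaf J (Type u))))
  (V : Sheaf J (Type u)) [Mono (terminal.from V)] (hV : IsCoherent V)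
  {Λ : Type u} [SmallCategory Λ] [IsFiltered Λ]

/-- the map `Z[V] ⟶ Z[e]` -/
noncomputable abbrev aZ : (G J).obj V ⟶ (G J).obj (⊤_ (Sheaf J (Type u))) :=
  (G J).map (terminal.from V)

/-- the short complex `Z[V] ⟶ Z[e] ⟶ Z/Z_V` -/
noncomputable abbrev sZ : ShortComplex (Sheaf J AddCommGrpCat.{u}) :=
  ShortComplex.mk (aZ V) (cokernel.π (aZ V)) (cokernel.condition _)

lemma sZ_shortExact : (sZ V).ShortExact :=
  ShortComplex.ShortExact.mk' (ShortComplex.exact_cokernel _) inferInstance inferInstance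

include hE hT hV in
theorem colimLike_zero_supp (F : Λ ⥤ Sheaf J AddCommGrpCat.{u}) :
    FiltCoh.ColimLike.{u} (cokernel (aZ V)) 0 F (colimit.cocone F) := by
  obtain ⟨S₀, hqc, hgen, hpb, heq⟩ := hE
  have hQ : HasQCGenerators J := hasQCGenerators_of_isGenerating hqc hgen
  refine colimLike_zero_of_hom _ F (fun y => ?_) (fun μ x hx => ?_)
  · obtain ⟨μ, x, hx⟩ := hom_surj hQ hT F (cokernel.π (aZ V) ≫ y)
    have h0 : (aZ V ≫ x) ≫ colimit.ι F μ = 0 ≫ colimit.ι F μ := by
      rw [Category.assoc, hx, cokernel.condition_assoc, zero_comp, zero_comp]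
    obtain ⟨μ', s, hs⟩ := hom_inj hV F μ _ _ h0
    rw [zero_comp, Category.assoc] at hs
    refine ⟨μ', cokernel.desc (aZ V) (x ≫ F.map s) hs, ?_⟩
    rw [← cancel_epi (cokernel.π (aZ V)), cokernel.π_desc_assoc, Category.assoc, colimit.w, hx]
  · have h0 : (cokernel.π (aZ V) ≫ x) ≫ colimit.ι F μ = 0 ≫ colimit.ι F μ := by
      rw [Category.assoc, hx, comp_zero, zero_comp]
    obtain ⟨μ', s, hs⟩ := hom_inj hT F μ _ _ h0
    refine ⟨μ', s, ?_⟩
    rw [zero_comp, Category.assoc] at hs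
    rw [← cancel_epi (cokernel.π (aZ V)), hs, comp_zero]

include hE hT hV in
theorem ext_colimit_injective_supp (I : Λ ⥤ Sheaf J AddCommGrpCat.{u})
    (hI : ∀ μ, Injective (I.obj μ)) (q : ℕ)
    (x : Abelian.Ext.{u} (cokernel (aZ V)) (colimit I) (q + 1)) : x = 0 := by
  obtain ⟨S₀, hqc, hgen, hpb, heq⟩ := hE
  have hQ : HasQCGenerators J := hasQCGenerators_of_isGenerating hqc hgen
  have hA : ∀ p : ℕ, AcycOn J (Coh J) (colimit I) p :=
    acycOn_colimit' coh_isQC (coh_isGenerating hqc hgen hpb)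
      (coh_closedUnderPullbacks hqc hgen heq) I
      (fun μ p K hK y => Abelian.Ext.eq_zero_of_injective y)
  have hx : (Abelian.Ext.mk₀ (sZ V).g).comp x (zero_add (q + 1)) = 0 :=
    hA q _ (show (⊤_ (Sheaf J (Type u))) ∈ Coh J from hT) _
  obtain ⟨x₁, hx₁⟩ := Abelian.Ext.contravariant_sequence_exact₃ (sZ_shortExact V) _ x hx
    (show 1 + q = q + 1 from add_comm 1 q)
  rw [← hx₁]
  cases q with
  | succ q' =>
    have : x₁ = 0 := hA q' _ (show V ∈ Coh J from hV) x₁
    rw [this, Abelian.Ext.comp_zero]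
  | zero =>
    obtain ⟨y₁, rfl⟩ := (Abelian.Ext.mk₀_bijective _ _).2 x₁
    obtain ⟨μ, y, hy⟩ := hom_surj hQ hV I y₁
    haveI := hI μ
    have hfac : aZ V ≫ Injective.factorThru y (aZ V) = y := Injective.comp_factorThru y (aZ V)
    have h2 : y₁ = (sZ V).f ≫ (Injective.factorThru y (aZ V) ≫ colimit.ι I μ) := by
      show y₁ = aZ V ≫ _
      rw [← Category.assoc, hfac, hy]
    rw [h2, ← Abelian.Ext.mk₀_comp_mk₀, ← Abelian.Ext.comp_assoc_of_second_deg_zero,
      (sZ_shortExact V).extClass_comp, Abelian.Ext.zero_comp]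

include hE hT hV in
/-- `Ext^q(Z/Z_V, -)` commutes with filtered colimits -/
theorem preservesColimit_supp (q : ℕ) (F : Λ ⥤ Sheaf J AddCommGrpCat.{u}) :
    PreservesColimit F (Abelian.extFunctorObj.{u} (cokernel (aZ V)) q) :=
  FiltCoh.preservesColimit_extFunctorObj _ q F (colimit.cocone F) (colimit.isColimit F)
    (FiltCoh.colimLike_all (cokernel (aZ V)) (fun F' => colimLike_zero_supp hE hT V hV F')
      (fun I hI q' x => ext_colimit_injective_supp hE hT V hV I hI q' x) q F)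

end supp

end Groth.Agent.Lib.Helper21.ToposCech
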