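import Mathlib
import Groth.Prelude.Def_CohCx
import Groth.Prelude.Def_ToposFin2
import Groth.Agent.Lib.Helper21.QcqsRel1
import Groth.Agent.Lib.Helper21.ToposCech9

/-!
Helper library (helper21): morphisms from an object which is quasi-compact and quasi-separated
relative to a class `S` of quasi-compact objects into a filtered colimit factor through a stage.
-/

set_option autoImplicit false
set_option linter.unusedSectionVars false
set_option linter.unusedVariables false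

universe u
open CategoryTheory Limits Opposite

namespace Groth.Agent.Lib.Helper21.QcqsRel

open Groth.Agent.Lib.helper27 Groth.Agent.Lib.Helper14.Topos ToposFin
  Groth.Agent.Lib.Helper21.ToposCech

variable {C : Type u} [SmallCategory C] {J : GrothendieckTopology C}
  {S : Set (Sheaf J (Type u))}

lemma isQC_of_cvd (hqc : ∀ K ∈ S, IsQC K) {X : Sheaf J (Type u)} (hX : Cvd S X) : IsQC X := by
  obtain ⟨K, hK, π, hπ⟩ := hX
  exact isQC_of_epi π (hqc K hK)

section factor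

variable
  (h2 : ∀ (F : Sheaf J (Type u)) (K : Sheaf J (Type u)) (g : F ⟶ K), K ∈ S → Epi g →
      ∃ (K' : Sheaf J (Type u)) (k : K' ⟶ F), K' ∈ S ∧ Epi (k ≫ g))
  (h3 : ∀ K ∈ S, ∀ K' ∈ S, ∃ (K'' : Sheaf J (Type u)) (g : K'' ⟶ K ⨯ K'), K'' ∈ S ∧ Epi g)
  (hqc : ∀ K ∈ S, IsQC K)

include h2 h3 hqc in
theorem exists_factor_of_mem_T {X : Sheaf J (Type u)} (hX : X ∈ T S)
    {I : Type u} [SmallCategory I] [IsFiltered I] (D : I ⥤ Sheaf J (Type u))
    (φ : X ⟶ colimit D) : ∃ (k : I) (f : X ⟶ D.obj k), f ≫ colimit.ι D k = φ := by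
  classical
  obtain ⟨K, hK, π, hπ⟩ := hX.1
  have hι : JSurj (fun i => colimit.ι D i) :=
    jsurj_cocone_ι (colimit.cocone D) (colimit.isColimit D)
  have hρ : JSurj (fun i => pullback.snd (colimit.ι D i) (π ≫ φ)) :=
    hι.base_change (π ≫ φ) (fun i => pullback.fst (colimit.ι D i) (π ≫ φ)) _
      (fun i => IsPullback.of_hasPullback (colimit.ι D i) (π ≫ φ))
  obtain ⟨n, i, hi⟩ := hρ.exists_fin (hqc K hK)
  obtain ⟨i0, hi0⟩ := IsFiltered.sup_objs_exists (Finset.univ.image i)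
  have hmap : ∀ k : Fin n, Nonempty (i k ⟶ i0) := fun k =>
    hi0 (Finset.mem_image_of_mem i (Finset.mem_univ k))
  let τ : ∀ k : Fin n, i k ⟶ i0 := fun k => (hmap k).some
  -- the single stage `i0` already covers `K`
  have hρ0 : Epi (pullback.snd (colimit.ι D i0) (π ≫ φ)) := by
    rw [epi_iff_jsurj]
    refine hi.of_refine _ (fun k => ⟨PUnit.unit,
      pullback.lift (pullback.fst (colimit.ι D (i k)) (π ≫ φ) ≫ D.map (τ k))
        (pullback.snd (colimit.ι D (i k)) (π ≫ φ)) ?_, ?_⟩)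
    · rw [Category.assoc, colimit.w, pullback.condition]
    · exact pullback.lift_snd _ _ _
  obtain ⟨K', k', hK', hk'⟩ := h2 _ K (pullback.snd (colimit.ι D i0) (π ≫ φ)) hK hρ0
  let p : K' ⟶ X := (k' ≫ pullback.snd (colimit.ι D i0) (π ≫ φ)) ≫ π
  haveI hp : Epi p := epi_comp _ _
  let ψ : K' ⟶ D.obj i0 := k' ≫ pullback.fst (colimit.ι D i0) (π ≫ φ)
  have hψ : ψ ≫ colimit.ι D i0 = p ≫ φ := by
    simp only [ψ, p, Category.assoc]
    rw [pullback.condition]
  -- kernel pair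
  obtain ⟨K'', hK'', e, he⟩ := cvd_pullback h3 hX.2 (cvd_of_mem hK') (cvd_of_mem hK') p p
  have hab : (e ≫ pullback.fst p p ≫ ψ) ≫ colimit.ι D i0 =
      (e ≫ pullback.snd p p ≫ ψ) ≫ colimit.ι D i0 := by
    simp only [Category.assoc]
    rw [hψ, ← Category.assoc (pullback.fst p p), ← Category.assoc (pullback.snd p p),
      pullback.condition]
  obtain ⟨k, s, hs⟩ := exists_eq_of_isQC (hqc K'' hK'') D _ _ hab
  have hs' : pullback.fst p p ≫ ψ ≫ D.map s = pullback.snd p p ≫ ψ ≫ D.map s := by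
    rw [← cancel_epi e]
    simpa only [Category.assoc] using hs
  obtain ⟨f, hf⟩ := exists_desc_of_epi p (ψ ≫ D.map s) hs'
  refine ⟨k, f, ?_⟩
  rw [← cancel_epi p, ← Category.assoc, hf, Category.assoc, colimit.w, hψ]

variable {X : Sheaf J (Type u)} (hX : X ∈ T S)
  {Λ : Type u} [SmallCategory Λ] [IsFiltered Λ] (F : Λ ⥤ Sheaf J AddCommGrpCat.{u})

include h2 h3 hqc hX in
theorem hom_surj_T (y : (G J).obj X ⟶ colimit F) :
    ∃ (μ : Λ) (x : (G J).obj X ⟶ F.obj μ), x ≫ colimit.ι F μ = y := by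
  let y' : X ⟶ (U J).obj (colimit F) := (TotAcyc.adj J).homEquiv X _ y
  obtain ⟨k, f, hf⟩ := exists_factor_of_mem_T h2 h3 hqc hX (F ⋙ U J) (y' ≫ (uColimIso F).inv)
  refine ⟨k, ((TotAcyc.adj J).homEquiv X _).symm f, ?_⟩
  rw [← Adjunction.homEquiv_naturality_right_symm]
  have h1 : f ≫ (U J).map (colimit.ι F k) = y' := by
    rw [← ι_uColimIso_hom, ← Category.assoc, hf, Category.assoc, Iso.inv_hom_id, Category.comp_id]
  rw [h1]
  exact Equiv.symm_apply_apply _ _

end factor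

theorem hom_inj_qc {X : Sheaf J (Type u)} (hX : IsQC X)
    {Λ : Type u} [SmallCategory Λ] [IsFiltered Λ] (F : Λ ⥤ Sheaf J AddCommGrpCat.{u})
    (μ : Λ) (x x' : (G J).obj X ⟶ F.obj μ)
    (h : x ≫ colimit.ι F μ = x' ≫ colimit.ι F μ) :
    ∃ (μ' : Λ) (s : μ ⟶ μ'), x ≫ F.map s = x' ≫ F.map s := by
  let a : X ⟶ (F ⋙ U J).obj μ := (TotAcyc.adj J).homEquiv X _ x
  let a' : X ⟶ (F ⋙ U J).obj μ := (TotAcyc.adj J).homEquiv X _ x'
  have h1 : a ≫ colimit.ι (F ⋙ U J) μ = a' ≫ colimit.ι (F ⋙ U J) μ := by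
    have e : ∀ z : (G J).obj X ⟶ F.obj μ,
        (TotAcyc.adj J).homEquiv X _ z ≫ colimit.ι (F ⋙ U J) μ =
          (TotAcyc.adj J).homEquiv X _ (z ≫ colimit.ι F μ) ≫ (uColimIso F).inv := by
      intro z
      rw [Adjunction.homEquiv_naturality_right, ← ι_uColimIso_hom, Category.assoc, Category.assoc,
        Iso.hom_inv_id, Category.comp_id]
    rw [e x, e x', h]
  obtain ⟨k, s, hs⟩ := exists_eq_of_isQC hX (F ⋙ U J) a a' h1
  refine ⟨k, s, ?_⟩
  apply ((TotAcyc.adj J).homEquiv X _).injective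
  rw [Adjunction.homEquiv_naturality_right, Adjunction.homEquiv_naturality_right]
  exact hs

end Groth.Agent.Lib.Helper21.QcqsRel
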