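import Mathlib
import Groth.Prelude.Def_CohCx
import Groth.Prelude.Def_ToposFin2
import Groth.Agent.Lib.Helper21.ToposCech6

/-!
Helper library (helper21): the constant sheaf `ℤ` is the free abelian sheaf on the terminal
sheaf of sets; cohomology of a coherent topos commutes with filtered colimits.
-/

set_option autoImplicit false
set_option linter.unusedSectionVars false
set_option linter.unusedVariables false

universe u
open CategoryTheory Limits Opposite

namespace Groth.Agent.Lib.Helper21.ToposCech

open Groth.Agent.Lib.helper27 Groth.Agent.Lib.Helper14.Topos ToposFin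
  Groth.Agent.Lib.helper23.QCHom

variable {C : Type u} [SmallCategory C] (J : GrothendieckTopology C)

/-- the constant presheaf with value `PUnit` is terminal -/
def isTerminalConstPUnit : IsTerminal ((Functor.const Cᵒᵖ).obj (PUnit.{u + 1} : Type u)) :=
  IsTerminal.ofUniqueHom
    (fun X => { app := fun _ => TypeCat.ofHom (fun _ => PUnit.unit) })
    (fun X m => by
      ext U x
      exact (Subsingleton.elim (α := PUnit.{u + 1}) _ _))

/-- the underlying presheaf of the terminal sheaf of sets -/
noncomputable def topObjIso :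
    (⊤_ (Sheaf J (Type u))).obj ≅ (Functor.const Cᵒᵖ).obj (PUnit.{u + 1} : Type u) :=
  (IsTerminal.isTerminalObj (sheafToPresheaf J (Type u)) _ terminalIsTerminal).uniqueUpToIso
    isTerminalConstPUnit

/-- the free abelian group on a point -/
noncomputable def freePUnitIso :
    AddCommGrpCat.free.obj (PUnit.{u + 1} : Type u) ≅ AddCommGrpCat.of (ULift.{u} ℤ) :=
  ((FreeAbelianGroup.uniqueEquiv PUnit.{u + 1}).trans AddEquiv.ulift.symm).toAddCommGrpIso

/-- the free abelian sheaf on the terminal sheaf of sets is the constant sheaf `ℤ` -/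
noncomputable def freeTopIso :
    (G J).obj (⊤_ (Sheaf J (Type u))) ≅
      (constantSheaf J AddCommGrpCat.{u}).obj (AddCommGrpCat.of (ULift.{u} ℤ)) :=
  (presheafToSheaf J AddCommGrpCat.{u}).mapIso
    (Functor.isoWhiskerRight (topObjIso J) AddCommGrpCat.free.{u} ≪≫
      Functor.constComp _ _ _ ≪≫ (Functor.const Cᵒᵖ).mapIso freePUnitIso)

/-- `H^q(E, -)` as an `Ext` functor -/
noncomputable def functorHIso (q : ℕ) :
    (Sheaf.functorH J q : Sheaf J AddCommGrpCat.{u} ⥤ AddCommGrpCat.{u}) ≅
      Abelian.extFunctorObj.{u}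
        ((constantSheaf J AddCommGrpCat.{u}).obj (AddCommGrpCat.of (ULift.{u} ℤ))) q :=
  NatIso.ofComponents (fun F => Iso.refl _) (by
    intro F F' f
    rfl)

/-- `H^q(E, -)` is `Ext` out of the free abelian sheaf on the terminal sheaf of sets -/
noncomputable def functorHIso' (q : ℕ) :
    (Sheaf.functorH J q : Sheaf J AddCommGrpCat.{u} ⥤ AddCommGrpCat.{u}) ≅
      Abelian.extFunctorObj.{u} ((G J).obj (⊤_ (Sheaf J (Type u)))) q :=
  functorHIso J q ≪≫ ((Abelian.extFunctor.{u} q).mapIso (freeTopIso J).op)

variable {J}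

/-- in a coherent topos, cohomology commutes with filtered colimits -/
theorem preservesColimitsOfShape_functorH (hE : IsAlgebraic J)
    (hT : IsCoherent (⊤_ (Sheaf J (Type u)))) (Λ : Type u) [SmallCategory Λ] [IsFiltered Λ]
    (q : ℕ) :
    PreservesColimitsOfShape Λ
      (Sheaf.functorH J q : Sheaf J AddCommGrpCat.{u} ⥤ AddCommGrpCat.{u}) := by
  have : PreservesColimitsOfShape Λ
      (Abelian.extFunctorObj.{u} ((G J).obj (⊤_ (Sheaf J (Type u)))) q) :=
    ⟨fun {F} => preservesColimit_of_isCoherent hE hT q F⟩
  exact preservesColimitsOfShape_of_natIso (functorHIso' J q).symm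

end Groth.Agent.Lib.Helper21.ToposCech
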