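import Mathlib
import Groth.Prelude.Def_CohCx
import Groth.Prelude.Def_ToposFin2
import Groth.Agent.Lib.Helper21.QcqsRel2
import Groth.Agent.Lib.Helper21.ToposCech7

/-!
Helper library (helper21): cohomology commutes with filtered colimits in a topos with a class `S`
of quasi-compact objects satisfying covering-closure conditions (not necessarily generating).
-/

set_option autoImplicit false
set_option linter.unusedSectionVars false
set_option linter.unusedVariables false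

universe u
open CategoryTheory Limits Opposite

namespace Groth.Agent.Lib.Helper21.QcqsRel

open Groth.Agent.Lib.helper27 Groth.Agent.Lib.Helper14.Topos ToposFin
  Groth.Agent.Lib.Helper21.ToposCech

variable {C : Type u} [SmallCategory C] {J : GrothendieckTopology C}
  {S : Set (Sheaf J (Type u))}

section cech

variable {K' K : Sheaf J (Type u)} (f : K' ⟶ K)
  {Λ : Type u} [SmallCategory Λ] [IsFiltered Λ] (F : Λ ⥤ Sheaf J AddCommGrpCat.{u})
  (hsurj : ∀ (n : ℕ) (y : (G J).obj (nerveObj J f n) ⟶ colimit F),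
    ∃ (μ : Λ) (x : (G J).obj (nerveObj J f n) ⟶ F.obj μ), x ≫ colimit.ι F μ = y)
  (hinj : ∀ (n : ℕ) (μ : Λ) (x x' : (G J).obj (nerveObj J f n) ⟶ F.obj μ),
    x ≫ colimit.ι F μ = x' ≫ colimit.ι F μ → ∃ (μ' : Λ) (s : μ ⟶ μ'), x ≫ F.map s = x' ≫ F.map s)

include hsurj hinj in
/-- exactness of Čech complexes passes to filtered colimits, given that maps out of the free
abelian sheaves on the terms of the nerve commute with the colimit -/
theorem isZero_cech_colimit' (q : ℕ)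
    (h : ∀ μ : Λ, IsZero ((CohCx.cechNerveCx (F.obj μ) f).homology (q + 1))) :
    IsZero ((CohCx.cechNerveCx (colimit F) f).homology (q + 1)) := by
  let P := NerveCx.P J f
  have hμ : ∀ μ : Λ, ((NerveHom.Cx P).obj (F.obj μ)).ExactAt (q + 1) := fun μ =>
    (HomologicalComplex.exactAt_iff_isZero_homology _ _).2 (h μ)
  show IsZero (((NerveHom.Cx P).obj (colimit F)).homology (q + 1))
  rw [← HomologicalComplex.exactAt_iff_isZero_homology,
    HomologicalComplex.exactAt_iff' _ q (q + 1) (q + 2) (by simp) (by simp),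
    ShortComplex.ab_exact_iff]
  intro x hx
  have hx' : (NerveHom.K P).d (q + 2) (q + 1) ≫ NerveHom.toHom P x = 0 :=
    (NerveHom.d_apply P (colimit F) (q + 1) x).symm.trans hx
  -- lift the cocycle to a finite stage
  obtain ⟨μ, xμ, hxμ⟩ : ∃ (μ : Λ) (xμ : (NerveHom.K P).X (q + 1) ⟶ F.obj μ),
      xμ ≫ colimit.ι F μ = NerveHom.toHom P x :=
    hsurj (q + 1) (NerveHom.toHom P x)
  have h0 : ((NerveHom.K P).d (q + 2) (q + 1) ≫ xμ) ≫ colimit.ι F μ =
      (0 : (NerveHom.K P).X (q + 2) ⟶ F.obj μ) ≫ colimit.ι F μ :=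
    (Category.assoc _ _ _).trans
      ((congrArg ((NerveHom.K P).d (q + 2) (q + 1) ≫ ·) hxμ).trans (hx'.trans zero_comp.symm))
  obtain ⟨μ', s, hs⟩ := hinj (q + 2) μ
    ((NerveHom.K P).d (q + 2) (q + 1) ≫ xμ : (G J).obj (nerveObj J f (q + 2)) ⟶ F.obj μ)
    (0 : (G J).obj (nerveObj J f (q + 2)) ⟶ F.obj μ) h0
  have hs' : (NerveHom.K P).d (q + 2) (q + 1) ≫ (xμ ≫ F.map s) = 0 :=
    (Category.assoc _ _ _).symm.trans (hs.trans zero_comp)
  -- use exactness at the stage `μ'`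
  have hex := (HomologicalComplex.exactAt_iff' _ q (q + 1) (q + 2) (by simp) (by simp)).1 (hμ μ')
  rw [ShortComplex.ab_exact_iff] at hex
  obtain ⟨y', hy'⟩ := hex (NerveHom.ofHom P (xμ ≫ F.map s))
    ((NerveHom.d_apply P (F.obj μ') (q + 1) _).trans hs')
  have hy : (NerveHom.K P).d (q + 1) q ≫ NerveHom.toHom P y' = xμ ≫ F.map s :=
    (NerveHom.d_apply P (F.obj μ') q y').symm.trans hy'
  refine ⟨NerveHom.ofHom P (NerveHom.toHom P y' ≫ colimit.ι F μ'), ?_⟩
  refine (NerveHom.d_apply P (colimit F) q _).trans ?_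
  show (NerveHom.K P).d (q + 1) q ≫ NerveHom.toHom P y' ≫ colimit.ι F μ' = NerveHom.toHom P x
  refine (Category.assoc _ _ _).symm.trans ?_
  refine (congrArg (· ≫ colimit.ι F μ') hy).trans ?_
  refine (Category.assoc _ _ _).trans ?_
  exact (congrArg (xμ ≫ ·) (colimit.w F s)).trans hxμ

end cech

section main

variable
  (h2 : ∀ (F : Sheaf J (Type u)) (K : Sheaf J (Type u)) (g : F ⟶ K), K ∈ S → Epi g →
      ∃ (K' : Sheaf J (Type u)) (k : K' ⟶ F), K' ∈ S ∧ Epi (k ≫ g))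
  (h3 : ∀ K ∈ S, ∀ K' ∈ S, ∃ (K'' : Sheaf J (Type u)) (g : K'' ⟶ K ⨯ K'), K'' ∈ S ∧ Epi g)
  (h4 : ∀ K ∈ S, ∀ K' ∈ S, ∀ (a b : K ⟶ K'),
      ∃ (K'' : Sheaf J (Type u)) (g : K'' ⟶ equalizer a b), K'' ∈ S ∧ Epi g)
  (hqc : ∀ K ∈ S, IsQC K)

include h2 h3 h4 in
/-- the class of epimorphisms between members of `T S` -/
noncomputable def covClassT : CovClass J (T S) where
  Cov K' K f := K ∈ T S ∧ Epi f ∧ K' ∈ T S
  epi _ _ _ h := h.2.1
  tgt _ _ _ h := h.1
  refine K hK L g hg := by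
    haveI := hg
    obtain ⟨K', hK', h, hh⟩ := cvd_refine h2 hK.1 g
    exact ⟨K', h ≫ g, h, ⟨hK, hh, mem_T_of_mem h4 hK'⟩, rfl⟩
  nerve K' K f h n F p hF x := hF _ (mem_T_nerve h3 f h.2.2 h.1 n) x

variable {Λ : Type u} [SmallCategory Λ] [IsFiltered Λ]

include h2 h3 h4 hqc

/-- `T S`-acyclic abelian sheaves are stable under filtered colimits -/
theorem acycOn_colimit_T (F : Λ ⥤ Sheaf J AddCommGrpCat.{u})
    (hF : ∀ (μ : Λ) (p : ℕ), AcycOn J (T S) (F.obj μ) p) (p : ℕ) :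
    AcycOn J (T S) (colimit F) p := by
  let 𝒞 := covClassT h2 h3 h4
  refine acycOn_of_cechAcyc 𝒞 p (colimit F) ?_
  intro K' K f hf q
  refine isZero_cech_colimit' f F
    (fun n y => hom_surj_T h2 h3 hqc (mem_T_nerve h3 f hf.2.2 hf.1 n) F y)
    (fun n μ x x' h => hom_inj_qc (isQC_of_cvd hqc (mem_T_nerve h3 f hf.2.2 hf.1 n).1) F μ x x' h)
    q (fun μ => cechAcyc_of_acycOn 𝒞 (F.obj μ) (hF μ) f hf q)

/-- `H^p(K, -)` commutes with filtered colimits for `K ∈ T S`, elementwise -/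
theorem colimLike_of_mem_T {K : Sheaf J (Type u)} (hK : K ∈ T S) (p : ℕ)
    (F : Λ ⥤ Sheaf J AddCommGrpCat.{u}) :
    FiltCoh.ColimLike.{u} ((G J).obj K) p F (colimit.cocone F) := by
  refine FiltCoh.colimLike_all _
    (fun F' => colimLike_zero_of_hom _ F' (fun y => hom_surj_T h2 h3 hqc hK F' y)
      (fun μ x hx => ?_))
    (fun I hI q x => ?_) p F
  · have hx' : x ≫ colimit.ι F' μ = 0 ≫ colimit.ι F' μ := by rw [zero_comp]; exact hx
    obtain ⟨μ', s, hs⟩ := hom_inj_qc (isQC_of_cvd hqc hK.1) F' μ x 0 hx'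
    exact ⟨μ', s, hs.trans zero_comp⟩
  · refine acycOn_colimit_T h2 h3 h4 hqc I (fun μ p' K' hK' y => ?_) q K hK x
    haveI := hI μ
    exact Abelian.Ext.eq_zero_of_injective y

/-- `H^p(K, -)` commutes with filtered colimits for `K ∈ T S` -/
theorem preservesColimit_of_mem_T {K : Sheaf J (Type u)} (hK : K ∈ T S) (p : ℕ)
    (F : Λ ⥤ Sheaf J AddCommGrpCat.{u}) :
    PreservesColimit F (Abelian.extFunctorObj.{u} ((G J).obj K) p) :=
  FiltCoh.preservesColimit_extFunctorObj ((G J).obj K) p F _ (colimit.isColimit F)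
    (colimLike_of_mem_T h2 h3 h4 hqc hK p F)

omit [IsFiltered Λ] in
/-- cohomology of the topos commutes with filtered colimits -/
theorem preservesColimitsOfShape_functorH_T (h1 : ∃ K ∈ S, Epi (terminal.from K))
    (Λ : Type u) [SmallCategory Λ] [IsFiltered Λ] (q : ℕ) :
    PreservesColimitsOfShape Λ
      (Sheaf.functorH J q : Sheaf J AddCommGrpCat.{u} ⥤ AddCommGrpCat.{u}) := by
  have : PreservesColimitsOfShape Λ
      (Abelian.extFunctorObj.{u} ((G J).obj (⊤_ (Sheaf J (Type u)))) q) :=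
    ⟨fun {F} => preservesColimit_of_mem_T h2 h3 h4 hqc (terminal_mem_T h1) q F⟩
  exact preservesColimitsOfShape_of_natIso (functorHIso' J q).symm

end main

/-- the two forms of quasi-compactness of an object agree -/
lemma isQC_of_isQcObject {K : Sheaf J (Type u)} (h : CohCx.IsQcObject K) : IsQC K := by
  rw [isQC_iff]
  intro ι F π hπ
  obtain ⟨t, ht⟩ := h ι F π (fun U s => by
    obtain ⟨R, hR, hR'⟩ := hπ U s
    exact ⟨R, hR, fun V g hg => hR' g hg⟩)
  exact ⟨t, fun U s => by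
    obtain ⟨R, hR, hR'⟩ := ht U s
    exact ⟨R, hR, fun V g hg => hR' V g hg⟩⟩

end Groth.Agent.Lib.Helper21.QcqsRel
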