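import Mathlib
import Groth.Agent.Lib.Helper21.SubTerm
import Groth.Agent.Lib.Helper21.PushColim

/-!
# `F ↦ F/F_U` commutes with localisation (helper21)

`(M/M_U)|_V ≅ M|_V / (M|_V)_{U × V}` on a ringed site with binary products.
-/

set_option autoImplicit false

universe u

open CategoryTheory CategoryTheory.Limits Opposite

namespace Groth.Agent.Lib.helper21.QuotRestr

open Groth.Agent.Lib.Helper21.TensorW Groth.Agent.Lib.Helper21.TensorAdj
  Groth.Agent.Lib.helper21.ModElt Groth.Agent.Lib.helper21.SuppAdj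

variable {C : Type u} [SmallCategory C] {J : GrothendieckTopology C} (O : Sheaf J CommRingCat.{u})

/-- restriction preserves finite colimits (no binder) -/
theorem preservesFiniteColimits_restr (U : C) : PreservesFiniteColimits (ModSite.restr O U) := by
  haveI : PreservesColimitsOfSize.{u, u} (ModSite.restr O U) :=
    Groth.Agent.Lib.Helper21.PushColim.pushforward_preservesColimits _
  exact PreservesColimitsOfSize.preservesFiniteColimits _

/-- `M/M_U` is null on `U` (no binder) -/
theorem isNullOn_quotOn' (U : C) (M : ModSite.Mod O) :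
    ModSite.IsNullOn O U ((ModSite.quotOn O U).obj M) := by
  haveI := preservesFiniteColimits_restr O U
  let adj := ModSite.extZeroAdj O U
  have hsplit : adj.unit.app ((ModSite.restr O U).obj M) ≫
      (ModSite.restr O U).map (adj.counit.app M) = 𝟙 _ := adj.right_triangle_components M
  have : Epi ((ModSite.restr O U).map (adj.counit.app M)) := by
    have : IsSplitEpi ((ModSite.restr O U).map (adj.counit.app M)) := ⟨⟨⟨_, hsplit⟩⟩⟩
    infer_instance
  exact (isZero_cokernel_of_epi ((ModSite.restr O U).map (adj.counit.app M))).of_iso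
    (PreservesCokernel.iso (ModSite.restr O U) (adj.counit.app M))

/-- binder-free version of `quotπ_eq_zero_of_nullSieve` -/
lemma quotπ_eq_zero_of_nullSieve' (U : C) (M : ModSite.Mod O) {V : C}
    (s : (pv M).obj (op V)) (h : nullSieve O U M s ∈ J V) :
    amap (pvMap ((ModSite.quotOnπ O U).app M)) (op V) s = 0 := by
  apply eq_zero_of_locally _ _ h
  intro W g hg
  rcases hg with hg | hg
  · refine (amap_rmap (pvMap ((ModSite.quotOnπ O U).app M)) g.op s).symm.trans ?_
    exact (congrArg (amap (pvMap ((ModSite.quotOnπ O U).app M)) (op W)) hg).trans (map_zero _)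
  · obtain ⟨f⟩ := hg
    exact (ExtSupp.isNullOn_iff O U _).1 (isNullOn_quotOn' O U M) f _

variable [HasBinaryProducts C] (U V : C)

/-- the object `U × V ⟶ V` of `C/V` -/
noncomputable abbrev Wov : Over V := Over.mk (prod.snd : U ⨯ V ⟶ V)

lemma isNullOn_restr_quotOn (M : ModSite.Mod O) :
    ModSite.IsNullOn (O.over V) (Wov U V)
      ((ModSite.restr O V).obj ((ModSite.quotOn O U).obj M)) := by
  rw [ExtSupp.isNullOn_iff]
  intro Y g x
  exact (ExtSupp.isNullOn_iff O U _).1 (isNullOn_quotOn' O U M) (g.left ≫ prod.fst) x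

/-- the comparison `M|_V / (M|_V)_{U × V} ⟶ (M/M_U)|_V` -/
noncomputable def d (M : ModSite.Mod O) :
    (ModSite.quotOn (O.over V) (Wov U V)).obj ((ModSite.restr O V).obj M) ⟶
      (ModSite.restr O V).obj ((ModSite.quotOn O U).obj M) :=
  quotDesc (isNullOn_restr_quotOn O U V M) ((ModSite.restr O V).map ((ModSite.quotOnπ O U).app M))

lemma π_d (M : ModSite.Mod O) :
    (ModSite.quotOnπ (O.over V) (Wov U V)).app ((ModSite.restr O V).obj M) ≫ d O U V M =
      (ModSite.restr O V).map ((ModSite.quotOnπ O U).app M) :=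
  π_quotDesc _ _

instance epi_d (M : ModSite.Mod O) : Epi (d O U V M) := by
  haveI := preservesFiniteColimits_restr O V
  haveI : Epi ((ModSite.restr O V).map ((ModSite.quotOnπ O U).app M)) := inferInstance
  exact epi_of_epi_fac (π_d O U V M)

theorem mono_d (M : ModSite.Mod O) : Mono (d O U V M) := by
  apply mono_of_injective
  intro X
  rw [injective_iff_map_eq_zero]
  intro y hy
  obtain ⟨Y⟩ := X
  let πW := (ModSite.quotOnπ (O.over V) (Wov U V)).app ((ModSite.restr O V).obj M)
  apply eq_zero_of_locally _ _ (imageSieve_mem πW y)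
  intro Y' g hg
  obtain ⟨m, hm⟩ := hg
  have hm' : amap (pvMap πW) (op Y') m = rmap _ g.op y := hm
  rw [← hm']
  apply quotπ_eq_zero_of_nullSieve' (O.over V) (Wov U V)
  have h0 : amap (pvMap ((ModSite.quotOnπ O U).app M)) (op Y'.left) m = 0 := by
    have e1 : amap (pvMap ((ModSite.restr O V).map ((ModSite.quotOnπ O U).app M))) (op Y') m =
        amap (pvMap (d O U V M)) (op Y') (amap (pvMap πW) (op Y') m) := by
      rw [← π_d]; rfl
    refine Eq.trans ?_ (e1.trans ?_)
    · rfl
    · rw [hm', amap_rmap, hy]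
      exact map_zero _
  have h1 := nullSieve_mem_of_quotπ_eq_zero O U M m h0
  have h2 := J.overEquiv_symm_mem_over Y' _ h1
  refine (J.over V).superset_covering ?_ h2
  intro Y'' h hh
  rw [Sieve.overEquiv_symm_iff] at hh
  rcases hh with hh | hh
  · left; exact hh
  · right
    obtain ⟨k⟩ := hh
    exact ⟨Over.homMk (prod.lift k Y''.hom) (prod.lift_snd _ _)⟩

instance isIso_d (M : ModSite.Mod O) : IsIso (d O U V M) := by
  haveI := mono_d O U V M
  exact isIso_of_mono_of_epi _

/-- `(M/M_U)|_V ≅ M|_V / (M|_V)_{U × V}` -/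
noncomputable def dIso (M : ModSite.Mod O) :
    (ModSite.quotOn (O.over V) (Wov U V)).obj ((ModSite.restr O V).obj M) ≅
      (ModSite.restr O V).obj ((ModSite.quotOn O U).obj M) :=
  asIso (d O U V M)

omit [HasBinaryProducts C] in
/-- if `U`, `V` cover the site and `Q` is null on `U` then `j_{V!}(Q|_V) ⟶ Q` is an epimorphism -/
theorem epi_counit_of_coversTop (hUV : J.CoversTop (fun b : Bool => cond b U V))
    (Q : ModSite.Mod O) (hQ : ModSite.IsNullOn O U Q) :
    Epi ((ModSite.extZeroAdj O V).counit.app Q) := by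
  have h0 : (ModSite.quotOnπ O V).app Q = 0 := by
    apply SheafOfModules.hom_ext
    refine PresheafOfModules.hom_ext (fun X => ModuleCat.hom_ext (LinearMap.ext fun s => ?_))
    obtain ⟨X⟩ := X
    refine (quotπ_eq_zero_of_nullSieve' O V Q s ?_).trans ?_
    · refine J.superset_covering ?_ (hUV X)
      intro X' g hg
      obtain ⟨b, ⟨f⟩⟩ := hg
      cases b
      · exact Or.inr ⟨f⟩
      · exact Or.inl ((ExtSupp.isNullOn_iff O U Q).1 hQ f _)
    · rfl
  exact Abelian.epi_of_cokernel_π_eq_zero _ h0

end Groth.Agent.Lib.helper21.QuotRestr
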