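import Mathlib
import Groth.Prelude.Def_ModSite
import Groth.Prelude.Def_ModSite2

/-!
# Stalks of modules on a ringed space as modules over the local ring (helper21)

`stalkFun O x : Mod O ⥤ ModuleCat (O.presheaf.stalk x)`, `stalkFun_map_germ`, `germ_smul`.
-/

set_option autoImplicit false
universe u
open CategoryTheory CategoryTheory.Limits Opposite TopologicalSpace

namespace Groth.Agent.Lib.helper21.RSStalk

variable {X : TopCat.{u}} (O : TopCat.Sheaf CommRingCat.{u} X)

/-- the underlying presheaf of modules, over `O.presheaf ⋙ forget₂` -/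
abbrev pMod (M : ModSite.Mod O) : PresheafOfModules.{u} (O.presheaf ⋙ forget₂ CommRingCat RingCat) := M.val

/-- the underlying presheaf of abelian groups -/
noncomputable abbrev pAb (M : ModSite.Mod O) : TopCat.Presheaf Ab X := (pMod O M).presheaf

noncomputable instance moduleStalk (M : ModSite.Mod O) (x : X) :
    Module (O.presheaf.stalk x) ((pAb O M).stalk x) :=
  inferInstanceAs (Module (O.presheaf.stalk x) ↑(TopCat.Presheaf.stalk (PresheafOfModules.presheaf
    (R := O.presheaf ⋙ forget₂ CommRingCat RingCat) (pMod O M)) x))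

lemma germ_smul (M : ModSite.Mod O) (x : X) (U : Opens X) (hx : x ∈ U) (r : O.presheaf.obj (op U))
    (m : (pMod O M).obj (op U)) :
    (pAb O M).germ U x hx (r • m) = O.presheaf.germ U x hx r • (pAb O M).germ U x hx m :=
  PresheafOfModules.germ_smul (R := O.presheaf) (pMod O M) x U hx r m

variable {O}

/-- the map of underlying presheaves of abelian groups -/
noncomputable def mapPAb {M N : ModSite.Mod O} (φ : M ⟶ N) : pAb O M ⟶ pAb O N :=
  (PresheafOfModules.toPresheaf _).map φ.val

/-- the map on stalks, on underlying abelian groups -/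
noncomputable abbrev stalkMapAb {M N : ModSite.Mod O} (φ : M ⟶ N) (x : X) :
    (pAb O M).stalk x ⟶ (pAb O N).stalk x :=
  (TopCat.Presheaf.stalkFunctor Ab x).map (mapPAb φ)

lemma stalkMapAb_germ {M N : ModSite.Mod O} (φ : M ⟶ N) (x : X) (U : Opens X) (hx : x ∈ U)
    (s : (pMod O M).obj (op U)) :
    stalkMapAb φ x ((pAb O M).germ U x hx s) = (pAb O N).germ U x hx (φ.val.app (op U) s) := by
  erw [TopCat.Presheaf.stalkFunctor_map_germ_apply]
  rfl

lemma stalkMapAb_smul {M N : ModSite.Mod O} (φ : M ⟶ N) (x : X) (r : O.presheaf.stalk x)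
    (m : (pAb O M).stalk x) : stalkMapAb φ x (r • m) = r • stalkMapAb φ x m := by
  obtain ⟨U, hU, s, rfl⟩ := O.presheaf.exists_germ_eq (x := x) r
  obtain ⟨V, hV, t, rfl⟩ := (pAb O M).exists_germ_eq (x := x) m
  have hW : x ∈ U ⊓ V := ⟨hU, hV⟩
  have hs := O.presheaf.germ_res_apply (homOfLE inf_le_left : U ⊓ V ⟶ U) x hW s
  have ht := (pAb O M).germ_res_apply (homOfLE inf_le_right : U ⊓ V ⟶ V) x hW t
  rw [← hs, ← ht]
  generalize O.presheaf.map (homOfLE inf_le_left : U ⊓ V ⟶ U).op s = s'
  generalize (pAb O M).map (homOfLE inf_le_right : U ⊓ V ⟶ V).op t = t'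
  rw [← germ_smul O M x (U ⊓ V) hW s' t', stalkMapAb_germ, stalkMapAb_germ,
    ← germ_smul O N x (U ⊓ V) hW]
  congr 1
  exact (φ.val.app (op (U ⊓ V))).hom.map_smul s' t'

/-- the map on stalks, as a linear map -/
noncomputable def stalkMapₗ {M N : ModSite.Mod O} (φ : M ⟶ N) (x : X) :
    (pAb O M).stalk x →ₗ[O.presheaf.stalk x] (pAb O N).stalk x where
  toFun := stalkMapAb φ x
  map_add' a b := map_add _ a b
  map_smul' r m := stalkMapAb_smul φ x r m

variable (O)

/-- the stalk functor to modules over the local ring -/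
noncomputable def stalkFun (x : X) : ModSite.Mod O ⥤ ModuleCat.{u} (O.presheaf.stalk x) where
  obj M := ModuleCat.of (O.presheaf.stalk x) ((pAb O M).stalk x)
  map φ := ModuleCat.ofHom (stalkMapₗ φ x)
  map_id M := by
    ext m
    obtain ⟨U, hU, s, rfl⟩ := (pAb O M).exists_germ_eq (x := x) m
    exact stalkMapAb_germ (𝟙 M) x U hU s
  map_comp {M N P} φ ψ := by
    ext m
    obtain ⟨U, hU, s, rfl⟩ := (pAb O M).exists_germ_eq (x := x) m
    change stalkMapAb (φ ≫ ψ) x _ = stalkMapAb ψ x (stalkMapAb φ x _)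
    rw [stalkMapAb_germ, stalkMapAb_germ, stalkMapAb_germ]
    rfl

lemma stalkFun_map_germ (x : X) {M N : ModSite.Mod O} (φ : M ⟶ N) (U : Opens X) (hx : x ∈ U)
    (s : (pMod O M).obj (op U)) :
    (stalkFun O x).map φ ((pAb O M).germ U x hx s) = (pAb O N).germ U x hx (φ.val.app (op U) s) :=
  stalkMapAb_germ φ x U hx s

end Groth.Agent.Lib.helper21.RSStalk
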