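import Mathlib
import Groth.Prelude.Def_ModSite
import Groth.Prelude.Def_ModSite2
import Groth.Agent.Lib.Helper21.RSStalk1

/-!
# Skyscraper modules on a ringed space and the adjunction `stalk ⊣ skyscraper` (helper21)

Port to ringed spaces of helper25's `StalkSky` (schemes): `sky O x : ModuleCat (O.presheaf.stalk x) ⥤ Mod O`,
`stalkSkyAdj O x : stalkFun O x ⊣ sky O x`, `hom_ext_app`.
-/

set_option autoImplicit false
universe u
open CategoryTheory CategoryTheory.Limits Opposite TopologicalSpace

namespace Groth.Agent.Lib.helper21.RSStalk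

variable {X : TopCat.{u}} (O : TopCat.Sheaf CommRingCat.{u} X) (x : X)

/-- the underlying presheaf of abelian groups of the skyscraper module at `x` with value `N` -/
noncomputable def skyAb (N : ModuleCat.{u} (O.presheaf.stalk x)) : TopCat.Presheaf Ab X where
  obj U := AddCommGrpCat.of (PLift (x ∈ U.unop) → N)
  map {_ _} i := AddCommGrpCat.ofHom
    { toFun := fun s h => s ⟨leOfHom i.unop h.down⟩
      map_zero' := rfl
      map_add' := fun _ _ => rfl }
  map_id _ := rfl
  map_comp _ _ := rfl

variable (N : ModuleCat.{u} (O.presheaf.stalk x))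

noncomputable instance skyModule (U : (Opens X)ᵒᵖ) :
    Module ((O.presheaf ⋙ forget₂ CommRingCat RingCat).obj U) ((skyAb O x N).obj U) :=
  letI : ∀ _ : PLift (x ∈ U.unop), Module (O.presheaf.obj U) N := fun h =>
    Module.compHom N (O.presheaf.germ U.unop x h.down).hom
  inferInstanceAs (Module (O.presheaf.obj U) (PLift (x ∈ U.unop) → N))

lemma sky_smul_apply (U : (Opens X)ᵒᵖ) (r : O.presheaf.obj U) (s : (skyAb O x N).obj U)
    (h : PLift (x ∈ U.unop)) :
    (HSMul.hSMul (α := (O.presheaf ⋙ forget₂ CommRingCat RingCat).obj U) r s : (skyAb O x N).obj U) h =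
      (O.presheaf.germ U.unop x h.down r) • (s h : N) := rfl

lemma skyAb_isSheaf : (skyAb O x N).IsSheaf := by
  rw [TopCat.Presheaf.isSheaf_iff_isSheafUniqueGluing]
  intro ι U sf hsf
  have hex : ∀ h : PLift (x ∈ iSup U), ∃ i, x ∈ U i := fun h => by
    simpa [Opens.mem_iSup] using h.down
  refine ⟨fun h => (sf (hex h).choose : PLift (x ∈ U _) → N) ⟨(hex h).choose_spec⟩, ?_, ?_⟩
  · intro i
    funext h
    have h' : PLift (x ∈ iSup U) := ⟨(Opens.leSupr U i).le h.down⟩
    have := congrFun (hsf (hex h').choose i) ⟨⟨(hex h').choose_spec, h.down⟩⟩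
    exact this
  · intro s hs
    funext h
    have := congrFun (hs (hex h).choose) ⟨(hex h).choose_spec⟩
    exact this

lemma sky_map_smul ⦃U V : (Opens X)ᵒᵖ⦄ (f : U ⟶ V)
    (r : (O.presheaf ⋙ forget₂ CommRingCat RingCat).obj U) (m : (skyAb O x N).obj U) :
    (skyAb O x N).map f (r • m) =
      (O.presheaf ⋙ forget₂ CommRingCat RingCat).map f r • (skyAb O x N).map f m := by
  funext h
  change (O.presheaf.germ U.unop x _ r) • ((m : PLift (x ∈ U.unop) → N) _ : N) =
    (O.presheaf.germ V.unop x h.down (O.presheaf.map f r)) • ((m : PLift (x ∈ U.unop) → N) _ : N)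
  congr 1
  exact (O.presheaf.germ_res_apply f.unop x h.down r).symm

/-- the skyscraper presheaf of modules -/
noncomputable def skyPre : PresheafOfModules.{u} (O.presheaf ⋙ forget₂ CommRingCat RingCat) :=
  PresheafOfModules.ofPresheaf (skyAb O x N) (sky_map_smul O x N)

/-- the skyscraper `O`-module at `x` with value the `O_x`-module `N` -/
noncomputable def skyObj : ModSite.Mod O where
  val := skyPre O x N
  isSheaf := skyAb_isSheaf O x N

lemma skyObj_presheaf : pAb O (skyObj O x N) = skyAb O x N := rfl

section functoriality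

variable {N} {N' N'' : ModuleCat.{u} (O.presheaf.stalk x)}

/-- the map on the underlying presheaves induced by a linear map -/
noncomputable def skyAbMap (g : N ⟶ N') : skyAb O x N ⟶ skyAb O x N' where
  app U := AddCommGrpCat.ofHom
    { toFun := fun s h => g.hom (s h)
      map_zero' := by funext h; exact map_zero g.hom
      map_add' := fun s t => by funext h; exact map_add g.hom _ _ }
  naturality _ _ _ := rfl

/-- functoriality of the skyscraper module -/
noncomputable def skyMap (g : N ⟶ N') : skyObj O x N ⟶ skyObj O x N' :=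
  ⟨PresheafOfModules.homMk (M₁ := skyPre O x N) (M₂ := skyPre O x N') (skyAbMap O x g) (by
    intro U r m
    funext h
    exact map_smul g.hom _ _)⟩

lemma skyMap_app_apply (g : N ⟶ N') (U : Opens X) (s : (pMod O (skyObj O x N)).obj (op U))
    (h : PLift (x ∈ U)) :
    ((skyMap O x g).val.app (op U) s : PLift (x ∈ U) → N') h = g.hom ((s : PLift (x ∈ U) → N) h) := rfl

end functoriality

/-- morphisms of modules are determined by their values on sections -/
lemma hom_ext_app {M M' : ModSite.Mod O} (φ ψ : M ⟶ M')
    (h : ∀ (U : Opens X) (s : (pMod O M).obj (op U)), φ.val.app (op U) s = ψ.val.app (op U) s) :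
    φ = ψ := by
  apply SheafOfModules.hom_ext
  apply PresheafOfModules.hom_ext
  intro U
  obtain ⟨U⟩ := U
  ext s
  exact h U s

/-- the skyscraper functor at `x` -/
noncomputable def sky : ModuleCat.{u} (O.presheaf.stalk x) ⥤ ModSite.Mod O where
  obj N := skyObj O x N
  map g := skyMap O x g
  map_id N := by
    apply hom_ext_app
    intro U s
    rfl
  map_comp g g' := by
    apply hom_ext_app
    intro U s
    rfl

section adjunction

variable (M : ModSite.Mod O)

/-- the unit on underlying presheaves -/
noncomputable def unitAb : pAb O M ⟶ skyAb O x ((stalkFun O x).obj M) where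
  app U := AddCommGrpCat.ofHom
    { toFun := fun s h => (pAb O M).germ U.unop x h.down s
      map_zero' := by funext h; exact map_zero _
      map_add' := fun s t => by funext h; exact map_add _ _ _ }
  naturality U V i := by
    ext s
    funext h
    exact (pAb O M).germ_res_apply i.unop x h.down s

/-- the unit of the adjunction `stalk ⊣ sky` -/
noncomputable def unitApp : M ⟶ (sky O x).obj ((stalkFun O x).obj M) :=
  ⟨PresheafOfModules.homMk (M₁ := pMod O M) (M₂ := skyPre O x ((stalkFun O x).obj M))
    (unitAb O x M) (by
      intro U r m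
      funext h
      exact germ_smul O M x U.unop h.down r m)⟩

lemma unitApp_app_apply (U : Opens X) (s : (pMod O M).obj (op U)) (h : PLift (x ∈ U)) :
    ((unitApp O x M).val.app (op U) s : PLift (x ∈ U) → (pAb O M).stalk x) h =
      (pAb O M).germ U x h.down s := rfl

end adjunction

section counit

/-- the counit on underlying abelian groups -/
noncomputable def counitAb : (skyAb O x N).stalk x ⟶ AddCommGrpCat.of N :=
  colimit.desc ((OpenNhds.inclusion x).op ⋙ skyAb O x N)
    { pt := AddCommGrpCat.of N
      ι :=
        { app := fun U => AddCommGrpCat.ofHom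
            { toFun := fun s => (s : PLift (x ∈ U.unop.1) → N) ⟨U.unop.2⟩
              map_zero' := rfl
              map_add' := fun _ _ => rfl }
          naturality := fun _ _ _ => rfl } }

lemma counitAb_germ (U : Opens X) (hx : x ∈ U) (s : (skyAb O x N).obj (op U)) :
    counitAb O x N ((skyAb O x N).germ U x hx s) = (s : PLift (x ∈ U) → N) ⟨hx⟩ := by
  have := colimit.ι_desc
    ({ pt := AddCommGrpCat.of N
       ι :=
        { app := fun U => AddCommGrpCat.ofHom
            { toFun := fun s => (s : PLift (x ∈ U.unop.1) → N) ⟨U.unop.2⟩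
              map_zero' := rfl
              map_add' := fun _ _ => rfl }
          naturality := fun _ _ _ => rfl } } : Cocone ((OpenNhds.inclusion x).op ⋙ skyAb O x N))
    (op ⟨U, hx⟩)
  exact ConcreteCategory.congr_hom this s

lemma counitAb_smul (r : O.presheaf.stalk x) (m : (pAb O (skyObj O x N)).stalk x) :
    counitAb O x N (r • m) = r • (counitAb O x N m : N) := by
  obtain ⟨U, hyU, s, rfl⟩ := O.presheaf.exists_germ_eq (x := x) r
  obtain ⟨V, hyV, t, rfl⟩ := (pAb O (skyObj O x N)).exists_germ_eq (x := x) m
  have hyW : x ∈ U ⊓ V := ⟨hyU, hyV⟩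
  have hs := O.presheaf.germ_res_apply (homOfLE inf_le_left : U ⊓ V ⟶ U) x hyW s
  have ht := (pAb O (skyObj O x N)).germ_res_apply (homOfLE inf_le_right : U ⊓ V ⟶ V) x hyW t
  rw [← hs, ← ht]
  generalize O.presheaf.map (homOfLE inf_le_left : U ⊓ V ⟶ U).op s = s'
  generalize (pAb O (skyObj O x N)).map (homOfLE inf_le_right : U ⊓ V ⟶ V).op t = t'
  rw [← germ_smul O (skyObj O x N) x (U ⊓ V) hyW s' t']
  erw [counitAb_germ, counitAb_germ]
  rfl

/-- the counit of the adjunction `stalk ⊣ sky` -/
noncomputable def counitApp : (stalkFun O x).obj ((sky O x).obj N) ⟶ N :=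
  ModuleCat.ofHom
    { toFun := fun m => counitAb O x N m
      map_add' := fun a b => map_add _ a b
      map_smul' := fun r m => counitAb_smul O x N r m }

lemma counitApp_germ (U : Opens X) (hx : x ∈ U) (s : (pMod O (skyObj O x N)).obj (op U)) :
    (counitApp O x N).hom ((pAb O (skyObj O x N)).germ U x hx s) = (s : PLift (x ∈ U) → N) ⟨hx⟩ :=
  counitAb_germ O x N U hx s

end counit

section adj

lemma unit_naturality {M M' : ModSite.Mod O} (φ : M ⟶ M') :
    φ ≫ unitApp O x M' = unitApp O x M ≫ (sky O x).map ((stalkFun O x).map φ) := by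
  apply hom_ext_app
  intro U s
  funext h
  exact (stalkFun_map_germ O x φ U h.down s).symm

lemma counit_naturality {N N' : ModuleCat.{u} (O.presheaf.stalk x)} (g : N ⟶ N') :
    (stalkFun O x).map ((sky O x).map g) ≫ counitApp O x N' = counitApp O x N ≫ g := by
  ext m
  obtain ⟨U, hxU, s, rfl⟩ := (pAb O (skyObj O x N)).exists_germ_eq (x := x) m
  have h1 := stalkFun_map_germ O x ((sky O x).map g) U hxU s
  have h2 := counitApp_germ O x N U hxU s
  have h3 := counitApp_germ O x N' U hxU (((sky O x).map g).val.app (op U) s)
  change (counitApp O x N').hom ((stalkFun O x).map ((sky O x).map g)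
    ((pAb O (skyObj O x N)).germ U x hxU s)) =
      g.hom ((counitApp O x N).hom ((pAb O (skyObj O x N)).germ U x hxU s))
  rw [h2]
  exact (congrArg (counitApp O x N').hom h1).trans h3

/-- the adjunction between the stalk functor at `x` and the skyscraper functor at `x` -/
noncomputable def stalkSkyAdj : stalkFun O x ⊣ sky O x :=
  Adjunction.mkOfUnitCounit
    { unit :=
        { app := fun M => unitApp O x M
          naturality := fun _ _ φ => unit_naturality O x φ }
      counit :=
        { app := fun N => counitApp O x N
          naturality := fun _ _ g => counit_naturality O x g }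
      left_triangle := by
        ext M m
        obtain ⟨U, hxU, s, rfl⟩ := (pAb O M).exists_germ_eq (x := x) m
        have h1 := stalkFun_map_germ O x (unitApp O x M) U hxU s
        have h3 := counitApp_germ O x ((stalkFun O x).obj M) U hxU ((unitApp O x M).val.app (op U) s)
        change (counitApp O x _).hom ((stalkFun O x).map (unitApp O x M)
          ((pAb O M).germ U x hxU s)) = (pAb O M).germ U x hxU s
        exact (congrArg (counitApp O x _).hom h1).trans h3
      right_triangle := by
        ext N U s
        funext h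
        exact counitApp_germ O x N U.unop h.down s }

end adj

end Groth.Agent.Lib.helper21.RSStalk
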