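import Mathlib
import Groth.Prelude.Def_ModSite
import Groth.Prelude.Def_ModSite2
import Groth.Agent.Lib.Helper21.RSStalk2

/-!
# The stalk of a pullback of modules along a morphism of ringed spaces (helper21)

Port to ringed spaces of helper25's `StalkPull`: `rm f O_X O_Y c` (the morphism of ringed sites), `stalkRingMap`,
`stalkRingMap_germ`, `pushSkyNatIso`, `stalkPullbackIso : pull ⋙ stalk_x ≅ stalk_{f x} ⋙ extendScalars`.
-/

set_option autoImplicit false
universe u
open CategoryTheory CategoryTheory.Limits Opposite TopologicalSpace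

namespace Groth.Agent.Lib.helper21.RSStalk

variable {X Y : TopCat.{u}} (f : X ⟶ Y) (O_X : TopCat.Sheaf CommRingCat.{u} X)
  (O_Y : TopCat.Sheaf CommRingCat.{u} Y)
  (c : O_Y ⟶ ((Opens.map f).sheafPushforwardContinuous CommRingCat.{u}
      (Opens.grothendieckTopology Y) (Opens.grothendieckTopology X)).obj O_X)

/-- the morphism of ringed sites of a morphism of ringed spaces -/
noncomputable abbrev rm : ModSite.RMor O_X O_Y := ModSite.RMor.ofFlat (Opens.map f) c

/-- the map on stalks of the structure sheaves -/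
noncomputable def stalkRingMap (x : X) : O_Y.presheaf.stalk (f x) ⟶ O_X.presheaf.stalk x :=
  (TopCat.Presheaf.stalkFunctor CommRingCat.{u} (f x)).map
      (show O_Y.presheaf ⟶ (TopCat.Presheaf.pushforward CommRingCat.{u} f).obj O_X.presheaf from c.hom) ≫
    TopCat.Presheaf.stalkPushforward CommRingCat.{u} f O_X.presheaf x

lemma stalkRingMap_germ (x : X) (V : Opens Y) (hx : f x ∈ V) (r : O_Y.presheaf.obj (op V)) :
    stalkRingMap f O_X O_Y c x (O_Y.presheaf.germ V (f x) hx r) =
      O_X.presheaf.germ ((Opens.map f).obj V) x hx (c.hom.app (op V) r) := by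
  unfold stalkRingMap
  rw [CommRingCat.comp_apply]
  erw [TopCat.Presheaf.stalkFunctor_map_germ_apply]
  exact ConcreteCategory.congr_hom
    (TopCat.Presheaf.stalkPushforward_germ CommRingCat.{u} f O_X.presheaf V x hx) (c.hom.app (op V) r)

lemma push_smul (M : ModSite.Mod O_X) (V : Opens Y) (r : O_Y.presheaf.obj (op V))
    (s : (pMod O_Y ((rm f O_X O_Y c).push.obj M)).obj (op V)) :
    r • s = (HSMul.hSMul (α := O_X.presheaf.obj (op ((Opens.map f).obj V)))
      (β := (pMod O_X M).obj (op ((Opens.map f).obj V))) (c.hom.app (op V) r) s) := rfl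

variable (x : X) (N : ModuleCat.{u} (O_X.presheaf.stalk x))

/-- restriction of scalars along the stalk map -/
noncomputable abbrev resN : ModuleCat.{u} (O_Y.presheaf.stalk (f x)) :=
  (ModuleCat.restrictScalars (stalkRingMap f O_X O_Y c x).hom).obj N

/-- comparison on underlying presheaves -/
noncomputable def pushSkyAbHom :
    pAb O_Y ((rm f O_X O_Y c).push.obj ((sky O_X x).obj N)) ⟶
      skyAb O_Y (f x) (resN f O_X O_Y c x N) where
  app V := AddCommGrpCat.ofHom
    { toFun := fun s h => (s : PLift (x ∈ (Opens.map f).obj V.unop) → N) ⟨h.down⟩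
      map_zero' := rfl
      map_add' := fun _ _ => rfl }
  naturality _ _ _ := rfl

/-- comparison on underlying presheaves, inverse -/
noncomputable def pushSkyAbInv :
    skyAb O_Y (f x) (resN f O_X O_Y c x N) ⟶
      pAb O_Y ((rm f O_X O_Y c).push.obj ((sky O_X x).obj N)) where
  app V := AddCommGrpCat.ofHom
    { toFun := fun s h => (s : PLift (f x ∈ V.unop) → N) ⟨h.down⟩
      map_zero' := rfl
      map_add' := fun _ _ => rfl }
  naturality _ _ _ := rfl

/-- `f_* (sky_x N) ⟶ sky_{f x} (N restricted to O_{Y, f x})` -/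
noncomputable def pushSkyHom :
    (rm f O_X O_Y c).push.obj ((sky O_X x).obj N) ⟶ (sky O_Y (f x)).obj (resN f O_X O_Y c x N) :=
  ⟨PresheafOfModules.homMk (M₁ := pMod O_Y ((rm f O_X O_Y c).push.obj ((sky O_X x).obj N)))
    (M₂ := skyPre O_Y (f x) (resN f O_X O_Y c x N))
    (pushSkyAbHom f O_X O_Y c x N) (by
      intro V r m
      funext h
      change (O_X.presheaf.germ ((Opens.map f).obj V.unop) x h.down (c.hom.app V r)) •
          ((m : PLift (x ∈ (Opens.map f).obj V.unop) → N) ⟨h.down⟩ : N) =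
        (stalkRingMap f O_X O_Y c x (O_Y.presheaf.germ V.unop (f x) h.down r)) •
          ((m : PLift (x ∈ (Opens.map f).obj V.unop) → N) ⟨h.down⟩ : N)
      rw [stalkRingMap_germ])⟩

/-- `sky_{f x} (N restricted to O_{Y, f x}) ⟶ f_* (sky_x N)` -/
noncomputable def pushSkyInv :
    (sky O_Y (f x)).obj (resN f O_X O_Y c x N) ⟶ (rm f O_X O_Y c).push.obj ((sky O_X x).obj N) :=
  ⟨PresheafOfModules.homMk (M₂ := pMod O_Y ((rm f O_X O_Y c).push.obj ((sky O_X x).obj N)))
    (M₁ := skyPre O_Y (f x) (resN f O_X O_Y c x N))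
    (pushSkyAbInv f O_X O_Y c x N) (by
      intro V r m
      funext h
      change (stalkRingMap f O_X O_Y c x (O_Y.presheaf.germ V.unop (f x) h.down r)) •
          ((m : PLift (f x ∈ V.unop) → N) ⟨h.down⟩ : N) =
        (O_X.presheaf.germ ((Opens.map f).obj V.unop) x h.down (c.hom.app V r)) •
          ((m : PLift (f x ∈ V.unop) → N) ⟨h.down⟩ : N)
      rw [stalkRingMap_germ])⟩

/-- `f_* (sky_x N) ≅ sky_{f x} (N restricted to O_{Y, f x})` -/
noncomputable def pushSkyIso :
    (rm f O_X O_Y c).push.obj ((sky O_X x).obj N) ≅ (sky O_Y (f x)).obj (resN f O_X O_Y c x N) where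
  hom := pushSkyHom f O_X O_Y c x N
  inv := pushSkyInv f O_X O_Y c x N
  hom_inv_id := by
    apply hom_ext_app
    intro V s
    rfl
  inv_hom_id := by
    apply hom_ext_app
    intro V s
    rfl

/-- the natural isomorphism `sky_x ⋙ f_* ≅ restrictScalars ⋙ sky_{f x}` -/
noncomputable def pushSkyNatIso :
    sky O_X x ⋙ (rm f O_X O_Y c).push ≅
      ModuleCat.restrictScalars (stalkRingMap f O_X O_Y c x).hom ⋙ sky O_Y (f x) :=
  NatIso.ofComponents (fun N => pushSkyIso f O_X O_Y c x N) (by
    intro N N' g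
    apply hom_ext_app
    intro V s
    rfl)

/-- the adjunction `f^* ⋙ stalk_x ⊣ restrictScalars ⋙ sky_{f x}` -/
noncomputable def pullStalkAdj :
    (rm f O_X O_Y c).pull ⋙ stalkFun O_X x ⊣
      ModuleCat.restrictScalars (stalkRingMap f O_X O_Y c x).hom ⋙ sky O_Y (f x) :=
  (((rm f O_X O_Y c).adj).comp (stalkSkyAdj O_X x)).ofNatIsoRight (pushSkyNatIso f O_X O_Y c x)

/-- the adjunction `stalk_{f x} ⋙ extendScalars ⊣ restrictScalars ⋙ sky_{f x}` -/
noncomputable def stalkExtendAdj :
    stalkFun O_Y (f x) ⋙ ModuleCat.extendScalars.{u, u, u} (stalkRingMap f O_X O_Y c x).hom ⊣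
      ModuleCat.restrictScalars (stalkRingMap f O_X O_Y c x).hom ⋙ sky O_Y (f x) :=
  (stalkSkyAdj O_Y (f x)).comp
    (ModuleCat.extendRestrictScalarsAdj.{u, u, u} (stalkRingMap f O_X O_Y c x).hom)

/-- **The stalk of a pullback**: `(f^* A)_x ≅ A_{f x} ⊗_{O_{Y, f x}} O_{X, x}`, naturally in `A`. -/
noncomputable def stalkPullbackIso :
    (rm f O_X O_Y c).pull ⋙ stalkFun O_X x ≅
      stalkFun O_Y (f x) ⋙ ModuleCat.extendScalars.{u, u, u} (stalkRingMap f O_X O_Y c x).hom :=
  (pullStalkAdj f O_X O_Y c x).leftAdjointUniq (stalkExtendAdj f O_X O_Y c x)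

end Groth.Agent.Lib.helper21.RSStalk
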