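import Mathlib
import Groth.Prelude.Def_ModSite
import Groth.Prelude.Def_ModSite2
import Groth.Agent.Lib.Helper21.RSStalk3
import Groth.Agent.Lib.Helper21.ModSh

/-!
# Flat morphisms of ringed spaces have exact inverse image (helper21, S6845)

`mono_stalkFun_map`, `mono_of_mono_stalkFun_map`: monomorphisms of modules on a ringed space are detected on
stalks; `preservesFiniteLimits_pull_of_flat`.
-/

set_option autoImplicit false
universe u
open CategoryTheory CategoryTheory.Limits Opposite TopologicalSpace

namespace Groth.Agent.Lib.helper21.RSStalk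

section mono

variable {X : TopCat.{u}} (O : TopCat.Sheaf CommRingCat.{u} X)

/-- the underlying morphism of abelian sheaves -/
noncomputable abbrev toAbMap {M N : ModSite.Mod O} (φ : M ⟶ N) :
    (ModSite.toAb M : TopCat.Sheaf Ab X) ⟶ ModSite.toAb N :=
  (SheafOfModules.toSheaf (ModSite.ringSh O)).map φ

lemma mono_stalkFun_map {M N : ModSite.Mod O} (φ : M ⟶ N) [Mono φ] (x : X) :
    Mono ((stalkFun O x).map φ) := by
  haveI := Groth.Agent.Lib.Helper21.ModSh.toSheaf_preservesLimits (ModSite.ringSh O)
  haveI : PreservesFiniteLimits (SheafOfModules.toSheaf.{u} (ModSite.ringSh O)) :=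
    PreservesLimitsOfSize.preservesFiniteLimits.{u, u} _
  haveI : PreservesLimitsOfShape WalkingCospan (SheafOfModules.toSheaf.{u} (ModSite.ringSh O)) :=
    inferInstance
  haveI : (SheafOfModules.toSheaf.{u} (ModSite.ringSh O)).PreservesMonomorphisms :=
    preservesMonomorphisms_of_preservesLimitsOfShape _
  have h0 : Mono ((SheafOfModules.toSheaf.{u} (ModSite.ringSh O)).map φ) :=
    (SheafOfModules.toSheaf.{u} (ModSite.ringSh O)).map_mono φ
  have h := (TopCat.Presheaf.mono_iff_stalk_mono (toAbMap O φ)).1 h0 x
  rw [ModuleCat.mono_iff_injective]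
  have h2 : Function.Injective ((TopCat.Presheaf.stalkFunctor Ab x).map (toAbMap O φ).hom) :=
    (AddCommGrpCat.mono_iff_injective _).1 h
  exact h2

lemma mono_of_mono_stalkFun_map {M N : ModSite.Mod O} (φ : M ⟶ N)
    (h : ∀ x : X, Mono ((stalkFun O x).map φ)) : Mono φ := by
  haveI : ∀ x : X, Mono ((TopCat.Presheaf.stalkFunctor Ab x).map (toAbMap O φ).hom) := by
    intro x
    rw [AddCommGrpCat.mono_iff_injective]
    have := (ModuleCat.mono_iff_injective _).1 (h x)
    exact this
  haveI : Mono (toAbMap O φ) := TopCat.Presheaf.mono_of_stalk_mono (toAbMap O φ)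
  exact (SheafOfModules.toSheaf (ModSite.ringSh O)).mono_of_mono_map this

end mono

section main

variable {X Y : TopCat.{u}} (f : X ⟶ Y) (O_X : TopCat.Sheaf CommRingCat.{u} X)
  (O_Y : TopCat.Sheaf CommRingCat.{u} Y)
  (c : O_Y ⟶ ((Opens.map f).sheafPushforwardContinuous CommRingCat.{u}
      (Opens.grothendieckTopology Y) (Opens.grothendieckTopology X)).obj O_X)

attribute [local instance] preservesBinaryBiproducts_of_preservesBinaryCoproducts in
lemma additive_pull : (rm f O_X O_Y c).pull.Additive := by
  haveI : (rm f O_X O_Y c).pull.IsLeftAdjoint := (rm f O_X O_Y c).adj.isLeftAdjoint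
  exact Functor.additive_of_preservesBinaryBiproducts _

theorem preservesFiniteLimits_pull_of_flat
    (hflat : ∀ x : X, (stalkRingMap f O_X O_Y c x).hom.Flat) :
    PreservesFiniteLimits (rm f O_X O_Y c).pull := by
  let P := (rm f O_X O_Y c).pull
  haveI : P.IsLeftAdjoint := (rm f O_X O_Y c).adj.isLeftAdjoint
  haveI : P.Additive := additive_pull f O_X O_Y c
  haveI : P.PreservesMonomorphisms := by
    constructor
    intro G' G φ hφ
    apply mono_of_mono_stalkFun_map O_X
    intro x
    haveI := mono_stalkFun_map O_Y φ (f x)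
    haveI hE : PreservesFiniteLimits
        (ModuleCat.extendScalars.{u, u, u} (stalkRingMap f O_X O_Y c x).hom) :=
      ModuleCat.preservesFiniteLimits_extendScalars_of_flat (hflat x)
    haveI hE2 : PreservesLimitsOfShape WalkingCospan
        (ModuleCat.extendScalars.{u, u, u} (stalkRingMap f O_X O_Y c x).hom) := inferInstance
    haveI hE3 : (ModuleCat.extendScalars.{u, u, u}
        (stalkRingMap f O_X O_Y c x).hom).PreservesMonomorphisms :=
      preservesMonomorphisms_of_preservesLimitsOfShape _
    have hm : Mono ((stalkFun O_Y (f x) ⋙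
        ModuleCat.extendScalars.{u, u, u} (stalkRingMap f O_X O_Y c x).hom).map φ) :=
      (ModuleCat.extendScalars.{u, u, u} (stalkRingMap f O_X O_Y c x).hom).map_mono
        ((stalkFun O_Y (f x)).map φ)
    have e := NatIso.naturality_2 (stalkPullbackIso f O_X O_Y c x) φ
    change Mono ((P ⋙ stalkFun O_X x).map φ)
    rw [← e]
    have h1 : Mono ((stalkPullbackIso f O_X O_Y c x).hom.app G') := IsIso.mono_of_iso _
    have h2 : Mono ((stalkPullbackIso f O_X O_Y c x).inv.app G) := IsIso.mono_of_iso _
    exact @mono_comp _ _ _ _ _ _ h1 _ (@mono_comp _ _ _ _ _ _ hm _ h2)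
  haveI : P.PreservesHomology := Functor.preservesHomology_of_preservesMonos_and_cokernels _
  exact Functor.preservesFiniteLimits_of_preservesHomology P

end main

end Groth.Agent.Lib.helper21.RSStalk
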