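import Mathlib
import Groth.Prelude.Def_ModSite
import Groth.Prelude.Def_ModSite2
import Groth.Agent.Lib.Helper21.RSStalk1
import Groth.Agent.Lib.Helper21.TensorW

/-!
# Stalks of tensor products of presheaves of modules on a ringed space (helper21)
-/

set_option autoImplicit false
universe u
open CategoryTheory CategoryTheory.Limits Opposite TopologicalSpace MonoidalCategory TensorProduct

namespace Groth.Agent.Lib.helper21.RSStalk

open Groth.Agent.Lib.Helper21.TensorAlg Groth.Agent.Lib.Helper21.TensorW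

section pre

variable {X : TopCat.{u}} (O : TopCat.Sheaf CommRingCat.{u} X)

/-- presheaves of modules over the structure presheaf -/
abbrev PMod := PresheafOfModules.{u} (O.presheaf ⋙ forget₂ CommRingCat.{u} RingCat.{u})

variable {O}
variable (P Q : PMod O) (x : X)

/-- the stalk of a presheaf of modules, as a type -/
abbrev St : Type u := ↑(TopCat.Presheaf.stalk P.presheaf x)

/-- the germ map as an additive map -/
noncomputable def gm (U : Opens X) (hx : x ∈ U) : P.obj (op U) →+ St P x :=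
  (TopCat.Presheaf.germ P.presheaf U x hx).hom

/-- the germ map of the structure presheaf as a ring homomorphism -/
noncomputable def gr (U : Opens X) (hx : x ∈ U) : O.presheaf.obj (op U) →+* O.presheaf.stalk x :=
  (TopCat.Presheaf.germ O.presheaf U x hx).hom

lemma gm_smul (U : Opens X) (hx : x ∈ U) (a : O.presheaf.obj (op U)) (p : P.obj (op U)) :
    gm P x U hx (a • p) = gr (O := O) x U hx a • gm P x U hx p :=
  PresheafOfModules.germ_smul (R := O.presheaf) P x U hx a p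

lemma gm_res {U V : Opens X} (i : U ⟶ V) (hx : x ∈ U) (p : P.obj (op V)) :
    gm P x U hx (rmap P i.op p) = gm P x V (i.le hx) p :=
  TopCat.Presheaf.germ_res_apply P.presheaf i x hx p

lemma gr_res {U V : Opens X} (i : U ⟶ V) (hx : x ∈ U) (a : O.presheaf.obj (op V)) :
    gr (O := O) x U hx (O.presheaf.map i.op a) = gr x V (i.le hx) a :=
  TopCat.Presheaf.germ_res_apply O.presheaf i x hx a

lemma exists_gm_eq (m : St P x) : ∃ (U : Opens X) (hx : x ∈ U) (p : P.obj (op U)), gm P x U hx p = m :=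
  TopCat.Presheaf.exists_germ_eq P.presheaf m

lemma exists_gr_eq (r : O.presheaf.stalk x) :
    ∃ (U : Opens X) (hx : x ∈ U) (a : O.presheaf.obj (op U)), gr (O := O) x U hx a = r :=
  TopCat.Presheaf.exists_germ_eq O.presheaf r

lemma gm_eq {U V : Opens X} (hU : x ∈ U) (hV : x ∈ V) (p : P.obj (op U)) (p' : P.obj (op V))
    (h : gm P x U hU p = gm P x V hV p') :
    ∃ (W : Opens X) (_ : x ∈ W) (iU : W ⟶ U) (iV : W ⟶ V), rmap P iU.op p = rmap P iV.op p' :=
  TopCat.Presheaf.germ_eq P.presheaf x hU hV p p' h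

/-- restriction to a smaller open, along `W ≤ U` -/
noncomputable abbrev rs {U W : Opens X} (h : W ≤ U) : P.obj (op U) →+ P.obj (op W) :=
  rmap P (homOfLE h).op

lemma rs_rs {U V W : Opens X} (h : V ≤ U) (h' : W ≤ V) (p : P.obj (op U)) :
    rs P h' (rs P h p) = rs P (h'.trans h) p := by
  have := rmap_comp P (homOfLE h).op (homOfLE h').op p
  exact this.symm

lemma gm_rs {U W : Opens X} (h : W ≤ U) (hx : x ∈ W) (p : P.obj (op U)) :
    gm P x W hx (rs P h p) = gm P x U (h hx) p :=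
  gm_res P x (homOfLE h) hx p

lemma exists_rep_le (m : St P x) (W₀ : Opens X) (h₀ : x ∈ W₀) :
    ∃ (W : Opens X) (_ : W ≤ W₀) (hx : x ∈ W) (p : P.obj (op W)), gm P x W hx p = m := by
  obtain ⟨U, hU, p, rfl⟩ := exists_gm_eq P x m
  exact ⟨U ⊓ W₀, inf_le_right, ⟨hU, h₀⟩, rs P inf_le_left p, gm_rs P x _ _ p⟩

lemma gm_eq_le {U V : Opens X} (hU : x ∈ U) (hV : x ∈ V) (p : P.obj (op U)) (p' : P.obj (op V))
    (h : gm P x U hU p = gm P x V hV p') :
    ∃ (W : Opens X) (_ : x ∈ W) (hWU : W ≤ U) (hWV : W ≤ V), rs P hWU p = rs P hWV p' := by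
  obtain ⟨W, hW, iU, iV, e⟩ := gm_eq P x hU hV p p' h
  exact ⟨W, hW, iU.le, iV.le, e⟩

/-- the germ of a pure tensor -/
noncomputable def pt (U : Opens X) (hx : x ∈ U) (p : P.obj (op U)) (q : Q.obj (op U)) : St (P ⊗ Q) x :=
  gm (P ⊗ Q) x U hx (p ⊗ₜ[O.presheaf.obj (op U)] q)

lemma pt_rs {U W : Opens X} (h : W ≤ U) (hx : x ∈ W) (p : P.obj (op U)) (q : Q.obj (op U)) :
    pt P Q x W hx (rs P h p) (rs Q h q) = pt P Q x U (h hx) p q := by
  have := gm_rs (P ⊗ Q) x h hx (p ⊗ₜ[O.presheaf.obj (op U)] q)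
  exact Eq.trans rfl this

lemma pt_congr {U V : Opens X} (hU : x ∈ U) (hV : x ∈ V) (p : P.obj (op U)) (q : Q.obj (op U))
    (p' : P.obj (op V)) (q' : Q.obj (op V)) (hp : gm P x U hU p = gm P x V hV p')
    (hq : gm Q x U hU q = gm Q x V hV q') : pt P Q x U hU p q = pt P Q x V hV p' q' := by
  obtain ⟨W₁, h₁, h₁U, h₁V, e₁⟩ := gm_eq_le P x hU hV p p' hp
  obtain ⟨W₂, h₂, h₂U, h₂V, e₂⟩ := gm_eq_le Q x hU hV q q' hq
  have hW : x ∈ W₁ ⊓ W₂ := ⟨h₁, h₂⟩
  have hWU : W₁ ⊓ W₂ ≤ U := inf_le_left.trans h₁U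
  have hWV : W₁ ⊓ W₂ ≤ V := inf_le_left.trans h₁V
  rw [← pt_rs P Q x hWU hW p q, ← pt_rs P Q x hWV hW p' q']
  have ep : rs P hWU p = rs P hWV p' := by
    rw [← rs_rs P h₁U inf_le_left p, ← rs_rs P h₁V inf_le_left p', e₁]
  have eq : rs Q hWU q = rs Q hWV q' := by
    rw [← rs_rs Q h₂U inf_le_right q, ← rs_rs Q h₂V inf_le_right q', e₂]
  rw [ep, eq]

/-- a chosen open on which a stalk element has a representative -/
noncomputable def repU (m : St P x) : Opens X := (exists_gm_eq P x m).choose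

lemma repU_mem (m : St P x) : x ∈ repU P x m := (exists_gm_eq P x m).choose_spec.choose

/-- a chosen representative of a stalk element -/
noncomputable def rep (m : St P x) : P.obj (op (repU P x m)) :=
  (exists_gm_eq P x m).choose_spec.choose_spec.choose

lemma gm_rep (m : St P x) : gm P x (repU P x m) (repU_mem P x m) (rep P x m) = m :=
  (exists_gm_eq P x m).choose_spec.choose_spec.choose_spec

/-- the pairing `P_x × Q_x → (P ⊗ Q)_x`, as a function -/
noncomputable def pairFun (m : St P x) (n : St Q x) : St (P ⊗ Q) x :=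
  pt P Q x (repU P x m ⊓ repU Q x n) ⟨repU_mem P x m, repU_mem Q x n⟩
    (rs P inf_le_left (rep P x m)) (rs Q inf_le_right (rep Q x n))

lemma pairFun_gm (U : Opens X) (hU : x ∈ U) (p : P.obj (op U)) (q : Q.obj (op U)) :
    pairFun P Q x (gm P x U hU p) (gm Q x U hU q) = pt P Q x U hU p q := by
  unfold pairFun
  apply pt_congr
  · rw [gm_rs, gm_rep]
  · rw [gm_rs, gm_rep]

lemma exists_rep₂ (m : St P x) (n : St Q x) :
    ∃ (W : Opens X) (hx : x ∈ W) (p : P.obj (op W)) (q : Q.obj (op W)),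
      gm P x W hx p = m ∧ gm Q x W hx q = n := by
  obtain ⟨U, hU, p, rfl⟩ := exists_gm_eq P x m
  obtain ⟨V, hVU, hV, q, rfl⟩ := exists_rep_le Q x n U hU
  exact ⟨V, hV, rs P hVU p, q, gm_rs P x _ _ p, rfl⟩

lemma exists_rep₃ (m m' : St P x) (n : St Q x) :
    ∃ (W : Opens X) (hx : x ∈ W) (p p' : P.obj (op W)) (q : Q.obj (op W)),
      gm P x W hx p = m ∧ gm P x W hx p' = m' ∧ gm Q x W hx q = n := by
  obtain ⟨U, hU, p, q, rfl, rfl⟩ := exists_rep₂ P Q x m n
  obtain ⟨V, hVU, hV, p', rfl⟩ := exists_rep_le P x m' U hU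
  exact ⟨V, hV, rs P hVU p, p', rs Q hVU q, gm_rs P x _ _ p, rfl, gm_rs Q x _ _ q⟩

lemma exists_rep₃' (m : St P x) (n n' : St Q x) :
    ∃ (W : Opens X) (hx : x ∈ W) (p : P.obj (op W)) (q q' : Q.obj (op W)),
      gm P x W hx p = m ∧ gm Q x W hx q = n ∧ gm Q x W hx q' = n' := by
  obtain ⟨U, hU, p, q, rfl, rfl⟩ := exists_rep₂ P Q x m n
  obtain ⟨V, hVU, hV, q', rfl⟩ := exists_rep_le Q x n' U hU
  exact ⟨V, hV, rs P hVU p, rs Q hVU q, q', gm_rs P x _ _ p, gm_rs Q x _ _ q, rfl⟩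

lemma exists_rep_r (r : O.presheaf.stalk x) (m : St P x) (n : St Q x) :
    ∃ (W : Opens X) (hx : x ∈ W) (a : O.presheaf.obj (op W)) (p : P.obj (op W)) (q : Q.obj (op W)),
      gr (O := O) x W hx a = r ∧ gm P x W hx p = m ∧ gm Q x W hx q = n := by
  obtain ⟨U, hU, p, q, rfl, rfl⟩ := exists_rep₂ P Q x m n
  obtain ⟨V, hV, a, rfl⟩ := exists_gr_eq (O := O) x r
  refine ⟨V ⊓ U, ⟨hV, hU⟩, O.presheaf.map (homOfLE inf_le_left).op a, rs P inf_le_right p,
    rs Q inf_le_right q, ?_, gm_rs P x _ _ p, gm_rs Q x _ _ q⟩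
  exact gr_res x (homOfLE inf_le_left) _ a

lemma pairFun_add_left (m m' : St P x) (n : St Q x) :
    pairFun P Q x (m + m') n = pairFun P Q x m n + pairFun P Q x m' n := by
  obtain ⟨W, hW, p, p', q, rfl, rfl, rfl⟩ := exists_rep₃ P Q x m m' n
  rw [← map_add, pairFun_gm, pairFun_gm, pairFun_gm]
  unfold pt
  rw [TensorProduct.add_tmul]
  exact map_add (gm (P ⊗ Q) x W hW) (p ⊗ₜ[O.presheaf.obj (op W)] q) (p' ⊗ₜ[O.presheaf.obj (op W)] q)

lemma pairFun_add_right (m : St P x) (n n' : St Q x) :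
    pairFun P Q x m (n + n') = pairFun P Q x m n + pairFun P Q x m n' := by
  obtain ⟨W, hW, p, q, q', rfl, rfl, rfl⟩ := exists_rep₃' P Q x m n n'
  rw [← map_add, pairFun_gm, pairFun_gm, pairFun_gm]
  unfold pt
  rw [TensorProduct.tmul_add]
  exact map_add (gm (P ⊗ Q) x W hW) (p ⊗ₜ[O.presheaf.obj (op W)] q) (p ⊗ₜ[O.presheaf.obj (op W)] q')

lemma pairFun_smul (r : O.presheaf.stalk x) (m : St P x) (n : St Q x) :
    pairFun P Q x (r • m) n = pairFun P Q x m (r • n) := by
  obtain ⟨W, hW, a, p, q, rfl, rfl, rfl⟩ := exists_rep_r P Q x r m n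
  rw [← gm_smul, ← gm_smul, pairFun_gm, pairFun_gm]
  unfold pt
  exact congrArg (gm (P ⊗ Q) x W hW) (TensorProduct.smul_tmul (R := O.presheaf.obj (op W))
    (R' := O.presheaf.obj (op W)) a p q)

/-- the pairing as a biadditive map -/
noncomputable def pairHom : St P x →+ St Q x →+ St (P ⊗ Q) x :=
  AddMonoidHom.mk' (fun m => AddMonoidHom.mk' (fun n => pairFun P Q x m n) (pairFun_add_right P Q x m))
    (fun m m' => by ext n; exact pairFun_add_left P Q x m m' n)

/-- `P_x ⊗ Q_x → (P ⊗ Q)_x` -/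
noncomputable def psi : St P x ⊗[O.presheaf.stalk x] St Q x →+ St (P ⊗ Q) x :=
  TensorProduct.liftAddHom (pairHom P Q x) (pairFun_smul P Q x)

lemma psi_tmul (m : St P x) (n : St Q x) : psi P Q x (m ⊗ₜ n) = pairFun P Q x m n := rfl

/-- the legs of the cocone defining `(P ⊗ Q)_x → P_x ⊗ Q_x` -/
noncomputable def legφ (U : Opens X) (hx : x ∈ U) :
    P.obj (op U) ⊗[O.presheaf.obj (op U)] Q.obj (op U) →+ St P x ⊗[O.presheaf.stalk x] St Q x :=
  semiTensor (gr (O := O) x U hx) (gm P x U hx) (gm_smul P x U hx) (gm Q x U hx) (gm_smul Q x U hx)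

lemma legφ_tmul (U : Opens X) (hx : x ∈ U) (p : P.obj (op U)) (q : Q.obj (op U)) :
    legφ P Q x U hx (p ⊗ₜ q) = gm P x U hx p ⊗ₜ gm Q x U hx q := rfl

lemma legφ_rs {U W : Opens X} (h : W ≤ U) (hx : x ∈ W)
    (t : P.obj (op U) ⊗[O.presheaf.obj (op U)] Q.obj (op U)) :
    legφ P Q x W hx (rs (P ⊗ Q) h t) = legφ P Q x U (h hx) t := by
  induction t using TensorProduct.induction_on with
  | zero =>
    exact (congrArg (legφ P Q x W hx) (map_zero (rs (P ⊗ Q) h))).trans
      ((map_zero _).trans (map_zero (legφ P Q x U (h hx))).symm)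
  | tmul p q =>
    change legφ P Q x W hx (rs P h p ⊗ₜ rs Q h q) = _
    rw [legφ_tmul, legφ_tmul, gm_rs, gm_rs]
  | add t t' ht ht' =>
    exact (congrArg (legφ P Q x W hx) (map_add (rs (P ⊗ Q) h) t t')).trans
      ((map_add (legφ P Q x W hx) _ _).trans
        ((congrArg₂ (· + ·) ht ht').trans (map_add (legφ P Q x U (h hx)) t t').symm))

/-- the cocone defining `(P ⊗ Q)_x → P_x ⊗ Q_x` -/
noncomputable def phiCocone : Cocone ((OpenNhds.inclusion x).op ⋙ (P ⊗ Q).presheaf) where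
  pt := AddCommGrpCat.of (St P x ⊗[O.presheaf.stalk x] St Q x)
  ι :=
    { app := fun U => AddCommGrpCat.ofHom (legφ P Q x U.unop.1 U.unop.2)
      naturality := fun U V f => by
        ext t
        have h : V.unop.1 ≤ U.unop.1 := leOfHom f.unop
        have e : (OpenNhds.inclusion x).map f.unop = homOfLE h := Subsingleton.elim _ _
        have := legφ_rs P Q x h V.unop.2 t
        change legφ P Q x V.unop.1 V.unop.2 (rmap (P ⊗ Q) ((OpenNhds.inclusion x).map f.unop).op t) = _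
        rw [e]
        exact this }

/-- `(P ⊗ Q)_x → P_x ⊗ Q_x` -/
noncomputable def phi : St (P ⊗ Q) x →+ St P x ⊗[O.presheaf.stalk x] St Q x :=
  (colimit.desc _ (phiCocone P Q x)).hom

lemma phi_gm (U : Opens X) (hx : x ∈ U) (t : P.obj (op U) ⊗[O.presheaf.obj (op U)] Q.obj (op U)) :
    phi P Q x (gm (P ⊗ Q) x U hx t) = legφ P Q x U hx t := by
  have := colimit.ι_desc (phiCocone P Q x) (op (⟨U, hx⟩ : OpenNhds x))
  exact congrArg (fun f => f.hom t) this

lemma phi_pt (U : Opens X) (hx : x ∈ U) (p : P.obj (op U)) (q : Q.obj (op U)) :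
    phi P Q x (pt P Q x U hx p q) = gm P x U hx p ⊗ₜ gm Q x U hx q :=
  phi_gm P Q x U hx (p ⊗ₜ q)

lemma phi_psi (t : St P x ⊗[O.presheaf.stalk x] St Q x) : phi P Q x (psi P Q x t) = t := by
  induction t using TensorProduct.induction_on with
  | zero => rw [map_zero, map_zero]
  | tmul m n =>
    obtain ⟨W, hW, p, q, rfl, rfl⟩ := exists_rep₂ P Q x m n
    rw [psi_tmul, pairFun_gm, phi_pt]
  | add t t' ht ht' => rw [map_add, map_add, ht, ht']

lemma psi_legφ (U : Opens X) (hU : x ∈ U)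
    (t : P.obj (op U) ⊗[O.presheaf.obj (op U)] Q.obj (op U)) :
    psi P Q x (legφ P Q x U hU t) = gm (P ⊗ Q) x U hU t := by
  induction t using TensorProduct.induction_on with
  | zero =>
    exact (congrArg (psi P Q x) (map_zero (legφ P Q x U hU))).trans
      ((map_zero (psi P Q x)).trans (map_zero (gm (P ⊗ Q) x U hU)).symm)
  | tmul p q =>
    exact (congrArg (psi P Q x) (legφ_tmul P Q x U hU p q)).trans
      ((psi_tmul P Q x _ _).trans (pairFun_gm P Q x U hU p q))
  | add t t' ht ht' =>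
    exact (congrArg (psi P Q x) (map_add (legφ P Q x U hU) t t')).trans
      ((map_add (psi P Q x) _ _).trans
        ((congrArg₂ (· + ·) ht ht').trans (map_add (gm (P ⊗ Q) x U hU) t t').symm))

lemma psi_phi (s : St (P ⊗ Q) x) : psi P Q x (phi P Q x s) = s := by
  obtain ⟨U, hU, t, rfl⟩ := exists_gm_eq (P ⊗ Q) x s
  exact (congrArg (psi P Q x) (phi_gm P Q x U hU t)).trans (psi_legφ P Q x U hU t)

lemma legφ_smul (U : Opens X) (hU : x ∈ U) (a : O.presheaf.obj (op U))
    (t : P.obj (op U) ⊗[O.presheaf.obj (op U)] Q.obj (op U)) :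
    legφ P Q x U hU (a • t) = gr (O := O) x U hU a • legφ P Q x U hU t := by
  induction t using TensorProduct.induction_on with
  | zero => rw [smul_zero, map_zero, smul_zero]
  | tmul p q =>
    rw [TensorProduct.smul_tmul', legφ_tmul, legφ_tmul, gm_smul, TensorProduct.smul_tmul']
  | add t t' ht ht' => rw [smul_add, map_add, map_add, ht, ht', smul_add]

lemma exists_rep_rs (r : O.presheaf.stalk x) (m : St P x) :
    ∃ (W : Opens X) (hx : x ∈ W) (a : O.presheaf.obj (op W)) (p : P.obj (op W)),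
      gr (O := O) x W hx a = r ∧ gm P x W hx p = m := by
  obtain ⟨U, hU, p, rfl⟩ := exists_gm_eq P x m
  obtain ⟨V, hV, a, rfl⟩ := exists_gr_eq (O := O) x r
  refine ⟨V ⊓ U, ⟨hV, hU⟩, O.presheaf.map (homOfLE inf_le_left).op a, rs P inf_le_right p,
    ?_, gm_rs P x _ _ p⟩
  exact gr_res x (homOfLE inf_le_left) _ a

lemma phi_smul (r : O.presheaf.stalk x) (s : St (P ⊗ Q) x) :
    phi P Q x (r • s) = r • phi P Q x s := by
  obtain ⟨W, hW, a, t, rfl, rfl⟩ := exists_rep_rs (P ⊗ Q) x r s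
  rw [← gm_smul]
  exact (phi_gm P Q x W hW _).trans ((legφ_smul P Q x W hW a t).trans
    (congrArg (fun z => gr (O := O) x W hW a • z) (phi_gm P Q x W hW t).symm))

/-- the stalk of a tensor product of presheaves of modules -/
noncomputable def stalkTensorEquiv :
    St (P ⊗ Q) x ≃ₗ[O.presheaf.stalk x] St P x ⊗[O.presheaf.stalk x] St Q x where
  toFun := phi P Q x
  invFun := psi P Q x
  map_add' := map_add (phi P Q x)
  map_smul' := phi_smul P Q x
  left_inv := psi_phi P Q x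
  right_inv := phi_psi P Q x

lemma stalkTensorEquiv_pt (U : Opens X) (hx : x ∈ U) (p : P.obj (op U)) (q : Q.obj (op U)) :
    stalkTensorEquiv P Q x (pt P Q x U hx p q) = gm P x U hx p ⊗ₜ gm Q x U hx q :=
  phi_pt P Q x U hx p q

lemma stalkTensorEquiv_symm_tmul (U : Opens X) (hx : x ∈ U) (p : P.obj (op U)) (q : Q.obj (op U)) :
    (stalkTensorEquiv P Q x).symm (gm P x U hx p ⊗ₜ gm Q x U hx q) = pt P Q x U hx p q :=
  pairFun_gm P Q x U hx p q

end pre

end Groth.Agent.Lib.helper21.RSStalk
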