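import Mathlib
import Groth.Prelude.Def_ModSite
import Groth.Prelude.Def_ModSite2
import Groth.Agent.Lib.Helper21.RSStalk5
import Groth.Agent.Lib.Helper21.TensorAdj
import Groth.Agent.Lib.Helper21.TensorMon

/-!
# Stalks of tensor products of sheaves of modules on a ringed space (helper21)
-/

set_option autoImplicit false
universe u
open CategoryTheory CategoryTheory.Limits Opposite TopologicalSpace MonoidalCategory TensorProduct

namespace Groth.Agent.Lib.helper21.RSStalk

open Groth.Agent.Lib.Helper21.TensorAlg Groth.Agent.Lib.Helper21.TensorW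
  Groth.Agent.Lib.Helper21.TensorAdj

section maps

variable {X : TopCat.{u}} {O : TopCat.Sheaf CommRingCat.{u} X} {P P' : PMod O} (g : P ⟶ P') (x : X)

/-- the map on stalks induced by a morphism of presheaves of modules (additive) -/
noncomputable def stAdd : St P x →+ St P' x :=
  ((TopCat.Presheaf.stalkFunctor Ab x).map ((PresheafOfModules.toPresheaf _).map g)).hom

lemma stAdd_gm (U : Opens X) (hx : x ∈ U) (p : P.obj (op U)) :
    stAdd g x (gm P x U hx p) = gm P' x U hx (amap g (op U) p) := by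
  unfold stAdd gm
  erw [TopCat.Presheaf.stalkFunctor_map_germ_apply]
  rfl

lemma stAdd_smul (r : O.presheaf.stalk x) (m : St P x) :
    stAdd g x (r • m) = r • stAdd g x m := by
  obtain ⟨W, hW, a, p, rfl, rfl⟩ := exists_rep_rs P x r m
  rw [← gm_smul, stAdd_gm, stAdd_gm, ← gm_smul]
  congr 1
  exact (g.app (op W)).hom.map_smul a p

/-- the map on stalks induced by a morphism of presheaves of modules (linear) -/
noncomputable def stMap : St P x →ₗ[O.presheaf.stalk x] St P' x where
  toFun := stAdd g x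
  map_add' := map_add (stAdd g x)
  map_smul' := stAdd_smul g x

lemma stMap_gm (U : Opens X) (hx : x ∈ U) (p : P.obj (op U)) :
    stMap g x (gm P x U hx p) = gm P' x U hx (amap g (op U) p) := stAdd_gm g x U hx p

end maps

section ext

variable {X : TopCat.{u}} {O : TopCat.Sheaf CommRingCat.{u} X} (P Q : PMod O) (x : X)

lemma stTensor_ext {A : Type*} [AddCommMonoid A] (f₁ f₂ : St (P ⊗ Q) x →+ A)
    (h : ∀ (U : Opens X) (hx : x ∈ U) (p : P.obj (op U)) (q : Q.obj (op U)),
      f₁ (pt P Q x U hx p q) = f₂ (pt P Q x U hx p q)) : f₁ = f₂ := by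
  ext s
  obtain ⟨U, hU, t, rfl⟩ := exists_gm_eq (P ⊗ Q) x s
  have key : ∀ t : P.obj (op U) ⊗[O.presheaf.obj (op U)] Q.obj (op U),
      f₁ (gm (P ⊗ Q) x U hU t) = f₂ (gm (P ⊗ Q) x U hU t) := by
    intro t
    induction t using TensorProduct.induction_on with
    | zero =>
      exact (congrArg f₁ (map_zero (gm (P ⊗ Q) x U hU))).trans
        ((map_zero f₁).trans ((map_zero f₂).symm.trans
          (congrArg f₂ (map_zero (gm (P ⊗ Q) x U hU))).symm))
    | tmul p q => exact h U hU p q
    | add t t' ht ht' =>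
      exact (congrArg f₁ (map_add (gm (P ⊗ Q) x U hU) t t')).trans
        ((map_add f₁ _ _).trans ((congrArg₂ (· + ·) ht ht').trans
          ((map_add f₂ _ _).symm.trans (congrArg f₂ (map_add (gm (P ⊗ Q) x U hU) t t')).symm)))
  exact key t

end ext

section nat

variable {X : TopCat.{u}} {O : TopCat.Sheaf CommRingCat.{u} X} {P P' : PMod O} (g : P ⟶ P')
  (Q : PMod O) (x : X)

lemma stalkTensorEquiv_whiskerRight (s : St (P ⊗ Q) x) :
    stalkTensorEquiv P' Q x (stMap (g ▷ Q) x s) =
      (stMap g x).rTensor (St Q x) (stalkTensorEquiv P Q x s) := by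
  have := stTensor_ext P Q x
    ((stalkTensorEquiv P' Q x).toLinearMap.toAddMonoidHom.comp (stMap (g ▷ Q) x).toAddMonoidHom)
    (((stMap g x).rTensor (St Q x)).toAddMonoidHom.comp
      (stalkTensorEquiv P Q x).toLinearMap.toAddMonoidHom) ?_
  · exact DFunLike.congr_fun this s
  · intro U hx p q
    change stalkTensorEquiv P' Q x (stMap (g ▷ Q) x (pt P Q x U hx p q)) =
      (stMap g x).rTensor (St Q x) (stalkTensorEquiv P Q x (pt P Q x U hx p q))
    rw [stalkTensorEquiv_pt, LinearMap.rTensor_tmul, stMap_gm]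
    unfold pt
    rw [stMap_gm]
    exact stalkTensorEquiv_pt P' Q x U hx (amap g (op U) p) q

lemma stalkTensorEquiv_whiskerLeft (s : St (Q ⊗ P) x) :
    stalkTensorEquiv Q P' x (stMap (Q ◁ g) x s) =
      (stMap g x).lTensor (St Q x) (stalkTensorEquiv Q P x s) := by
  have := stTensor_ext Q P x
    ((stalkTensorEquiv Q P' x).toLinearMap.toAddMonoidHom.comp (stMap (Q ◁ g) x).toAddMonoidHom)
    (((stMap g x).lTensor (St Q x)).toAddMonoidHom.comp
      (stalkTensorEquiv Q P x).toLinearMap.toAddMonoidHom) ?_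
  · exact DFunLike.congr_fun this s
  · intro U hx q p
    change stalkTensorEquiv Q P' x (stMap (Q ◁ g) x (pt Q P x U hx q p)) =
      (stMap g x).lTensor (St Q x) (stalkTensorEquiv Q P x (pt Q P x U hx q p))
    rw [stalkTensorEquiv_pt, LinearMap.lTensor_tmul, stMap_gm]
    unfold pt
    rw [stMap_gm]
    exact stalkTensorEquiv_pt Q P' x U hx q (amap g (op U) p)

end nat

section locbij

variable {X : TopCat.{u}} {O : TopCat.Sheaf CommRingCat.{u} X} {P P' : PMod O} (g : P ⟶ P') (x : X)

lemma stMap_injective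
    [Presheaf.IsLocallyInjective (Opens.grothendieckTopology X) ((PresheafOfModules.toPresheaf _).map g)] :
    Function.Injective (stMap g x) := by
  rw [← LinearMap.ker_eq_bot, LinearMap.ker_eq_bot']
  intro m hm
  obtain ⟨U, hU, p, rfl⟩ := exists_gm_eq P x m
  rw [stMap_gm] at hm
  have h0 : gm P' x U hU (amap g (op U) p) = gm P' x U hU 0 := by rw [hm, map_zero]
  obtain ⟨W, hW, hWU, _, e⟩ := gm_eq_le P' x hU hU _ _ h0
  rw [map_zero] at e
  have e' : amap g (op W) (rs P hWU p) = amap g (op W) 0 := by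
    rw [map_zero]
    exact (amap_rmap g (homOfLE hWU).op p).trans e
  have hS := Presheaf.equalizerSieve_mem (Opens.grothendieckTopology X)
    ((PresheafOfModules.toPresheaf _).map g) (rs P hWU p) 0 e'
  obtain ⟨V, f, hf, hxV⟩ := hS x hW
  have hf' : rmap P f.op (rs P hWU p) = rmap P f.op 0 := hf
  rw [map_zero] at hf'
  have : gm P x V hxV (rmap P f.op (rs P hWU p)) = gm P x U hU p := by
    rw [gm_res, gm_rs]
  rw [← this, hf', map_zero]

lemma stMap_surjective
    [Presheaf.IsLocallySurjective (Opens.grothendieckTopology X) ((PresheafOfModules.toPresheaf _).map g)] :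
    Function.Surjective (stMap g x) := by
  intro m'
  obtain ⟨U, hU, p', rfl⟩ := exists_gm_eq P' x m'
  have hS := Presheaf.imageSieve_mem (Opens.grothendieckTopology X)
    ((PresheafOfModules.toPresheaf _).map g) p'
  obtain ⟨V, f, ⟨p, hp⟩, hxV⟩ := hS x hU
  refine ⟨gm P x V hxV p, ?_⟩
  rw [stMap_gm]
  have hp' : amap g (op V) p = rmap P' f.op p' := hp
  rw [hp', gm_res]

/-- a morphism inverted by sheafification induces an isomorphism on stalks -/
noncomputable def stEquivOfIsIso [IsIso ((shf O).map g)] :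
    St P x ≃ₗ[O.presheaf.stalk x] St P' x :=
  LinearEquiv.ofBijective (stMap g x) (by
    obtain ⟨h1, h2⟩ := (isIso_shf_map_iff g).1 inferInstance
    exact ⟨stMap_injective g x, stMap_surjective g x⟩)

lemma stEquivOfIsIso_apply [IsIso ((shf O).map g)] (m : St P x) :
    stEquivOfIsIso g x m = stMap g x m := rfl

end locbij

section functoriality

variable {X : TopCat.{u}} {O : TopCat.Sheaf CommRingCat.{u} X} {P P' P'' : PMod O} (x : X)

lemma stMap_comp (g : P ⟶ P') (h : P' ⟶ P'') (m : St P x) :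
    stMap (g ≫ h) x m = stMap h x (stMap g x m) := by
  obtain ⟨U, hU, p, rfl⟩ := exists_gm_eq P x m
  rw [stMap_gm, stMap_gm, stMap_gm]
  rfl

lemma stMap_id (m : St P x) : stMap (𝟙 P) x m = m := by
  obtain ⟨U, hU, p, rfl⟩ := exists_gm_eq P x m
  rw [stMap_gm]
  rfl

end functoriality

section sheaves

variable {X : TopCat.{u}} (O : TopCat.Sheaf CommRingCat.{u} X) (M N : ModSite.Mod O) (x : X)

/-- the stalk of a sheaf of modules, as a type -/
abbrev SSt : Type u := St (pv M) x

/-- the stalk of the tensor product of two sheaves of modules -/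
noncomputable def tensStalkEquiv :
    SSt O (((ModSite.tensorBi O).obj M).obj N) x ≃ₗ[O.presheaf.stalk x]
      SSt O M x ⊗[O.presheaf.stalk x] SSt O N x :=
  (stEquivOfIsIso (unitP O (pv M ⊗ pv N)) x).symm ≪≫ₗ stalkTensorEquiv (pv M) (pv N) x

variable {M N}

lemma tensStalkEquiv_unitP (s : St (pv M ⊗ pv N) x) :
    tensStalkEquiv O M N x (stMap (unitP O (pv M ⊗ pv N)) x s) =
      stalkTensorEquiv (pv M) (pv N) x s := by
  unfold tensStalkEquiv
  rw [LinearEquiv.trans_apply]
  congr 1
  exact (stEquivOfIsIso (unitP O (pv M ⊗ pv N)) x).symm_apply_apply s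

lemma tensStalkEquiv_naturality_left {M' : ModSite.Mod O} (φ : M ⟶ M')
    (s : SSt O (((ModSite.tensorBi O).obj M).obj N) x) :
    tensStalkEquiv O M' N x (stMap (pvMap ((tens O N).map φ)) x s) =
      (stMap (pvMap φ) x).rTensor (SSt O N x) (tensStalkEquiv O M N x s) := by
  obtain ⟨s, rfl⟩ := (stEquivOfIsIso (unitP O (pv M ⊗ pv N)) x).surjective s
  rw [stEquivOfIsIso_apply, tensStalkEquiv_unitP]
  have h1 : stMap (pvMap ((tens O N).map φ)) x (stMap (unitP O (pv M ⊗ pv N)) x s) =
      stMap (unitP O (pv M' ⊗ pv N)) x (stMap (pvMap φ ▷ pv N) x s) := by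
    refine (stMap_comp x _ _ s).symm.trans (Eq.trans ?_ (stMap_comp x _ _ s))
    congr 2
    exact (unitP_naturality O (pvMap φ ▷ pv N)).symm
  exact (congrArg (tensStalkEquiv O M' N x) h1).trans
    ((tensStalkEquiv_unitP O x _).trans (stalkTensorEquiv_whiskerRight (pvMap φ) (pv N) x s))

lemma tensStalkEquiv_naturality_right {N' : ModSite.Mod O} (φ : N ⟶ N')
    (s : SSt O (((ModSite.tensorBi O).obj M).obj N) x) :
    tensStalkEquiv O M N' x (stMap (pvMap (((ModSite.tensorBi O).obj M).map φ)) x s) =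
      (stMap (pvMap φ) x).lTensor (SSt O M x) (tensStalkEquiv O M N x s) := by
  obtain ⟨s, rfl⟩ := (stEquivOfIsIso (unitP O (pv M ⊗ pv N)) x).surjective s
  rw [stEquivOfIsIso_apply, tensStalkEquiv_unitP]
  have h1 : stMap (pvMap (((ModSite.tensorBi O).obj M).map φ)) x
      (stMap (unitP O (pv M ⊗ pv N)) x s) =
      stMap (unitP O (pv M ⊗ pv N')) x (stMap (pv M ◁ pvMap φ) x s) := by
    refine (stMap_comp x _ _ s).symm.trans (Eq.trans ?_ (stMap_comp x _ _ s))
    congr 2
    exact (unitP_naturality O (pv M ◁ pvMap φ)).symm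
  exact (congrArg (tensStalkEquiv O M N' x) h1).trans
    ((tensStalkEquiv_unitP O x _).trans (stalkTensorEquiv_whiskerLeft (pvMap φ) (pv M) x s))

end sheaves

end Groth.Agent.Lib.helper21.RSStalk
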