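import Mathlib
import Groth.Prelude.Def_ModSite
import Groth.Prelude.Def_ModSite2
import Groth.Agent.Lib.Helper21.RSStalk4
import Groth.Agent.Lib.Helper21.RSStalk6

/-!
# Exactness of `G ↦ f^*G ⊗ F` for `F` flat over the base, on ringed spaces (helper21, S6859)
-/

set_option autoImplicit false
universe u
open CategoryTheory CategoryTheory.Limits Opposite TopologicalSpace MonoidalCategory TensorProduct

namespace Groth.Agent.Lib.helper21.RSStalk

open Groth.Agent.Lib.Helper21.TensorAlg Groth.Agent.Lib.Helper21.TensorW
  Groth.Agent.Lib.Helper21.TensorAdj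

section algebra

theorem baseChange_rTensor_injective {A B : Type u} [CommRing A] [CommRing B] [Algebra A B]
    {M' M : Type u} [AddCommGroup M'] [Module A M'] [AddCommGroup M] [Module A M]
    (v : M' →ₗ[A] M) (hv : Function.Injective v)
    (N : Type u) [AddCommGroup N] [Module B N] [Module A N] [IsScalarTower A B N]
    [Module.Flat A N] :
    Function.Injective ((v.baseChange B).rTensor N) := by
  have h1 : Function.Injective (v.lTensor N) := Module.Flat.lTensor_preserves_injective_linearMap v hv
  have h2 := TensorProduct.AlgebraTensorModule.lTensor_comp_cancelBaseChange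
    (R := A) (A := B) (B := B) (M := N) v
  have h3 : Function.Injective ((v.baseChange B).lTensor N) := by
    intro a b hab
    apply (TensorProduct.AlgebraTensorModule.cancelBaseChange A B B N M').injective
    apply h1
    have e1 := LinearMap.congr_fun h2 a
    have e2 := LinearMap.congr_fun h2 b
    simp only [LinearMap.coe_comp, Function.comp_apply, LinearEquiv.coe_coe] at e1 e2
    change (TensorProduct.AlgebraTensorModule.lTensor B N v) _ =
      (TensorProduct.AlgebraTensorModule.lTensor B N v) _
    rw [e1, e2]
    congr 1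
  intro a b hab
  apply (TensorProduct.comm B _ N).injective
  apply h3
  rw [LinearMap.lTensor_comm, LinearMap.lTensor_comm, hab]

theorem rTensor_extendScalars_injective {A B : Type u} [CommRing A] [CommRing B] (ρ : A →+* B)
    {M' M : ModuleCat.{u} A} (v : M' ⟶ M) (hv : Function.Injective v.hom)
    (N : Type u) [AddCommGroup N] [Module B N]
    (hN : @Module.Flat A N _ _ (Module.compHom N ρ)) :
    Function.Injective (((ModuleCat.extendScalars.{u,u,u} ρ).map v).hom.rTensor N) := by
  letI : Algebra A B := ρ.toAlgebra
  letI : Module A N := Module.compHom N ρ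
  haveI : IsScalarTower A B N := IsScalarTower.of_algebraMap_smul (fun r x => rfl)
  exact baseChange_rTensor_injective v.hom hv N

theorem rTensor_injective_of_conj {B : Type u} [CommRing B] {P P' Q Q' N : Type u}
    [AddCommGroup P] [Module B P] [AddCommGroup P'] [Module B P'] [AddCommGroup Q] [Module B Q]
    [AddCommGroup Q'] [Module B Q'] [AddCommGroup N] [Module B N]
    (L : P →ₗ[B] P') (L0 : Q →ₗ[B] Q') (e : P ≃ₗ[B] Q) (e' : P' ≃ₗ[B] Q')
    (h : ∀ p, e' (L p) = L0 (e p)) (hinj : Function.Injective (L0.rTensor N)) :
    Function.Injective (L.rTensor N) := by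
  have hL : L = e'.symm.toLinearMap ∘ₗ L0 ∘ₗ e.toLinearMap := by
    ext p
    simp only [LinearMap.coe_comp, LinearEquiv.coe_coe, Function.comp_apply]
    rw [← h, LinearEquiv.symm_apply_apply]
  rw [hL, LinearMap.rTensor_comp, LinearMap.rTensor_comp]
  exact ((LinearEquiv.rTensor N e'.symm).injective.comp hinj).comp (LinearEquiv.rTensor N e).injective

end algebra

section main

variable {X Y : TopCat.{u}} (f : X ⟶ Y) (O_X : TopCat.Sheaf CommRingCat.{u} X)
  (O_Y : TopCat.Sheaf CommRingCat.{u} Y)
  (c : O_Y ⟶ ((Opens.map f).sheafPushforwardContinuous CommRingCat.{u}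
      (Opens.grothendieckTopology Y) (Opens.grothendieckTopology X)).obj O_X)
  (F : ModSite.Mod O_X)

lemma stalkFun_map_hom_eq {M M' : ModSite.Mod O_X} (ψ : M ⟶ M') (x : X) :
    ((stalkFun O_X x).map ψ).hom = stMap (pvMap ψ) x := rfl

theorem injective_stMap_tens_pull (x : X)
    (hF : @Module.Flat (O_Y.presheaf.stalk (f x)) (SSt O_X F x) _ _
      (Module.compHom (SSt O_X F x) (stalkRingMap f O_X O_Y c x).hom))
    {G' G : ModSite.Mod O_Y} (φ : G' ⟶ G) [Mono φ] :
    Function.Injective
      (stMap (pvMap ((tens O_X F).map ((rm f O_X O_Y c).pull.map φ))) x) := by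
  set ψ := (rm f O_X O_Y c).pull.map φ with hψ
  have key : Function.Injective ((stMap (pvMap ψ) x).rTensor (SSt O_X F x)) := by
    let e := stalkPullbackIso f O_X O_Y c x
    have hm := mono_stalkFun_map O_Y φ (f x)
    have hinj : Function.Injective ((stalkFun O_Y (f x)).map φ).hom :=
      (ModuleCat.mono_iff_injective _).1 hm
    have h0 := rTensor_extendScalars_injective (stalkRingMap f O_X O_Y c x).hom
      ((stalkFun O_Y (f x)).map φ) hinj (SSt O_X F x) hF
    refine rTensor_injective_of_conj (stMap (pvMap ψ) x) _
      (e.app G').toLinearEquiv (e.app G).toLinearEquiv ?_ h0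
    intro p
    have nat := e.hom.naturality φ
    have := congrArg (fun k => k.hom p) nat
    exact this
  intro a b hab
  apply (tensStalkEquiv O_X _ F x).injective
  apply key
  rw [← tensStalkEquiv_naturality_left, ← tensStalkEquiv_naturality_left, hab]

lemma preservesFiniteColimits_pull_tens :
    PreservesFiniteColimits ((rm f O_X O_Y c).pull ⋙ tens O_X F) := by
  haveI : (rm f O_X O_Y c).pull.IsLeftAdjoint := (rm f O_X O_Y c).adj.isLeftAdjoint
  haveI : PreservesFiniteColimits (tens O_X F) :=
    PreservesColimitsOfSize.preservesFiniteColimits.{u, u} _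
  infer_instance

attribute [local instance] preservesBinaryBiproducts_of_preservesBinaryCoproducts in
lemma additive_tens : (tens O_X F).Additive := by
  haveI := isLeftAdjoint_tens O_X F
  exact Functor.additive_of_preservesBinaryBiproducts _

lemma additive_pull_tens : ((rm f O_X O_Y c).pull ⋙ tens O_X F).Additive := by
  haveI := additive_pull f O_X O_Y c
  haveI := additive_tens O_X F
  infer_instance

theorem preservesFiniteLimits_pull_tens_of_flat
    (hF : ∀ x : X, @Module.Flat (O_Y.presheaf.stalk (f x)) (SSt O_X F x) _ _
      (Module.compHom (SSt O_X F x) (stalkRingMap f O_X O_Y c x).hom)) :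
    PreservesFiniteLimits ((rm f O_X O_Y c).pull ⋙ tens O_X F) := by
  let Φ := (rm f O_X O_Y c).pull ⋙ tens O_X F
  haveI : PreservesFiniteColimits Φ := preservesFiniteColimits_pull_tens f O_X O_Y c F
  haveI : Φ.Additive := additive_pull_tens f O_X O_Y c F
  haveI : Φ.PreservesMonomorphisms := by
    constructor
    intro G' G φ hφ
    apply mono_of_mono_stalkFun_map O_X
    intro x
    rw [ModuleCat.mono_iff_injective]
    exact injective_stMap_tens_pull f O_X O_Y c F x (hF x) φ
  haveI : Φ.PreservesHomology := Functor.preservesHomology_of_preservesMonos_and_cokernels _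
  exact Functor.preservesFiniteLimits_of_preservesHomology Φ

end main

end Groth.Agent.Lib.helper21.RSStalk
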