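import Mathlib
import Groth.Prelude.Def_ModSite
import Groth.Prelude.Def_ModSite2
import Groth.Agent.Lib.Helper21.RSStalk7
import Groth.Agent.Lib.Helper21.TensorMon

/-!
# Inverse image commutes with tensor products on ringed spaces (helper21, S6853)

`cmp φ M N : f^*(M ⊗ N) ⟶ f^*M ⊗ f^*N` (general ringed sites, mate of the lax structure of `f_*`),
`bijective_stMap_cmp` (it is bijective on stalks for ringed spaces), `isIso_of_bijective_stMap`,
`pullTensorIso : f^*(M ⊗ N) ≅ f^*M ⊗ f^*N`, `pullUnitIso : f^* O_Y ≅ O_X`,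
`isEquivalence_tensL_pull` (the inverse image of an invertible module is invertible).
-/

set_option autoImplicit false
universe u
open CategoryTheory CategoryTheory.Limits Opposite TopologicalSpace MonoidalCategory TensorProduct

namespace Groth.Agent.Lib.helper21.RSStalk

open Groth.Agent.Lib.Helper21.TensorAlg Groth.Agent.Lib.Helper21.TensorW
  Groth.Agent.Lib.Helper21.TensorAdj Groth.Agent.Lib.Helper21.TensorMon
open ChangeOfRings

section algebra9

theorem bijective_of_tensor_data {A B : Type u} [CommRing A] [CommRing B] [Algebra A B]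
    {My Ny Ty : Type u} [AddCommGroup My] [Module A My] [AddCommGroup Ny] [Module A Ny]
    [AddCommGroup Ty] [Module A Ty]
    (τ : Ty ≃ₗ[A] My ⊗[A] Ny)
    {PM PN PT Q : Type u} [AddCommGroup PM] [Module B PM] [AddCommGroup PN] [Module B PN]
    [AddCommGroup PT] [Module B PT] [AddCommGroup Q] [Module B Q]
    (eM : PM ≃ₗ[B] B ⊗[A] My) (eN : PN ≃ₗ[B] B ⊗[A] Ny) (eT : PT ≃ₗ[B] B ⊗[A] Ty)
    (θ : Q ≃ₗ[B] PM ⊗[B] PN) (c : PT →ₗ[B] Q)
    (h : ∀ (m : My) (n : Ny), θ (c (eT.symm (1 ⊗ₜ τ.symm (m ⊗ₜ n)))) =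
      eM.symm (1 ⊗ₜ m) ⊗ₜ eN.symm (1 ⊗ₜ n)) :
    Function.Bijective c := by
  let Λ : Q ≃ₗ[B] PT :=
    θ ≪≫ₗ TensorProduct.congr eM eN ≪≫ₗ
      (TensorProduct.AlgebraTensorModule.distribBaseChange A B My Ny).symm ≪≫ₗ
      TensorProduct.AlgebraTensorModule.congr (LinearEquiv.refl B B) τ.symm ≪≫ₗ eT.symm
  have key1 : ∀ t : Ty, Λ (c (eT.symm ((1 : B) ⊗ₜ[A] t))) = eT.symm ((1 : B) ⊗ₜ[A] t) := by
    intro t
    obtain ⟨s, rfl⟩ := τ.symm.surjective t
    induction s using TensorProduct.induction_on with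
    | zero => simp
    | add s s' hs hs' =>
      rw [map_add, TensorProduct.tmul_add, map_add, map_add, map_add, hs, hs']
    | tmul m n =>
      simp only [Λ, LinearEquiv.trans_apply]
      rw [h m n]
      simp
  have key : ∀ p : PT, Λ (c p) = p := by
    intro p
    obtain ⟨q, rfl⟩ := eT.symm.surjective p
    induction q using TensorProduct.induction_on with
    | zero => simp
    | add q q' hq hq' => rw [map_add, map_add, map_add, hq, hq']
    | tmul b t =>
      have hb : (b ⊗ₜ[A] t : B ⊗[A] Ty) = b • ((1 : B) ⊗ₜ[A] t) := by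
        rw [TensorProduct.smul_tmul', smul_eq_mul, mul_one]
      rw [hb, map_smul, map_smul, map_smul, key1]
  have hc : (c : PT → Q) = Λ.symm := by
    funext p
    apply Λ.injective
    rw [key, LinearEquiv.apply_symm_apply]
  rw [hc]
  exact Λ.symm.bijective

end algebra9

section lax

variable {R S : Type u} [CommRing R] [CommRing S] (φ : R →+* S)

/-- the lax monoidal structure map of restriction of scalars -/
noncomputable def μR (M N : ModuleCat.{u} S) :
    (ModuleCat.restrictScalars φ).obj M ⊗ (ModuleCat.restrictScalars φ).obj N ⟶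
      (ModuleCat.restrictScalars φ).obj (M ⊗ N) :=
  ModuleCat.MonoidalCategory.tensorLift
    (M₃ := (ModuleCat.restrictScalars φ).obj (M ⊗ N))
    (fun (m : (ModuleCat.restrictScalars φ).obj M) (n : (ModuleCat.restrictScalars φ).obj N) =>
      ((m : M) ⊗ₜ[S] (n : N) : M ⊗[S] N))
    (fun m m' n => TensorProduct.add_tmul (R := S) (M := M) (N := N) m m' n)
    (fun _ _ _ => rfl)
    (fun m n n' => TensorProduct.tmul_add (R := S) (M := M) (N := N) m n n')
    (fun a m n => (TensorProduct.tmul_smul (R := S) (M := M) (N := N) (φ a) m n))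

theorem μR_tmul (M N : ModuleCat.{u} S) (m : (ModuleCat.restrictScalars φ).obj M)
    (n : (ModuleCat.restrictScalars φ).obj N) :
    (μR φ M N).hom (m ⊗ₜ[R] n) = ((m : M) ⊗ₜ[S] (n : N) : M ⊗[S] N) := rfl

end lax

section laxsite

variable {C D : Type u} [SmallCategory C] [SmallCategory D] {J : GrothendieckTopology C}
  {K : GrothendieckTopology D} {O_C : Sheaf J CommRingCat.{u}} {O_D : Sheaf K CommRingCat.{u}}
  (φ : ModSite.RMor O_C O_D)

/-- pushforward of presheaves of modules along a morphism of ringed sites -/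
noncomputable abbrev pushP : PM O_C ⥤ PM O_D := PresheafOfModules.pushforward φ.sharpR.hom

lemma push_val (M : ModSite.Mod O_C) : pv (φ.push.obj M) = (pushP φ).obj (pv M) := rfl

/-- the sectionwise lax monoidal structure of the pushforward of presheaves of modules -/
noncomputable def laxP (A B : PM O_C) : (pushP φ).obj A ⊗ (pushP φ).obj B ⟶ (pushP φ).obj (A ⊗ B) where
  app V := μR (φ.sharp.hom.app V).hom (A.obj (op (φ.fn.obj V.unop))) (B.obj (op (φ.fn.obj V.unop)))
  naturality {V V'} i := by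
    apply ModuleCat.MonoidalCategory.tensor_ext
    intro a b
    rfl

variable (M N : ModSite.Mod O_D)

/-- the unit `M ⟶ f_* f^* M` on sections -/
noncomputable def etaS (M : ModSite.Mod O_D) (V : D) (m : (pv M).obj (op V)) :
    (pv (φ.pull.obj M)).obj (op (φ.fn.obj V)) :=
  ((φ.adj.unit.app M).val.app (op V)).hom m

/-- presheaf-level `M ⊗ N ⟶ f_*(f^*M ⊗ f^*N)` -/
noncomputable def gammaP :
    pv M ⊗ pv N ⟶
      pv (φ.push.obj (((ModSite.tensorBi O_C).obj (φ.pull.obj M)).obj (φ.pull.obj N))) :=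
  (pvMap (φ.adj.unit.app M) ⊗ₘ pvMap (φ.adj.unit.app N)) ≫
    laxP φ (pv (φ.pull.obj M)) (pv (φ.pull.obj N)) ≫
    (pushP φ).map (unitP O_C (pv (φ.pull.obj M) ⊗ pv (φ.pull.obj N)))

/-- `M ⊗ N ⟶ f_*(f^*M ⊗ f^*N)` -/
noncomputable def gamma :
    ((ModSite.tensorBi O_D).obj M).obj N ⟶
      φ.push.obj (((ModSite.tensorBi O_C).obj (φ.pull.obj M)).obj (φ.pull.obj N)) :=
  ((shfAdj O_D).homEquiv _ _).symm (gammaP φ M N)

/-- the comparison `f^*(M ⊗ N) ⟶ f^*M ⊗ f^*N` -/
noncomputable def cmp :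
    φ.pull.obj (((ModSite.tensorBi O_D).obj M).obj N) ⟶
      ((ModSite.tensorBi O_C).obj (φ.pull.obj M)).obj (φ.pull.obj N) :=
  (φ.adj.homEquiv _ _).symm (gamma φ M N)

lemma unit_cmp : φ.adj.unit.app _ ≫ φ.push.map (cmp φ M N) = gamma φ M N := by
  have := Adjunction.homEquiv_unit φ.adj _ _ (cmp φ M N)
  rw [← this]
  exact Equiv.apply_symm_apply _ _

lemma unitP_gamma : unitP O_D (pv M ⊗ pv N) ≫ pvMap (gamma φ M N) = gammaP φ M N := by
  have h := Adjunction.homEquiv_unit (shfAdj O_D) _ _ (gamma φ M N)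
  have h2 : (shfAdj O_D).homEquiv _ _ (gamma φ M N) = gammaP φ M N :=
    Equiv.apply_symm_apply _ _
  exact h.symm.trans h2

lemma cmp_etaS_unitP (V : D) (m : (pv M).obj (op V)) (n : (pv N).obj (op V)) :
    ((cmp φ M N).val.app (op (φ.fn.obj V))).hom
      (etaS φ (((ModSite.tensorBi O_D).obj M).obj N) V
        (((unitP O_D (pv M ⊗ pv N)).app (op V)).hom (m ⊗ₜ n))) =
    ((unitP O_C (pv (φ.pull.obj M) ⊗ pv (φ.pull.obj N))).app (op (φ.fn.obj V))).hom
      (etaS φ M V m ⊗ₜ etaS φ N V n) := by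
  have h1 := congrArg (fun k => (k.val.app (op V)).hom
    (((unitP O_D (pv M ⊗ pv N)).app (op V)).hom (m ⊗ₜ n))) (unit_cmp φ M N)
  have h2 := congrArg (fun k => (k.app (op V)).hom (m ⊗ₜ n)) (unitP_gamma φ M N)
  exact h1.trans h2

end laxsite

section unitformula

variable {X Y : TopCat.{u}} (f : X ⟶ Y) (O_X : TopCat.Sheaf CommRingCat.{u} X)
  (O_Y : TopCat.Sheaf CommRingCat.{u} Y)
  (c : O_Y ⟶ ((Opens.map f).sheafPushforwardContinuous CommRingCat.{u}
      (Opens.grothendieckTopology Y) (Opens.grothendieckTopology X)).obj O_X)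
  (x : X)

/-- the unit `G ⟶ f_* f^* G` on sections -/
noncomputable def etaSec (G : ModSite.Mod O_Y) (V : Opens Y) (g : (pMod O_Y G).obj (op V)) :
    (pMod O_X ((rm f O_X O_Y c).pull.obj G)).obj (op ((Opens.map f).obj V)) :=
  (((rm f O_X O_Y c).adj.unit.app G).val.app (op V)).hom g

lemma stalkPullbackIso_hom_etaSec (G : ModSite.Mod O_Y) (V : Opens Y) (hx : f x ∈ V)
    (g : (pMod O_Y G).obj (op V)) :
    ((stalkPullbackIso f O_X O_Y c x).hom.app G).hom
      ((pAb O_X ((rm f O_X O_Y c).pull.obj G)).germ ((Opens.map f).obj V) x hx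
        (etaSec f O_X O_Y c G V g)) =
    ((1 : O_X.presheaf.stalk x) ⊗ₜ[O_Y.presheaf.stalk (f x), (stalkRingMap f O_X O_Y c x).hom]
      ((pAb O_Y G).germ V (f x) hx g) :) := by
  have h := Adjunction.homEquiv_leftAdjointUniq_hom_app (pullStalkAdj f O_X O_Y c x)
    (stalkExtendAdj f O_X O_Y c x) G
  have h2 := congrArg (fun k => ((k.val.app (op V)).hom g :
    PLift (f x ∈ V) → _) ⟨hx⟩) h
  exact h2

lemma stalkPullbackIso_symm_one_tmul (G : ModSite.Mod O_Y) (V : Opens Y) (hx : f x ∈ V)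
    (g : (pMod O_Y G).obj (op V)) :
    ((stalkPullbackIso f O_X O_Y c x).app G).toLinearEquiv.symm
      ((1 : O_X.presheaf.stalk x) ⊗ₜ[O_Y.presheaf.stalk (f x), (stalkRingMap f O_X O_Y c x).hom]
        ((pAb O_Y G).germ V (f x) hx g) :) =
      (pAb O_X ((rm f O_X O_Y c).pull.obj G)).germ ((Opens.map f).obj V) x hx
        (etaSec f O_X O_Y c G V g) := by
  rw [LinearEquiv.symm_apply_eq]
  exact (stalkPullbackIso_hom_etaSec f O_X O_Y c x G V hx g).symm

end unitformula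

section cmpstalk

variable {X Y : TopCat.{u}} (f : X ⟶ Y) (O_X : TopCat.Sheaf CommRingCat.{u} X)
  (O_Y : TopCat.Sheaf CommRingCat.{u} Y)
  (c : O_Y ⟶ ((Opens.map f).sheafPushforwardContinuous CommRingCat.{u}
      (Opens.grothendieckTopology Y) (Opens.grothendieckTopology X)).obj O_X)
  (x : X) (M N : ModSite.Mod O_Y)

lemma tensStalkEquiv_symm_tmul_gm (V : Opens Y) (hy : f x ∈ V) (m : (pv M).obj (op V))
    (n : (pv N).obj (op V)) :
    (tensStalkEquiv O_Y M N (f x)).symm (gm (pv M) (f x) V hy m ⊗ₜ gm (pv N) (f x) V hy n) =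
      gm (pv (((ModSite.tensorBi O_Y).obj M).obj N)) (f x) V hy
        (((unitP O_Y (pv M ⊗ pv N)).app (op V)).hom (m ⊗ₜ n)) := by
  rw [LinearEquiv.symm_apply_eq]
  have h1 := tensStalkEquiv_unitP O_Y (f x) (M := M) (N := N) (pt (pv M) (pv N) (f x) V hy m n)
  rw [stalkTensorEquiv_pt] at h1
  refine h1.symm.trans ?_
  congr 1
  exact stMap_gm (unitP O_Y (pv M ⊗ pv N)) (f x) V hy (m ⊗ₜ n)

theorem bijective_stMap_cmp :
    Function.Bijective (stMap (pvMap (cmp (rm f O_X O_Y c) M N)) x) := by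
  letI : Algebra (O_Y.presheaf.stalk (f x)) (O_X.presheaf.stalk x) :=
    (stalkRingMap f O_X O_Y c x).hom.toAlgebra
  let e := stalkPullbackIso f O_X O_Y c x
  let eM : SSt O_X ((rm f O_X O_Y c).pull.obj M) x ≃ₗ[O_X.presheaf.stalk x]
      (O_X.presheaf.stalk x) ⊗[O_Y.presheaf.stalk (f x)] SSt O_Y M (f x) :=
    (e.app M).toLinearEquiv
  let eN : SSt O_X ((rm f O_X O_Y c).pull.obj N) x ≃ₗ[O_X.presheaf.stalk x]
      (O_X.presheaf.stalk x) ⊗[O_Y.presheaf.stalk (f x)] SSt O_Y N (f x) :=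
    (e.app N).toLinearEquiv
  let eT : SSt O_X ((rm f O_X O_Y c).pull.obj (((ModSite.tensorBi O_Y).obj M).obj N)) x
      ≃ₗ[O_X.presheaf.stalk x]
      (O_X.presheaf.stalk x) ⊗[O_Y.presheaf.stalk (f x)]
        SSt O_Y (((ModSite.tensorBi O_Y).obj M).obj N) (f x) :=
    (e.app (((ModSite.tensorBi O_Y).obj M).obj N)).toLinearEquiv
  refine bijective_of_tensor_data
    (tensStalkEquiv O_Y M N (f x)) eM eN eT
    (tensStalkEquiv O_X ((rm f O_X O_Y c).pull.obj M) ((rm f O_X O_Y c).pull.obj N) x)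
    (stMap (pvMap (cmp (rm f O_X O_Y c) M N)) x) ?_
  intro m n
  obtain ⟨V, hy, m₀, n₀, rfl, rfl⟩ := exists_rep₂ (pv M) (pv N) (f x) m n
  rw [tensStalkEquiv_symm_tmul_gm]
  have h1 := stalkPullbackIso_symm_one_tmul f O_X O_Y c x (((ModSite.tensorBi O_Y).obj M).obj N)
    V hy (((unitP O_Y (pv M ⊗ pv N)).app (op V)).hom (m₀ ⊗ₜ n₀))
  have h2 := stalkPullbackIso_symm_one_tmul f O_X O_Y c x M V hy m₀
  have h3 := stalkPullbackIso_symm_one_tmul f O_X O_Y c x N V hy n₀
  refine (congrArg (fun z => tensStalkEquiv O_X ((rm f O_X O_Y c).pull.obj M)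
    ((rm f O_X O_Y c).pull.obj N) x (stMap (pvMap (cmp (rm f O_X O_Y c) M N)) x z)) h1).trans ?_
  refine Eq.trans ?_ (congrArg₂ (fun (a : SSt O_X ((rm f O_X O_Y c).pull.obj M) x)
    (b : SSt O_X ((rm f O_X O_Y c).pull.obj N) x) => a ⊗ₜ[O_X.presheaf.stalk x] b) h2 h3).symm
  have h4 := stMap_gm (pvMap (cmp (rm f O_X O_Y c) M N)) x ((Opens.map f).obj V) hy
    (etaSec f O_X O_Y c (((ModSite.tensorBi O_Y).obj M).obj N) V
      (((unitP O_Y (pv M ⊗ pv N)).app (op V)).hom (m₀ ⊗ₜ n₀)))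
  refine (congrArg (tensStalkEquiv O_X ((rm f O_X O_Y c).pull.obj M)
    ((rm f O_X O_Y c).pull.obj N) x) h4).trans ?_
  have h5 := cmp_etaS_unitP (rm f O_X O_Y c) M N V m₀ n₀
  have h6 : gm (pv (((ModSite.tensorBi O_X).obj ((rm f O_X O_Y c).pull.obj M)).obj
      ((rm f O_X O_Y c).pull.obj N))) x ((Opens.map f).obj V) hy
      (amap (pvMap (cmp (rm f O_X O_Y c) M N)) (op ((Opens.map f).obj V))
        (etaSec f O_X O_Y c (((ModSite.tensorBi O_Y).obj M).obj N) V
          (((unitP O_Y (pv M ⊗ pv N)).app (op V)).hom (m₀ ⊗ₜ n₀)))) =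
      stMap (unitP O_X (pv ((rm f O_X O_Y c).pull.obj M) ⊗ pv ((rm f O_X O_Y c).pull.obj N))) x
        (pt (pv ((rm f O_X O_Y c).pull.obj M)) (pv ((rm f O_X O_Y c).pull.obj N)) x
          ((Opens.map f).obj V) hy (etaSec f O_X O_Y c M V m₀) (etaSec f O_X O_Y c N V n₀)) := by
    refine Eq.trans ?_ (stMap_gm _ x ((Opens.map f).obj V) hy _).symm
    exact congrArg (gm _ x ((Opens.map f).obj V) hy) h5
  refine (congrArg (tensStalkEquiv O_X ((rm f O_X O_Y c).pull.obj M)
    ((rm f O_X O_Y c).pull.obj N) x) h6).trans ?_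
  refine (tensStalkEquiv_unitP O_X x _).trans ?_
  exact stalkTensorEquiv_pt _ _ x _ hy _ _

end cmpstalk

section isoStalk

variable {X : TopCat.{u}} (O : TopCat.Sheaf CommRingCat.{u} X)

theorem isIso_of_bijective_stMap {M N : ModSite.Mod O} (φ : M ⟶ N)
    (h : ∀ x : X, Function.Bijective (stMap (pvMap φ) x)) : IsIso φ := by
  haveI : ∀ x : X, IsIso ((TopCat.Presheaf.stalkFunctor Ab x).map (toAbMap O φ).hom) := by
    intro x
    rw [ConcreteCategory.isIso_iff_bijective]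
    exact h x
  haveI : IsIso (toAbMap O φ) := TopCat.Presheaf.isIso_of_stalkFunctor_map_iso (toAbMap O φ)
  exact isIso_of_reflects_iso φ (SheafOfModules.toSheaf (ModSite.ringSh O))

end isoStalk

section pullTensor

variable {X Y : TopCat.{u}} (f : X ⟶ Y) (O_X : TopCat.Sheaf CommRingCat.{u} X)
  (O_Y : TopCat.Sheaf CommRingCat.{u} Y)
  (c : O_Y ⟶ ((Opens.map f).sheafPushforwardContinuous CommRingCat.{u}
      (Opens.grothendieckTopology Y) (Opens.grothendieckTopology X)).obj O_X)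

instance isIso_cmp (M N : ModSite.Mod O_Y) : IsIso (cmp (rm f O_X O_Y c) M N) :=
  isIso_of_bijective_stMap O_X _ (fun x => bijective_stMap_cmp f O_X O_Y c x M N)

/-- **Inverse image commutes with tensor products** on ringed spaces. -/
noncomputable def pullTensorIso (M N : ModSite.Mod O_Y) :
    (rm f O_X O_Y c).pull.obj (((ModSite.tensorBi O_Y).obj M).obj N) ≅
      ((ModSite.tensorBi O_X).obj ((rm f O_X O_Y c).pull.obj M)).obj ((rm f O_X O_Y c).pull.obj N) :=
  asIso (cmp (rm f O_X O_Y c) M N)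

lemma final_opensMap : (Opens.map f).Final :=
  Functor.final_of_exists_of_isFiltered _ (fun _ => ⟨⊤, ⟨homOfLE le_top⟩⟩)
    (fun {_ c} _ _ => ⟨c, 𝟙 _, Subsingleton.elim _ _⟩)

/-- the inverse image of the structure sheaf is the structure sheaf -/
noncomputable def pullUnitIso :
    (rm f O_X O_Y c).pull.obj (ModSite.unit O_Y) ≅ ModSite.unit O_X := by
  haveI : (rm f O_X O_Y c).fn.Final := final_opensMap f
  exact asIso (SheafOfModules.pullbackObjUnitToUnit (rm f O_X O_Y c).sharpR)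

theorem isEquivalence_tensL_pull (L : ModSite.Mod O_Y) (hL : (tensL O_Y L).IsEquivalence) :
    (tensL O_X ((rm f O_X O_Y c).pull.obj L)).IsEquivalence := by
  haveI := hL
  let L' : ModSite.Mod O_Y := (tensL O_Y L).objPreimage (ModSite.unit O_Y)
  let e0 : (tensL O_Y L).obj L' ≅ ModSite.unit O_Y := (tensL O_Y L).objObjPreimageIso _
  let P := (rm f O_X O_Y c).pull.obj L
  let P' := (rm f O_X O_Y c).pull.obj L'
  let e1 : (tensL O_X P).obj P' ≅ ModSite.unit O_X :=
    (pullTensorIso f O_X O_Y c L L').symm ≪≫ (rm f O_X O_Y c).pull.mapIso e0 ≪≫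
      pullUnitIso f O_X O_Y c
  let e2 : (tensL O_X P').obj P ≅ ModSite.unit O_X := (braidIso O_X P').app P ≪≫ e1
  let i : tensL O_X P' ⋙ tensL O_X P ≅ 𝟭 (ModSite.Mod O_X) :=
    (assocIso O_X P P').symm ≪≫ (ModSite.tensorBi O_X).mapIso e1 ≪≫ unitIso O_X
  let j : tensL O_X P ⋙ tensL O_X P' ≅ 𝟭 (ModSite.Mod O_X) :=
    (assocIso O_X P' P).symm ≪≫ (ModSite.tensorBi O_X).mapIso e2 ≪≫ unitIso O_X
  exact (CategoryTheory.Equivalence.mk (tensL O_X P) (tensL O_X P') j.symm i).isEquivalence_functor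

end pullTensor

end Groth.Agent.Lib.helper21.RSStalk
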