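import Mathlib
import Groth.Prelude.Def_ModSite
import Groth.Prelude.Def_ModSite2
import Groth.Agent.Lib.Helper21.RSStalk9
import Groth.Agent.Lib.Helper11.LocGen

/-!
# Local generation and stalks on ringed spaces; inverse images of locally generated modules (helper21, S6852)
-/

set_option autoImplicit false
universe u
open CategoryTheory CategoryTheory.Limits Opposite TopologicalSpace MonoidalCategory TensorProduct

namespace Groth.Agent.Lib.helper21.RSStalk

open Groth.Agent.Lib.Helper21.TensorAlg Groth.Agent.Lib.Helper21.TensorW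
  Groth.Agent.Lib.Helper21.TensorAdj
open Groth.Agent.Lib.helper11.OverGen Groth.Agent.Lib.helper11.LocGen

section spanstalk

variable {X : TopCat.{u}} (O : TopCat.Sheaf CommRingCat.{u} X) (G : ModSite.Mod O)

/-- the germs of the sections `g i` at `x` span the stalk -/
def StalkSpan {ι : Type u} (V : Opens X) (g : ι → (pv G).obj (op V)) : Prop :=
  ∀ (x : X) (hx : x ∈ V), Submodule.span (O.presheaf.stalk x)
    (Set.range fun i => gm (pv G) x V hx (g i)) = ⊤

variable {O G}

lemma resM_eq_rs {U D : Opens X} (hD : D ≤ U) (m : (pv G).obj (op U)) :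
    resM G hD m = rs (pv G) hD m := rfl

theorem locSpan_of_stalkSpan {ι : Type u} (V : Opens X) (g : ι → (pv G).obj (op V))
    (h : StalkSpan O G V g) : LocSpan G V g := by
  intro D hD y x hxD
  have hxV : x ∈ V := hD hxD
  -- every element of the span of the germs has a local representative in the span
  have key : ∀ m ∈ Submodule.span (O.presheaf.stalk x)
      (Set.range fun i => gm (pv G) x V hxV (g i)),
      ∃ (D' : Opens X) (hD' : D' ≤ D) (hx' : x ∈ D') (z : (pv G).obj (op D')),
        z ∈ Submodule.span ((ModSite.ringSh O).obj.obj (op D'))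
          (Set.range fun i => resM G (hD'.trans hD) (g i)) ∧ gm (pv G) x D' hx' z = m := by
    intro m hm
    induction hm using Submodule.span_induction with
    | mem m hm =>
      obtain ⟨i, rfl⟩ := hm
      exact ⟨D, le_rfl, hxD, resM G hD (g i), Submodule.subset_span ⟨i, rfl⟩,
        gm_rs (pv G) x hD hxD (g i)⟩
    | zero => exact ⟨D, le_rfl, hxD, 0, Submodule.zero_mem _, map_zero _⟩
    | add m m' _ _ hm hm' =>
      obtain ⟨D₁, hD₁, hx₁, z₁, hz₁, rfl⟩ := hm
      obtain ⟨D₂, hD₂, hx₂, z₂, hz₂, rfl⟩ := hm'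
      refine ⟨D₁ ⊓ D₂, inf_le_left.trans hD₁, ⟨hx₁, hx₂⟩,
        resM G inf_le_left z₁ + resM G inf_le_right z₂, Submodule.add_mem _ ?_ ?_, ?_⟩
      · exact resM_mem_span (hD₁.trans hD) g (inf_le_left : D₁ ⊓ D₂ ≤ D₁) hz₁
      · exact resM_mem_span (hD₂.trans hD) g (inf_le_right : D₁ ⊓ D₂ ≤ D₂) hz₂
      · rw [map_add]
        congr 1
        · exact gm_rs (pv G) x inf_le_left ⟨hx₁, hx₂⟩ z₁
        · exact gm_rs (pv G) x inf_le_right ⟨hx₁, hx₂⟩ z₂
    | smul a m _ hm =>
      obtain ⟨D₁, hD₁, hx₁, z₁, hz₁, rfl⟩ := hm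
      obtain ⟨W, hxW, a', rfl⟩ := exists_gr_eq (O := O) x a
      refine ⟨D₁ ⊓ W, inf_le_left.trans hD₁, ⟨hx₁, hxW⟩,
        (show (ModSite.ringSh O).obj.obj (op (D₁ ⊓ W)) from
          O.presheaf.map (homOfLE (inf_le_right : D₁ ⊓ W ≤ W)).op a') • resM G inf_le_left z₁,
        Submodule.smul_mem _ _ ?_, ?_⟩
      · exact resM_mem_span (hD₁.trans hD) g (inf_le_left : D₁ ⊓ W ≤ D₁) hz₁
      · refine (gm_smul (pv G) x (D₁ ⊓ W) ⟨hx₁, hxW⟩ _ _).trans ?_
        congr 1
        · exact gr_res x (homOfLE (inf_le_right : D₁ ⊓ W ≤ W)) ⟨hx₁, hxW⟩ a'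
        · exact gm_rs (pv G) x inf_le_left ⟨hx₁, hxW⟩ z₁
  have hy : gm (pv G) x D hxD y ∈ Submodule.span (O.presheaf.stalk x)
      (Set.range fun i => gm (pv G) x V hxV (g i)) := by
    rw [h x hxV]
    exact Submodule.mem_top
  obtain ⟨D', hD', hx', z, hz, e⟩ := key _ hy
  obtain ⟨W, hxW, hWD', hWD, e'⟩ := gm_eq_le (pv G) x hx' hxD z y e
  refine ⟨W, hWD, hxW, ?_⟩
  have h1 := resM_mem_span (hD'.trans hD) g hWD' hz
  have h2 : resM G hWD y = resM G hWD' z := e'.symm
  rw [h2]
  exact h1

end spanstalk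

section epistalk

variable {X : TopCat.{u}} {O : TopCat.Sheaf CommRingCat.{u} X} {G : ModSite.Mod O}

/-- the morphism `G ⟶ sky_x (G_x / N)` -/
noncomputable def toSkyQuot (x : X) (N : Submodule (O.presheaf.stalk x) (SSt O G x)) :
    G ⟶ (sky O x).obj (ModuleCat.of (O.presheaf.stalk x) (SSt O G x ⧸ N)) :=
  unitApp O x G ≫ (sky O x).map (ModuleCat.ofHom N.mkQ)

lemma toSkyQuot_app_apply (x : X) (N : Submodule (O.presheaf.stalk x) (SSt O G x))
    (D : Opens X) (s : (pv G).obj (op D)) (h : PLift (x ∈ D)) :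
    (((toSkyQuot x N).val.app (op D)).hom s : PLift (x ∈ D) → (SSt O G x ⧸ N)) h =
      N.mkQ (gm (pv G) x D h.down s) := rfl

theorem stalkSpan_of_epi {ι : Type u} (V : Opens X) (g : ι → (pv G).obj (op V))
    (hepi : Epi ((G.over V).freeHomEquiv.symm (fun i => secOver G V (g i)))) :
    StalkSpan O G V g := by
  intro x hx
  set N := Submodule.span (O.presheaf.stalk x) (Set.range fun i => gm (pv G) x V hx (g i)) with hN
  let ψ := toSkyQuot x N
  let ψV := (SheafOfModules.overFunctor (ModSite.ringSh O) V).map ψ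
  have h0 : (G.over V).freeHomEquiv.symm (fun i => secOver G V (g i)) ≫ ψV =
      (G.over V).freeHomEquiv.symm (fun i => secOver G V (g i)) ≫ 0 := by
    rw [SheafOfModules.freeHomEquiv_symm_comp, SheafOfModules.freeHomEquiv_symm_comp]
    congr 1
    funext i
    apply Subtype.ext
    funext Y
    induction Y using Opposite.rec with | _ Y => ?_
    change ((ψ.val.app (op Y.left)).hom ((secOver G V (g i)).val (op Y))) = 0
    funext h
    rw [secOver_val]
    refine (toSkyQuot_app_apply x N Y.left _ h).trans ?_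
    have h1 : gm (pv G) x Y.left h.down ((G.val.map Y.hom.op).hom (g i)) =
        gm (pv G) x V hx (g i) := gm_rs (pv G) x Y.hom.le h.down (g i)
    rw [h1]
    exact (Submodule.Quotient.mk_eq_zero N).2 (Submodule.subset_span ⟨i, rfl⟩)
  have h1 : ψV = 0 := (cancel_epi _).1 h0
  rw [eq_top_iff]
  intro m _
  obtain ⟨D, hDV, hxD, s, rfl⟩ := exists_rep_le (pv G) x m V hx
  have h2 := congrArg (fun k => ((k.val.app (op (Over.mk (homOfLE hDV)))).hom s :
    PLift (x ∈ D) → (SSt O G x ⧸ N)) ⟨hxD⟩) h1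
  have h3 : N.mkQ (gm (pv G) x D hxD s) = 0 := h2
  exact (Submodule.Quotient.mk_eq_zero N).1 h3

end epistalk

section algebra10

theorem span_eq_top_of_equiv_baseChange {A B : Type u} [CommRing A] [CommRing B] [Algebra A B]
    {M : Type u} [AddCommGroup M] [Module A M] {P : Type u} [AddCommGroup P] [Module B P]
    (e : P ≃ₗ[B] B ⊗[A] M) {ι : Type u} (m : ι → M) (p : ι → P)
    (hm : Submodule.span A (Set.range m) = ⊤)
    (hp : ∀ i, e.symm ((1 : B) ⊗ₜ[A] m i) = p i) :
    Submodule.span B (Set.range p) = ⊤ := by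
  have h1 : Submodule.span B (TensorProduct.mk A B M 1 '' Set.range m) = ⊤ := by
    rw [← Submodule.baseChange_span, hm, Submodule.baseChange_top]
  have h2 : Set.range p = (e.symm : B ⊗[A] M →ₗ[B] P) '' (TensorProduct.mk A B M 1 '' Set.range m) := by
    ext z
    constructor
    · rintro ⟨i, rfl⟩
      exact ⟨_, ⟨m i, ⟨i, rfl⟩, rfl⟩, hp i⟩
    · rintro ⟨_, ⟨_, ⟨i, rfl⟩, rfl⟩, rfl⟩
      exact ⟨i, (hp i).symm⟩
  rw [h2, ← Submodule.map_span, h1, Submodule.map_top]
  exact LinearEquiv.range e.symm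

end algebra10

section pullspan

variable {X Y : TopCat.{u}} (f : X ⟶ Y) (O_X : TopCat.Sheaf CommRingCat.{u} X)
  (O_Y : TopCat.Sheaf CommRingCat.{u} Y)
  (c : O_Y ⟶ ((Opens.map f).sheafPushforwardContinuous CommRingCat.{u}
      (Opens.grothendieckTopology Y) (Opens.grothendieckTopology X)).obj O_X)
  (G : ModSite.Mod O_Y)

theorem stalkSpan_pull {ι : Type u} (V : Opens Y) (g : ι → (pv G).obj (op V))
    (h : StalkSpan O_Y G V g) :
    StalkSpan O_X ((rm f O_X O_Y c).pull.obj G) ((Opens.map f).obj V)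
      (fun i => etaSec f O_X O_Y c G V (g i)) := by
  intro x hx
  letI : Algebra (O_Y.presheaf.stalk (f x)) (O_X.presheaf.stalk x) :=
    (stalkRingMap f O_X O_Y c x).hom.toAlgebra
  let e : SSt O_X ((rm f O_X O_Y c).pull.obj G) x ≃ₗ[O_X.presheaf.stalk x]
      (O_X.presheaf.stalk x) ⊗[O_Y.presheaf.stalk (f x)] SSt O_Y G (f x) :=
    ((stalkPullbackIso f O_X O_Y c x).app G).toLinearEquiv
  exact span_eq_top_of_equiv_baseChange e (fun i => gm (pv G) (f x) V hx (g i)) _ (h (f x) hx)
    (fun i => stalkPullbackIso_symm_one_tmul f O_X O_Y c x G V hx (g i))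

end pullspan

section pullLGD

variable {X Y : TopCat.{u}} (f : X ⟶ Y) (O_X : TopCat.Sheaf CommRingCat.{u} X)
  (O_Y : TopCat.Sheaf CommRingCat.{u} Y)
  (c : O_Y ⟶ ((Opens.map f).sheafPushforwardContinuous CommRingCat.{u}
      (Opens.grothendieckTopology Y) (Opens.grothendieckTopology X)).obj O_X)
  (G : ModSite.Mod O_Y)

lemma isOpenCover_map {I : Type u} {U : I → Opens Y} (hU : IsOpenCover U) :
    IsOpenCover (fun i => (Opens.map f).obj (U i)) := by
  rw [IsOpenCover, eq_top_iff]
  intro x _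
  obtain ⟨i, hi⟩ := Opens.mem_iSup.mp (hU ▸ Opens.mem_top (f x) : f x ∈ ⨆ i, U i)
  exact Opens.mem_iSup.mpr ⟨i, hi⟩

/-- the value over the whole open of a section of a restricted module -/
noncomputable abbrev secVal (V : Opens Y) (s : (G.over V).sections) : (pv G).obj (op V) :=
  s.val (op (Over.mk (𝟙 V)))

theorem stalkSpan_of_generatingSections (V : Opens Y) (σ : (G.over V).GeneratingSections) :
    StalkSpan O_Y G V (fun j => secVal O_Y G V (σ.s j)) := by
  have hs : σ.s = fun j => secOver G V (secVal O_Y G V (σ.s j)) := by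
    funext j
    exact sections_eq_secOver V _
  have hepi : Epi ((G.over V).freeHomEquiv.symm
      (fun j => secOver G V (secVal O_Y G V (σ.s j)))) := by
    rw [← hs]
    exact σ.epi
  exact stalkSpan_of_epi V _ hepi

/-- **The inverse image of a module locally generated by sections is locally generated by
sections** (ringed spaces). -/
noncomputable def pullLGD (q : SheafOfModules.LocalGeneratorsData.{u} (R := ModSite.ringSh O_Y) G) :
    SheafOfModules.LocalGeneratorsData.{u} (R := ModSite.ringSh O_X)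
      ((rm f O_X O_Y c).pull.obj G) where
  I := q.I
  X i := (Opens.map f).obj (q.X i)
  coversTop := (Opens.coversTop_iff _ _).mpr
    (isOpenCover_map f ((Opens.coversTop_iff _ _).mp q.coversTop))
  generators i :=
    { I := (q.generators i).I
      s := fun j => secOver ((rm f O_X O_Y c).pull.obj G) ((Opens.map f).obj (q.X i))
        (etaSec f O_X O_Y c G (q.X i) (secVal O_Y G (q.X i) ((q.generators i).s j)))
      epi := epi_of_locSpan _ _ (locSpan_of_stalkSpan _ _
        (stalkSpan_pull f O_X O_Y c G (q.X i) _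
          (stalkSpan_of_generatingSections O_Y G (q.X i) (q.generators i)))) }

end pullLGD

end Groth.Agent.Lib.helper21.RSStalk
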