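import Mathlib
import Groth.Prelude.Def_ModSite
import Groth.Prelude.Def_ModSite2
import Groth.Agent.Lib.Helper21.RSStalk3
import Groth.Agent.Lib.Helper21.StalkFlat

/-!
# Fibres at points of the site of opens versus stalks (helper21)

`fiberStalkIso Φ y h P : Φ.presheafFiber.obj P ≅ P.stalk y` for a point `Φ` of the site of opens of
`Y` whose fibre over `U` is inhabited exactly when `y ∈ U`.
-/

set_option autoImplicit false
universe u v' w v
open CategoryTheory CategoryTheory.Limits Opposite TopologicalSpace

namespace Groth.Agent.Lib.helper21.RSStalk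

section algebra

theorem flat_of_ringEquiv {A' A N : Type u} [CommRing A'] [CommRing A] [AddCommGroup N]
    (mA : Module A N) (α : A' ≃+* A)
    (h : @Module.Flat A' N _ _ (Module.compHom N (α : A' →+* A))) : @Module.Flat A N _ _ mA := by
  letI mA' : Module A' N := Module.compHom N (α : A' →+* A)
  letI : Algebra A A' := (α.symm : A →+* A').toAlgebra
  haveI : IsScalarTower A A' N := IsScalarTower.of_algebraMap_smul (fun a n => by
    change α (α.symm a) • n = a • n
    rw [RingEquiv.apply_symm_apply])
  haveI : Module.Flat A A' := by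
    let e : A' ≃ₗ[A] A :=
      { toFun := α
        invFun := α.symm
        map_add' := map_add α
        map_smul' := fun a a' => by
          change α (α.symm a * a') = a * α a'
          rw [map_mul, RingEquiv.apply_symm_apply]
        left_inv := α.symm_apply_apply
        right_inv := α.apply_symm_apply }
    exact Module.Flat.of_linearEquiv e
  exact Module.Flat.trans A A' N

theorem flat_transfer {A' B' A B N' N : Type u} [CommRing A'] [CommRing B'] [CommRing A] [CommRing B]
    [AddCommGroup N'] [Module B' N'] [AddCommGroup N] [Module B N]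
    (φ' : A' →+* B') (ρ : A →+* B) (α : A' ≃+* A) (β : B' ≃+* B) (ν : N' ≃+ N)
    (hcomm : ∀ a', β (φ' a') = ρ (α a')) (hν : ∀ (b' : B') (n' : N'), ν (b' • n') = β b' • ν n')
    (h : @Module.Flat A' N' _ _ (Module.compHom N' φ')) :
    @Module.Flat A N _ _ (Module.compHom N ρ) := by
  letI mAN : Module A N := Module.compHom N ρ
  refine flat_of_ringEquiv mAN α ?_
  letI m1 : Module A' N' := Module.compHom N' φ'
  letI m2 : Module A' N := Module.compHom N (α : A' →+* A)
  let e : N ≃ₗ[A'] N' :=
    { toFun := ν.symm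
      invFun := ν
      map_add' := map_add ν.symm
      map_smul' := fun a' n => by
        apply ν.injective
        rw [AddEquiv.apply_symm_apply]
        change ρ (α a') • n = ν (φ' a' • ν.symm n)
        rw [hν, AddEquiv.apply_symm_apply, hcomm]
      left_inv := ν.apply_symm_apply
      right_inv := ν.symm_apply_apply }
  exact Module.Flat.of_linearEquiv e

end algebra

section fiberStalk

variable {Y : TopCat.{u}} (Φ : GrothendieckTopology.Point.{u} (Opens.grothendieckTopology Y)) (y : Y)
  (h : ∀ U : Opens Y, Nonempty (Φ.fiber.obj U) ↔ y ∈ U)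
  {A : Type (u+1)} [Category.{u} A] [HasColimitsOfSize.{u, u} A] (P : TopCat.Presheaf A Y)

/-- from the fibre at the point of the site to the stalk -/
noncomputable def fiberToStalk : Φ.presheafFiber.obj P ⟶ P.stalk y :=
  Φ.presheafFiberDesc (fun U u => P.germ U y ((h U).1 ⟨u⟩))
    (fun U V g u => by
      exact TopCat.Presheaf.germ_res P g y _)

/-- the cocone defining `stalkToFiber` -/
noncomputable def stalkToFiberCocone : Cocone ((OpenNhds.inclusion y).op ⋙ P) where
  pt := Φ.presheafFiber.obj P
  ι :=
    { app := fun U => Φ.toPresheafFiber U.unop.1 ((h U.unop.1).2 U.unop.2).some P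
      naturality := fun U V g => by
        have := Φ.toPresheafFiber_w ((OpenNhds.inclusion y).map g.unop)
          ((h V.unop.1).2 V.unop.2).some P
        simp only [Functor.const_obj_obj, Functor.const_obj_map, Category.comp_id]
        refine Eq.trans ?_ (this.trans ?_)
        · rfl
        · congr 1
          exact Subsingleton.elim _ _ }

/-- from the stalk to the fibre at the point of the site -/
noncomputable def stalkToFiber : P.stalk y ⟶ Φ.presheafFiber.obj P :=
  colimit.desc _ (stalkToFiberCocone Φ y h P)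

@[reassoc]
lemma toPresheafFiber_fiberToStalk (U : Opens Y) (u : Φ.fiber.obj U) :
    Φ.toPresheafFiber U u P ≫ fiberToStalk Φ y h P = P.germ U y ((h U).1 ⟨u⟩) :=
  Φ.toPresheafFiber_presheafFiberDesc _ _ U u

lemma germ_stalkToFiber (U : Opens Y) (hy : y ∈ U) (u : Φ.fiber.obj U) :
    P.germ U y hy ≫ stalkToFiber Φ y h P = Φ.toPresheafFiber U u P := by
  have := colimit.ι_desc (stalkToFiberCocone Φ y h P) (op (⟨U, hy⟩ : OpenNhds y))
  refine this.trans ?_
  change Φ.toPresheafFiber U _ P = _
  congr 1
  exact Subsingleton.elim _ _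

/-- the fibre at the point of the site is the stalk -/
noncomputable def fiberStalkIso : Φ.presheafFiber.obj P ≅ P.stalk y where
  hom := fiberToStalk Φ y h P
  inv := stalkToFiber Φ y h P
  hom_inv_id := by
    apply Φ.presheafFiber_hom_ext
    intro U u
    rw [← Category.assoc, toPresheafFiber_fiberToStalk, germ_stalkToFiber Φ y h P U _ u,
      Category.comp_id]
  inv_hom_id := by
    apply TopCat.Presheaf.stalk_hom_ext
    intro U hy
    rw [← Category.assoc, germ_stalkToFiber Φ y h P U hy ((h U).2 hy).some,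
      toPresheafFiber_fiberToStalk, Category.comp_id]

end fiberStalk

section PointAux

open CategoryTheory.GrothendieckTopology CategoryTheory.GrothendieckTopology.Point

variable {C D : Type*} [Category* C] [Category* D]
  {K : GrothendieckTopology D}
  (Φ : Point.{w} K) (F : C ⥤ D) [RepresentablyFlat F] {J : GrothendieckTopology C}
  (hF : CoverPreserving J K F)
  [InitiallySmall (F ⋙ Φ.fiber).Elements]
  (A : Type*) [Category.{v} A] [HasProducts.{w} A]
  [Functor.IsContinuous F J K]
  [(F.sheafPushforwardContinuous A J K).IsRightAdjoint]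
  [HasColimitsOfSize.{w, w} A]

lemma counit_eq (Ψ : Point.{w} J) (M : A) :
    Ψ.skyscraperSheafAdjunction.counit.app M =
      Ψ.skyscraperPresheafHomEquiv.symm (𝟙 (Ψ.skyscraperPresheaf M)) := by
  have h1 := Ψ.skyscraperSheafAdjunction_homEquiv_symm_apply (F := Ψ.skyscraperSheaf M) (M := M) (𝟙 _)
  have h2 := Adjunction.homEquiv_counit Ψ.skyscraperSheafAdjunction (Ψ.skyscraperSheaf M) M
    (𝟙 (Ψ.skyscraperSheaf M))
  rw [CategoryTheory.Functor.map_id, Category.id_comp] at h2
  exact h2.symm.trans h1

lemma toPresheafFiber_counit (Ψ : Point.{w} J) (M : A) (V : C) (v : Ψ.fiber.obj V) :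
    Ψ.toPresheafFiber V v (Ψ.skyscraperPresheaf M) ≫ Ψ.skyscraperSheafAdjunction.counit.app M =
      Pi.π _ v := by
  rw [counit_eq, toPresheafFiber_skyscraperPresheafHomEquiv_symm]
  simp

lemma unit_app_π (Ψ : Point.{w} J) (H : Sheaf J A) (V : C) (v : Ψ.fiber.obj V) :
    (Ψ.skyscraperSheafAdjunction.unit.app H).hom.app (op V) ≫ Pi.π _ v =
      Ψ.toPresheafFiber V v H.obj := by
  have h1 : Ψ.skyscraperSheafAdjunction.unit.app H =
      Ψ.skyscraperSheafAdjunction.homEquiv H _ (𝟙 _) := by
    rw [Adjunction.homEquiv_unit]; simp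
  have h2 := Ψ.skyscraperSheafAdjunction_homEquiv_apply_hom (F := H) (𝟙 (Ψ.presheafFiber.obj H.obj))
  rw [h1]
  have h3 := Ψ.skyscraperPresheafHomEquiv_app_π (𝟙 (Ψ.presheafFiber.obj H.obj)) V v
  rw [Category.comp_id] at h3
  rw [← h3]
  congr 2
  
lemma toPresheafFiber_sheafFiberComapIso_hom_app (G : Sheaf J A) (V : C)
    (v : (Φ.comap F hF).fiber.obj V) :
    (Φ.comap F hF).toPresheafFiber V v G.obj ≫ (Φ.sheafFiberComapIso F hF A).hom.app G =
      ((F.sheafAdjunctionContinuous A J K).unit.app G).hom.app (op V) ≫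
        Φ.toPresheafFiber (F.obj V) v ((F.sheafPullback A J K).obj G).obj := by
  rw [sheafFiberComapIso_hom_app]
  change (Φ.comap F hF).toPresheafFiber V v G.obj ≫
    (Φ.comap F hF).presheafFiber.map ((F.sheafAdjunctionContinuous A J K).unit.app G).hom ≫
    (Φ.comap F hF).presheafFiber.map ((F.sheafPushforwardContinuous A J K).map
            (Φ.skyscraperSheafAdjunction.unit.app ((F.sheafPullback A J K).obj G))).hom ≫
    (Φ.comap F hF).presheafFiber.map
            ((Φ.skyscraperSheafFunctorCompSheafPushforwardContinuous F hF A).hom.app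
              (Φ.sheafFiber.obj ((F.sheafPullback A J K).obj G))).hom ≫ _ = _
  rw [toPresheafFiber_naturality_assoc, toPresheafFiber_naturality_assoc,
    toPresheafFiber_naturality_assoc]
  congr 1
  have h1 := toPresheafFiber_counit (A := A) (Φ.comap F hF)
    (Φ.sheafFiber.obj ((F.sheafPullback A J K).obj G)) V v
  have h2 := unit_app_π (A := A) Φ ((F.sheafPullback A J K).obj G) (F.obj V) v
  rw [← h2]
  refine (congrArg (fun z => _ ≫ _ ≫ z) h1).trans ?_
  have h3 : ((Φ.skyscraperSheafFunctorCompSheafPushforwardContinuous F hF A).hom.app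
      (Φ.sheafFiber.obj ((F.sheafPullback A J K).obj G))).hom.app (op V) = 𝟙 _ := rfl
  rw [h3]
  erw [Category.id_comp]
  rfl


end PointAux

section comap

variable {X Y : TopCat.{u}} (f : X ⟶ Y)
  (O_X : Sheaf (Opens.grothendieckTopology X) CommRingCat.{u})
  (O_Y : Sheaf (Opens.grothendieckTopology Y) CommRingCat.{u})
  (c : O_Y ⟶ ((Opens.map f).sheafPushforwardContinuous CommRingCat.{u}
      (Opens.grothendieckTopology Y) (Opens.grothendieckTopology X)).obj O_X)
  (x : X)

/-- the point of the site of opens of `X` -/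
noncomputable abbrev pX : GrothendieckTopology.Point.{u} (Opens.grothendieckTopology X) :=
  Opens.pointGrothendieckTopology x

lemma hpX (U : Opens X) : Nonempty ((pX x).fiber.obj U) ↔ x ∈ U :=
  ⟨fun ⟨u⟩ => u.down.down, fun hx => ⟨⟨⟨hx⟩⟩⟩⟩

instance : InitiallySmall.{u} (Opens.map f ⋙ (pX x).fiber).Elements :=
  initiallySmall_of_essentiallySmall _

/-- the image point of the site of opens of `Y` -/
noncomputable abbrev qY : GrothendieckTopology.Point.{u} (Opens.grothendieckTopology Y) :=
  (pX x).comap (Opens.map f) (coverPreserving_opens_map f)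

lemma hqY (U : Opens Y) : Nonempty ((qY f x).fiber.obj U) ↔ f x ∈ U :=
  ⟨fun ⟨u⟩ => u.down.down, fun hx => ⟨⟨⟨hx⟩⟩⟩⟩

/-- comparison of the fibre functors of `x` and of its image -/
noncomputable def comapIso :
    (qY f x).sheafFiber (A := CommRingCat.{u}) ≅
      (Opens.map f).sheafPullback CommRingCat.{u} (Opens.grothendieckTopology Y)
        (Opens.grothendieckTopology X) ⋙ (pX x).sheafFiber :=
  (pX x).sheafFiberComapIso (Opens.map f) (coverPreserving_opens_map f) CommRingCat.{u}

/-- `(f⁻¹ O_Y)_x ≅ O_{Y, f x}` -/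
noncomputable def invRingStalkIso :
    ModSite.stalkRing (pX x) (rm f O_X O_Y c).invRing ≅ TopCat.Presheaf.stalk O_Y.obj (f x) :=
  ((comapIso f x).app O_Y).symm ≪≫ fiberStalkIso (qY f x) (f x) (hqY f x) O_Y.obj

/-- the fibre of `O_X` at the point of the site is the stalk -/
noncomputable def ringStalkIso : ModSite.stalkRing (pX x) O_X ≅ TopCat.Presheaf.stalk O_X.obj x :=
  fiberStalkIso (pX x) x (hpX x) O_X.obj

lemma unit_invSharp (V : Opens Y) :
    (((Opens.map f).sheafAdjunctionContinuous CommRingCat.{u} (Opens.grothendieckTopology Y)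
      (Opens.grothendieckTopology X)).unit.app O_Y).hom.app (op V) ≫
      (rm f O_X O_Y c).invSharp.hom.app (op ((Opens.map f).obj V)) = c.hom.app (op V) := by
  have h := Adjunction.homEquiv_unit ((Opens.map f).sheafAdjunctionContinuous CommRingCat.{u}
    (Opens.grothendieckTopology Y) (Opens.grothendieckTopology X)) O_Y O_X
    (rm f O_X O_Y c).invSharp
  have h2 : ((Opens.map f).sheafAdjunctionContinuous CommRingCat.{u}
      (Opens.grothendieckTopology Y) (Opens.grothendieckTopology X)).homEquiv O_Y O_X
      (rm f O_X O_Y c).invSharp = c := by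
    unfold ModSite.RMor.invSharp
    exact Equiv.apply_symm_apply _ _
  rw [h2] at h
  exact (congrArg (fun k => k.hom.app (op V)) h).symm

lemma comapIso_hom_invRingStalkIso_hom :
    (comapIso f x).hom.app O_Y ≫ (invRingStalkIso f O_X O_Y c x).hom =
      (fiberStalkIso (qY f x) (f x) (hqY f x) O_Y.obj).hom :=
  Iso.hom_inv_id_app_assoc (comapIso f x) O_Y _

lemma leg_left (V : Opens Y) (v : (qY f x).fiber.obj V) :
    (qY f x).toPresheafFiber V v O_Y.obj ≫ (comapIso f x).hom.app O_Y ≫
      (pX x).presheafFiber.map (rm f O_X O_Y c).invSharp.hom ≫ (ringStalkIso O_X x).hom =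
    c.hom.app (op V) ≫ TopCat.Presheaf.germ O_X.obj ((Opens.map f).obj V) x v.down.down := by
  have hL := toPresheafFiber_sheafFiberComapIso_hom_app (pX x) (Opens.map f)
    (coverPreserving_opens_map f) CommRingCat.{u} O_Y V v
  have h1 : (pX x).toPresheafFiber ((Opens.map f).obj V) v (rm f O_X O_Y c).invRing.obj ≫
      (pX x).presheafFiber.map (rm f O_X O_Y c).invSharp.hom ≫ (ringStalkIso O_X x).hom =
      (rm f O_X O_Y c).invSharp.hom.app (op ((Opens.map f).obj V)) ≫
        TopCat.Presheaf.germ O_X.obj ((Opens.map f).obj V) x v.down.down := by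
    rw [GrothendieckTopology.Point.toPresheafFiber_naturality_assoc]
    congr 1
    exact toPresheafFiber_fiberToStalk (pX x) x (hpX x) O_X.obj _ v
  refine (Category.assoc _ _ _).symm.trans ((congrArg (· ≫ _) hL).trans ?_)
  refine (Category.assoc _ _ _).trans ((congrArg (_ ≫ ·) h1).trans ?_)
  refine (Category.assoc _ _ _).symm.trans ?_
  exact congrArg (· ≫ _) (unit_invSharp f O_X O_Y c V)

lemma leg_right (V : Opens Y) (v : (qY f x).fiber.obj V) :
    (qY f x).toPresheafFiber V v O_Y.obj ≫
      (fiberStalkIso (qY f x) (f x) (hqY f x) O_Y.obj).hom ≫ stalkRingMap f O_X O_Y c x =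
    c.hom.app (op V) ≫ TopCat.Presheaf.germ O_X.obj ((Opens.map f).obj V) x v.down.down := by
  refine (Category.assoc _ _ _).symm.trans ?_
  refine (congrArg (· ≫ stalkRingMap f O_X O_Y c x)
    (toPresheafFiber_fiberToStalk (qY f x) (f x) (hqY f x) O_Y.obj V v)).trans ?_
  ext r
  exact stalkRingMap_germ f O_X O_Y c x V _ r

lemma compat :
    (pX x).sheafFiber.map (rm f O_X O_Y c).invSharp ≫ (ringStalkIso O_X x).hom =
      (invRingStalkIso f O_X O_Y c x).hom ≫ stalkRingMap f O_X O_Y c x := by
  refine (cancel_epi ((comapIso f x).hom.app O_Y)).1 ?_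
  refine Eq.trans ?_ ((congrArg (· ≫ stalkRingMap f O_X O_Y c x)
    (comapIso_hom_invRingStalkIso_hom f O_X O_Y c x)).symm.trans (Category.assoc _ _ _))
  apply (qY f x).presheafFiber_hom_ext
  intro V v
  exact (leg_left f O_X O_Y c x V v).trans (leg_right f O_X O_Y c x V v).symm

end comap

section module

variable {X : TopCat.{u}} (O_X : Sheaf (Opens.grothendieckTopology X) CommRingCat.{u})
  (F : ModSite.Mod O_X) (x : X)

/-- the underlying presheaf of modules, over `O_X.obj ⋙ forget₂` -/
abbrev pM : PresheafOfModules.{u} (O_X.obj ⋙ forget₂ CommRingCat.{u} RingCat.{u}) := F.val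

/-- the fibre of the underlying abelian sheaf at the point of the site is the stalk -/
noncomputable def abStalkIso :
    ModSite.stalkAb (pX x) F ≅ TopCat.Presheaf.stalk (C := AddCommGrpCat.{u}) (pM O_X F).presheaf x :=
  fiberStalkIso (pX x) x (hpX x) (A := AddCommGrpCat.{u}) (pM O_X F).presheaf

lemma abStalkIso_hom_germ (U : Opens X) (u : (pX x).fiber.obj U) (t : ModSite.sect F U) :
    (abStalkIso O_X F x).hom (ModSite.germ (pX x) F U u t) =
      TopCat.Presheaf.germ (C := AddCommGrpCat.{u}) (pM O_X F).presheaf U x u.down.down t := by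
  have := toPresheafFiber_fiberToStalk (pX x) x (hpX x) (A := AddCommGrpCat.{u}) (pM O_X F).presheaf U u
  exact congrArg (fun k => k.hom t) this

lemma ringStalkIso_hom_germ (U : Opens X) (u : (pX x).fiber.obj U) (a : O_X.obj.obj (op U)) :
    (ringStalkIso O_X x).hom (ModSite.germRing (pX x) U u a) =
      TopCat.Presheaf.germ O_X.obj U x u.down.down a := by
  have := toPresheafFiber_fiberToStalk (pX x) x (hpX x) O_X.obj U u
  exact congrArg (fun k => k.hom a) this

lemma abStalkIso_smul (b : ModSite.stalkRing (pX x) O_X) (n : ModSite.stalkAb (pX x) F) :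
    (abStalkIso O_X F x).hom (b • n) =
      (HSMul.hSMul (α := (TopCat.Presheaf.stalk (C := CommRingCat.{u}) O_X.obj x : CommRingCat.{u}))
        (β := (TopCat.Presheaf.stalk (C := AddCommGrpCat.{u}) (pM O_X F).presheaf x : AddCommGrpCat.{u}))
        ((ringStalkIso O_X x).hom b) ((abStalkIso O_X F x).hom n)) := by
  obtain ⟨U, u, r0, m0, hr, hm⟩ := Groth.Agent.Lib.Helper21.StalkFlat.lift_fin (pX x) F
    (fun _ : Fin 1 => b) (fun _ : Fin 1 => n)
  rw [← hr 0, ← hm 0, ← ModSite.germ_smul, abStalkIso_hom_germ, abStalkIso_hom_germ,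
    ringStalkIso_hom_germ]
  exact PresheafOfModules.germ_smul (R := O_X.obj) (pM O_X F) x U u.down.down (r0 0) (m0 0)

end module

section final

variable {X Y : TopCat.{u}} (f : X ⟶ Y)
  (O_X : Sheaf (Opens.grothendieckTopology X) CommRingCat.{u})
  (O_Y : Sheaf (Opens.grothendieckTopology Y) CommRingCat.{u})
  (c : O_Y ⟶ ((Opens.map f).sheafPushforwardContinuous CommRingCat.{u}
      (Opens.grothendieckTopology Y) (Opens.grothendieckTopology X)).obj O_X)
  (F : ModSite.Mod O_X) (x : X)

theorem flat_stalk_of_flat_fiber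
    (hF : @Module.Flat (ModSite.stalkRing (pX x) (rm f O_X O_Y c).invRing)
      (ModSite.stalkAb (pX x) F) _ _
      (Module.compHom (ModSite.stalkAb (pX x) F)
        (((pX x).sheafFiber (A := CommRingCat.{u})).map (rm f O_X O_Y c).invSharp).hom)) :
    @Module.Flat (TopCat.Presheaf.stalk (C := CommRingCat.{u}) O_Y.obj (f x))
      (TopCat.Presheaf.stalk (C := AddCommGrpCat.{u}) (pM O_X F).presheaf x) _ _
      (Module.compHom _ (stalkRingMap f O_X O_Y c x).hom) := by
  refine flat_transfer
    (((pX x).sheafFiber (A := CommRingCat.{u})).map (rm f O_X O_Y c).invSharp).hom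
    (stalkRingMap f O_X O_Y c x).hom
    (invRingStalkIso f O_X O_Y c x).commRingCatIsoToRingEquiv
    (ringStalkIso O_X x).commRingCatIsoToRingEquiv
    (abStalkIso O_X F x).addCommGroupIsoToAddEquiv ?_ ?_ hF
  · intro a'
    exact congrArg (fun k => k.hom a') (compat f O_X O_Y c x)
  · intro b' n'
    exact abStalkIso_smul O_X F x b' n'

end final

end Groth.Agent.Lib.helper21.RSStalk
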