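import Mathlib
import Groth.Prelude.Def_ModSite
import Groth.Prelude.Def_ModSite2
import Groth.Agent.Lib.Helper21.RSStalk9
import Groth.Agent.Lib.Helper21.RSStalk8

/-!
# The generating locus of a section of an invertible module on a locally ringed space (helper21, S6851)

Algebra: `bijective_smul_of_not_mem`, `exists_tmul_eq_one`, `not_mem_of_tmul_eq_one` (invertible modules over
local rings), transport along semilinear bijections (`mem_smul_top_iff_of_semilinear`,
`bijective_smul_of_semilinear`).  Geometry: `unitStalkEquiv` (stalk of the unit module),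
`stEquivOfIso`, `tauStalk` (`L_x ⊗ L'_x ≃ O_x` from `L ⊗ L' ≅ O`), `tauStalk_tmul_gm`,
`bijective_smul_gm`, `exists_nhd_not_mem`, `germ_mem_iff` (site-point stalks vs topological stalks),
`generating_locus`.
-/

set_option autoImplicit false
universe u
open CategoryTheory CategoryTheory.Limits Opposite TopologicalSpace MonoidalCategory TensorProduct

namespace Groth.Agent.Lib.helper21.RSStalk

open Groth.Agent.Lib.Helper21.TensorAlg Groth.Agent.Lib.Helper21.TensorW
  Groth.Agent.Lib.Helper21.TensorAdj Groth.Agent.Lib.Helper21.TensorMon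

section algebra11

variable {R : Type u} [CommRing R] [IsLocalRing R] {M M' : Type u} [AddCommGroup M] [Module R M]
  [AddCommGroup M'] [Module R M']

/-- a generator of an invertible module over a local ring -/
theorem bijective_smul_of_not_mem (τ : M ⊗[R] M' ≃ₗ[R] R) (s : M)
    (hs : s ∉ IsLocalRing.maximalIdeal R • (⊤ : Submodule R M)) :
    Function.Bijective (fun a : R => a • s) := by
  haveI : Module.Invertible R M := Module.Invertible.left τ
  haveI : Module.Free R M := Module.free_of_flat_of_isLocalRing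
  obtain ⟨ε⟩ := Module.Invertible.free_iff_linearEquiv.1 (inferInstance : Module.Free R M)
  have hu : IsUnit (ε s) := by
    by_contra hnu
    apply hs
    have h1 : ε s ∈ IsLocalRing.maximalIdeal R := (IsLocalRing.mem_maximalIdeal _).2 hnu
    have h2 : s = ε s • ε.symm 1 := by
      apply ε.injective
      rw [map_smul, ε.apply_symm_apply, smul_eq_mul, mul_one]
    rw [h2]
    exact Submodule.smul_mem_smul h1 Submodule.mem_top
  obtain ⟨v, hv⟩ := hu
  have hcomp : ∀ a : R, ε (a • s) = a * v := by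
    intro a
    rw [map_smul, smul_eq_mul, hv]
  constructor
  · intro a b hab
    have := congrArg ε hab
    simp only [hcomp] at this
    exact (Units.mul_left_inj v).1 this
  · intro m
    refine ⟨ε m * ↑v⁻¹, ?_⟩
    apply ε.injective
    show ε ((ε m * ↑v⁻¹) • s) = ε m
    rw [hcomp, mul_assoc, Units.inv_mul, mul_one]

omit [IsLocalRing R] in
theorem exists_tmul_eq_one (τ : M ⊗[R] M' ≃ₗ[R] R) (s : M)
    (hs : Function.Surjective (fun a : R => a • s)) : ∃ t : M', τ (s ⊗ₜ t) = 1 := by
  let f : R →ₗ[R] M := LinearMap.toSpanSingleton R M s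
  have hf : Function.Surjective f := fun m => by
    obtain ⟨a, ha⟩ := hs m
    exact ⟨a, ha⟩
  obtain ⟨z, hz⟩ := LinearMap.rTensor_surjective M' hf (τ.symm 1)
  refine ⟨TensorProduct.lid R M' z, ?_⟩
  have h1 : z = (1 : R) ⊗ₜ[R] (TensorProduct.lid R M' z) := by
    have := (TensorProduct.lid R M').symm_apply_apply z
    rw [TensorProduct.lid_symm_apply] at this
    exact this.symm
  have h2 : LinearMap.rTensor M' f z = s ⊗ₜ[R] (TensorProduct.lid R M' z) := by
    conv_lhs => rw [h1]
    rw [LinearMap.rTensor_tmul]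
    congr 1
    exact one_smul R s
  rw [← h2, hz, τ.apply_symm_apply]

theorem not_mem_of_tmul_eq_one (τ : M ⊗[R] M' ≃ₗ[R] R) (s : M) (t : M')
    (h : τ (s ⊗ₜ t) = 1) : s ∉ IsLocalRing.maximalIdeal R • (⊤ : Submodule R M) := by
  intro hs
  let φ : M →ₗ[R] R := τ.toLinearMap ∘ₗ (TensorProduct.mk R M M').flip t
  have h1 : φ s ∈ IsLocalRing.maximalIdeal R := by
    have h2 : (IsLocalRing.maximalIdeal R • (⊤ : Submodule R M)).map φ ≤
        IsLocalRing.maximalIdeal R := by
      rw [Submodule.map_smul'']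
      intro r hr
      refine Submodule.smul_induction_on hr ?_ ?_
      · intro a ha n _
        exact Ideal.mul_mem_right _ _ ha
      · intro a b ha hb
        exact Ideal.add_mem _ ha hb
    exact h2 ⟨s, hs, rfl⟩
  have h3 : φ s = 1 := h
  rw [h3] at h1
  exact (IsLocalRing.maximalIdeal R).ne_top_iff_one.1 (IsLocalRing.maximalIdeal.isMaximal R).ne_top h1

end algebra11

section transport

variable {R' R : Type u} [CommRing R'] [CommRing R] [IsLocalRing R'] [IsLocalRing R]
  {N' N : Type u} [AddCommGroup N'] [Module R' N'] [AddCommGroup N] [Module R N]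

theorem mem_smul_top_of_semilinear (ρ : R' ≃+* R) (α : N' ≃+ N)
    (hα : ∀ (b : R') (n : N'), α (b • n) = ρ b • α n) (n : N')
    (hn : n ∈ IsLocalRing.maximalIdeal R' • (⊤ : Submodule R' N')) :
    α n ∈ IsLocalRing.maximalIdeal R • (⊤ : Submodule R N) := by
  refine Submodule.smul_induction_on hn ?_ ?_
  · intro b hb m _
    rw [hα]
    refine Submodule.smul_mem_smul ?_ Submodule.mem_top
    rw [IsLocalRing.mem_maximalIdeal] at hb ⊢
    intro hu
    apply hb
    have := hu.map ρ.symm
    rwa [ρ.symm_apply_apply] at this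
  · intro a b ha hb
    rw [map_add]
    exact Submodule.add_mem _ ha hb

theorem mem_smul_top_iff_of_semilinear (ρ : R' ≃+* R) (α : N' ≃+ N)
    (hα : ∀ (b : R') (n : N'), α (b • n) = ρ b • α n) (n : N') :
    n ∈ IsLocalRing.maximalIdeal R' • (⊤ : Submodule R' N') ↔
      α n ∈ IsLocalRing.maximalIdeal R • (⊤ : Submodule R N) := by
  refine ⟨mem_smul_top_of_semilinear ρ α hα n, fun h => ?_⟩
  have h2 := mem_smul_top_of_semilinear ρ.symm α.symm (fun b m => by
    apply α.injective
    rw [hα, α.apply_symm_apply, ρ.apply_symm_apply, α.apply_symm_apply]) (α n) h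
  rwa [α.symm_apply_apply] at h2

omit [IsLocalRing R'] [IsLocalRing R] in
theorem bijective_smul_of_semilinear (ρ : R' ≃+* R) (α : N' ≃+ N)
    (hα : ∀ (b : R') (n : N'), α (b • n) = ρ b • α n) (n : N')
    (h : Function.Bijective (fun a : R => a • α n)) :
    Function.Bijective (fun b : R' => b • n) := by
  have e : (fun b : R' => b • n) = α.symm ∘ (fun a : R => a • α n) ∘ ρ := by
    funext b
    simp only [Function.comp_apply]
    rw [← hα, α.symm_apply_apply]
  rw [e]
  exact α.symm.bijective.comp (h.comp ρ.bijective)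

end transport

section unitstalk

variable {X : TopCat.{u}} (O : TopCat.Sheaf CommRingCat.{u} X) (x : X)

/-- a section of the structure sheaf, as a section of the unit module -/
abbrev uSec (U : Opens X) (r : O.presheaf.obj (op U)) : (pv (ModSite.unit O)).obj (op U) := r

lemma rs_uSec {U W : Opens X} (h : W ≤ U) (r : O.presheaf.obj (op U)) :
    rs (pv (ModSite.unit O)) h (uSec O U r) = uSec O W (O.presheaf.map (homOfLE h).op r) := rfl

/-- the basic element of the stalk of the unit module -/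
noncomputable def e₀ : SSt O (ModSite.unit O) x :=
  gm (pv (ModSite.unit O)) x ⊤ (Opens.mem_top x) (uSec O ⊤ 1)

lemma gm_uSec (U : Opens X) (hx : x ∈ U) (r : O.presheaf.obj (op U)) :
    gm (pv (ModSite.unit O)) x U hx (uSec O U r) = gr (O := O) x U hx r • e₀ O x := by
  have h1 : uSec O U r = (show ((O.presheaf ⋙ forget₂ CommRingCat RingCat).obj (op U)) from r) •
      uSec O U 1 := (mul_one r).symm
  rw [h1]
  refine (gm_smul (pv (ModSite.unit O)) x U hx r (uSec O U 1)).trans ?_
  congr 1
  have h2 : uSec O U 1 = rs (pv (ModSite.unit O)) (le_top : U ≤ ⊤) (uSec O ⊤ 1) := by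
    rw [rs_uSec]
    exact congrArg (uSec O U) (map_one (O.presheaf.map (homOfLE (le_top : U ≤ ⊤)).op).hom).symm
  rw [h2]
  exact gm_rs (pv (ModSite.unit O)) x le_top hx _

/-- the stalk of the unit module is the stalk of the structure sheaf -/
noncomputable def unitStalkEquiv : O.presheaf.stalk x ≃ₗ[O.presheaf.stalk x] SSt O (ModSite.unit O) x :=
  LinearEquiv.ofBijective (LinearMap.toSpanSingleton (O.presheaf.stalk x) _ (e₀ O x)) (by
    constructor
    · rw [injective_iff_map_eq_zero]
      intro a ha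
      obtain ⟨U, hU, r, rfl⟩ := exists_gr_eq (O := O) x a
      have h1 : gm (pv (ModSite.unit O)) x U hU (uSec O U r) =
          gm (pv (ModSite.unit O)) x U hU (uSec O U 0) := by
        rw [gm_uSec, gm_uSec]
        refine Eq.trans ha ?_
        rw [map_zero, zero_smul]
      obtain ⟨W, hW, hWU, _, e⟩ := gm_eq_le (pv (ModSite.unit O)) x hU hU _ _ h1
      rw [rs_uSec, rs_uSec] at e
      have e' : O.presheaf.map (homOfLE hWU).op r = O.presheaf.map (homOfLE hWU).op 0 := e
      rw [← gr_res x (homOfLE hWU) hW r, e', map_zero, map_zero]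
    · intro m
      obtain ⟨U, hU, r, rfl⟩ := exists_gm_eq (pv (ModSite.unit O)) x m
      exact ⟨gr (O := O) x U hU r, (gm_uSec O x U hU r).symm⟩)

lemma unitStalkEquiv_symm_gm (U : Opens X) (hx : x ∈ U) (r : O.presheaf.obj (op U)) :
    (unitStalkEquiv O x).symm (gm (pv (ModSite.unit O)) x U hx (uSec O U r)) =
      gr (O := O) x U hx r := by
  rw [LinearEquiv.symm_apply_eq]
  exact gm_uSec O x U hx r

end unitstalk

section isoStalk2

variable {X : TopCat.{u}} {O : TopCat.Sheaf CommRingCat.{u} X} {M M' : ModSite.Mod O}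

/-- an isomorphism of modules induces a linear equivalence on stalks -/
noncomputable def stEquivOfIso (e : M ≅ M') (x : X) :
    SSt O M x ≃ₗ[O.presheaf.stalk x] SSt O M' x :=
  LinearEquiv.ofLinearMap (stMap (pvMap e.hom) x) (stMap (pvMap e.inv) x)
    (by
      ext m
      have h1 := (stMap_comp x (pvMap e.inv) (pvMap e.hom) m).symm
      have h2 : pvMap e.inv ≫ pvMap e.hom = 𝟙 (pv M') :=
        congrArg (fun k => pvMap k) e.inv_hom_id
      rw [h2, stMap_id] at h1
      exact h1)
    (by
      ext m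
      have h1 := (stMap_comp x (pvMap e.hom) (pvMap e.inv) m).symm
      have h2 : pvMap e.hom ≫ pvMap e.inv = 𝟙 (pv M) :=
        congrArg (fun k => pvMap k) e.hom_inv_id
      rw [h2, stMap_id] at h1
      exact h1)

lemma stEquivOfIso_apply (e : M ≅ M') (x : X) (m : SSt O M x) :
    stEquivOfIso e x m = stMap (pvMap e.hom) x m := rfl

end isoStalk2

section invertible

variable {X : TopCat.{u}} (O : TopCat.Sheaf CommRingCat.{u} X) (L L' : ModSite.Mod O)
  (τ : (tensL O L).obj L' ≅ ModSite.unit O) (x : X)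

lemma tensStalkEquiv_symm_tmul_gm' (V : Opens X) (hy : x ∈ V) (m : (pv L).obj (op V))
    (n : (pv L').obj (op V)) :
    (tensStalkEquiv O L L' x).symm (gm (pv L) x V hy m ⊗ₜ gm (pv L') x V hy n) =
      gm (pv (((ModSite.tensorBi O).obj L).obj L')) x V hy
        (((unitP O (pv L ⊗ pv L')).app (op V)).hom (m ⊗ₜ n)) := by
  rw [LinearEquiv.symm_apply_eq]
  have h1 := tensStalkEquiv_unitP O x (M := L) (N := L') (pt (pv L) (pv L') x V hy m n)
  rw [stalkTensorEquiv_pt] at h1
  refine h1.symm.trans ?_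
  congr 1
  exact stMap_gm (unitP O (pv L ⊗ pv L')) x V hy (m ⊗ₜ n)

/-- the induced isomorphism `L_x ⊗ L'_x ≃ O_x` -/
noncomputable def tauStalk :
    SSt O L x ⊗[O.presheaf.stalk x] SSt O L' x ≃ₗ[O.presheaf.stalk x] O.presheaf.stalk x :=
  (tensStalkEquiv O L L' x).symm ≪≫ₗ stEquivOfIso τ x ≪≫ₗ (unitStalkEquiv O x).symm

/-- the pairing on sections -/
noncomputable def secTau (W : Opens X) (s : (pv L).obj (op W)) (t : (pv L').obj (op W)) :
    O.presheaf.obj (op W) :=
  (show (pv (ModSite.unit O)).obj (op W) from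
    amap (pvMap τ.hom) (op W) (((unitP O (pv L ⊗ pv L')).app (op W)).hom (s ⊗ₜ t)))

lemma tauStalk_tmul_gm (W : Opens X) (hx : x ∈ W) (s : (pv L).obj (op W))
    (t : (pv L').obj (op W)) :
    tauStalk O L L' τ x (gm (pv L) x W hx s ⊗ₜ gm (pv L') x W hx t) =
      gr (O := O) x W hx (secTau O L L' τ W s t) := by
  unfold tauStalk
  rw [LinearEquiv.trans_apply, LinearEquiv.trans_apply, tensStalkEquiv_symm_tmul_gm',
    stEquivOfIso_apply, stMap_gm]
  exact unitStalkEquiv_symm_gm O x W hx (secTau O L L' τ W s t)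

end invertible

section genlocus

variable {X : TopCat.{u}} (O : TopCat.Sheaf CommRingCat.{u} X) (L L' : ModSite.Mod O)
  (τ : (tensL O L).obj L' ≅ ModSite.unit O)
  (hloc : ∀ x : X, IsLocalRing (O.presheaf.stalk x))

include τ in
theorem bijective_smul_gm (x : X) (U : Opens X) (hx : x ∈ U) (s : (pv L).obj (op U))
    (hs : gm (pv L) x U hx s ∉
      (@IsLocalRing.maximalIdeal (O.presheaf.stalk x) _ (hloc x)) •
        (⊤ : Submodule (O.presheaf.stalk x) (SSt O L x))) :
    Function.Bijective (fun a : O.presheaf.stalk x => a • gm (pv L) x U hx s) :=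
  @bijective_smul_of_not_mem _ _ (hloc x) _ _ _ _ _ _ (tauStalk O L L' τ x) _ hs

include τ in
theorem exists_nhd_not_mem (x : X) (U : Opens X) (hx : x ∈ U) (s : (pv L).obj (op U))
    (hs : gm (pv L) x U hx s ∉
      (@IsLocalRing.maximalIdeal (O.presheaf.stalk x) _ (hloc x)) •
        (⊤ : Submodule (O.presheaf.stalk x) (SSt O L x))) :
    ∃ W : Opens X, x ∈ W ∧ ∃ hWU : W ≤ U, ∀ (y : X) (hy : y ∈ W), gm (pv L) y U (hWU hy) s ∉
      (@IsLocalRing.maximalIdeal (O.presheaf.stalk y) _ (hloc y)) •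
        (⊤ : Submodule (O.presheaf.stalk y) (SSt O L y)) := by
  obtain ⟨t₀, ht₀⟩ := exists_tmul_eq_one (tauStalk O L L' τ x) _
    (bijective_smul_gm O L L' τ hloc x U hx s hs).2
  obtain ⟨W₁, hW₁U, hxW₁, t, rfl⟩ := exists_rep_le (pv L') x t₀ U hx
  rw [← gm_rs (pv L) x hW₁U hxW₁ s, tauStalk_tmul_gm] at ht₀
  have h1 : gr (O := O) x W₁ hxW₁ (secTau O L L' τ W₁ (rs (pv L) hW₁U s) t) =
      gr (O := O) x W₁ hxW₁ 1 := ht₀.trans (map_one _).symm
  obtain ⟨W, hxW, iU, iV, e⟩ := TopCat.Presheaf.germ_eq O.presheaf x hxW₁ hxW₁ _ _ h1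
  have hWW₁ : W ≤ W₁ := iU.le
  refine ⟨W, hxW, hWW₁.trans hW₁U, ?_⟩
  intro y hy
  have hyW₁ : y ∈ W₁ := hWW₁ hy
  have h2 := tauStalk_tmul_gm O L L' τ y W₁ hyW₁ (rs (pv L) hW₁U s) t
  have h3 : gr (O := O) y W₁ hyW₁ (secTau O L L' τ W₁ (rs (pv L) hW₁U s) t) = 1 := by
    rw [← gr_res y iU hy, show O.presheaf.map iU.op _ = O.presheaf.map iV.op 1 from e,
      gr_res y iV hy, map_one]
  rw [h3] at h2
  have h4 := @not_mem_of_tmul_eq_one _ _ (hloc y) _ _ _ _ _ _ (tauStalk O L L' τ y) _ _ h2
  rw [gm_rs (pv L) y hW₁U hyW₁ s] at h4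
  exact h4

end genlocus

section final11

variable {X : TopCat.{u}} (O : TopCat.Sheaf CommRingCat.{u} X)
  (hO : ∀ x : X, IsLocalRing (ModSite.stalkRing (Opens.pointGrothendieckTopology x) O))
  (L : ModSite.Mod O)

include hO in
lemma isLocalRing_stalk (x : X) : IsLocalRing (O.presheaf.stalk x) :=
  @RingEquiv.isLocalRing _ _ _ (hO x) _ (ringStalkIso O x).commRingCatIsoToRingEquiv

lemma germ_mem_iff (x : X) (U : Opens X) (hx : x ∈ U) (s : ModSite.sect L U) :
    ModSite.germ (Opens.pointGrothendieckTopology x) L U ⟨⟨hx⟩⟩ s ∈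
        (@IsLocalRing.maximalIdeal (ModSite.stalkRing (Opens.pointGrothendieckTopology x) O) _ (hO x)) •
          (⊤ : Submodule (ModSite.stalkRing (Opens.pointGrothendieckTopology x) O)
            (ModSite.stalkAb (Opens.pointGrothendieckTopology x) L)) ↔
      gm (pv L) x U hx s ∈
        (@IsLocalRing.maximalIdeal (O.presheaf.stalk x) _ (isLocalRing_stalk O hO x)) •
          (⊤ : Submodule (O.presheaf.stalk x) (SSt O L x)) := by
  have h := @mem_smul_top_iff_of_semilinear _ _ _ _ (hO x) (isLocalRing_stalk O hO x)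
    (ModSite.stalkAb (Opens.pointGrothendieckTopology x) L) (SSt O L x) _ _ _ _
    (ringStalkIso O x).commRingCatIsoToRingEquiv
    (abStalkIso O L x).addCommGroupIsoToAddEquiv
    (fun b n => abStalkIso_smul O L x b n)
    (ModSite.germ (Opens.pointGrothendieckTopology x) L U ⟨⟨hx⟩⟩ s)
  refine h.trans ?_
  have e : (abStalkIso O L x).addCommGroupIsoToAddEquiv
      (ModSite.germ (Opens.pointGrothendieckTopology x) L U ⟨⟨hx⟩⟩ s) = gm (pv L) x U hx s :=
    abStalkIso_hom_germ O L x U ⟨⟨hx⟩⟩ s
  rw [e]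

theorem generating_locus (hL : ((ModSite.tensorBi O).obj L).IsEquivalence) (U : Opens X)
    (s : ModSite.sect L U) :
    IsOpen {x : X | ∃ hx : x ∈ U, ModSite.germ (Opens.pointGrothendieckTopology x) L U ⟨⟨hx⟩⟩ s ∉
        (@IsLocalRing.maximalIdeal (ModSite.stalkRing (Opens.pointGrothendieckTopology x) O) _ (hO x)) •
          (⊤ : Submodule (ModSite.stalkRing (Opens.pointGrothendieckTopology x) O)
            (ModSite.stalkAb (Opens.pointGrothendieckTopology x) L))} ∧
      ∀ (x : X) (hx : x ∈ U), ModSite.germ (Opens.pointGrothendieckTopology x) L U ⟨⟨hx⟩⟩ s ∉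
          (@IsLocalRing.maximalIdeal (ModSite.stalkRing (Opens.pointGrothendieckTopology x) O) _ (hO x)) •
            (⊤ : Submodule (ModSite.stalkRing (Opens.pointGrothendieckTopology x) O)
              (ModSite.stalkAb (Opens.pointGrothendieckTopology x) L)) →
        Function.Bijective (fun a : ModSite.stalkRing (Opens.pointGrothendieckTopology x) O =>
          a • ModSite.germ (Opens.pointGrothendieckTopology x) L U ⟨⟨hx⟩⟩ s) := by
  haveI : (tensL O L).IsEquivalence := hL
  let L' : ModSite.Mod O := (tensL O L).objPreimage (ModSite.unit O)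
  let τ : (tensL O L).obj L' ≅ ModSite.unit O := (tensL O L).objObjPreimageIso _
  have hloc := isLocalRing_stalk O hO
  constructor
  · rw [isOpen_iff_forall_mem_open]
    rintro x ⟨hx, hs⟩
    rw [germ_mem_iff O hO L x U hx s] at hs
    obtain ⟨W, hxW, hWU, hW⟩ := exists_nhd_not_mem O L L' τ hloc x U hx s hs
    refine ⟨W, ?_, W.isOpen, hxW⟩
    intro y hy
    refine ⟨hWU hy, ?_⟩
    rw [germ_mem_iff O hO L y U (hWU hy) s]
    exact hW y hy
  · intro x hx hs
    rw [germ_mem_iff O hO L x U hx s] at hs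
    have hb := bijective_smul_gm O L L' τ hloc x U hx s hs
    refine bijective_smul_of_semilinear (ringStalkIso O x).commRingCatIsoToRingEquiv
      (abStalkIso O L x).addCommGroupIsoToAddEquiv
      (fun b n => abStalkIso_smul O L x b n)
      (ModSite.germ (Opens.pointGrothendieckTopology x) L U ⟨⟨hx⟩⟩ s) ?_
    have e : (abStalkIso O L x).addCommGroupIsoToAddEquiv
        (ModSite.germ (Opens.pointGrothendieckTopology x) L U ⟨⟨hx⟩⟩ s) = gm (pv L) x U hx s :=
      abStalkIso_hom_germ O L x U ⟨⟨hx⟩⟩ s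
    rw [e]
    exact hb

end final11

end Groth.Agent.Lib.helper21.RSStalk
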