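import Mathlib
import Groth.Agent.Lib.Helper11.Bidual3
import Groth.Agent.Lib.Helper11.FlatTwistPn
import Groth.Agent.Lib.Helper11.RelAmpleVan
import Groth.Agent.Lib.Helper11.RpushAbBridge
import Groth.Agent.Lib.Helper19.ProjSpaceProper

/-!
# Relative Ext and twisting (helper21)

* `nonempty_extf_pull_iso`: `Ext^b_f(F, G ⊗ f^*N) ≅ Ext^b_f(F, G) ⊗ N` for `N` finite locally free.
* `exists_isZero_rpush_twist`: relative Serre vanishing on modules for `Y ↪ P^m_Z`.
-/

set_option autoImplicit false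
universe u

open CategoryTheory CategoryTheory.Limits Opposite AlgebraicGeometry TopologicalSpace

namespace Groth.Agent.Lib.helper21.RelExtTwist

open Groth.Agent.Lib.Helper21.TensorW Groth.Agent.Lib.Helper21.TensorAdj
open Groth.Agent.Lib.Helper21.DerivedComm
open Groth.Agent.Lib.helper11.Bidual
open Groth.Agent.Lib.helper21.FLFDual
open Scheme.Modules

variable {X Y : Scheme.{u}}

/-- **`Ext_f^b(F, G ⊗ f^*N) ≅ Ext_f^b(F, G) ⊗ N`** for `N` finite locally free -/
theorem nonempty_extf_pull_iso [HasInjectiveResolutions (ModSite.Mod X.sheaf)] (f : X ⟶ Y)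
    (F G : X.Modules) (N : Y.Modules) (hN : FlatMod.IsFinLocFree N) (b : ℕ)
    [ModSite.HasSheafHom (O := X.sheaf) F] [(extfFun f F).Additive] :
    Nonempty (((extfFun f F).rightDerived b).obj
        (CohB1.tensorMod G ((Scheme.Modules.pullback f).obj N)) ≅
      CohB1.tensorMod (((extfFun f F).rightDerived b).obj G) N) := by
  have hE : FlatMod.IsFinLocFree ((Scheme.Modules.pullback f).obj N) :=
    Groth.Agent.Lib.helper16.FLF.isFinLocFree_pullback f hN
  have : PreservesFiniteLimits (tens X.sheaf ((Scheme.Modules.pullback f).obj N)) :=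
    preservesFiniteLimits_tens hE
  have : PreservesFiniteColimits (tens X.sheaf ((Scheme.Modules.pullback f).obj N)) :=
    preservesFiniteColimits_tens _
  have : (tens X.sheaf ((Scheme.Modules.pullback f).obj N)).PreservesInjectiveObjects :=
    preservesInjectiveObjects_tens hE
  have : PreservesFiniteLimits (tensM N) := preservesFiniteLimits_tens hN
  have : PreservesFiniteColimits (tensM N) := preservesFiniteColimits_tens _
  have : (tensM N).Additive := (inferInstance : (tens Y.sheaf N).Additive)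
  let j4 := ((rightDerivedPreIso (tens X.sheaf ((Scheme.Modules.pullback f).obj N))
    (extfFun f F) b).app G).symm
  let i5 : tens X.sheaf ((Scheme.Modules.pullback f).obj N) ⋙ extfFun f F ≅
      extfFun f F ⋙ tensM N :=
    (Functor.associator _ _ _).symm ≪≫
      Functor.isoWhiskerRight (tensSheafHomCommIso hE F) (Scheme.Modules.pushforward f) ≪≫
      Functor.associator _ _ _ ≪≫
      Functor.isoWhiskerLeft (ModSite.sheafHom (O := X.sheaf) F) (tensPushIso f hN) ≪≫
      (Functor.associator _ _ _).symm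
  let j5 := (rightDerivedIso i5 b).app G
  let j6 := (rightDerivedPostIso (tensM N) (extfFun f F) b).app G
  exact ⟨j4 ≪≫ j5 ≪≫ j6⟩

open Groth.Agent.Lib.helper11.FlatTwistPn in
/-- **relative Serre vanishing** for a closed subscheme of `P^m_Z`, on modules -/
theorem exists_isZero_rpush_twist {Z : Scheme.{u}} [IsNoetherian Z] (m : ℕ)
    (e' : Y ⟶ CohB1.ProjSpaceOver m Z) [IsClosedImmersion e']
    [HasInjectiveResolutions Y.Modules] (C : Y.Modules) (hC : Coh.IsCoh C) :
    ∃ l₀ : ℕ, ∀ l : ℕ, l₀ ≤ l → ∀ a : ℕ, 0 < a →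
      IsZero ((Coh.Rpush (e' ≫ CohB1.ProjSpaceOver.toBase m Z) a).obj
        (CohB1.tensorMod C ((Scheme.Modules.pullback e').obj (Twist.twistOver m Z (l : ℤ))))) := by
  haveI : IsProper (CohB1.ProjSpaceOver.toBase m Z) :=
    Groth.Agent.Lib.helper19.ProjSpaceProper.proper_toBase m Z
  obtain ⟨m₀, hm₀⟩ := Groth.Agent.Lib.helper11.RelAmpleVan.isZero_RpushAb_twist
    (e' ≫ CohB1.ProjSpaceOver.toBase m Z) (LL m e') (isInvertible_LL m e')
    (isAmple_LL_restrict m e') C hC
  refine ⟨m₀, fun l hl a ha => ?_⟩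
  have h1 := Groth.Agent.Lib.helper11.RpushAbBridge.isZero_rpush_of_isZero_rpushAb
    (e' ≫ CohB1.ProjSpaceOver.toBase m Z) a _ (hm₀ l hl a ha)
  exact IsZero.of_iso h1 ((Coh.Rpush (e' ≫ CohB1.ProjSpaceOver.toBase m Z) a).mapIso
    (PicGrp.tensorModIso (Iso.refl C) (twistIso m e' l)))

/-- `e'^* O(l)` is finite locally free -/
theorem isFinLocFree_pullback_twistOver {Z : Scheme.{u}} (m : ℕ)
    (e' : Y ⟶ CohB1.ProjSpaceOver m Z) (l : ℕ) :
    FlatMod.IsFinLocFree ((Scheme.Modules.pullback e').obj (Twist.twistOver m Z (l : ℤ))) := by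
  have h1 : PicF.IsInvertible (CohB1.tensorPow (Groth.Agent.Lib.helper11.FlatTwistPn.LL m e') l) :=
    Groth.Agent.Lib.helper12.TensorInv.isInvertible_tensorPow
      (Groth.Agent.Lib.helper11.FlatTwistPn.isInvertible_LL m e') l
  have h2 := Groth.Agent.Lib.helper16.FLF.isFinLocFree_of_isFinLocFreeOfRank
    ((Groth.Agent.Lib.helper16.FLF.isInvertible_iff_isFinLocFreeOfRank_one _).1 h1)
  exact Groth.Agent.Lib.helper16.FLF.isFinLocFree_of_iso
    (Groth.Agent.Lib.helper11.FlatTwistPn.twistIso m e' l).symm h2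

end Groth.Agent.Lib.helper21.RelExtTwist
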