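import Mathlib
import Groth.Prelude.Def_FlatCA
import Groth.Agent.Lib.Helper21.RelFPAlg2
import Groth.Agent.Lib.Helper21.RelFPAlg3

/-!
# Relative finite presentation under pullback along a finitely presented ring map (helper21)
-/

set_option autoImplicit false
universe u
open TensorProduct

namespace Groth.Agent.Lib.helper21.RelFPAlg

section Fin

variable {R A : Type u} [CommRing R] [CommRing A] [Algebra R A]
  {N : Type u} [AddCommGroup N] [Module A N]

/-- a relatively finitely presented module is finitely generated -/
theorem finite_of_relFP (h : FlatCA.RelFinitePresentation R A N) : Module.Finite A N := by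
  obtain ⟨n, φ, hφ, hfp⟩ := h
  letI : Module (MvPolynomial (Fin n) R) N := Module.compHom N φ.toRingHom
  haveI : Module.FinitePresentation (MvPolynomial (Fin n) R) N := hfp
  have hfin : Module.Finite (MvPolynomial (Fin n) R) N := inferInstance
  obtain ⟨s, hs⟩ := hfin.fg_top
  refine ⟨⟨s, ?_⟩⟩
  rw [eq_top_iff]
  intro x hx'
  clear hx'
  have hx : x ∈ Submodule.span (MvPolynomial (Fin n) R) (s : Set N) := by rw [hs]; trivial
  induction hx using Submodule.span_induction with
  | mem y hy => exact Submodule.subset_span hy
  | zero => exact zero_mem _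
  | add y z _ _ hy hz => exact add_mem hy hz
  | smul p y _ hy => exact Submodule.smul_mem _ (φ p) hy

end Fin

section Surj

variable {R A₁ A : Type u} [CommRing R] [CommRing A₁] [CommRing A] [Algebra R A₁] [Algebra R A]
  [Algebra A₁ A] [IsScalarTower R A₁ A]
  {N : Type u} [AddCommGroup N] [Module A N] [Module A₁ N] [IsScalarTower A₁ A N]

/-- along a surjection `A₁ → A`: relative f.p. as `A₁`-module gives relative f.p. as `A`-module -/
theorem relFP_of_surjective (hs : Function.Surjective (algebraMap A₁ A))
    (h : FlatCA.RelFinitePresentation R A₁ N) : FlatCA.RelFinitePresentation R A N := by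
  obtain ⟨n, φ, hφ, hfp⟩ := h
  refine ⟨n, (IsScalarTower.toAlgHom R A₁ A).comp φ, hs.comp hφ, ?_⟩
  have hmod : (Module.compHom N ((IsScalarTower.toAlgHom R A₁ A).comp φ).toRingHom :
      Module (MvPolynomial (Fin n) R) N) = Module.compHom N φ.toRingHom := by
    refine Module.ext' _ _ (fun p x => ?_)
    change algebraMap A₁ A (φ p) • x = φ p • x
    rw [algebraMap_smul]
  rw [hmod]
  exact hfp

end Surj

section Ker

variable {A₁ A : Type u} [CommRing A₁] [CommRing A] [Algebra A₁ A]
  {N₁ N : Type u} [AddCommGroup N₁] [Module A₁ N₁] [AddCommGroup N] [Module A N] [Module A₁ N]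
  [IsScalarTower A₁ A N]

/-- base change along a surjective ring map: the comparison map is surjective with kernel
`J • ⊤`, `J` the kernel of the ring map -/
theorem surjective_and_ker_of_isBaseChange (hs : Function.Surjective (algebraMap A₁ A))
    (k : N₁ →ₗ[A₁] N) (hk : IsBaseChange A k) :
    Function.Surjective k ∧
      LinearMap.ker k = (RingHom.ker (algebraMap A₁ A)) • (⊤ : Submodule A₁ N₁) := by
  constructor
  · intro y
    change y ∈ Set.range k
    rw [← LinearMap.coe_range]
    refine hk.inductionOn y (fun y => y ∈ LinearMap.range k) (zero_mem _) ?_ ?_ ?_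
    · intro m
      exact ⟨m, rfl⟩
    · intro a y hy
      obtain ⟨a₁, rfl⟩ := hs a
      rw [algebraMap_smul]
      exact Submodule.smul_mem _ a₁ hy
    · intro y z hy hz
      exact add_mem hy hz
  · apply le_antisymm
    · -- use the universal property with target `N₁ ⧸ J • ⊤`
      set J := RingHom.ker (algebraMap A₁ A) with hJ
      let T := N₁ ⧸ (J • (⊤ : Submodule A₁ N₁))
      let ē : (A₁ ⧸ J) ≃+* A := RingHom.quotientKerEquivOfSurjective hs
      letI mT : Module A T := Module.compHom T (ē.symm : A →+* A₁ ⧸ J)
      haveI tT : IsScalarTower A₁ A T := by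
        refine IsScalarTower.of_algebraMap_smul (fun a₁ t => ?_)
        change ē.symm (algebraMap A₁ A a₁) • t = a₁ • t
        have : ē.symm (algebraMap A₁ A a₁) = Ideal.Quotient.mk J a₁ := by
          rw [RingEquiv.symm_apply_eq]
          rfl
        rw [this]
        rfl
      let q : N₁ →ₗ[A₁] T := (J • (⊤ : Submodule A₁ N₁)).mkQ
      let q' : N →ₗ[A] T := hk.lift q
      intro x hx
      have h1 : q' (k x) = q x := hk.lift_eq q x
      rw [LinearMap.mem_ker] at hx
      rw [hx, map_zero] at h1
      have h2 : q x = 0 := h1.symm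
      rwa [Submodule.mkQ_apply, Submodule.Quotient.mk_eq_zero] at h2
    · rw [Submodule.smul_le]
      intro j hj x _
      rw [LinearMap.mem_ker, map_smul, ← algebraMap_smul A j (k x)]
      have : algebraMap A₁ A j = 0 := hj
      rw [this, zero_smul]

end Ker

section PB

attribute [local instance] MvPolynomial.algebraMvPolynomial

variable {R B A : Type u} [CommRing R] [CommRing B] [CommRing A] [Algebra R B] [Algebra B A]
  [Algebra R A] [IsScalarTower R B A] [Algebra.FiniteType R B] [Algebra.FinitePresentation B A]
  {M N : Type u} [AddCommGroup M] [Module B M] [AddCommGroup N] [Module A N] [Module B N]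
  [IsScalarTower B A N]

/-- **Pullback along a finitely presented ring map**: `M` a `B`-module finitely presented relative
to `R`, `B → A` of finite presentation, `N = A ⊗[B] M`; then `N` is finitely presented relative
to `R`. -/
theorem relFP_of_isBaseChange_of_finitePresentation (k : M →ₗ[B] N) (hk : IsBaseChange A k)
    (h : FlatCA.RelFinitePresentation R B M) : FlatCA.RelFinitePresentation R A N := by
  obtain ⟨m, α, hα, hJ⟩ := (Algebra.FinitePresentation.out (R := B) (A := A))
  -- step 1: the polynomial extension
  have h1 : FlatCA.RelFinitePresentation (MvPolynomial (Fin m) R) (MvPolynomial (Fin m) B)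
      (MvPolynomial (Fin m) B ⊗[B] M) :=
    relFP_baseChange (R := R) (A := B) (R' := MvPolynomial (Fin m) R)
      (A' := MvPolynomial (Fin m) B) (TensorProduct.mk B (MvPolynomial (Fin m) B) M 1)
      (TensorProduct.isBaseChange B M (MvPolynomial (Fin m) B)) h
  have h2 : FlatCA.RelFinitePresentation R (MvPolynomial (Fin m) B)
      (MvPolynomial (Fin m) B ⊗[B] M) :=
    (relFP_iff_of_fp_base (R := R) (R' := MvPolynomial (Fin m) R)
      (A' := MvPolynomial (Fin m) B)).mp h1
  -- step 2: the quotient
  letI algA₁A : Algebra (MvPolynomial (Fin m) B) A := α.toRingHom.toAlgebra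
  haveI t1 : IsScalarTower B (MvPolynomial (Fin m) B) A :=
    IsScalarTower.of_algebraMap_eq' (by ext b; exact (α.commutes b).symm)
  haveI t2 : IsScalarTower R (MvPolynomial (Fin m) B) A :=
    IsScalarTower.of_algebraMap_eq' (by
      ext r
      change algebraMap R A r = α (algebraMap R (MvPolynomial (Fin m) B) r)
      rw [IsScalarTower.algebraMap_apply R B (MvPolynomial (Fin m) B), α.commutes,
        ← IsScalarTower.algebraMap_apply])
  letI mA₁N : Module (MvPolynomial (Fin m) B) N := Module.compHom N α.toRingHom
  haveI t3 : IsScalarTower (MvPolynomial (Fin m) B) A N :=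
    IsScalarTower.of_algebraMap_smul (fun _ _ => rfl)
  haveI t4 : IsScalarTower B (MvPolynomial (Fin m) B) N :=
    IsScalarTower.of_algebraMap_smul (fun b x => by
      change α (algebraMap B (MvPolynomial (Fin m) B) b) • x = b • x
      rw [α.commutes, algebraMap_smul])
  let k₂ : MvPolynomial (Fin m) B ⊗[B] M →ₗ[MvPolynomial (Fin m) B] N :=
    LinearMap.liftBaseChange (MvPolynomial (Fin m) B) k
  have hk₂ : IsBaseChange A k₂ := by
    refine IsBaseChange.of_comp (TensorProduct.isBaseChange B M (MvPolynomial (Fin m) B)) ?_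
    have : (k₂.restrictScalars B) ∘ₗ (TensorProduct.mk B (MvPolynomial (Fin m) B) M 1) = k := by
      ext x
      simp [k₂]
    rw [this]
    exact hk
  obtain ⟨hsurj, hker⟩ := surjective_and_ker_of_isBaseChange (A₁ := MvPolynomial (Fin m) B)
    (A := A) hα k₂ hk₂
  -- finiteness
  haveI : Algebra.FiniteType R (MvPolynomial (Fin m) B) :=
    Algebra.FiniteType.trans (inferInstance : Algebra.FiniteType R B) inferInstance
  have hN₁fin : Module.Finite (MvPolynomial (Fin m) B) (MvPolynomial (Fin m) B ⊗[B] M) :=
    finite_of_relFP h2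
  have hJ' : (RingHom.ker (algebraMap (MvPolynomial (Fin m) B) A)).FG := hJ
  have hfg : ((RingHom.ker (algebraMap (MvPolynomial (Fin m) B) A)) •
      (⊤ : Submodule (MvPolynomial (Fin m) B) (MvPolynomial (Fin m) B ⊗[B] M))).FG :=
    Submodule.FG.smul hJ' hN₁fin.fg_top
  have hfin : Module.Finite (MvPolynomial (Fin m) B)
      ↥((RingHom.ker (algebraMap (MvPolynomial (Fin m) B) A)) •
        (⊤ : Submodule (MvPolynomial (Fin m) B) (MvPolynomial (Fin m) B ⊗[B] M))) :=
    Module.Finite.of_fg hfg
  have hex : Function.Exact ((RingHom.ker (algebraMap (MvPolynomial (Fin m) B) A)) •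
      (⊤ : Submodule (MvPolynomial (Fin m) B) (MvPolynomial (Fin m) B ⊗[B] M))).subtype k₂ := by
    intro y
    rw [← LinearMap.mem_ker, hker]
    constructor
    · intro hy
      exact ⟨⟨y, hy⟩, rfl⟩
    · rintro ⟨z, rfl⟩
      exact z.2
  have h3 : FlatCA.RelFinitePresentation R (MvPolynomial (Fin m) B) N :=
    relFP_of_exact_of_finite_sub (R := R) (A := MvPolynomial (Fin m) B)
      (N₁ := ↥((RingHom.ker (algebraMap (MvPolynomial (Fin m) B) A)) •
        (⊤ : Submodule (MvPolynomial (Fin m) B) (MvPolynomial (Fin m) B ⊗[B] M))))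
      _ k₂ hsurj hex hfin h2
  exact relFP_of_surjective (R := R) (A₁ := MvPolynomial (Fin m) B) (A := A) hα h3

end PB

end Groth.Agent.Lib.helper21.RelFPAlg
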