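import Mathlib
import Groth.Prelude.Def_Flatn
import Groth.Agent.Lib.Helper21.RelFPSch4
import Groth.Agent.Lib.Helper21.RelFPAlg4

/-!
# Relative finite presentation under pullback along a morphism locally of finite presentation
(helper21)
-/

set_option autoImplicit false
universe u
open CategoryTheory CategoryTheory.Limits AlgebraicGeometry TopologicalSpace Opposite
open Groth.Agent.Lib.helper16.CohFinite Groth.Agent.Lib.helper21.RelFPAlg

namespace Groth.Agent.Lib.helper21.RelFPSch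

variable {X Y S : Scheme.{u}}

theorem isRelFP_pullback (f : X ⟶ Y) (g : Y ⟶ S) [LocallyOfFinitePresentation f]
    [LocallyOfFiniteType g] (G : Y.Modules) [G.IsQuasicoherent] (hG : Flatn.IsRelFP g G) :
    Flatn.IsRelFP (f ≫ g) ((Scheme.Modules.pullback f).obj G) := by
  refine ⟨Set.univ, iSup_affineOpens_univ S, fun W _ =>
    ⟨{U | ∃ V : Y.affineOpens, (V : Y.Opens) ≤ g ⁻¹ᵁ (W : S.Opens) ∧
      (U : X.Opens) ≤ f ⁻¹ᵁ (V : Y.Opens)}, ?_, ?_⟩⟩
  · apply le_antisymm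
    · refine iSup₂_le ?_
      rintro U ⟨V, hVW, hUV⟩
      exact hUV.trans (fun x hx => hVW hx)
    · intro x hx
      have hfx : f x ∈ g ⁻¹ᵁ (W : S.Opens) := hx
      obtain ⟨V, hV, hfxV, hVle⟩ := Opens.isBasis_iff_nbhd.mp Y.isBasis_affineOpens hfx
      have hx' : x ∈ f ⁻¹ᵁ V := hfxV
      obtain ⟨U, hU, hxU, hUle⟩ := Opens.isBasis_iff_nbhd.mp X.isBasis_affineOpens hx'
      simp only [Opens.mem_iSup]
      exact ⟨⟨U, hU⟩, ⟨⟨V, hV⟩, hVle, hUle⟩, hxU⟩
  · rintro U ⟨V, hVW, hUV⟩ h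
    have H := relFPOn_of_isRelFP g G hG V W hVW
    unfold Flatn.RelFPOn at H ⊢
    letI algRB : Algebra Γ(S, (W : S.Opens)) Γ(Y, (V : Y.Opens)) :=
      (g.appLE (W : S.Opens) (V : Y.Opens) hVW).hom.toAlgebra
    letI algBA : Algebra Γ(Y, (V : Y.Opens)) Γ(X, (U : X.Opens)) :=
      (f.appLE (V : Y.Opens) (U : X.Opens) hUV).hom.toAlgebra
    letI algRA : Algebra Γ(S, (W : S.Opens)) Γ(X, (U : X.Opens)) :=
      ((f ≫ g).appLE (W : S.Opens) (U : X.Opens) h).hom.toAlgebra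
    haveI : Algebra.FinitePresentation Γ(Y, (V : Y.Opens)) Γ(X, (U : X.Opens)) :=
      f.finitePresentation_appLE V.2 U.2 hUV
    haveI : Algebra.FiniteType Γ(S, (W : S.Opens)) Γ(Y, (V : Y.Opens)) :=
      g.finiteType_appLE W.2 V.2 hVW
    haveI : IsScalarTower Γ(S, (W : S.Opens)) Γ(Y, (V : Y.Opens)) Γ(X, (U : X.Opens)) := by
      refine IsScalarTower.of_algebraMap_eq' ?_
      have := Scheme.Hom.appLE_comp_appLE f g (W : S.Opens) (V : Y.Opens) (U : X.Opens) hVW hUV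
      exact congrArg CommRingCat.Hom.hom this.symm
    letI := modPull f hUV G
    haveI := isScalarTower_modPull f hUV G
    obtain ⟨k, hk⟩ := exists_isBaseChange_pull f V.2 U.2 hUV G
    change FlatCA.RelFinitePresentation Γ(S, (W : S.Opens)) Γ(X, (U : X.Opens))
      Γ((Scheme.Modules.pullback f).obj G, (U : X.Opens))
    exact relFP_of_isBaseChange_of_finitePresentation (R := Γ(S, (W : S.Opens)))
      (B := Γ(Y, (V : Y.Opens))) (A := Γ(X, (U : X.Opens))) (M := Γ(G, (V : Y.Opens))) k hk H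

end Groth.Agent.Lib.helper21.RelFPSch
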