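import Groth.Prelude.Def_AlgSpRep
import Mathlib

/-!
Helper library (helper21): elementary characterisation of relatively limit preserving
transformations of presheaves on `Over S`.
-/

set_option autoImplicit false
universe u
open CategoryTheory CategoryTheory.Limits AlgebraicGeometry Opposite AlgSp

namespace Groth.Agent.Lib.Helper21.RelLim

variable {S : Scheme.{u}}

section defs

variable {F G : PSp S} (a : F ⟶ G) {I : Type u} [SmallCategory I] (D : I ⥤ Over S) (c : Cone D)

/-- lifting of sections -/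
def ELS : Prop :=
  ∀ (i : I) (y : G.obj (op (D.obj i))) (x : F.obj (op c.pt)),
    a.app _ x = G.map (c.π.app i).op y →
    ∃ (j : I) (f : j ⟶ i) (xj : F.obj (op (D.obj j))),
      a.app _ xj = G.map (D.map f).op y ∧ F.map (c.π.app j).op xj = x

/-- uniqueness of liftings -/
def ELI : Prop :=
  ∀ (i : I) (x x' : F.obj (op (D.obj i))), a.app _ x = a.app _ x' →
    F.map (c.π.app i).op x = F.map (c.π.app i).op x' →
    ∃ (j : I) (f : j ⟶ i), F.map (D.map f).op x = F.map (D.map f).op x'

end defs

/-- the elementary form of "relatively limit preserving" -/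
def EL {F G : PSp S} (a : F ⟶ G) : Prop :=
  ∀ ⦃I : Type u⦄ [SmallCategory I] [IsCofiltered I] (D : I ⥤ Over S) (c : Cone D),
    IsLimit ((Over.forget S).mapCone c) → (∀ i, IsAffine (D.obj i).left) → IsAffine c.pt.left →
      ELS a D c ∧ ELI a D c

section toDef

variable {F G : PSp S} (a : F ⟶ G)

theorem F_map_comp {A B C' : Over S} (f : A ⟶ B) (g : B ⟶ C') (x : F.obj (op C')) :
    F.map f.op (F.map g.op x) = F.map (f ≫ g).op x := by
  rw [op_comp, CategoryTheory.Functor.map_comp]
  rfl

theorem a_nat {A B : Over S} (f : A ⟶ B) (x : F.obj (op B)) :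
    a.app (op A) (F.map f.op x) = G.map f.op (a.app (op B) x) :=
  NatTrans.naturality_apply a f.op x

theorem isRel_of_EL (h : EL a) : IsRelLimitPreserving a := by
  intro T y I _ _ D c hc hD hpt
  let DS : I ⥤ Over S := D ⋙ Over.map T.hom
  let cS : Cone DS := (Over.map T.hom).mapCone c
  have hcS : IsLimit ((Over.forget S).mapCone cS) := by
    have e : (Over.map T.hom ⋙ Over.forget S) = Over.forget T.left := rfl
    exact hc
  obtain ⟨hS, hI⟩ := h DS cS hcS (fun i => hD i) hpt
  obtain ⟨i₀⟩ : Nonempty I := IsCofiltered.nonempty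
  refine ⟨Types.FilteredColimit.isColimitOf' _ _ ?_ ?_⟩
  · intro z
    have hz : a.app (op ((Over.map T.hom).obj c.pt)) z.1 = G.map (overHom T c.pt).op y := z.2
    have e1 : G.map ((Over.map T.hom).map (c.π.app i₀)).op (G.map (overHom T (D.obj i₀)).op y) =
        G.map (overHom T c.pt).op y := by
      rw [F_map_comp (F := G), map_comp_overHom]
      rfl
    obtain ⟨j, f, xj, hxj, hxj'⟩ := hS i₀ (G.map (overHom T (D.obj i₀)).op y) z.1
      (hz.trans e1.symm)
    have e2 : G.map ((Over.map T.hom).map (D.map f)).op (G.map (overHom T (D.obj i₀)).op y) =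
        G.map (overHom T (D.obj j)).op y := by
      rw [F_map_comp (F := G), map_comp_overHom]
    refine ⟨op j, ⟨xj, hxj.trans e2⟩, ?_⟩
    apply Subtype.ext
    exact hxj'.symm
  · intro i z z' hzz
    have h1 : F.map ((Over.map T.hom).map (c.π.app i.unop)).op z.1 =
        F.map ((Over.map T.hom).map (c.π.app i.unop)).op z'.1 := congrArg Subtype.val hzz
    obtain ⟨j, f, hf⟩ := hI i.unop z.1 z'.1 (z.2.trans z'.2.symm) h1
    refine ⟨op j, f.op, ?_⟩
    apply Subtype.ext
    exact hf

end toDef


section reindex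

variable {I : Type u} [SmallCategory I] (D : I ⥤ Over S) (c : Cone D) (i : I)

/-- the re-indexed system over `D.obj i` -/
def D' : Over i ⥤ Over (D.obj i).left where
  obj j := Over.mk (D.map j.hom).left
  map {j k} m := Over.homMk (D.map m.left).left (by
    have h := Over.w m
    simp only [Over.mk_hom]
    rw [← Over.comp_left, ← D.map_comp, h])
  map_id j := by
    ext
    simp
  map_comp m n := by
    ext
    simp

/-- the re-indexed cone -/
def c' : Cone (D' D i) where
  pt := Over.mk (c.π.app i).left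
  π :=
    { app := fun j => Over.homMk (c.π.app j.left).left (by
        change (c.π.app j.left).left ≫ (D.map j.hom).left = (c.π.app i).left
        rw [← Over.comp_left, c.w])
      naturality := by
        intro j k m
        ext
        change 𝟙 _ ≫ (c.π.app k.left).left = (c.π.app j.left).left ≫ (D.map m.left).left
        rw [Category.id_comp, ← Over.comp_left, c.w] }

/-- transport iso at stage `j` -/
def θ' (j : Over i) : (Over.map (D.obj i).hom).obj ((D' D i).obj j) ≅ D.obj j.left :=
  Over.isoMk (Iso.refl _) (by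
    change 𝟙 _ ≫ (D.obj j.left).hom = (D.map j.hom).left ≫ (D.obj i).hom
    rw [Category.id_comp, Over.w])

/-- transport iso at the vertex -/
def θ : (Over.map (D.obj i).hom).obj (c' D c i).pt ≅ c.pt :=
  Over.isoMk (Iso.refl _) (by
    change 𝟙 _ ≫ c.pt.hom = (c.π.app i).left ≫ (D.obj i).hom
    rw [Category.id_comp, Over.w]
    rfl)

theorem M1 (j : Over i) : overHom (D.obj i) ((D' D i).obj j) = (θ' D i j).hom ≫ D.map j.hom := by
  ext
  simp [θ', D']

theorem M2 : overHom (D.obj i) (c' D c i).pt = (θ D c i).hom ≫ c.π.app i := by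
  ext
  simp [θ, c']

theorem M3 (j : Over i) : (Over.map (D.obj i).hom).map ((c' D c i).π.app j) ≫ (θ' D i j).hom =
    (θ D c i).hom ≫ c.π.app j.left := by
  ext
  simp [θ, θ', c']
  exact Category.comp_id _

theorem M4 {j k : Over i} (m : j ⟶ k) : (Over.map (D.obj i).hom).map ((D' D i).map m) ≫ (θ' D i k).hom =
    (θ' D i j).hom ≫ D.map m.left := by
  ext
  simp [θ', D']

variable [IsCofiltered I]

/-- the re-indexed cone is a limit cone -/
noncomputable def isLimitC' (hc : IsLimit ((Over.forget S).mapCone c)) :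
    IsLimit ((Over.forget (D.obj i).left).mapCone (c' D c i)) :=
  (Functor.Initial.isLimitWhiskerEquiv (Over.forget i) ((Over.forget S).mapCone c)).symm hc

end reindex


section ofDef

variable {F G : PSp S} (a : F ⟶ G)

theorem F_map_iso_injective {A B : Over S} (e : A ≅ B) : Function.Injective (F.map e.hom.op) := by
  intro x x' h
  have h2 := congrArg (F.map e.inv.op) h
  rw [F_map_comp, F_map_comp, Iso.inv_hom_id] at h2
  simpa using h2

theorem EL_of_isRel (ha : IsRelLimitPreserving a) : EL a := by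
  intro I _ _ D c hc hD hpt
  constructor
  · intro i y x hx
    obtain ⟨hcol⟩ := ha (D.obj i) y (D' D i) (c' D c i) (isLimitC' D c i hc)
      (fun j => hD j.left) hpt
    have hz₀ : a.app _ (F.map (θ D c i).hom.op x) = G.map (overHom (D.obj i) (c' D c i).pt).op y := by
      rw [a_nat, hx, F_map_comp (F := G), M2]
    let z₀ : (fiberFun a (D.obj i) y).obj (op (c' D c i).pt) := ⟨F.map (θ D c i).hom.op x, hz₀⟩
    obtain ⟨j, z, hz⟩ := Types.jointly_surjective_of_isColimit hcol z₀
    have hz1 : F.map ((Over.map (D.obj i).hom).map ((c' D c i).π.app j.unop)).op z.1 =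
        F.map (θ D c i).hom.op x := congrArg Subtype.val hz
    have hz2 : a.app (op ((Over.map (D.obj i).hom).obj ((D' D i).obj j.unop))) z.1 =
        G.map (overHom (D.obj i) ((D' D i).obj j.unop)).op y := z.2
    refine ⟨j.unop.left, j.unop.hom, F.map (θ' D i j.unop).inv.op z.1, ?_, ?_⟩
    · rw [a_nat, hz2, F_map_comp (F := G), M1, Iso.inv_hom_id_assoc]
    · apply F_map_iso_injective (θ D c i)
      rw [← hz1, F_map_comp, F_map_comp, ← M3, Category.assoc, Iso.hom_inv_id,
        Category.comp_id]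
  · intro i x x' hxx hpt'
    obtain ⟨hcol⟩ := ha (D.obj i) (a.app _ x) (D' D i) (c' D c i) (isLimitC' D c i hc)
      (fun j => hD j.left) hpt
    let j₀ : Over i := Over.mk (𝟙 i)
    have hid : D.map j₀.hom = 𝟙 _ := D.map_id i
    have hz : a.app _ (F.map (θ' D i j₀).hom.op x) =
        G.map (overHom (D.obj i) ((D' D i).obj j₀)).op (a.app _ x) := by
      rw [a_nat, M1, hid, Category.comp_id]
      rfl
    have hz' : a.app _ (F.map (θ' D i j₀).hom.op x') =
        G.map (overHom (D.obj i) ((D' D i).obj j₀)).op (a.app _ x) := by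
      rw [a_nat, M1, hid, Category.comp_id, hxx]
      rfl
    let z : (fiberFun a (D.obj i) (a.app _ x)).obj (op ((D' D i).obj j₀)) :=
      ⟨F.map (θ' D i j₀).hom.op x, hz⟩
    let z' : (fiberFun a (D.obj i) (a.app _ x)).obj (op ((D' D i).obj j₀)) :=
      ⟨F.map (θ' D i j₀).hom.op x', hz'⟩
    have himg : ((fiberFun a (D.obj i) (a.app _ x)).mapCocone (c' D c i).op).ι.app (op j₀) z =
        ((fiberFun a (D.obj i) (a.app _ x)).mapCocone (c' D c i).op).ι.app (op j₀) z' := by
      apply Subtype.ext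
      change F.map ((Over.map (D.obj i).hom).map ((c' D c i).π.app j₀)).op
          (F.map (θ' D i j₀).hom.op x) =
        F.map ((Over.map (D.obj i).hom).map ((c' D c i).π.app j₀)).op
          (F.map (θ' D i j₀).hom.op x')
      rw [F_map_comp, F_map_comp, M3, ← F_map_comp, ← F_map_comp]
      exact congrArg _ hpt'
    obtain ⟨k, m, hm⟩ := (Types.FilteredColimit.isColimit_eq_iff' hcol z z').mp himg
    have hm1 : F.map ((Over.map (D.obj i).hom).map ((D' D i).map m.unop)).op
          (F.map (θ' D i j₀).hom.op x) =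
        F.map ((Over.map (D.obj i).hom).map ((D' D i).map m.unop)).op
          (F.map (θ' D i j₀).hom.op x') := congrArg Subtype.val hm
    refine ⟨k.unop.left, m.unop.left, ?_⟩
    apply F_map_iso_injective (θ' D i k.unop)
    rw [F_map_comp, F_map_comp, ← M4]
    rw [F_map_comp, F_map_comp] at hm1
    exact hm1

theorem isRel_iff_EL : IsRelLimitPreserving a ↔ EL a :=
  ⟨EL_of_isRel a, isRel_of_EL a⟩

end ofDef


section consequences

variable {F G H : PSp S}

theorem a_nat_π (a : F ⟶ G) {I : Type u} [SmallCategory I] {D : I ⥤ Over S} (c : Cone D) (j : I)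
    (x : F.obj (op (D.obj j))) :
    a.app (op c.pt) (F.map (c.π.app j).op x) = G.map (c.π.app j).op (a.app (op (D.obj j)) x) :=
  a_nat a (c.π.app j) x

theorem comp_app_apply (a : F ⟶ G) (b : G ⟶ H) (X : (Over S)ᵒᵖ) (x : F.obj X) :
    (a ≫ b).app X x = b.app X (a.app X x) := rfl

theorem EL_comp (a : F ⟶ G) (b : G ⟶ H) (ha : EL a) (hb : EL b) : EL (a ≫ b) := by
  intro I _ _ D c hc hD hpt
  obtain ⟨haS, haI⟩ := ha D c hc hD hpt
  obtain ⟨hbS, hbI⟩ := hb D c hc hD hpt
  constructor
  · intro i y x hx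
    rw [comp_app_apply] at hx
    obtain ⟨j, f, gj, hgj, hgj'⟩ := hbS i y (a.app _ x) hx
    obtain ⟨k, g, xk, hxk, hxk'⟩ := haS j gj x hgj'.symm
    refine ⟨k, g ≫ f, xk, ?_, hxk'⟩
    rw [comp_app_apply, hxk, a_nat b, hgj, F_map_comp (F := H), ← D.map_comp]
  · intro i x x' hxx hpt'
    rw [comp_app_apply, comp_app_apply] at hxx
    obtain ⟨j, f, hf⟩ := hbI i (a.app _ x) (a.app _ x') hxx (by
      rw [← a_nat_π a, ← a_nat_π a, hpt'])
    rw [← a_nat a, ← a_nat a] at hf
    obtain ⟨k, g, hg⟩ := haI j (F.map (D.map f).op x) (F.map (D.map f).op x') hf (by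
      rw [F_map_comp, F_map_comp, c.w, hpt'])
    refine ⟨k, g ≫ f, ?_⟩
    rw [F_map_comp, F_map_comp, ← D.map_comp] at hg
    exact hg

theorem EL_of_comp (a : F ⟶ G) (b : G ⟶ H) (hab : EL (a ≫ b)) (hb : EL b) : EL a := by
  intro I _ _ D c hc hD hpt
  obtain ⟨habS, habI⟩ := hab D c hc hD hpt
  obtain ⟨hbS, hbI⟩ := hb D c hc hD hpt
  constructor
  · intro i y x hx
    obtain ⟨j, f, xj, hxj, hxj'⟩ := habS i (b.app _ y) x (by
      rw [comp_app_apply, hx, a_nat b])
    rw [comp_app_apply, ← a_nat b] at hxj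
    have e1 : G.map (c.π.app j).op (a.app _ xj) =
        G.map (c.π.app j).op (G.map (D.map f).op y) := by
      have h1 : G.map (c.π.app j).op (a.app _ xj) = a.app (op c.pt) (F.map (c.π.app j).op xj) :=
        (a_nat a (c.π.app j) xj).symm
      have h2 : G.map (c.π.app j).op (G.map (D.map f).op y) = G.map (c.π.app i).op y := by
        rw [F_map_comp (F := G), c.w]
      rw [h1, hxj', hx, h2]
    obtain ⟨k, g, hg⟩ := hbI j (a.app _ xj) (G.map (D.map f).op y) hxj e1
    refine ⟨k, g ≫ f, F.map (D.map g).op xj, ?_, ?_⟩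
    · rw [a_nat a, hg, F_map_comp (F := G), ← D.map_comp]
    · rw [F_map_comp, c.w, hxj']
  · intro i x x' hxx hpt'
    exact habI i x x' (by rw [comp_app_apply, comp_app_apply, hxx]) hpt'

theorem EL_baseChange {P : PSp S} (a : F ⟶ G) (b : H ⟶ G) (fst : P ⟶ F) (snd : P ⟶ H)
    (hP : IsPullback fst snd a b) (ha : EL a) : EL snd := by
  have hPX : ∀ X : (Over S)ᵒᵖ, IsPullback (fst.app X) (snd.app X) (a.app X) (b.app X) :=
    fun X => hP.map ((evaluation _ _).obj X)
  have hw : ∀ (X : (Over S)ᵒᵖ) (p : P.obj X), a.app X (fst.app X p) = b.app X (snd.app X p) :=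
    fun X p => ConcreteCategory.congr_hom (hPX X).w p
  intro I _ _ D c hc hD hpt
  obtain ⟨haS, haI⟩ := ha D c hc hD hpt
  constructor
  · intro i h p hp
    obtain ⟨j, f, xj, hxj, hxj'⟩ := haS i (b.app _ h) (fst.app _ p) (by
      rw [hw, hp, a_nat b])
    rw [← a_nat b] at hxj
    obtain ⟨pj, hpj1, hpj2⟩ := Types.exists_of_isPullback (hPX _) xj (H.map (D.map f).op h) hxj
    refine ⟨j, f, pj, hpj2, ?_⟩
    apply Types.ext_of_isPullback (hPX (op c.pt))
    · show fst.app (op c.pt) (P.map (c.π.app j).op pj) = fst.app (op c.pt) p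
      rw [a_nat_π fst, hpj1, hxj']
    · show snd.app (op c.pt) (P.map (c.π.app j).op pj) = snd.app (op c.pt) p
      rw [a_nat_π snd, hpj2, hp, F_map_comp (F := H), c.w]
  · intro i p p' hpp hpt'
    obtain ⟨j, f, hf⟩ := haI i (fst.app _ p) (fst.app _ p') (by rw [hw, hw, hpp]) (by
      rw [← a_nat_π fst, ← a_nat_π fst, hpt'])
    refine ⟨j, f, ?_⟩
    apply Types.ext_of_isPullback (hPX _)
    · rw [a_nat fst, a_nat fst, hf]
    · rw [a_nat snd, a_nat snd, hpp]

end consequences

end Groth.Agent.Lib.Helper21.RelLim
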