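import Groth.Agent.Lib.Helper21.RelLim

/-!
Helper library (helper21): the cartesian-square form of "relatively limit preserving".
-/

set_option autoImplicit false
universe u
open CategoryTheory CategoryTheory.Limits AlgebraicGeometry Opposite AlgSp

namespace Groth.Agent.Lib.Helper21.RelLim

variable {S : Scheme.{u}}

section square

variable {F G : PSp S} (a : F ⟶ G) {I : Type u} [SmallCategory I] [IsCofiltered I]
  (D : I ⥤ Over S) (c : Cone D)

theorem t_ι (i : I) (x : F.obj (op (D.obj i))) :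
    colimMap (Functor.whiskerLeft D.op a) (colimit.ι (D.op ⋙ F) (op i) x) =
      colimit.ι (D.op ⋙ G) (op i) (a.app (op (D.obj i)) x) :=
  ConcreteCategory.congr_hom (ι_colimMap (Functor.whiskerLeft D.op a) (op i)) x

theorem l_ι (H : PSp S) (i : I) (x : H.obj (op (D.obj i))) :
    colimit.desc (D.op ⋙ H) (H.mapCocone c.op) (colimit.ι (D.op ⋙ H) (op i) x) =
      H.map (c.π.app i).op x :=
  ConcreteCategory.congr_hom (colimit.ι_desc (H.mapCocone c.op) (op i)) x

theorem ι_eq_iff (H : PSp S) {i j : I} (x : H.obj (op (D.obj i))) (y : H.obj (op (D.obj j))) :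
    colimit.ι (D.op ⋙ H) (op i) x = colimit.ι (D.op ⋙ H) (op j) y ↔
      ∃ (k : I) (f : k ⟶ i) (g : k ⟶ j), H.map (D.map f).op x = H.map (D.map g).op y := by
  rw [Types.FilteredColimit.colimit_eq_iff]
  constructor
  · rintro ⟨k, f, g, h⟩
    exact ⟨k.unop, f.unop, g.unop, h⟩
  · rintro ⟨k, f, g, h⟩
    exact ⟨op k, f.op, g.op, h⟩

theorem ι_surj (H : PSp S) (ξ : colimit (D.op ⋙ H)) :
    ∃ (i : I) (x : H.obj (op (D.obj i))), colimit.ι (D.op ⋙ H) (op i) x = ξ := by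
  obtain ⟨j, x, hx⟩ := Types.jointly_surjective' ξ
  exact ⟨j.unop, x, hx⟩

theorem ι_w (H : PSp S) {i j : I} (f : j ⟶ i) (x : H.obj (op (D.obj i))) :
    colimit.ι (D.op ⋙ H) (op j) (H.map (D.map f).op x) = colimit.ι (D.op ⋙ H) (op i) x :=
  ConcreteCategory.congr_hom (colimit.w (D.op ⋙ H) f.op) x

theorem isPullback_of_EL (hS : ELS a D c) (hI : ELI a D c) :
    IsPullback (colimMap (Functor.whiskerLeft D.op a))
      (colimit.desc (D.op ⋙ F) (F.mapCocone c.op))
      (colimit.desc (D.op ⋙ G) (G.mapCocone c.op)) (a.app (op c.pt)) := by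
  rw [Types.isPullback_iff]
  refine ⟨?_, ?_, ?_⟩
  · apply colimit.hom_ext
    intro j
    ext x
    change colimit.desc (D.op ⋙ G) (G.mapCocone c.op)
        (colimMap (Functor.whiskerLeft D.op a) (colimit.ι (D.op ⋙ F) (op j.unop) x)) =
      a.app (op c.pt) (colimit.desc (D.op ⋙ F) (F.mapCocone c.op)
        (colimit.ι (D.op ⋙ F) (op j.unop) x))
    rw [t_ι, l_ι, l_ι, a_nat_π]
  · rintro ξ ξ' ⟨h1, h2⟩
    obtain ⟨i, x, rfl⟩ := ι_surj D F ξ
    obtain ⟨i', x', rfl⟩ := ι_surj D F ξ'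
    rw [t_ι, t_ι, ι_eq_iff] at h1
    obtain ⟨k, f, g, hk⟩ := h1
    rw [← a_nat a, ← a_nat a] at hk
    rw [l_ι, l_ι] at h2
    obtain ⟨m, e, he⟩ := hI k (F.map (D.map f).op x) (F.map (D.map g).op x') hk (by
      rw [F_map_comp, F_map_comp, c.w, c.w]
      exact h2)
    rw [ι_eq_iff]
    refine ⟨m, e ≫ f, e ≫ g, ?_⟩
    rw [F_map_comp, F_map_comp, ← D.map_comp, ← D.map_comp] at he
    exact he
  · intro η x hη
    obtain ⟨i, y, rfl⟩ := ι_surj D G η
    rw [l_ι] at hη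
    obtain ⟨j, f, xj, hxj, hxj'⟩ := hS i y x hη.symm
    refine ⟨colimit.ι (D.op ⋙ F) (op j) xj, ?_, ?_⟩
    · rw [t_ι, hxj, ι_w]
    · rw [l_ι, hxj']

theorem EL_of_isPullback
    (h : IsPullback (colimMap (Functor.whiskerLeft D.op a))
      (colimit.desc (D.op ⋙ F) (F.mapCocone c.op))
      (colimit.desc (D.op ⋙ G) (G.mapCocone c.op)) (a.app (op c.pt))) :
    ELS a D c ∧ ELI a D c := by
  constructor
  · intro i y x hx
    obtain ⟨ξ, hξ1, hξ2⟩ := Types.exists_of_isPullback h (colimit.ι (D.op ⋙ G) (op i) y) x (by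
      rw [l_ι, hx])
    obtain ⟨j, xj, rfl⟩ := ι_surj D F ξ
    rw [t_ι, ι_eq_iff] at hξ1
    obtain ⟨k, f, g, hk⟩ := hξ1
    rw [l_ι] at hξ2
    refine ⟨k, g, F.map (D.map f).op xj, ?_, ?_⟩
    · rw [a_nat a, hk]
    · rw [F_map_comp, c.w, hξ2]
  · intro i x x' hxx hpt'
    have h1 : colimit.ι (D.op ⋙ F) (op i) x = colimit.ι (D.op ⋙ F) (op i) x' := by
      apply Types.ext_of_isPullback h
      · rw [t_ι, t_ι, hxx]
      · rw [l_ι, l_ι, hpt']
    rw [ι_eq_iff] at h1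
    obtain ⟨k, f, g, hk⟩ := h1
    obtain ⟨m, e, he⟩ := IsCofilteredOrEmpty.cone_maps f g
    refine ⟨m, e ≫ f, ?_⟩
    have h2 := congrArg (F.map (D.map e).op) hk
    rw [F_map_comp, F_map_comp, ← D.map_comp, ← D.map_comp, ← he] at h2
    exact h2

end square

theorem isRel_iff_isPullback {F G : PSp S} (a : F ⟶ G) :
    IsRelLimitPreserving a ↔
      ∀ ⦃I : Type u⦄ [SmallCategory I] [IsCofiltered I] (D : I ⥤ Over S) (c : Cone D),
        IsLimit ((Over.forget S).mapCone c) → (∀ i, IsAffine (D.obj i).left) → IsAffine c.pt.left →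
          IsPullback (colimMap (Functor.whiskerLeft D.op a))
            (colimit.desc (D.op ⋙ F) (F.mapCocone c.op))
            (colimit.desc (D.op ⋙ G) (G.mapCocone c.op)) (a.app (Opposite.op c.pt)) := by
  rw [isRel_iff_EL]
  constructor
  · intro h I _ _ D c hc hD hpt
    obtain ⟨hS, hI⟩ := h D c hc hD hpt
    exact isPullback_of_EL a D c hS hI
  · intro h I _ _ D c hc hD hpt
    exact EL_of_isPullback a D c (h D c hc hD hpt)

end Groth.Agent.Lib.Helper21.RelLim
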