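import Mathlib
import Groth.Prelude.Def_RDer
import Groth.Prelude.Def_EtDual
import Groth.Prelude.Def_EtDepth
import Groth.Agent.S0101
import Groth.Agent.Lib.Helper21.EdgeOutIso

/-!
# Sections with support: relative injectivity and the edge map under a depth hypothesis
-/

set_option autoImplicit false

open CategoryTheory CategoryTheory.Limits AlgebraicGeometry Opposite

namespace Groth.Agent.Lib.Helper21.SecSuppEdge

universe u

variable {X U : Scheme.{u}} (j : U ⟶ X) [EtCoh.BCCont j]

/-- `j^*` kills sheaves of sections supported off `U`. -/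
lemma isZero_pull_secSupp (G : EtCoh.Ab X) :
    IsZero ((EtCoh.pull j).obj ((EtDual.secSupp j).obj G)) := by
  haveI : PreservesFiniteLimits (EtCoh.pull j) := Groth.Agent.S0101.result j
  haveI : (EtCoh.pull j).Additive := (EtCoh.pullPushAdj j).left_adjoint_additive
  have hm : Mono ((EtCoh.pull j).map (EtDual.unitApp j G)) := by
    have h1 : (EtCoh.pull j).map (EtDual.unitApp j G) ≫
        (EtCoh.pullPushAdj j).counit.app ((EtCoh.pull j).obj G) = 𝟙 _ :=
      (EtCoh.pullPushAdj j).left_triangle_components G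
    exact mono_of_mono_fac h1
  have e : (EtCoh.pull j).obj (kernel (EtDual.unitApp j G)) ≅
      kernel ((EtCoh.pull j).map (EtDual.unitApp j G)) :=
    PreservesKernel.iso (EtCoh.pull j) (EtDual.unitApp j G)
  exact IsZero.of_iso (isZero_kernel_of_mono _) e

/-- every morphism out of a sheaf of sections supported off `U` is killed by the unit -/
lemma comp_unitApp_eq_zero {G H : EtCoh.Ab X} (a : (EtDual.secSupp j).obj G ⟶ H) :
    a ≫ EtDual.unitApp j H = 0 := by
  have h1 : a ≫ EtDual.unitApp j H =
      EtDual.unitApp j ((EtDual.secSupp j).obj G) ≫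
        (EtCoh.push j).map ((EtCoh.pull j).map a) :=
    ((EtCoh.pullPushAdj j).unit.naturality a)
  have h2 : (EtCoh.pull j).map a = 0 := (isZero_pull_secSupp j G).eq_of_src _ _
  rw [h1, h2, Functor.map_zero, comp_zero]

/-- relative injectivity of `Γ_Y(I)` for `I` injective -/
lemma exists_ext_secSupp {G I T : EtCoh.Ab X} [Injective I] (m : T ⟶ (EtDual.secSupp j).obj G)
    [Mono m] (φ : T ⟶ (EtDual.secSupp j).obj I) :
    ∃ h : (EtDual.secSupp j).obj G ⟶ (EtDual.secSupp j).obj I, m ≫ h = φ := by
  let a : (EtDual.secSupp j).obj G ⟶ I :=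
    Injective.factorThru (φ ≫ kernel.ι (EtDual.unitApp j I)) m
  have ha : m ≫ a = φ ≫ kernel.ι (EtDual.unitApp j I) := Injective.comp_factorThru _ _
  refine ⟨kernel.lift (EtDual.unitApp j I) a (comp_unitApp_eq_zero j a), ?_⟩
  rw [← cancel_mono (kernel.ι (EtDual.unitApp j I)), Category.assoc, kernel.lift_ι, ha]

end Groth.Agent.Lib.Helper21.SecSuppEdge
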