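import Mathlib
import Groth.Agent.Lib.Helper21.SecSuppEdge

/-!
# Étale depth is monotone in the closed subset

Additive functors preserve exactness in the range of a partial contracting homotopy;
`Γ_Z ∘ Γ_Y ≅ Γ_Z` for `Z ⊆ Y`.
-/

set_option autoImplicit false

open CategoryTheory CategoryTheory.Limits AlgebraicGeometry Opposite HomologicalComplex

namespace Groth.Agent.Lib.Helper21.EdgeOutIso

universe v₂ v₃ u₂ u₃

variable {B : Type u₂} [Category.{v₂} B] [Abelian B] {C : Type u₃} [Category.{v₃} C] [Abelian C]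
  (Ψ : B ⥤ C) [Ψ.Additive] (K : CochainComplex B ℕ)

lemma map_E (h : ∀ i : ℕ, K.X (i + 1) ⟶ K.X i) (i : ℕ) :
    Ψ.map (E K h i) =
      E ((Ψ.mapHomologicalComplex _).obj K) (fun i => Ψ.map (h i)) i := by
  cases i with
  | zero => exact Ψ.map_zero _ _
  | succ m => exact Ψ.map_comp _ _

omit [Abelian C] in
lemma exact_of_homotopy (S : ShortComplex B) (r : S.X₂ ⟶ S.X₁) (s : S.X₃ ⟶ S.X₂)
    (h : S.g ≫ s + r ≫ S.f = 𝟙 S.X₂) : S.Exact := by
  rw [ShortComplex.exact_iff_exact_up_to_refinements]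
  intro A x₂ hx₂
  refine ⟨A, 𝟙 A, inferInstance, x₂ ≫ r, ?_⟩
  rw [Category.id_comp]
  calc x₂ = x₂ ≫ 𝟙 _ := (Category.comp_id _).symm
    _ = x₂ ≫ (S.g ≫ s + r ≫ S.f) := by rw [h]
    _ = (x₂ ≫ r) ≫ S.f := by
      rw [Preadditive.comp_add, ← Category.assoc, hx₂, zero_comp, zero_add, Category.assoc]

/-- a partial contracting homotopy forces exactness -/
lemma exactAt_of_partial_homotopy (n : ℕ) (h : ∀ i : ℕ, K.X (i + 1) ⟶ K.X i)
    (hh : ∀ i < n, K.d i (i + 1) ≫ h i + E K h i = 𝟙 (K.X i)) (i : ℕ) (hi : i < n) :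
    K.ExactAt i := by
  cases i with
  | zero =>
    rw [K.exactAt_iff' 0 0 1 (by simp) (by simp)]
    refine exact_of_homotopy (K.sc' 0 0 1) 0 (h 0) ?_
    have h0 := hh 0 hi
    simp only [E, add_zero] at h0
    rw [zero_comp, add_zero]
    exact h0
  | succ m =>
    rw [K.exactAt_iff' m (m + 1) (m + 2) (by simp) (by simp)]
    refine exact_of_homotopy (K.sc' m (m + 1) (m + 2)) (h m) (h (m + 1)) ?_
    have h0 := hh (m + 1) hi
    simp only [E] at h0
    exact h0

/-- additive functors preserve exactness in the range of a partial contracting homotopy -/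
theorem exactAt_map (n : ℕ) (hex : ∀ i < n, K.ExactAt i) (hri : ∀ i < n, RelInj K i)
    (i : ℕ) (hi : i < n) : ((Ψ.mapHomologicalComplex _).obj K).ExactAt i := by
  obtain ⟨h, hh⟩ := exists_partial_homotopy K n hex hri
  refine exactAt_of_partial_homotopy ((Ψ.mapHomologicalComplex _).obj K) n
    (fun i => Ψ.map (h i)) ?_ i hi
  intro i hi
  rw [← map_E]
  have := congrArg (fun f => Ψ.map f) (hh i hi)
  simp only [Functor.map_add, Functor.map_comp] at this
  exact this.trans (Ψ.map_id _)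

end Groth.Agent.Lib.Helper21.EdgeOutIso

namespace Groth.Agent.Lib.Helper21.SecSuppEdge

universe u

section comp

variable {X U V : Scheme.{u}} (k : V ⟶ X) [EtCoh.BCCont k] (j' : U ⟶ V) [EtCoh.BCCont j']
  [EtCoh.BCCont (j' ≫ k)]

/-- pullbacks compose -/
noncomputable def pullCompIso :
    EtCoh.pull k ⋙ EtCoh.pull j' ≅ EtCoh.pull (j' ≫ k) :=
  Adjunction.leftAdjointCompIso (EtCoh.pullPushAdj k) (EtCoh.pullPushAdj j')
    (EtCoh.pullPushAdj (j' ≫ k)) (EtCoh.pushComp k j')

lemma isZero_pull_comp_secSupp (G : EtCoh.Ab X) :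
    IsZero ((EtCoh.pull (j' ≫ k)).obj ((EtDual.secSupp k).obj G)) := by
  haveI : (EtCoh.pull j').Additive := (EtCoh.pullPushAdj j').left_adjoint_additive
  have h1 : IsZero ((EtCoh.pull j').obj ((EtCoh.pull k).obj ((EtDual.secSupp k).obj G))) :=
    Functor.map_isZero _ (isZero_pull_secSupp k G)
  exact IsZero.of_iso h1 ((pullCompIso k j').app _).symm

/-- sections supported off `V` are supported off `U ⊆ V` -/
lemma ι_comp_unitApp_comp (G : EtCoh.Ab X) :
    kernel.ι (EtDual.unitApp k G) ≫ EtDual.unitApp (j' ≫ k) G = 0 := by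
  have h1 : kernel.ι (EtDual.unitApp k G) ≫ EtDual.unitApp (j' ≫ k) G =
      EtDual.unitApp (j' ≫ k) ((EtDual.secSupp k).obj G) ≫
        (EtCoh.push (j' ≫ k)).map ((EtCoh.pull (j' ≫ k)).map (kernel.ι (EtDual.unitApp k G))) :=
    ((EtCoh.pullPushAdj (j' ≫ k)).unit.naturality (kernel.ι (EtDual.unitApp k G)))
  have h2 : (EtCoh.pull (j' ≫ k)).map (kernel.ι (EtDual.unitApp k G)) = 0 :=
    (isZero_pull_comp_secSupp k j' G).eq_of_src _ _
  rw [h1, h2, Functor.map_zero, comp_zero]

/-- the comparison `Γ_Z(Γ_Y G) ⟶ Γ_Z G` -/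
noncomputable def τ (G : EtCoh.Ab X) :
    (EtDual.secSupp k).obj ((EtDual.secSupp (j' ≫ k)).obj G) ⟶ (EtDual.secSupp k).obj G :=
  (EtDual.secSupp k).map (kernel.ι (EtDual.unitApp (j' ≫ k) G))

lemma τ_ι (G : EtCoh.Ab X) :
    τ k j' G ≫ kernel.ι (EtDual.unitApp k G) =
      kernel.ι (EtDual.unitApp k ((EtDual.secSupp (j' ≫ k)).obj G)) ≫
        kernel.ι (EtDual.unitApp (j' ≫ k) G) := by
  simp [τ]

/-- the inverse comparison -/
noncomputable def β (G : EtCoh.Ab X) :
    (EtDual.secSupp k).obj G ⟶ (EtDual.secSupp k).obj ((EtDual.secSupp (j' ≫ k)).obj G) :=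
  kernel.lift (EtDual.unitApp k ((EtDual.secSupp (j' ≫ k)).obj G))
    (kernel.lift (EtDual.unitApp (j' ≫ k) G) (kernel.ι (EtDual.unitApp k G))
      (ι_comp_unitApp_comp k j' G))
    (comp_unitApp_eq_zero k _)

lemma β_ι (G : EtCoh.Ab X) :
    β k j' G ≫ kernel.ι (EtDual.unitApp k ((EtDual.secSupp (j' ≫ k)).obj G)) ≫
        kernel.ι (EtDual.unitApp (j' ≫ k) G) = kernel.ι (EtDual.unitApp k G) := by
  simp [β]

/-- `Γ_Z(Γ_Y G) ≅ Γ_Z G` -/
noncomputable def τIso (G : EtCoh.Ab X) :
    (EtDual.secSupp k).obj ((EtDual.secSupp (j' ≫ k)).obj G) ≅ (EtDual.secSupp k).obj G where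
  hom := τ k j' G
  inv := β k j' G
  hom_inv_id := by
    rw [← cancel_mono (kernel.ι (EtDual.unitApp k ((EtDual.secSupp (j' ≫ k)).obj G))),
      ← cancel_mono (kernel.ι (EtDual.unitApp (j' ≫ k) G))]
    simp only [Category.assoc, Category.id_comp]
    rw [β_ι, τ_ι]
  inv_hom_id := by
    rw [← cancel_mono (kernel.ι (EtDual.unitApp k G))]
    simp only [Category.assoc, Category.id_comp]
    rw [τ_ι, β_ι]

lemma τ_naturality {G G' : EtCoh.Ab X} (f : G ⟶ G') :
    (EtDual.secSupp k).map ((EtDual.secSupp (j' ≫ k)).map f) ≫ τ k j' G' =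
      τ k j' G ≫ (EtDual.secSupp k).map f := by
  rw [← cancel_mono (kernel.ι (EtDual.unitApp k G'))]
  simp [τ]

end comp

end Groth.Agent.Lib.Helper21.SecSuppEdge

namespace Groth.Agent.Lib.Helper21.SecSuppEdge

universe u

open Groth.Agent.Lib.Helper21.EdgeOutIso

section mono

variable {X U V : Scheme.{u}} (k : V ⟶ X) [EtCoh.BCCont k] (j' : U ⟶ V) [EtCoh.BCCont j']
  [EtCoh.BCCont (j' ≫ k)] [IsOpenImmersion (j' ≫ k)]

/-- étale depth along a smaller closed subset is at least as large -/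
theorem depthGE_of_comp (F : EtCoh.Ab X) (n : ℕ) (h : EtDepth.DepthGE (j' ≫ k) F n) :
    EtDepth.DepthGE k F n := by
  intro p hp
  have hex : ∀ i < n, (((EtDual.secSupp (j' ≫ k)).mapHomologicalComplex _).obj
      (injectiveResolution F).cocomplex).ExactAt i := by
    intro i hi
    rw [HomologicalComplex.exactAt_iff_isZero_homology]
    exact IsZero.of_iso (h i hi)
      ((injectiveResolution F).isoRightDerivedObj (EtDual.secSupp (j' ≫ k)) i).symm
  have hri : ∀ i < n, RelInj
      (((EtDual.secSupp (j' ≫ k)).mapHomologicalComplex _).obj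
        (injectiveResolution F).cocomplex) i := by
    intro i _ T m hm φ
    exact @exists_ext_secSupp _ _ (j' ≫ k) _
      ((injectiveResolution F).cocomplex.X (i + 1))
      ((injectiveResolution F).cocomplex.X i) T inferInstance m hm φ
  have hK := exactAt_map (EtDual.secSupp k)
    (((EtDual.secSupp (j' ≫ k)).mapHomologicalComplex _).obj
      (injectiveResolution F).cocomplex) n hex hri p hp
  let e : ((EtDual.secSupp k).mapHomologicalComplex _).obj
      (((EtDual.secSupp (j' ≫ k)).mapHomologicalComplex _).obj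
        (injectiveResolution F).cocomplex) ≅
      ((EtDual.secSupp k).mapHomologicalComplex _).obj (injectiveResolution F).cocomplex :=
    HomologicalComplex.Hom.isoOfComponents
      (fun i => τIso k j' ((injectiveResolution F).cocomplex.X i))
      (by
        intro i j _
        exact (τ_naturality k j' ((injectiveResolution F).cocomplex.d i j)).symm)
  rw [HomologicalComplex.exactAt_iff_isZero_homology] at hK
  have h2 : IsZero ((((EtDual.secSupp k).mapHomologicalComplex _).obj
      (injectiveResolution F).cocomplex).homology p) :=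
    IsZero.of_iso hK ((HomologicalComplex.homologyFunctor _ _ p).mapIso e).symm
  exact IsZero.of_iso h2 ((injectiveResolution F).isoRightDerivedObj (EtDual.secSupp k) p)

end mono

end Groth.Agent.Lib.Helper21.SecSuppEdge
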