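import Mathlib
import Groth.Agent.Lib.Helper21.QuotRestr

/-!
# `Γ_Z` commutes with localisation (helper21)

`Γ_Z(M)|_X ≅ Γ_{Z/X}(M|_X)` on a ringed site with binary products, naturally in `M`.
-/

set_option autoImplicit false

universe u

open CategoryTheory CategoryTheory.Limits Opposite

namespace Groth.Agent.Lib.helper21.SectRestr

open Groth.Agent.Lib.Helper21.TensorW Groth.Agent.Lib.Helper21.TensorAdj
  Groth.Agent.Lib.helper21.ModElt Groth.Agent.Lib.helper21.SuppAdj
  Groth.Agent.Lib.Helper21.ExtZeroS Groth.Agent.Lib.Helper21.ExtZeroP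
  Groth.Agent.Lib.helper21.QuotRestr
open scoped Classical

variable {C : Type u} [SmallCategory C] {J : GrothendieckTopology C} (O : Sheaf J CommRingCat.{u})
  [HasBinaryProducts C] (U X : C)

lemma T_eq_zero (N : PMX O.obj X) (Y : Cᵒᵖ) (h : ∀ (g : Y.unop ⟶ X) (n : comp N Y g), n = 0)
    (p : T N Y) : p = 0 := by
  induction p using DirectSum.induction_on with
  | zero => rfl
  | of g n => rw [h g n, map_zero]
  | add a b ha hb => rw [ha, hb, add_zero]

/-- extension by zero from `C/X` of a module null on `U × X` is null on `U` -/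
lemma isNullOn_extZero_of_null (N : ModSite.Mod (O.over X))
    (hN : ModSite.IsNullOn (O.over X) (Wov U X) N) :
    ModSite.IsNullOn O U ((ModSite.extZero O X).obj N) := by
  rw [ExtSupp.isNullOn_iff]
  intro Y f t
  let e := (extZeroIso O X).app N
  let P := (extP O X).obj (pv N)
  have hls : Presheaf.IsLocallySurjective J ((PresheafOfModules.toPresheaf _).map (unitP O P)) :=
    ((isIso_shf_map_iff (unitP O P)).1 inferInstance).2
  have h1 := Presheaf.imageSieve_mem (U := op Y) J
    ((PresheafOfModules.toPresheaf _).map (unitP O P)) (amap (pvMap e.hom) (op Y) t)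
  apply eq_zero_of_locally _ _ h1
  intro Y' k hk
  obtain ⟨p, hp⟩ := hk
  have hp0 : p = 0 := T_eq_zero O X (pv N) (op Y') (fun g n =>
    (ExtSupp.isNullOn_iff (O.over X) (Wov U X) N).1 hN
      (Over.homMk (prod.lift (k ≫ f) g) (prod.lift_snd _ _) : Over.mk g ⟶ Wov U X) n) p
  have h2 : amap (pvMap e.hom) (op Y') (rmap _ k.op t) = 0 := by
    rw [amap_rmap]
    refine Eq.trans hp.symm ?_
    rw [hp0]
    exact map_zero _
  exact (injective_of_mono e.hom (op Y')) (h2.trans (map_zero _).symm)

variable [ModSite.HasPushOver (O.over X) (Wov U X)]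

lemma isNullOn_restr_sectOn (M : ModSite.Mod O) :
    ModSite.IsNullOn (O.over X) (Wov U X)
      ((ModSite.restr O X).obj ((ModSite.sectOn O U).obj M)) := by
  rw [ExtSupp.isNullOn_iff]
  intro Y g x
  exact (ExtSupp.isNullOn_iff O U _).1 (isNullOn_sectOn O U M) (g.left ≫ prod.fst) x

/-- the inclusion `Γ_Z(M)|_X ⟶ M|_X` -/
noncomputable abbrev ιA (M : ModSite.Mod O) :
    (ModSite.restr O X).obj ((ModSite.sectOn O U).obj M) ⟶ (ModSite.restr O X).obj M :=
  (ModSite.restr O X).map ((ModSite.sectOnι O U).app M)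

instance (M : ModSite.Mod O) : Mono (ιA O U X M) :=
  inferInstanceAs (Mono ((ModSite.restr O X).map ((ModSite.sectOnι O U).app M)))

/-- the inclusion `Γ_{Z/X}(M|_X) ⟶ M|_X` -/
noncomputable abbrev ιB (M : ModSite.Mod O) :
    (ModSite.sectOn (O.over X) (Wov U X)).obj ((ModSite.restr O X).obj M) ⟶
      (ModSite.restr O X).obj M :=
  (ModSite.sectOnι (O.over X) (Wov U X)).app ((ModSite.restr O X).obj M)

/-- `Γ_Z(M)|_X ⟶ Γ_{Z/X}(M|_X)` -/
noncomputable def a (M : ModSite.Mod O) :
    (ModSite.restr O X).obj ((ModSite.sectOn O U).obj M) ⟶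
      (ModSite.sectOn (O.over X) (Wov U X)).obj ((ModSite.restr O X).obj M) :=
  sectLift (isNullOn_restr_sectOn O U X M) (ιA O U X M)

lemma a_ι (M : ModSite.Mod O) : a O U X M ≫ ιB O U X M = ιA O U X M :=
  sectLift_ι _ _

/-- `Γ_{Z/X}(M|_X) ⟶ Γ_Z(M)|_X` -/
noncomputable def b (M : ModSite.Mod O) :
    (ModSite.sectOn (O.over X) (Wov U X)).obj ((ModSite.restr O X).obj M) ⟶
      (ModSite.restr O X).obj ((ModSite.sectOn O U).obj M) :=
  (ModSite.extZeroAdj O X).homEquiv _ _
    (sectLift (isNullOn_extZero_of_null O U X _ (isNullOn_sectOn (O.over X) (Wov U X) _))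
      (((ModSite.extZeroAdj O X).homEquiv _ _).symm (ιB O U X M)))

lemma b_ι (M : ModSite.Mod O) : b O U X M ≫ ιA O U X M = ιB O U X M := by
  unfold b ιA
  rw [← Adjunction.homEquiv_naturality_right, sectLift_ι, Equiv.apply_symm_apply]

lemma a_b (M : ModSite.Mod O) : a O U X M ≫ b O U X M = 𝟙 _ := by
  rw [← cancel_mono (ιA O U X M), Category.assoc, b_ι, a_ι, Category.id_comp]

lemma b_a (M : ModSite.Mod O) : b O U X M ≫ a O U X M = 𝟙 _ := by
  rw [← cancel_mono (ιB O U X M), Category.assoc, a_ι, b_ι, Category.id_comp]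

/-- `Γ_Z` commutes with localisation -/
noncomputable def sectRestrIso :
    ModSite.sectOn O U ⋙ ModSite.restr O X ≅
      ModSite.restr O X ⋙ ModSite.sectOn (O.over X) (Wov U X) :=
  NatIso.ofComponents
    (fun M => ⟨a O U X M, b O U X M, a_b O U X M, b_a O U X M⟩) (by
    intro M M' φ
    dsimp only [Functor.comp_obj, Functor.comp_map]
    rw [← cancel_mono (ιB O U X M'), Category.assoc, Category.assoc, a_ι]
    have h1 := (ModSite.sectOnι (O.over X) (Wov U X)).naturality ((ModSite.restr O X).map φ)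
    have h2 := (ModSite.sectOnι O U).naturality φ
    dsimp only [Functor.id_obj, Functor.id_map] at h1 h2
    rw [h1, ← Category.assoc, a_ι]
    unfold ιA
    rw [← Functor.map_comp, ← Functor.map_comp, h2])

end Groth.Agent.Lib.helper21.SectRestr
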