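import Mathlib

/-!
# Spreading out morphisms into a scheme locally of finite presentation (helper21)

* `exists_lift_of_finitePresentation`: lifting `A ⟶ 𝒪_{X,x}` to a neighbourhood for `A` of finite presentation over `R`
  (Mathlib's `exists_lift_of_germInjective` without germ-injectivity).
* `spread_out_of_locallyOfFinitePresentation`: Stacks 0BX6 without any condition on `X`.
-/

set_option autoImplicit false
universe u

open CategoryTheory AlgebraicGeometry

namespace Groth.Agent.Lib.helper21.SpreadFP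

variable {X Y S : Scheme.{u}} (sX : X ⟶ S) (sY : Y ⟶ S) {R A : CommRingCat.{u}}

/-- a section with vanishing germ vanishes on a neighbourhood -/
lemma exists_res_eq_zero {U : X.Opens} {x : X} (hxU : x ∈ U) (s : Γ(X, U))
    (hs : X.presheaf.germ U x hxU s = 0) :
    ∃ (W : X.Opens) (_ : x ∈ W) (i : W ≤ U), X.presheaf.map (homOfLE i).op s = 0 := by
  obtain ⟨W, hxW, iU, iV, h⟩ := X.presheaf.germ_eq x hxU hxU s 0 (by rw [hs, map_zero])
  refine ⟨W, hxW, iU.le, ?_⟩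
  rw [map_zero] at h
  exact h

/-- Lifting `A ⟶ 𝒪_{X,x}` to a neighbourhood when `A` is of finite presentation over `R`
(no germ-injectivity needed). -/
lemma exists_lift_of_finitePresentation {x : X} {U : X.Opens} (hxU : x ∈ U)
    (φ : A ⟶ X.presheaf.stalk x) (φRA : R ⟶ A) (φRX : R ⟶ Γ(X, U))
    (hφRA : RingHom.FinitePresentation φRA.hom)
    (e : φRA ≫ φ = φRX ≫ X.presheaf.germ U x hxU) :
    ∃ (V : X.Opens) (hxV : x ∈ V) (φ' : A ⟶ Γ(X, V)) (i : V ≤ U), IsAffineOpen V ∧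
      φ = φ' ≫ X.presheaf.germ V x hxV ∧ φRX ≫ X.presheaf.map i.hom.op = φRA ≫ φ' := by
  algebraize [φRA.hom]
  have hfp : Algebra.FinitePresentation R A := hφRA
  obtain ⟨n, f, hf, hker⟩ := hfp.out
  obtain ⟨s, hs⟩ := hker
  -- lift the generators
  choose W hxW t ht using fun i : Fin n ↦ X.presheaf.exists_germ_eq (φ (f (MvPolynomial.X i)))
  let W₀ : X.Opens := (Finset.univ.inf W) ⊓ U
  have hxW₀ : x ∈ W₀ := by
    rw [← SetLike.mem_coe, TopologicalSpace.Opens.coe_inf, TopologicalSpace.Opens.coe_finset_inf]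
    exact ⟨by simpa using fun i ↦ hxW i, hxU⟩
  have iW₀U : W₀ ≤ U := inf_le_right
  have iW₀W : ∀ i, W₀ ≤ W i := fun i => inf_le_left.trans (Finset.inf_le (Finset.mem_univ i))
  let a₀ : R →+* Γ(X, W₀) := (φRX ≫ X.presheaf.map (homOfLE iW₀U).op).hom
  let g₀ : MvPolynomial (Fin n) R →+* Γ(X, W₀) :=
    MvPolynomial.eval₂Hom a₀ (fun i => X.presheaf.map (homOfLE (iW₀W i)).op (t i))
  have hg₀ : (X.presheaf.germ W₀ x hxW₀).hom.comp g₀ = φ.hom.comp f.toRingHom := by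
    apply MvPolynomial.ringHom_ext
    · intro r
      have h1 : g₀ (MvPolynomial.C r) = a₀ r := MvPolynomial.eval₂Hom_C _ _ _
      have h2 : f (MvPolynomial.C r) = φRA r := f.commutes r
      change X.presheaf.germ W₀ x hxW₀ (g₀ (MvPolynomial.C r)) = φ (f (MvPolynomial.C r))
      rw [h1, h2]
      have h3 := congrArg (fun ψ => ψ.hom r) e
      change φ (φRA r) = X.presheaf.germ U x hxU (φRX r) at h3
      rw [h3]
      exact X.presheaf.germ_res_apply (homOfLE iW₀U) x hxW₀ (φRX r)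
    · intro i
      have h1 : g₀ (MvPolynomial.X i) = X.presheaf.map (homOfLE (iW₀W i)).op (t i) :=
        MvPolynomial.eval₂Hom_X' _ _ _
      change X.presheaf.germ W₀ x hxW₀ (g₀ (MvPolynomial.X i)) = φ (f (MvPolynomial.X i))
      rw [h1, ← ht i]
      exact X.presheaf.germ_res_apply (homOfLE (iW₀W i)) x hxW₀ (t i)
  -- kill the relations
  have hzero : ∀ p ∈ s, X.presheaf.germ W₀ x hxW₀ (g₀ p) = 0 := by
    intro p hp
    have h1 := congrArg (fun ψ => ψ p) hg₀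
    change X.presheaf.germ W₀ x hxW₀ (g₀ p) = φ (f p) at h1
    rw [h1]
    have : p ∈ RingHom.ker f.toRingHom := by
      rw [← hs]; exact Ideal.subset_span hp
    have h2 : f p = 0 := this
    rw [h2, map_zero]
  choose W' hxW' iW' hW' using fun p : s => exists_res_eq_zero hxW₀ (g₀ p.1) (hzero p.1 p.2)
  let V₀ : X.Opens := (Finset.univ.inf W') ⊓ W₀
  have hxV₀ : x ∈ V₀ := by
    rw [← SetLike.mem_coe, TopologicalSpace.Opens.coe_inf, TopologicalSpace.Opens.coe_finset_inf]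
    exact ⟨by simpa using fun p ↦ hxW' p, hxW₀⟩
  obtain ⟨_, ⟨V, hV, rfl⟩, hxV, iVV₀⟩ :=
    X.isBasis_affineOpens.exists_subset_of_mem_open hxV₀ V₀.2
  have iVV₀' : V ≤ V₀ := iVV₀
  have iVW₀ : V ≤ W₀ := iVV₀'.trans inf_le_right
  have iVW' : ∀ p : s, V ≤ W' p :=
    fun p => iVV₀'.trans (inf_le_left.trans (Finset.inf_le (Finset.mem_univ p)))
  let g : MvPolynomial (Fin n) R →+* Γ(X, V) := (X.presheaf.map (homOfLE iVW₀).op).hom.comp g₀
  have hgker : RingHom.ker f.toRingHom ≤ RingHom.ker g := by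
    rw [← hs, Ideal.span_le]
    intro p hp
    change g p = 0
    change X.presheaf.map (homOfLE iVW₀).op (g₀ p) = 0
    have h1 : homOfLE iVW₀ = homOfLE (iVW' ⟨p, hp⟩) ≫ homOfLE (iW' ⟨p, hp⟩) := rfl
    rw [h1, op_comp, X.presheaf.map_comp]
    change X.presheaf.map (homOfLE (iVW' ⟨p, hp⟩)).op (X.presheaf.map (homOfLE (iW' ⟨p, hp⟩)).op (g₀ p)) = 0
    rw [hW' ⟨p, hp⟩, map_zero]
  let φ'₀ : A →+* Γ(X, V) := f.toRingHom.liftOfSurjective hf ⟨g, hgker⟩
  have hφ'₀ : φ'₀.comp f.toRingHom = g := RingHom.liftOfSurjective_comp _ hf ⟨g, hgker⟩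
  refine ⟨V, hxV, CommRingCat.ofHom φ'₀, iVW₀.trans iW₀U, hV, ?_, ?_⟩
  · ext a
    obtain ⟨p, rfl⟩ := hf a
    have h1 := congrArg (fun ψ => ψ p) hg₀
    change X.presheaf.germ W₀ x hxW₀ (g₀ p) = φ (f p) at h1
    have h2 := congrArg (fun ψ => ψ p) hφ'₀
    change φ'₀ (f p) = X.presheaf.map (homOfLE iVW₀).op (g₀ p) at h2
    change φ (f p) = X.presheaf.germ V x hxV (φ'₀ (f p))
    rw [h2, ← h1]
    exact (X.presheaf.germ_res_apply (homOfLE iVW₀) x hxV (g₀ p)).symm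
  · ext r
    have h2 := congrArg (fun ψ => ψ (MvPolynomial.C r)) hφ'₀
    change φ'₀ (f (MvPolynomial.C r)) = X.presheaf.map (homOfLE iVW₀).op (g₀ (MvPolynomial.C r)) at h2
    have h3 : f (MvPolynomial.C r) = φRA r := f.commutes r
    have h4 : g₀ (MvPolynomial.C r) = a₀ r := MvPolynomial.eval₂Hom_C _ _ _
    change X.presheaf.map (iVW₀.trans iW₀U).hom.op (φRX r) = φ'₀ (φRA r)
    rw [← h3, h2, h4]
    change _ = X.presheaf.map (homOfLE iVW₀).op (X.presheaf.map (homOfLE iW₀U).op (φRX r))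
    have h5 : (iVW₀.trans iW₀U).hom = homOfLE iVW₀ ≫ homOfLE iW₀U := rfl
    rw [h5, op_comp, X.presheaf.map_comp]
    rfl

set_option backward.isDefEq.respectTransparency.types false in
/-- spreading out for a target locally of finite presentation (Stacks 0BX6, no condition on `X`) -/
theorem spread_out_of_locallyOfFinitePresentation [LocallyOfFinitePresentation sY] {x : X} {y : Y}
    (e : sX x = sY y) (φ : Y.presheaf.stalk y ⟶ X.presheaf.stalk x)
    (h : sY.stalkMap y ≫ φ =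
      S.presheaf.stalkSpecializes (Inseparable.of_eq e).specializes ≫ sX.stalkMap x) :
    ∃ (U : X.Opens) (hxU : x ∈ U) (f : U.toScheme ⟶ Y),
      Spec.map φ ≫ Y.fromSpecStalk y = U.fromSpecStalkOfMem x hxU ≫ f ∧
      f ≫ sY = U.ι ≫ sX := by
  obtain ⟨_, ⟨U, hU, rfl⟩, hxU, -⟩ :=
    S.isBasis_affineOpens.exists_subset_of_mem_open (Set.mem_univ (sX x)) isOpen_univ
  have hyU : sY y ∈ U := e ▸ hxU
  obtain ⟨_, ⟨V : Y.Opens, hV, rfl⟩, hyV, iVU⟩ :=
    Y.isBasis_affineOpens.exists_subset_of_mem_open hyU (sY ⁻¹ᵁ U).2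
  have : sY.appLE U V iVU ≫ Y.presheaf.germ V y hyV ≫ φ =
      sX.app U ≫ X.presheaf.germ (sX ⁻¹ᵁ U) x hxU := by
    rw [Scheme.Hom.appLE, Category.assoc, Y.presheaf.germ_res_assoc,
      ← Scheme.Hom.germ_stalkMap_assoc, h]
    simp
  obtain ⟨W, hxW, φ', i, hW, h₁, h₂⟩ :=
    exists_lift_of_finitePresentation (R := Γ(S, U)) (A := Γ(Y, V)) (U := sX ⁻¹ᵁ U) (x := x) hxU
    (Y.presheaf.germ _ y hyV ≫ φ) (sY.appLE U V iVU) (sX.app U)
    (sY.finitePresentation_appLE hU hV _) this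
  refine ⟨W, hxW, W.toSpecΓ ≫ Spec.map φ' ≫ hV.fromSpec, ?_, ?_⟩
  · rw [W.fromSpecStalkOfMem_toSpecΓ_assoc x hxW, ← Spec.map_comp_assoc, ← h₁,
      Spec.map_comp, Category.assoc, ← IsAffineOpen.fromSpecStalk,
      IsAffineOpen.fromSpecStalk_eq_fromSpecStalk]
  · simp only [Category.assoc]
    rw [← IsAffineOpen.SpecMap_appLE_fromSpec sY hU hV iVU, ← Spec.map_comp_assoc, ← h₂,
      ← Scheme.Hom.appLE, ← hW.isoSpec_hom, IsAffineOpen.SpecMap_appLE_fromSpec sX hU hW i,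
      ← Iso.eq_inv_comp, IsAffineOpen.isoSpec_inv_ι_assoc]

end Groth.Agent.Lib.helper21.SpreadFP
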