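import Mathlib
import Groth.Agent.Lib.Helper21.SpreadFP

/-!
# Spreading out isomorphisms of local rings (helper21)

* `spread_out_unique_of_locallyOfFiniteType`(`'`), `spread_out_unique_opens`: two `S`-morphisms into a scheme locally of
  finite type over `S` which agree on `Spec 𝒪_{X,x}` agree near `x` (no germ-injectivity).
* `comp_spread`, `exists_half`, `half_comp`: bookkeeping for partially defined morphisms.
* `exists_isIso_spread_out`: an `S`-isomorphism of local rings of schemes locally of finite presentation over `S`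
  spreads out to an isomorphism of open neighbourhoods.
-/

set_option autoImplicit false
universe u

open CategoryTheory AlgebraicGeometry

namespace Groth.Agent.Lib.helper21.SpreadFP

variable {X Y S : Scheme.{u}} (sX : X ⟶ S) (sY : Y ⟶ S)

lemma appLE_congr_hom {X Y : Scheme.{u}} {k k' : X ⟶ Y} (h : k = k') (U : Y.Opens) (V : X.Opens)
    (e : V ≤ k ⁻¹ᵁ U) : k.appLE U V e = k'.appLE U V (h ▸ e) := by
  subst h; rfl

set_option backward.isDefEq.respectTransparency.types false in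
/-- two `S`-morphisms into a scheme locally of finite type over `S` which agree on the stalk at `x`
agree on a neighbourhood of `x` (no condition on `X`) -/
lemma spread_out_unique_of_locallyOfFiniteType [LocallyOfFiniteType sY] {x : X}
    (f g : X ⟶ Y) (hfg : f ≫ sY = g ≫ sY) (e : f x = g x)
    (H : f.stalkMap x =
      Y.presheaf.stalkSpecializes (Inseparable.of_eq e.symm).specializes ≫ g.stalkMap x) :
    ∃ (U : X.Opens), x ∈ U ∧ U.ι ≫ f = U.ι ≫ g := by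
  obtain ⟨_, ⟨US, hUS, rfl⟩, hxUS, -⟩ :=
    S.isBasis_affineOpens.exists_subset_of_mem_open (Set.mem_univ (sY (f x))) isOpen_univ
  obtain ⟨_, ⟨V : Y.Opens, hV, rfl⟩, hxV, iVUS⟩ :=
    Y.isBasis_affineOpens.exists_subset_of_mem_open (show f x ∈ sY ⁻¹ᵁ US from hxUS) (sY ⁻¹ᵁ US).2
  have hxV' : g x ∈ V := e ▸ hxV
  let U₀ : X.Opens := f ⁻¹ᵁ V ⊓ g ⁻¹ᵁ V
  have hxU₀ : x ∈ U₀ := ⟨hxV, hxV'⟩
  let a := f.appLE V U₀ inf_le_left
  let b := g.appLE V U₀ inf_le_right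
  have hgerm : a ≫ X.presheaf.germ U₀ x hxU₀ = b ≫ X.presheaf.germ U₀ x hxU₀ := by
    simp only [a, b, Scheme.Hom.appLE, Category.assoc, X.presheaf.germ_res', ← Scheme.Hom.germ_stalkMap, H]
    simp only [TopCat.Presheaf.germ_stalkSpecializes_assoc, Scheme.Hom.germ_stalkMap]
  have hR : sY.appLE US V iVUS ≫ a = sY.appLE US V iVUS ≫ b := by
    simp only [a, b]
    rw [Scheme.Hom.appLE_comp_appLE, Scheme.Hom.appLE_comp_appLE]
    exact appLE_congr_hom hfg _ _ _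
  have hft := sY.finiteType_appLE hUS hV iVUS
  algebraize [(sY.appLE US V iVUS).hom]
  obtain ⟨s, hs⟩ := (‹Algebra.FiniteType Γ(S, US) Γ(Y, V)›).out
  have hex : ∀ t : s, ∃ (W : X.Opens) (_ : x ∈ W) (i : W ≤ U₀),
      X.presheaf.map (homOfLE i).op (a t.1) = X.presheaf.map (homOfLE i).op (b t.1) := by
    intro t
    have h1 := congrArg (fun ψ => ψ.hom t.1) hgerm
    change X.presheaf.germ U₀ x hxU₀ (a t.1) = X.presheaf.germ U₀ x hxU₀ (b t.1) at h1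
    obtain ⟨W, hxW, iU, iV, h⟩ := X.presheaf.germ_eq x hxU₀ hxU₀ (a t.1) (b t.1) h1
    exact ⟨W, hxW, iU.le, h⟩
  choose W hxW iW hW using hex
  let U : X.Opens := (Finset.univ.inf W) ⊓ U₀
  have hxU : x ∈ U := by
    rw [← SetLike.mem_coe, TopologicalSpace.Opens.coe_inf, TopologicalSpace.Opens.coe_finset_inf]
    exact ⟨by simpa using fun t ↦ hxW t, hxU₀⟩
  have iUU₀ : U ≤ U₀ := inf_le_right
  have iUW : ∀ t, U ≤ W t := fun t => inf_le_left.trans (Finset.inf_le (Finset.mem_univ t))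
  have key : a ≫ X.presheaf.map (homOfLE iUU₀).op = b ≫ X.presheaf.map (homOfLE iUU₀).op := by
    ext z
    have hz : z ∈ Algebra.adjoin Γ(S, US) (s : Set Γ(Y, V)) := by rw [hs]; trivial
    change X.presheaf.map (homOfLE iUU₀).op (a z) = X.presheaf.map (homOfLE iUU₀).op (b z)
    induction hz using Algebra.adjoin_induction with
    | mem t ht =>
      have h1 : homOfLE iUU₀ = homOfLE (iUW ⟨t, ht⟩) ≫ homOfLE (iW ⟨t, ht⟩) := rfl
      rw [h1, op_comp, X.presheaf.map_comp]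
      change X.presheaf.map (homOfLE (iUW ⟨t, ht⟩)).op (X.presheaf.map (homOfLE (iW ⟨t, ht⟩)).op (a t)) =
        X.presheaf.map (homOfLE (iUW ⟨t, ht⟩)).op (X.presheaf.map (homOfLE (iW ⟨t, ht⟩)).op (b t))
      rw [hW ⟨t, ht⟩]
    | algebraMap r =>
      have h1 := congrArg (fun ψ => ψ.hom r) hR
      change a (sY.appLE US V iVUS r) = b (sY.appLE US V iVUS r) at h1
      change X.presheaf.map (homOfLE iUU₀).op (a (sY.appLE US V iVUS r)) =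
        X.presheaf.map (homOfLE iUU₀).op (b (sY.appLE US V iVUS r))
      rw [h1]
    | add z w _ _ hz hw => rw [map_add, map_add, map_add, map_add, hz, hw]
    | mul z w _ _ hz hw => rw [map_mul, map_mul, map_mul, map_mul, hz, hw]
  refine ⟨U, hxU, ?_⟩
  have hUV : U ≤ f ⁻¹ᵁ V ⊓ g ⁻¹ᵁ V := iUU₀
  rw [← Scheme.Hom.resLE_comp_ι _ (hUV.trans inf_le_left),
    ← Scheme.Hom.resLE_comp_ι _ (hUV.trans inf_le_right)]
  congr 1
  have : IsAffine V := hV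
  have key' : f.appLE V U (hUV.trans inf_le_left) = g.appLE V U (hUV.trans inf_le_right) := by
    have h1 : f.appLE V U (hUV.trans inf_le_left) = a ≫ X.presheaf.map (homOfLE iUU₀).op :=
      (Scheme.Hom.appLE_map f inf_le_left (homOfLE iUU₀).op).symm
    have h2 : g.appLE V U (hUV.trans inf_le_right) = b ≫ X.presheaf.map (homOfLE iUU₀).op :=
      (Scheme.Hom.appLE_map g inf_le_right (homOfLE iUU₀).op).symm
    rw [h1, h2, key]
  suffices ∀ (U₁ V₁) (eU : U = U₁) (eV : V = V₁),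
      f.appLE V₁ U₁ (eU ▸ eV ▸ hUV.trans inf_le_left) =
        g.appLE V₁ U₁ (eU ▸ eV ▸ hUV.trans inf_le_right) by
    rw [← cancel_mono V.toScheme.isoSpec.hom]
    simp only [Scheme.isoSpec, asIso_hom, Scheme.toSpecΓ_naturality,
      Scheme.Hom.app_eq_appLE, Scheme.Hom.resLE_appLE]
    congr 2
    apply this <;> simp
  rintro U₁ V₁ rfl rfl
  exact key'

set_option backward.isDefEq.respectTransparency.types false in
lemma spread_out_unique_of_locallyOfFiniteType' [LocallyOfFiniteType sY] {x : X}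
    (f g : X ⟶ Y) (hfg : f ≫ sY = g ≫ sY)
    (e : X.fromSpecStalk x ≫ f = X.fromSpecStalk x ≫ g) :
    ∃ (U : X.Opens), x ∈ U ∧ U.ι ≫ f = U.ι ≫ g := by
  fapply spread_out_unique_of_locallyOfFiniteType sY f g hfg
  · simpa using congr($e (IsLocalRing.closedPoint _))
  · apply Spec.map_injective
    rw [← cancel_mono (Y.fromSpecStalk _)]
    simpa [Scheme.SpecMap_stalkSpecializes_fromSpecStalk]

/-- the version for morphisms defined on an open subscheme -/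
lemma spread_out_unique_opens [LocallyOfFiniteType sY] (U : X.Opens) {x : X} (hxU : x ∈ U)
    (a b : U.toScheme ⟶ Y) (hab : a ≫ sY = b ≫ sY)
    (e : U.fromSpecStalkOfMem x hxU ≫ a = U.fromSpecStalkOfMem x hxU ≫ b) :
    ∃ (U' : X.Opens) (hU' : U' ≤ U), x ∈ U' ∧ X.homOfLE hU' ≫ a = X.homOfLE hU' ≫ b := by
  have e' : U.toScheme.fromSpecStalk ⟨x, hxU⟩ ≫ a = U.toScheme.fromSpecStalk ⟨x, hxU⟩ ≫ b := by
    have h1 := e
    simp only [Scheme.Opens.fromSpecStalkOfMem, Category.assoc] at h1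
    exact (cancel_epi _).1 h1
  obtain ⟨W, hxW, hW⟩ := spread_out_unique_of_locallyOfFiniteType' sY a b hab e'
  have hU' : U.ι ''ᵁ W ≤ U := U.ι_image_le W
  refine ⟨U.ι ''ᵁ W, hU', ⟨⟨x, hxU⟩, hxW, rfl⟩, ?_⟩
  have h2 : (U.ι.isoImage W).hom ≫ X.homOfLE hU' = W.ι := by
    rw [← cancel_mono U.ι, Category.assoc, Scheme.homOfLE_ι, Scheme.Hom.isoImage_hom_ι]
  have h3 : X.homOfLE hU' = (U.ι.isoImage W).inv ≫ W.ι := by
    rw [← h2, Iso.inv_hom_id_assoc]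
  rw [h3, Category.assoc, Category.assoc, hW]

/-- restriction of `f : U ⟶ Y` to `U' ≤ U` with image in `V` -/
noncomputable def rl {U U' : X.Opens} (f : U.toScheme ⟶ Y) (hU' : U' ≤ U) (V : Y.Opens)
    (hV : ∀ z : U', f (X.homOfLE hU' z) ∈ V) : U'.toScheme ⟶ V.toScheme :=
  IsOpenImmersion.lift V.ι (X.homOfLE hU' ≫ f) (by
    rintro _ ⟨z, rfl⟩
    rw [Scheme.Opens.range_ι]
    exact hV z)

lemma rl_ι {U U' : X.Opens} (f : U.toScheme ⟶ Y) (hU' : U' ≤ U) (V : Y.Opens)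
    (hV : ∀ z : U', f (X.homOfLE hU' z) ∈ V) :
    rl f hU' V hV ≫ V.ι = X.homOfLE hU' ≫ f :=
  IsOpenImmersion.lift_fac _ _ _

lemma fromSpecStalkOfMem_homOfLE {U U' : X.Opens} (hU' : U' ≤ U) {x : X} (hx : x ∈ U') :
    U'.fromSpecStalkOfMem x hx ≫ X.homOfLE hU' = U.fromSpecStalkOfMem x (hU' hx) := by
  rw [← cancel_mono U.ι, Category.assoc, Scheme.homOfLE_ι, Scheme.Opens.fromSpecStalkOfMem_ι,
    Scheme.Opens.fromSpecStalkOfMem_ι]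

lemma fromSpecStalkOfMem_closedPoint {U : X.Opens} {x : X} (hx : x ∈ U) :
    U.fromSpecStalkOfMem x hx (IsLocalRing.closedPoint _) = ⟨x, hx⟩ := by
  apply Subtype.ext
  have h := congr($(Scheme.Opens.fromSpecStalkOfMem_ι U x hx) (IsLocalRing.closedPoint _))
  rw [Scheme.Hom.comp_apply, Scheme.fromSpecStalk_closedPoint] at h
  exact h

/-- the point `x` goes to `y` under a spreading-out of a local homomorphism -/
lemma apply_of_spread {U : X.Opens} {x : X} (hxU : x ∈ U) {y : Y} (f : U.toScheme ⟶ Y)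
    (φ : Y.presheaf.stalk y ⟶ X.presheaf.stalk x) [IsLocalHom φ.hom]
    (hf : Spec.map φ ≫ Y.fromSpecStalk y = U.fromSpecStalkOfMem x hxU ≫ f) :
    f ⟨x, hxU⟩ = y := by
  have h := congr($hf (IsLocalRing.closedPoint _))
  rw [Scheme.Hom.comp_apply, Scheme.Hom.comp_apply, fromSpecStalkOfMem_closedPoint] at h
  rw [← h]
  have h2 : Spec.map φ (IsLocalRing.closedPoint _) = IsLocalRing.closedPoint _ :=
    IsLocalRing.comap_closedPoint φ.hom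
  rw [h2, Scheme.fromSpecStalk_closedPoint]

/-- composite of a spreading of `φ` and a spreading of `ψ` near `x` -/
lemma comp_spread {U : X.Opens} {x : X} (hxU : x ∈ U) {y : Y} {V : Y.Opens} (hyV : y ∈ V)
    (f : U.toScheme ⟶ Y) (g : V.toScheme ⟶ X)
    (φ : Y.presheaf.stalk y ⟶ X.presheaf.stalk x) [IsIso φ]
    (hf₁ : Spec.map φ ≫ Y.fromSpecStalk y = U.fromSpecStalkOfMem x hxU ≫ f)
    (hf₂ : f ≫ sY = U.ι ≫ sX)
    (hg₁ : Spec.map (inv φ) ≫ X.fromSpecStalk x = V.fromSpecStalkOfMem y hyV ≫ g)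
    (hg₂ : g ≫ sX = V.ι ≫ sY) [LocallyOfFiniteType sX] :
    ∃ (U' : X.Opens) (hU' : U' ≤ U) (_ : x ∈ U') (f' : U'.toScheme ⟶ V.toScheme),
      f' ≫ V.ι = X.homOfLE hU' ≫ f ∧ f' ≫ g = U'.ι := by
  have hfx : f ⟨x, hxU⟩ = y := apply_of_spread hxU f φ hf₁
  -- the open where `f` lands in `V`
  let U₂ : X.Opens := U.ι ''ᵁ (f ⁻¹ᵁ V)
  have hU₂ : U₂ ≤ U := U.ι_image_le _
  have hxU₂ : x ∈ U₂ := ⟨⟨x, hxU⟩, by
    change f ⟨x, hxU⟩ ∈ V
    rw [hfx]; exact hyV, rfl⟩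
  have hV₂ : ∀ z : U₂, f (X.homOfLE hU₂ z) ∈ V := by
    intro z
    obtain ⟨w, hw, hwz⟩ := z.2
    have : X.homOfLE hU₂ z = w := by
      apply Subtype.ext
      rw [X.homOfLE_apply hU₂ z]
      exact hwz.symm
    rw [this]
    exact hw
  let f₂ := rl f hU₂ V hV₂
  have hf₂ι : f₂ ≫ V.ι = X.homOfLE hU₂ ≫ f := rl_ι f hU₂ V hV₂
  have hab : (f₂ ≫ g) ≫ sX = U₂.ι ≫ sX := by
    rw [Category.assoc, hg₂, ← Category.assoc, hf₂ι, Category.assoc, hf₂, ← Category.assoc,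
      Scheme.homOfLE_ι]
  have hst : U₂.fromSpecStalkOfMem x hxU₂ ≫ f₂ = Spec.map φ ≫ V.fromSpecStalkOfMem y hyV := by
    rw [← cancel_mono V.ι, Category.assoc, hf₂ι, ← Category.assoc, fromSpecStalkOfMem_homOfLE,
      ← hf₁, Category.assoc, Scheme.Opens.fromSpecStalkOfMem_ι]
  have he : U₂.fromSpecStalkOfMem x hxU₂ ≫ (f₂ ≫ g) = U₂.fromSpecStalkOfMem x hxU₂ ≫ U₂.ι := by
    rw [← Category.assoc, hst, Category.assoc, ← hg₁, ← Category.assoc, ← Spec.map_comp,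
      IsIso.inv_hom_id, Spec.map_id, Category.id_comp, Scheme.Opens.fromSpecStalkOfMem_ι]
  obtain ⟨U₃, hU₃, hxU₃, h3⟩ := spread_out_unique_opens sX U₂ hxU₂ (f₂ ≫ g) U₂.ι hab he
  refine ⟨U₃, hU₃.trans hU₂, hxU₃, X.homOfLE hU₃ ≫ f₂, ?_, ?_⟩
  · rw [Category.assoc, hf₂ι, ← Category.assoc, Scheme.homOfLE_homOfLE]
  · rw [Category.assoc, h3, Scheme.homOfLE_ι]

lemma homOfLE_eq_of_ι {U U' : X.Opens} (hU' : U' ≤ U) (z : U') (w : U) (h : U.ι w = z.1) :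
    X.homOfLE hU' z = w := by
  apply Subtype.ext
  rw [X.homOfLE_apply hU' z]
  exact h.symm

/-- one half of the construction of mutually inverse morphisms -/
lemma exists_half {U₁ U₃ : X.Opens} {V₁ V₃ : Y.Opens} (hU : U₃ ≤ U₁) (hV : V₃ ≤ V₁)
    (g : V₁.toScheme ⟶ X)
    (f₃ : U₃.toScheme ⟶ V₁.toScheme) (hfg : f₃ ≫ g = U₃.ι)
    (g₃ : V₃.toScheme ⟶ U₁.toScheme) (hg₃ : g₃ ≫ U₁.ι = Y.homOfLE hV ≫ g) :
    ∃ (hUU : U₃.ι ''ᵁ (f₃ ⁻¹ᵁ (V₁.ι ⁻¹ᵁ V₃)) ≤ U₃)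
      (F : (U₃.ι ''ᵁ (f₃ ⁻¹ᵁ (V₁.ι ⁻¹ᵁ V₃))).toScheme ⟶ (V₃.ι ''ᵁ (g₃ ⁻¹ᵁ (U₁.ι ⁻¹ᵁ U₃))).toScheme),
      F ≫ (V₃.ι ''ᵁ (g₃ ⁻¹ᵁ (U₁.ι ⁻¹ᵁ U₃))).ι = X.homOfLE hUU ≫ f₃ ≫ V₁.ι := by
  have hUU : U₃.ι ''ᵁ (f₃ ⁻¹ᵁ (V₁.ι ⁻¹ᵁ V₃)) ≤ U₃ := U₃.ι_image_le _
  refine ⟨hUU, rl (f₃ ≫ V₁.ι) hUU _ ?_, rl_ι _ _ _ _⟩
  intro z
  obtain ⟨u₃, hu₃, hz⟩ := z.2
  have h1 : X.homOfLE hUU z = u₃ := homOfLE_eq_of_ι hUU z u₃ hz
  rw [h1]
  -- `v = f₃ u₃ ∈ V₁` with `V₁.ι v ∈ V₃`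
  have hv : V₁.ι (f₃ u₃) ∈ V₃ := hu₃
  refine ⟨⟨V₁.ι (f₃ u₃), hv⟩, ?_, rfl⟩
  change U₁.ι (g₃ ⟨V₁.ι (f₃ u₃), hv⟩) ∈ U₃
  have h2 : U₁.ι (g₃ ⟨V₁.ι (f₃ u₃), hv⟩) = g (Y.homOfLE hV ⟨V₁.ι (f₃ u₃), hv⟩) := by
    have := congr($hg₃ ⟨V₁.ι (f₃ u₃), hv⟩)
    simpa only [Scheme.Hom.comp_apply] using this
  have h3 : Y.homOfLE hV ⟨V₁.ι (f₃ u₃), hv⟩ = f₃ u₃ := homOfLE_eq_of_ι hV _ _ rfl
  have h4 : g (f₃ u₃) = U₃.ι u₃ := by
    have := congr($hfg u₃)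
    simpa only [Scheme.Hom.comp_apply] using this
  rw [h2, h3, h4]
  exact u₃.2

/-- `F ≫ G = 𝟙` from the two halves -/
lemma half_comp {U₁ U₃ U : X.Opens} {V₁ V₃ V : Y.Opens} (hU : U₃ ≤ U₁) (hV : V₃ ≤ V₁)
    (hUU : U ≤ U₃) (hVV : V ≤ V₃) (g : V₁.toScheme ⟶ X)
    (f₃ : U₃.toScheme ⟶ V₁.toScheme) (hfg : f₃ ≫ g = U₃.ι)
    (g₃ : V₃.toScheme ⟶ U₁.toScheme) (hg₃ : g₃ ≫ U₁.ι = Y.homOfLE hV ≫ g)
    (F : U.toScheme ⟶ V.toScheme) (G : V.toScheme ⟶ U.toScheme)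
    (hF : F ≫ V.ι = X.homOfLE hUU ≫ f₃ ≫ V₁.ι)
    (hG : G ≫ U.ι = Y.homOfLE hVV ≫ g₃ ≫ U₁.ι) : F ≫ G = 𝟙 _ := by
  rw [← cancel_mono U.ι, Category.assoc, hG, hg₃, Category.id_comp]
  have h1 : F ≫ Y.homOfLE hVV ≫ Y.homOfLE hV = X.homOfLE hUU ≫ f₃ := by
    rw [← cancel_mono V₁.ι, Category.assoc, Category.assoc, Scheme.homOfLE_ι, Scheme.homOfLE_ι, hF,
      Category.assoc]
  rw [← Category.assoc, ← Category.assoc, Category.assoc F, h1, Category.assoc, hfg,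
    Scheme.homOfLE_ι]

theorem exists_isIso_spread_out [LocallyOfFinitePresentation sX] [LocallyOfFinitePresentation sY]
    {x : X} {y : Y} (e : sX x = sY y)
    (φ : Y.presheaf.stalk y ⟶ X.presheaf.stalk x) [IsIso φ]
    (h : sY.stalkMap y ≫ φ =
      S.presheaf.stalkSpecializes (Inseparable.of_eq e).specializes ≫ sX.stalkMap x) :
    ∃ (U : X.Opens) (hxU : x ∈ U) (V : Y.Opens) (f : U.toScheme ⟶ V.toScheme), IsIso f ∧
      Spec.map φ ≫ Y.fromSpecStalk y = U.fromSpecStalkOfMem x hxU ≫ f ≫ V.ι ∧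
        f ≫ V.ι ≫ sY = U.ι ≫ sX := by
  obtain ⟨U₁, hxU₁, f, hf₁, hf₂⟩ := spread_out_of_locallyOfFinitePresentation sX sY e φ h
  have h' : sX.stalkMap x ≫ inv φ =
      S.presheaf.stalkSpecializes (Inseparable.of_eq e.symm).specializes ≫ sY.stalkMap y := by
    rw [IsIso.comp_inv_eq, Category.assoc, h, TopCat.Presheaf.stalkSpecializes_comp_assoc]
    have : S.presheaf.stalkSpecializes ((Inseparable.of_eq e).specializes.trans
        (Inseparable.of_eq e.symm).specializes) = 𝟙 _ := S.presheaf.stalkSpecializes_refl _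
    rw [this, Category.id_comp]
  obtain ⟨V₁, hyV₁, g, hg₁, hg₂⟩ :=
    spread_out_of_locallyOfFinitePresentation sY sX e.symm (inv φ) h'
  obtain ⟨U₃, hU₃, hxU₃, f₃, hf₃, hfg⟩ := comp_spread sX sY hxU₁ hyV₁ f g φ hf₁ hf₂ hg₁ hg₂
  obtain ⟨V₃, hV₃, hyV₃, g₃, hg₃, hgf⟩ := comp_spread sY sX hyV₁ hxU₁ g f (inv φ) hg₁ hg₂
    (by rw [IsIso.inv_inv]; exact hf₁) hf₂
  obtain ⟨hUU, F, hF⟩ := exists_half hU₃ hV₃ g f₃ hfg g₃ hg₃
  obtain ⟨hVV, G, hG⟩ := exists_half hV₃ hU₃ f g₃ hgf f₃ hf₃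
  have hFG : F ≫ G = 𝟙 _ := half_comp hU₃ hV₃ hUU hVV g f₃ hfg g₃ hg₃ F G hF hG
  have hGF : G ≫ F = 𝟙 _ := half_comp hV₃ hU₃ hVV hUU f g₃ hgf f₃ hf₃ G F hG hF
  have hfx : f ⟨x, hxU₁⟩ = y := apply_of_spread hxU₁ f φ hf₁
  have hxU : x ∈ U₃.ι ''ᵁ (f₃ ⁻¹ᵁ (V₁.ι ⁻¹ᵁ V₃)) := by
    refine ⟨⟨x, hxU₃⟩, ?_, rfl⟩
    change V₁.ι (f₃ ⟨x, hxU₃⟩) ∈ V₃
    have h1 := congr($hf₃ ⟨x, hxU₃⟩)
    simp only [Scheme.Hom.comp_apply] at h1
    rw [h1]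
    have h2 : X.homOfLE hU₃ ⟨x, hxU₃⟩ = ⟨x, hxU₁⟩ := by
      apply Subtype.ext
      exact X.homOfLE_apply hU₃ _
    rw [h2, hfx]
    exact hyV₃
  refine ⟨_, hxU, _, F, ⟨G, hFG, hGF⟩, ?_, ?_⟩
  · rw [hF, ← Category.assoc, fromSpecStalkOfMem_homOfLE, hf₃, ← Category.assoc,
      fromSpecStalkOfMem_homOfLE, hf₁]
  · have h1 : (f₃ ≫ V₁.ι) ≫ sY = (X.homOfLE hU₃ ≫ f) ≫ sY := by rw [hf₃]
    simp only [Category.assoc] at h1
    rw [← Category.assoc, hF, Category.assoc, Category.assoc, h1, hf₂,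
      ← Category.assoc (X.homOfLE hU₃), Scheme.homOfLE_ι, ← Category.assoc, Scheme.homOfLE_ι]

end Groth.Agent.Lib.helper21.SpreadFP
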