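import Mathlib
import Groth.Prelude.Def_ToposFin2
import Groth.Agent.Lib.Helper21.InjAcyc3

/-!
# Morphisms out of `ℤ/ℤ_U` are global sections vanishing on `U` (helper21)
-/

set_option autoImplicit false

universe u

open CategoryTheory CategoryTheory.Limits Opposite

namespace Groth.Agent.Lib.helper21.SuppZ

variable {C : Type u} [SmallCategory C] {J : GrothendieckTopology C}

/-- global sections of an abelian sheaf -/
abbrev sec (B : Sheaf J AddCommGrpCat.{u}) : Type u :=
  (B.obj ⋙ forget AddCommGrpCat.{u}).sections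

/-- the adjunction free abelian sheaf ⊣ underlying sheaf of sets -/
noncomputable abbrev adjF :
    ToposFin.freeAb J ⊣ sheafCompose J (forget AddCommGrpCat.{u}) :=
  Sheaf.adjunction J AddCommGrpCat.adj.{u}

/-- the unique section of the final sheaf of sets -/
noncomputable def topUnique (V : Cᵒᵖ) : Unique ((⊤_ (Sheaf J (Type u))).obj.obj V) :=
  (Types.isTerminalEquivUnique _)
    (IsTerminal.isTerminalObj (sheafToPresheaf J (Type u) ⋙ (evaluation _ _).obj V) _
      terminalIsTerminal)

/-- the chosen section of the final sheaf -/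
noncomputable def star (V : Cᵒᵖ) : (⊤_ (Sheaf J (Type u))).obj.obj V := (topUnique V).default

lemma star_eq {V : Cᵒᵖ} (x : (⊤_ (Sheaf J (Type u))).obj.obj V) : x = star V :=
  (topUnique V).eq_default x

/-- morphisms from the final sheaf of sets are global sections -/
noncomputable def topHomEquiv (S : Sheaf J (Type u)) :
    (⊤_ (Sheaf J (Type u)) ⟶ S) ≃ S.obj.sections where
  toFun σ := ⟨fun V => σ.hom.app V (star V), fun {V W} f => by
    have h := NatTrans.naturality_apply σ.hom f (star V)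
    rw [← h]
    exact congrArg _ (star_eq _)⟩
  invFun s := ObjectProperty.homMk
    { app := fun V => ↾(fun _ => s.1 V)
      naturality := fun V W f => by
        ext x
        exact (s.2 f).symm }
  left_inv σ := by
    apply Sheaf.hom_ext
    ext V x
    exact congrArg _ (star_eq x).symm
  right_inv s := rfl

/-- morphisms `ℤ[⊤] ⟶ B` are global sections -/
noncomputable def tEquiv (B : Sheaf J AddCommGrpCat.{u}) :
    ((ToposFin.freeAb J).obj (⊤_ (Sheaf J (Type u))) ⟶ B) ≃ sec B :=
  ((adjF (J := J)).homEquiv _ B).trans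
    (topHomEquiv ((sheafCompose J (forget AddCommGrpCat.{u})).obj B))

lemma tEquiv_naturality {B B' : Sheaf J AddCommGrpCat.{u}} (g : B ⟶ B')
    (φ : (ToposFin.freeAb J).obj (⊤_ (Sheaf J (Type u))) ⟶ B) (V : Cᵒᵖ) :
    (tEquiv B' (φ ≫ g)).1 V = g.hom.app V ((tEquiv B φ).1 V) := by
  have h := (adjF (J := J)).homEquiv_naturality_right φ g
  show (((adjF (J := J)).homEquiv _ B') (φ ≫ g)).hom.app V (star V) = _
  rw [h]
  rfl

variable (U : C)

/-- morphisms `ℤ[h_U] ⟶ B` are sections over `U` -/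
noncomputable def kEquiv (B : Sheaf J AddCommGrpCat.{u}) :
    ((ToposFin.freeAb J).obj (ToposFin.eps J U) ⟶ B) ≃ B.obj.obj (op U) :=
  ((adjF (J := J)).homEquiv _ B).trans
    (((sheafificationAdjunction J (Type u)).homEquiv (yoneda.obj U)
      ((sheafCompose J (forget AddCommGrpCat.{u})).obj B)).trans yonedaEquiv)

lemma kEquiv_naturality {B B' : Sheaf J AddCommGrpCat.{u}} (g : B ⟶ B')
    (ψ : (ToposFin.freeAb J).obj (ToposFin.eps J U) ⟶ B) :
    kEquiv U B' (ψ ≫ g) = g.hom.app (op U) (kEquiv U B ψ) := by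
  have h := (adjF (J := J)).homEquiv_naturality_right ψ g
  have h2 := (sheafificationAdjunction J (Type u)).homEquiv_naturality_right
    ((adjF (J := J)).homEquiv _ B ψ) ((sheafCompose J (forget AddCommGrpCat.{u})).map g)
      (X := yoneda.obj U)
  dsimp only [kEquiv, Equiv.trans_apply]
  rw [h, h2]
  erw [yonedaEquiv_comp]

lemma kEquiv_comp {B : Sheaf J AddCommGrpCat.{u}}
    (φ : (ToposFin.freeAb J).obj (⊤_ (Sheaf J (Type u))) ⟶ B) :
    kEquiv U B ((ToposFin.freeAb J).map (terminal.from (ToposFin.eps J U)) ≫ φ) =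
      (tEquiv B φ).1 (op U) := by
  have h := (adjF (J := J)).homEquiv_naturality_left (terminal.from (ToposFin.eps J U)) φ
  dsimp only [kEquiv, tEquiv, Equiv.trans_apply]
  rw [h, Adjunction.homEquiv_unit]
  erw [yonedaEquiv_comp]
  show ((adjF (J := J)).homEquiv _ B φ).hom.app (op U) _ = _
  exact congrArg _ (star_eq _)

lemma kEquiv_zero (B : Sheaf J AddCommGrpCat.{u}) : kEquiv U B 0 = 0 := by
  have h := kEquiv_naturality U (0 : B ⟶ B) (0 : _ ⟶ B)
  rw [comp_zero] at h
  rw [h]
  rfl

/-- global sections vanishing on `U` -/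
def SecZ (B : Sheaf J AddCommGrpCat.{u}) : Type u :=
  {s : sec B // s.1 (op U) = (0 : B.obj.obj (op U))}

/-- functoriality of `SecZ` -/
def SecZ.map {B B' : Sheaf J AddCommGrpCat.{u}} (g : B ⟶ B') (s : SecZ U B) : SecZ U B' :=
  ⟨⟨fun V => g.hom.app V (s.1.1 V), fun {V W} f => by
    have h := NatTrans.naturality_apply g.hom f (s.1.1 V)
    have h2 := s.1.2 f
    exact h.symm.trans (congrArg _ h2)⟩, by
    show g.hom.app (op U) (s.1.1 (op U)) = 0
    rw [s.2, map_zero]⟩

/-- morphisms out of `ℤ/ℤ_U` are global sections vanishing on `U` -/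
noncomputable def abEquiv (B : Sheaf J AddCommGrpCat.{u}) :
    (ToposFin.quotZ (ToposFin.eps J U) ⟶ B) ≃ SecZ U B where
  toFun ψ := ⟨tEquiv B (cokernel.π _ ≫ ψ), by
    rw [← kEquiv_comp, ← Category.assoc, cokernel.condition, zero_comp, kEquiv_zero]⟩
  invFun s := cokernel.desc _ ((tEquiv B).symm s.1) (by
    apply (kEquiv U B).injective
    rw [kEquiv_comp, Equiv.apply_symm_apply, kEquiv_zero]
    exact s.2)
  left_inv ψ := by
    apply coequalizer.hom_ext
    simp
  right_inv s := by
    apply Subtype.ext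
    simp

lemma abEquiv_naturality {B B' : Sheaf J AddCommGrpCat.{u}} (g : B ⟶ B')
    (ψ : ToposFin.quotZ (ToposFin.eps J U) ⟶ B) :
    abEquiv U B' (ψ ≫ g) = SecZ.map U g (abEquiv U B ψ) := by
  apply Subtype.ext
  apply Subtype.ext
  funext V
  show (tEquiv B' (cokernel.π _ ≫ ψ ≫ g)).1 V = g.hom.app V ((tEquiv B (cokernel.π _ ≫ ψ)).1 V)
  rw [← Category.assoc, tEquiv_naturality]

end Groth.Agent.Lib.helper21.SuppZ
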