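import Mathlib
import Groth.Prelude.Def_ToposFin2
import Groth.Agent.Lib.Helper21.SuppZ

/-!
# `ℤ/ℤ_U` is torsion-free (helper21)
-/

set_option autoImplicit false

universe u

open CategoryTheory CategoryTheory.Limits Opposite

namespace Groth.Agent.Lib.helper21.SuppZ

open Groth.Agent.Lib.helper21.InjAcyc

lemma isAddTorsionFree_of_iso {A B : AddCommGrpCat.{u}} (e : A ≅ B) (hB : IsAddTorsionFree B) :
    IsAddTorsionFree A :=
  Function.Injective.isAddTorsionFree e.hom.hom
    ((AddCommGrpCat.mono_iff_injective e.hom).1 inferInstance)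

lemma isAddTorsionFree_free (T : Type u) :
    IsAddTorsionFree (AddCommGrpCat.free.{u}.obj T) :=
  Function.Injective.isAddTorsionFree
    (FreeAbelianGroup.equivFinsupp T).toAddMonoidHom
    (FreeAbelianGroup.equivFinsupp T).injective

/-- the cokernel of `ℤ[S] ⟶ ℤ[T]` is torsion-free when `T` has at most one element -/
lemma isAddTorsionFree_cokernel_free_map {S T : Type u} [Subsingleton T] (q : S ⟶ T) :
    IsAddTorsionFree (cokernel (AddCommGrpCat.free.{u}.map q) : AddCommGrpCat.{u}) := by
  rcases isEmpty_or_nonempty S with hS | hS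
  · have hz : IsZero (AddCommGrpCat.free.{u}.obj S) := by
      haveI : Subsingleton (FreeAbelianGroup S) := by
        refine ⟨fun a b => ?_⟩
        apply (FreeAbelianGroup.equivFinsupp S).injective
        exact Subsingleton.elim _ _
      exact AddCommGrpCat.isZero_of_subsingleton (AddCommGrpCat.of (FreeAbelianGroup S))
    have h0 : AddCommGrpCat.free.{u}.map q = 0 := hz.eq_of_src _ _
    exact isAddTorsionFree_of_iso (cokernelIsoOfEq h0 ≪≫ cokernelZeroIsoTarget)
      (isAddTorsionFree_free T)
  · haveI : Epi q := by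
      rw [epi_iff_surjective]
      intro t
      obtain ⟨s⟩ := hS
      exact ⟨s, Subsingleton.elim _ _⟩
    haveI : Epi (AddCommGrpCat.free.{u}.map q) := AddCommGrpCat.free.{u}.map_epi q
    have hz := isZero_cokernel_of_epi (AddCommGrpCat.free.{u}.map q)
    haveI : Subsingleton (cokernel (AddCommGrpCat.free.{u}.map q) : AddCommGrpCat.{u}) :=
      AddCommGrpCat.subsingleton_of_isZero hz
    exact ⟨fun n hn x y _ => Subsingleton.elim x y⟩

variable {C : Type u} [SmallCategory C] {J : GrothendieckTopology C}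

/-- `ℤ[T]/ℤ[K]` is torsion-free when `T` is sectionwise subsingleton -/
theorem tf_cokernel_freeAb_map {K T : Sheaf J (Type u)} (t : K ⟶ T)
    (hT : ∀ V : Cᵒᵖ, Subsingleton (T.obj.obj V)) :
    TF J (cokernel ((ToposFin.freeAb J).map t)) := by
  let α : K.obj ⋙ AddCommGrpCat.free.{u} ⟶ T.obj ⋙ AddCommGrpCat.free.{u} :=
    Functor.whiskerRight t.hom AddCommGrpCat.free.{u}
  have h1 : TF J ((presheafToSheaf J AddCommGrpCat.{u}).obj (cokernel α)) := by
    apply tf_sheafify
    intro V
    haveI := hT V
    exact isAddTorsionFree_of_iso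
      (PreservesCokernel.iso ((evaluation Cᵒᵖ AddCommGrpCat.{u}).obj V) α)
      (isAddTorsionFree_cokernel_free_map (t.hom.app V))
  let e : cokernel ((ToposFin.freeAb J).map t) ≅
      (presheafToSheaf J AddCommGrpCat.{u}).obj (cokernel α) :=
    (PreservesCokernel.iso (presheafToSheaf J AddCommGrpCat.{u}) α).symm
  exact tf_of_mono e.hom h1

/-- `ℤ/ℤ_U` is torsion-free -/
theorem tf_quotZ (K : Sheaf J (Type u)) : TF J (ToposFin.quotZ K) :=
  tf_cokernel_freeAb_map (terminal.from K) (fun V =>
    haveI := topUnique (J := J) V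
    inferInstance)

end Groth.Agent.Lib.helper21.SuppZ
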