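import Mathlib
import Groth.Agent.Lib.Helper21.SuppZ
import Groth.Agent.Lib.Helper21.SuppZTF
import Groth.Agent.Lib.Helper21.SuppTensor2

/-!
# `Hom_O(O/O_U, -) ≅ Hom(ℤ/ℤ_U, (-)_ab)` (helper21)
-/

set_option autoImplicit false

universe u

open CategoryTheory CategoryTheory.Limits Opposite

namespace Groth.Agent.Lib.helper21.SuppZ

open Groth.Agent.Lib.helper21.InjAcyc Groth.Agent.Lib.Helper21.ExtZeroHom

variable {C : Type u} [SmallCategory C] {J : GrothendieckTopology C} {O : Sheaf J CommRingCat.{u}}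
  (U : C)

lemma counit_comp {X : ModSite.Mod O} (f : ModSite.unit O ⟶ X) :
    (ModSite.extZeroAdj O U).counit.app (ModSite.unit O) ≫ f =
      ((ModSite.extZeroAdj O U).homEquiv _ _).symm ((ModSite.restr O U).map f) := by
  rw [Adjunction.homEquiv_counit]
  exact ((ModSite.extZeroAdj O U).counit.naturality f).symm

lemma counit_comp_eq_zero_iff {X : ModSite.Mod O} (f : ModSite.unit O ⟶ X) :
    (ModSite.extZeroAdj O U).counit.app (ModSite.unit O) ≫ f = 0 ↔
      (ModSite.restr O U).map f = 0 := by
  rw [counit_comp]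
  constructor
  · intro h
    apply ((ModSite.extZeroAdj O U).homEquiv _ _).symm.injective
    rw [h, Adjunction.homEquiv_counit, Functor.map_zero, zero_comp]
  · intro h
    rw [h, Adjunction.homEquiv_counit, Functor.map_zero, zero_comp]

lemma unit_hom_apply {X : ModSite.Mod O} (f : ModSite.unit O ⟶ X) (V : Cᵒᵖ)
    (r : (ModSite.ringSh O).obj.obj V) :
    (f.val.app V).hom r = r • (f.val.app V).hom (1 : (ModSite.ringSh O).obj.obj V) := by
  have h := (f.val.app V).hom.map_smul r (1 : (ModSite.ringSh O).obj.obj V)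
  refine Eq.trans ?_ h
  congr 1
  exact (mul_one r).symm

lemma restr_map_eq_zero_iff {X : ModSite.Mod O} (f : ModSite.unit O ⟶ X) :
    (ModSite.restr O U).map f = 0 ↔ (X.unitHomEquiv f).val (op U) = 0 := by
  constructor
  · intro h
    exact congrArg (fun ψ : (ModSite.restr O U).obj (ModSite.unit O) ⟶ (ModSite.restr O U).obj X =>
      (ψ.val.app (op (Over.mk (𝟙 U)))).hom (1 : O.obj.obj (op U))) h
  · intro h
    apply SheafOfModules.hom_ext
    refine PresheafOfModules.hom_ext (fun Y => ModuleCat.hom_ext (LinearMap.ext fun r => ?_))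
    obtain ⟨Y⟩ := Y
    have h2 := (X.unitHomEquiv f).2 Y.hom.op
    have h2' : (X.val.presheaf.map Y.hom.op).hom ((X.unitHomEquiv f).val (op U)) =
        (X.unitHomEquiv f).val (op Y.left) := h2
    have h3 : (f.val.app (op Y.left)).hom (1 : (ModSite.ringSh O).obj.obj (op Y.left)) = 0 := by
      refine Eq.trans ?_ (h2'.symm.trans ?_)
      · rfl
      · rw [h]
        exact map_zero _
    have h1 := unit_hom_apply f (op Y.left) r
    rw [h3, smul_zero] at h1
    exact h1

lemma counit_comp_eq_zero_iff' {X : ModSite.Mod O} (f : ModSite.unit O ⟶ X) :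
    (ModSite.extZeroAdj O U).counit.app (ModSite.unit O) ≫ f = 0 ↔
      (X.unitHomEquiv f).val (op U) = 0 :=
  (counit_comp_eq_zero_iff U f).trans (restr_map_eq_zero_iff U f)

/-- morphisms out of `O/O_U` are global sections vanishing on `U` -/
noncomputable def modEquiv (X : ModSite.Mod O) :
    ((ModSite.quotOn O U).obj (ModSite.unit O) ⟶ X) ≃ SecZ U (ModSite.toAb X) where
  toFun f := ⟨X.unitHomEquiv ((ModSite.quotOnπ O U).app (ModSite.unit O) ≫ f), by
    refine (counit_comp_eq_zero_iff' U _).1 ?_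
    rw [← Category.assoc]
    erw [cokernel.condition]
    exact zero_comp⟩
  invFun s := cokernel.desc _ (X.unitHomEquiv.symm s.1)
    ((counit_comp_eq_zero_iff' U _).2 (by
      rw [Equiv.apply_symm_apply]
      exact s.2))
  left_inv f := by
    apply coequalizer.hom_ext
    erw [cokernel.π_desc]
    exact Equiv.symm_apply_apply _ _
  right_inv s := by
    apply Subtype.ext
    show X.unitHomEquiv (cokernel.π _ ≫ cokernel.desc _ _ _) = s.1
    rw [cokernel.π_desc, Equiv.apply_symm_apply]

lemma modEquiv_naturality {X X' : ModSite.Mod O} (p : X ⟶ X')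
    (f : (ModSite.quotOn O U).obj (ModSite.unit O) ⟶ X) :
    modEquiv U X' (f ≫ p) =
      SecZ.map U ((SheafOfModules.toSheaf (ModSite.ringSh O)).map p) (modEquiv U X f) := by
  apply Subtype.ext
  apply Subtype.ext
  rfl

variable (O) in
/-- `Hom_O(O/O_U, -) ≅ Hom(ℤ/ℤ_U, (-)_ab)` -/
noncomputable def quotCoyIso :
    preadditiveCoyoneda.obj (op ((ModSite.quotOn O U).obj (ModSite.unit O))) ≅
      SheafOfModules.toSheaf.{u} (ModSite.ringSh O) ⋙
        preadditiveCoyoneda.obj (op (ToposFin.quotZ (ToposFin.eps J U))) :=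
  natIsoOfEquiv _ _ (fun X => (modEquiv U X).trans (abEquiv U (ModSite.toAb X)).symm) (by
    intro X X' p f
    apply (abEquiv U (ModSite.toAb X')).injective
    show abEquiv U _ ((abEquiv U _).symm (modEquiv U X' (f ≫ p))) =
      abEquiv U _ ((abEquiv U _).symm (modEquiv U X f) ≫
        (SheafOfModules.toSheaf (ModSite.ringSh O)).map p)
    rw [Equiv.apply_symm_apply, abEquiv_naturality, Equiv.apply_symm_apply, modEquiv_naturality])

end Groth.Agent.Lib.helper21.SuppZ
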