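import Mathlib
import Groth.Agent.Lib.Helper21.SuppZ2
import Groth.Agent.Lib.Helper21.HomAcyc2

/-!
# `Ext_O(O/O_U, -)` is cohomology with supports (helper21)
-/

set_option autoImplicit false

universe u

open CategoryTheory CategoryTheory.Limits Opposite Groth.Agent.Lib.helper27

namespace Groth.Agent.Lib.helper21.SuppZ

open Groth.Agent.Lib.helper21.InjAcyc

variable {C : Type u} [SmallCategory C] {J : GrothendieckTopology C} {O : Sheaf J CommRingCat.{u}}
  (U : C)

/-- `Ext^n_O(O/O_U, X) ≅ H^n_Z(X)` -/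
theorem ext_quotOn_iso_HZ [HasExt.{u} (ModSite.Mod O)] (X : ModSite.Mod O) (n : ℕ) :
    Nonempty (AddCommGrpCat.of (Abelian.Ext.{u} ((ModSite.quotOn O U).obj (ModSite.unit O)) X n) ≅
      AddCommGrpCat.of (ModSite.HZ U X n)) := by
  obtain ⟨e⟩ := ext_comparison (ModSite.ringSh O) ((ModSite.quotOn O U).obj (ModSite.unit O))
    (ToposFin.quotZ (ToposFin.eps J U)) (tf_quotZ _) (quotCoyIso O U) X n
  exact ⟨e.toAddCommGrpIso⟩

end Groth.Agent.Lib.helper21.SuppZ
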