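import Mathlib
import Groth.Prelude.Def_ModSite
import Groth.Agent.Lib.Helper21.TensorMon
import Groth.Agent.Lib.Helper21.BiCoker

/-!
# Tensor products of free modules, of generators and of presentations (helper21)

On a small ringed site `(C, J, O)`:
* `freeTensIso I J : free (I × J) ≅ free I ⊗ free J`;
* `tensGen GM GN`: generating sections of `M ⊗ N` indexed by `GM.I × GN.I`;
* `tensPres PM PN`: a presentation of `M ⊗ N` with generators `I × J` and relations
  `K × J ⊕ I × L`.
-/

set_option autoImplicit false
universe u
open CategoryTheory MonoidalCategory Opposite Limits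

namespace Groth.Agent.Lib.helper21.TensorFree

open Groth.Agent.Lib.Helper21.TensorW Groth.Agent.Lib.Helper21.TensorAdj
  Groth.Agent.Lib.Helper21.TensorMon Groth.Agent.Lib.helper21.BiCoker

variable {C : Type u} [SmallCategory C] {J : GrothendieckTopology C} (O : Sheaf J CommRingCat.{u})

/-- the tensor bifunctor -/
noncomputable abbrev T : ModSite.Mod O ⥤ ModSite.Mod O ⥤ ModSite.Mod O := ModSite.tensorBi O

instance pfc_obj (X : ModSite.Mod O) : PreservesFiniteColimits ((T O).obj X) := by
  haveI : PreservesColimitsOfSize.{u, u} ((T O).obj X) := preservesColimits_tensL O X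
  haveI : PreservesColimitsOfSize.{0, 0} ((T O).obj X) := preservesColimitsOfSize_shrink.{0, u, 0, u} _
  exact PreservesColimitsOfSize.preservesFiniteColimits _

instance pfc_flip (Y : ModSite.Mod O) : PreservesFiniteColimits ((T O).flip.obj Y) := by
  haveI : PreservesColimitsOfSize.{u, u} ((T O).flip.obj Y) := preservesColimits_tens O Y
  haveI : PreservesColimitsOfSize.{0, 0} ((T O).flip.obj Y) := preservesColimitsOfSize_shrink.{0, u, 0, u} _
  exact PreservesColimitsOfSize.preservesFiniteColimits _

instance pzm_obj (X : ModSite.Mod O) : ((T O).obj X).PreservesZeroMorphisms := by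
  haveI := isLeftAdjoint_tensL O X
  exact inferInstanceAs (tensL O X).PreservesZeroMorphisms

instance pzm_flip (Y : ModSite.Mod O) : ((T O).flip.obj Y).PreservesZeroMorphisms := by
  haveI := isLeftAdjoint_tens O Y
  exact inferInstanceAs (tens O Y).PreservesZeroMorphisms

section free

variable (I K : Type u)

/-- `unit ⊗ free K ≅ free K` -/
noncomputable def unitTensFree :
    (tens O (SheafOfModules.free (R := ModSite.ringSh O) K)).obj (ModSite.unit O) ≅
      SheafOfModules.free (R := ModSite.ringSh O) K :=
  (unitIso O).app (SheafOfModules.free (R := ModSite.ringSh O) K)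

/-- `free I ⊗ free K ≅ ∐_I free K` -/
noncomputable def freeTensIso₁ :
    ((T O).obj (SheafOfModules.free (R := ModSite.ringSh O) I)).obj
        (SheafOfModules.free (R := ModSite.ringSh O) K) ≅
      ∐ fun _ : I => SheafOfModules.free (R := ModSite.ringSh O) K :=
  (isColimitOfPreserves (tens O (SheafOfModules.free (R := ModSite.ringSh O) K))
      (SheafOfModules.isColimitFreeCofan (R := ModSite.ringSh O) I)).coconePointsIsoOfNatIso
    (coproductIsCoproduct _) (Discrete.natIso fun _ => unitTensFree O K)

/-- `∐_I free K ≅ free (I × K)` -/
noncomputable def freeTensIso₂ :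
    (∐ fun _ : I => SheafOfModules.free (R := ModSite.ringSh O) K) ≅
      SheafOfModules.free (R := ModSite.ringSh O) (I × K) :=
  (PreservesCoproduct.iso (SheafOfModules.freeFunctor (R := ModSite.ringSh O))
      (fun _ : I => K)).symm ≪≫
    (SheafOfModules.freeFunctor (R := ModSite.ringSh O)).mapIso
      (Types.coproductIso (fun _ : I => K) ≪≫ (Equiv.sigmaEquivProd I K).toIso)

/-- `free (I × K) ≅ free I ⊗ free K` -/
noncomputable def freeTensIso :
    SheafOfModules.free (R := ModSite.ringSh O) (I × K) ≅
      ((T O).obj (SheafOfModules.free (R := ModSite.ringSh O) I)).obj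
        (SheafOfModules.free (R := ModSite.ringSh O) K) :=
  (freeTensIso₁ O I K ≪≫ freeTensIso₂ O I K).symm

end free

section gen

variable {O}
variable {M N : ModSite.Mod O}

/-- the epimorphism `free (I × K) ⟶ M ⊗ N` attached to generating sections of `M` and `N` -/
noncomputable def tensGenHom (GM : M.GeneratingSections) (GN : N.GeneratingSections) :
    SheafOfModules.free (R := ModSite.ringSh O) (GM.I × GN.I) ⟶ ((T O).obj M).obj N :=
  (freeTensIso O GM.I GN.I).hom ≫ pq (T O) GM.π GN.π

instance epi_tensGenHom (GM : M.GeneratingSections) (GN : N.GeneratingSections) :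
    Epi (tensGenHom GM GN) := by
  haveI := epi_pq (T O) GM.π GN.π
  unfold tensGenHom
  infer_instance

/-- generating sections of `M ⊗ N` -/
noncomputable def tensGen (GM : M.GeneratingSections) (GN : N.GeneratingSections) :
    (((T O).obj M).obj N).GeneratingSections where
  I := GM.I × GN.I
  s := SheafOfModules.freeHomEquiv _ (tensGenHom GM GN)
  epi := by
    rw [Equiv.symm_apply_apply]
    infer_instance

lemma tensGen_π (GM : M.GeneratingSections) (GN : N.GeneratingSections) :
    (tensGen GM GN).π = tensGenHom GM GN :=
  Equiv.symm_apply_apply _ _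

lemma isIso_tensGen_π (GM : M.GeneratingSections) (GN : N.GeneratingSections)
    [IsIso GM.π] [IsIso GN.π] : IsIso (tensGen GM GN).π := by
  rw [tensGen_π]
  unfold tensGenHom pq
  have h1 : IsIso (((T O).map GM.π).app (SheafOfModules.free (R := ModSite.ringSh O) GN.I)) :=
    inferInstance
  have h2 : IsIso (((T O).obj M).map GN.π) := inferInstance
  have h3 : IsIso (freeTensIso O GM.I GN.I).hom := inferInstance
  exact @IsIso.comp_isIso _ _ _ _ _ _ _ h3 (@IsIso.comp_isIso _ _ _ _ _ _ _ h1 h2)

end gen

section pres

variable {O}
variable {M N : ModSite.Mod O}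

/-- the relations morphism of a presentation -/
noncomputable abbrev relHom (P : M.Presentation) :
    SheafOfModules.free (R := ModSite.ringSh O) P.relations.I ⟶
      SheafOfModules.free (R := ModSite.ringSh O) P.generators.I :=
  (SheafOfModules.freeHomEquiv _).symm P.relations.s ≫ kernel.ι _

/-- a presentation of `M ⊗ N` -/
noncomputable def tensPres (PM : M.Presentation) (PN : N.Presentation) :
    (((T O).obj M).obj N).Presentation :=
  SheafOfModules.presentationOfIsCokernelFree
    (ι := (PM.relations.I × PN.generators.I) ⊕ (PM.generators.I × PN.relations.I))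
    (σ := PM.generators.I × PN.generators.I)
    ((SheafOfModules.freeSumIso _ _).inv ≫
      coprod.desc
        ((freeTensIso O PM.relations.I PN.generators.I).hom ≫
          ((T O).map (relHom PM)).app _ ≫ (freeTensIso O PM.generators.I PN.generators.I).inv)
        ((freeTensIso O PM.generators.I PN.relations.I).hom ≫
          ((T O).obj _).map (relHom PN) ≫ (freeTensIso O PM.generators.I PN.generators.I).inv))
    ((freeTensIso O PM.generators.I PN.generators.I).hom ≫ pq (T O) PM.generators.π PN.generators.π)
    (by rw [Category.assoc]; rw [desc_comp (T O) _ _ _ _ _, comp_zero]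
        · simp
        · simp)
    (isCokernelEpiComp
      (isColimitOfEpis (T O) PM.isColimit PN.isColimit
        (freeTensIso O PM.relations.I PN.generators.I).hom
        (freeTensIso O PM.generators.I PN.relations.I).hom
        (freeTensIso O PM.generators.I PN.generators.I))
      (SheafOfModules.freeSumIso _ _).inv rfl)

end pres

end Groth.Agent.Lib.helper21.TensorFree
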