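import Mathlib
import Groth.Prelude.Def_ModSite
import Groth.Agent.Lib.Helper21.TensorFree
import Groth.Agent.Lib.Helper21.TensorRestr
import Groth.Agent.Lib.Helper21.OverRestrict

/-!
# Permanence properties of the tensor product on a ringed space (helper21)

For `O`-modules `F`, `G` on a ringed space: local generators, finite type, quasi-coherence, finite
presentation and local freeness pass to `F ⊗_O G`.
-/

set_option autoImplicit false
universe u
open CategoryTheory Limits Opposite TopologicalSpace

namespace Groth.Agent.Lib.helper21.TensorPerm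

open Groth.Agent.Lib.helper21.TensorFree Groth.Agent.Lib.helper21.OverRestrict
  Groth.Agent.Lib.Helper21.TensorRestr SheafOfModules

variable {X : TopCat.{u}} (O : TopCat.Sheaf CommRingCat.{u} X) (F G : ModSite.Mod O)

/-- `F ⊗ G` -/
noncomputable abbrev FG : ModSite.Mod O := ((ModSite.tensorBi O).obj F).obj G

/-- restriction commutes with the tensor product -/
noncomputable def overTensIso (W : Opens X) :
    (FG O F G).over W ≅ ((T (O.over W)).obj (F.over W)).obj (G.over W) :=
  restrTensorIso O W F G

variable {O F G}

lemma isOpenCover_inf {I K : Type u} {U : I → Opens X} {V : K → Opens X}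
    (hU : IsOpenCover U) (hV : IsOpenCover V) :
    IsOpenCover (fun ij : I × K => U ij.1 ⊓ V ij.2) := by
  rw [IsOpenCover, eq_top_iff]
  intro x _
  obtain ⟨i, hi⟩ := Opens.mem_iSup.mp (hU ▸ Opens.mem_top x : x ∈ ⨆ i, U i)
  obtain ⟨j, hj⟩ := Opens.mem_iSup.mp (hV ▸ Opens.mem_top x : x ∈ ⨆ i, V i)
  exact Opens.mem_iSup.mpr ⟨(i, j), ⟨hi, hj⟩⟩

/-- generating sections of `(F ⊗ G)|_W` from generating sections of `F|_U` and `G|_V`,
`W ≤ U`, `W ≤ V` -/
noncomputable def tensGenOver {U V W : Opens X} (hU : W ≤ U) (hV : W ≤ V)
    (GF : (F.over U).GeneratingSections) (GG : (G.over V).GeneratingSections) :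
    ((FG O F G).over W).GeneratingSections :=
  GeneratingSections.equivOfIso (overTensIso O F G W).symm
    (tensGen (O := O.over W) (genOver F GF (homOfLE hU)) (genOver G GG (homOfLE hV)))

/-- local generators of the tensor product -/
noncomputable def tensLGD (qF : LocalGeneratorsData.{u} F) (qG : LocalGeneratorsData.{u} G) :
    LocalGeneratorsData.{u} (FG O F G) where
  I := qF.I × qG.I
  X ij := qF.X ij.1 ⊓ qG.X ij.2
  coversTop := (Opens.coversTop_iff _ _).mpr
    (isOpenCover_inf ((Opens.coversTop_iff _ _).mp qF.coversTop)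
      ((Opens.coversTop_iff _ _).mp qG.coversTop))
  generators ij := tensGenOver inf_le_left inf_le_right (qF.generators ij.1) (qG.generators ij.2)

lemma tensGenOver_I {U V W : Opens X} (hU : W ≤ U) (hV : W ≤ V)
    (GF : (F.over U).GeneratingSections) (GG : (G.over V).GeneratingSections) :
    (tensGenOver hU hV GF GG).I = (GF.I × GG.I) := rfl

lemma isIso_tensGenOver_π {U V W : Opens X} (hU : W ≤ U) (hV : W ≤ V)
    (GF : (F.over U).GeneratingSections) (GG : (G.over V).GeneratingSections)
    [IsIso GF.π] [IsIso GG.π] : IsIso (tensGenOver hU hV GF GG).π := by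
  haveI := isIso_genOver_π F GF (homOfLE hU)
  haveI := isIso_genOver_π G GG (homOfLE hV)
  have h1 : IsIso (tensGen (O := O.over W) (genOver F GF (homOfLE hU))
      (genOver G GG (homOfLE hV))).π :=
    @isIso_tensGen_π _ _ _ (O.over W) _ _ (genOver F GF (homOfLE hU))
      (genOver G GG (homOfLE hV)) (isIso_genOver_π F GF (homOfLE hU))
      (isIso_genOver_π G GG (homOfLE hV))
  have e : (tensGenOver hU hV GF GG).π =
      (tensGen (O := O.over W) (genOver F GF (homOfLE hU)) (genOver G GG (homOfLE hV))).π ≫
        (overTensIso O F G W).symm.hom :=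
    GeneratingSections.ofEpi_π _ _
  rw [e]
  exact @IsIso.comp_isIso _ _ _ _ _ _ _ h1 inferInstance

theorem isFiniteType_tensLGD (qF : LocalGeneratorsData.{u} F) (qG : LocalGeneratorsData.{u} G)
    [hF : qF.IsFiniteType] [hG : qG.IsFiniteType] : (tensLGD qF qG).IsFiniteType where
  isFiniteType ij := by
    haveI : Finite (qF.generators ij.1).I := (hF.isFiniteType ij.1).finite
    haveI : Finite (qG.generators ij.2).I := (hG.isFiniteType ij.2).finite
    exact ⟨inferInstanceAs (Finite ((qF.generators ij.1).I × (qG.generators ij.2).I))⟩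

theorem isLocallyFreeData_tensLGD (qF : LocalGeneratorsData.{u} F) (qG : LocalGeneratorsData.{u} G)
    [hF : qF.IsLocallyFreeData] [hG : qG.IsLocallyFreeData] :
    (tensLGD qF qG).IsLocallyFreeData where
  isIso ij := by
    haveI := hF.isIso ij.1
    haveI := hG.isIso ij.2
    exact isIso_tensGenOver_π inf_le_left inf_le_right (qF.generators ij.1) (qG.generators ij.2)

/-- a presentation of `(F ⊗ G)|_W` from presentations of `F|_U` and `G|_V`, `W ≤ U`, `W ≤ V` -/
noncomputable def tensPresOver {U V W : Opens X} (hU : W ≤ U) (hV : W ≤ V)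
    (PF : (F.over U).Presentation) (PG : (G.over V).Presentation) :
    ((FG O F G).over W).Presentation :=
  (tensPres (O := O.over W) (presOver F PF (homOfLE hU)) (presOver G PG (homOfLE hV))).ofIsIso
    (overTensIso O F G W).inv

/-- quasi-coherent data of the tensor product -/
noncomputable def tensQCD (σF : F.QuasicoherentData) (σG : G.QuasicoherentData) :
    (FG O F G).QuasicoherentData where
  I := σF.I × σG.I
  X ij := σF.X ij.1 ⊓ σG.X ij.2
  coversTop := (Opens.coversTop_iff _ _).mpr
    (isOpenCover_inf ((Opens.coversTop_iff _ _).mp σF.coversTop)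
      ((Opens.coversTop_iff _ _).mp σG.coversTop))
  presentation ij :=
    tensPresOver inf_le_left inf_le_right (σF.presentation ij.1) (σG.presentation ij.2)

theorem isFinitePresentation_tensQCD (σF : F.QuasicoherentData) (σG : G.QuasicoherentData)
    [hF : σF.IsFinitePresentation] [hG : σG.IsFinitePresentation] :
    (tensQCD σF σG).IsFinitePresentation where
  isFinite_presentation ij := by
    haveI h1 := hF.isFinite_presentation ij.1
    haveI h2 := hG.isFinite_presentation ij.2
    haveI : Finite (σF.presentation ij.1).generators.I := h1.isFiniteType_generators.finite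
    haveI : Finite (σF.presentation ij.1).relations.I := h1.isFiniteType_relations.finite
    haveI : Finite (σG.presentation ij.2).generators.I := h2.isFiniteType_generators.finite
    haveI : Finite (σG.presentation ij.2).relations.I := h2.isFiniteType_relations.finite
    exact
      { isFiniteType_generators := ⟨inferInstanceAs
          (Finite ((σF.presentation ij.1).generators.I × (σG.presentation ij.2).generators.I))⟩
        isFiniteType_relations := ⟨inferInstanceAs
          (Finite (((σF.presentation ij.1).relations.I × (σG.presentation ij.2).generators.I) ⊕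
            ((σF.presentation ij.1).generators.I × (σG.presentation ij.2).relations.I)))⟩ }

/-- **Permanence under tensor products on a ringed space.** -/
theorem main (O : TopCat.Sheaf CommRingCat.{u} X) (F G : ModSite.Mod O) :
    (Nonempty (SheafOfModules.LocalGeneratorsData.{u} (R := ModSite.ringSh O) F) →
        Nonempty (SheafOfModules.LocalGeneratorsData.{u} (R := ModSite.ringSh O) G) →
          Nonempty (SheafOfModules.LocalGeneratorsData.{u} (R := ModSite.ringSh O)
            (((ModSite.tensorBi O).obj F).obj G))) ∧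
      (SheafOfModules.IsFiniteType (R := ModSite.ringSh O) F →
        SheafOfModules.IsFiniteType (R := ModSite.ringSh O) G →
        SheafOfModules.IsFiniteType (R := ModSite.ringSh O)
          (((ModSite.tensorBi O).obj F).obj G)) ∧
      (SheafOfModules.IsQuasicoherent (R := ModSite.ringSh O) F →
        SheafOfModules.IsQuasicoherent (R := ModSite.ringSh O) G →
          SheafOfModules.IsQuasicoherent (R := ModSite.ringSh O)
            (((ModSite.tensorBi O).obj F).obj G)) ∧
      (SheafOfModules.IsFinitePresentation (R := ModSite.ringSh O) F →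
        SheafOfModules.IsFinitePresentation (R := ModSite.ringSh O) G →
          SheafOfModules.IsFinitePresentation (R := ModSite.ringSh O)
            (((ModSite.tensorBi O).obj F).obj G)) ∧
      (SheafOfModules.IsLocallyFree (R := ModSite.ringSh O) F →
        SheafOfModules.IsLocallyFree (R := ModSite.ringSh O) G →
        SheafOfModules.IsLocallyFree (R := ModSite.ringSh O)
          (((ModSite.tensorBi O).obj F).obj G)) := by
  refine ⟨?_, ?_, ?_, ?_, ?_⟩
  · rintro ⟨qF⟩ ⟨qG⟩
    exact ⟨tensLGD qF qG⟩
  · rintro ⟨qF, hF⟩ ⟨qG, hG⟩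
    exact @SheafOfModules.IsFiniteType.mk _ _ _ _ _ _ (FG O F G)
      ⟨tensLGD qF qG, isFiniteType_tensLGD qF qG⟩
  · rintro ⟨⟨σF⟩⟩ ⟨⟨σG⟩⟩
    exact (tensQCD σF σG).isQuasicoherent
  · rintro ⟨σF, hF⟩ ⟨σG, hG⟩
    exact @SheafOfModules.IsFinitePresentation.mk _ _ _ _ _ _ (FG O F G)
      ⟨tensQCD σF σG, isFinitePresentation_tensQCD σF σG⟩
  · rintro ⟨qF, hF⟩ ⟨qG, hG⟩
    exact @SheafOfModules.IsLocallyFree.mk _ _ _ _ _ _ (FG O F G)
      ⟨tensLGD qF qG, isLocallyFreeData_tensLGD qF qG⟩

end Groth.Agent.Lib.helper21.TensorPerm
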