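import Mathlib
import Groth.Agent.Lib.Helper21.TildeHom2
import Groth.Agent.Lib.Helper21.ShHomCoh2

/-!
# `ℋom(M^~, N^~) ≅ Hom_R(M, N)^~` on `Spec R` for `M` finitely presented, `R` any ring (helper21)
-/

set_option autoImplicit false
universe u

open CategoryTheory CategoryTheory.Limits AlgebraicGeometry Opposite TopologicalSpace TensorProduct
  MonoidalCategory

namespace Groth.Agent.Lib.helper21.TildeHomFP

open Groth.Agent.Lib.helper21.TildeHom Groth.Agent.Lib.helper21.ShHomCoh
  Groth.Agent.Lib.helper21.ExtShQCoh Groth.Agent.Lib.helper12.InvDual Scheme.Modules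

variable (R : CommRingCat.{u})

/-- a finite free presentation of `M^~` for `M` finitely presented -/
theorem exists_presentation_sc_tilde (M : ModuleCat.{u} R) [Module.FinitePresentation R M] :
    ∃ (E₁ E₀ : (Spec R).Modules) (f : E₁ ⟶ E₀) (g : E₀ ⟶ tilde M)
      (w : f ≫ g = 0), (ShortComplex.mk f g w).Exact ∧ Epi g ∧ FlatMod.IsFinLocFree E₁ ∧
        FlatMod.IsFinLocFree E₀ := by
  obtain ⟨P, hP⟩ := Groth.Agent.Lib.helper16.CohFinite.exists_presentation_tilde M
  haveI : Finite P.generators.I := SheafOfModules.GeneratingSections.IsFiniteType.finite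
  haveI : Finite P.relations.I := SheafOfModules.GeneratingSections.IsFiniteType.finite
  have w : (P.relations.π ≫ kernel.ι P.generators.π) ≫ P.generators.π = 0 := by
    rw [Category.assoc, kernel.condition, comp_zero]
  refine ⟨_, _, P.relations.π ≫ kernel.ι P.generators.π, P.generators.π, w, ?_,
    P.generators.epi, isFinLocFree_free _, isFinLocFree_free _⟩
  rw [ShortComplex.exact_iff_epi_kernel_lift]
  have h : kernel.lift P.generators.π (P.relations.π ≫ kernel.ι P.generators.π) w =
      P.relations.π := by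
    rw [← cancel_mono (kernel.ι P.generators.π), kernel.lift_ι]
  show Epi (kernel.lift P.generators.π (P.relations.π ≫ kernel.ι P.generators.π) w)
  rw [h]
  infer_instance

/-- `ℋom(M^~, G)` is quasi-coherent for `M` finitely presented and `G` quasi-coherent -/
theorem isQC_sheafHom_tilde (M : ModuleCat.{u} R) [Module.FinitePresentation R M]
    {G : (Spec R).Modules} (hG : G.IsQuasicoherent) :
    ((ModSite.sheafHom (O := (Spec R).sheaf) (tilde M)).obj G).IsQuasicoherent := by
  obtain ⟨E₁, E₀, f, g, w, hS, hg, h1, h0⟩ := exists_presentation_sc_tilde R M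
  haveI := hg
  haveI := isQC_sheafHom_of_isFinLocFree h0 hG
  haveI := isQC_sheafHom_of_isFinLocFree h1 hG
  have hk : (kernel ((ExtSupp.sheafHomMap (O := (Spec R).sheaf) f).app G)).IsQuasicoherent :=
    Groth.Agent.Lib.helper7.CohKer.isQuasicoherent_kernel _
  let S : ShortComplex (ModSite.Mod (Spec R).sheaf) := ShortComplex.mk f g w
  have hgS : Epi S.g := hg
  exact isQC_of_iso (@sheafHomKernelIso _ _ _ (Spec R).sheaf S
    inferInstance inferInstance inferInstance hS hgS G).symm hk

/-- `ℋom(M^~, G) ≅ Hom_R(M, Γ G)^~` -/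
noncomputable def sheafHomTildeIso (M : ModuleCat.{u} R) [Module.FinitePresentation R M]
    {G : (Spec R).Modules} (hG : G.IsQuasicoherent) :
    (ModSite.sheafHom (O := (Spec R).sheaf) (tilde M)).obj G ≅
      tilde ((ihom M).obj ((moduleSpecΓFunctor (R := R)).obj G)) :=
  haveI := isQC_sheafHom_tilde R M hG
  haveI : IsIso ((tilde.adjunction (R := R)).counit.app
      ((ModSite.sheafHom (O := (Spec R).sheaf) (tilde M)).obj G)) :=
    Scheme.Modules.isIso_fromTildeΓ_of_isQuasicoherent
      ((ModSite.sheafHom (O := (Spec R).sheaf) (tilde M)).obj G)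
  (asIso ((tilde.adjunction (R := R)).counit.app
      ((ModSite.sheafHom (O := (Spec R).sheaf) (tilde M)).obj G))).symm ≪≫
    (tilde.functor R).mapIso ((rho R M).app G)

/-- `ℋom(M^~, N^~) ≅ Hom_R(M, N)^~` -/
noncomputable def sheafHomTildeTildeIso (M N : ModuleCat.{u} R) [Module.FinitePresentation R M] :
    (ModSite.sheafHom (O := (Spec R).sheaf) (tilde M)).obj (tilde N) ≅
      tilde ((ihom M).obj N) :=
  sheafHomTildeIso R M (inferInstance : (tilde N).IsQuasicoherent) ≪≫
    (tilde.functor R).mapIso ((ihom M).mapIso ((tilde.toTildeΓNatIso (R := R)).app N).symm)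

/-- the version for the `X.Modules` sheaf Hom and modules given as types -/
theorem nonempty_dcohSheafHom_tilde_iso (A : Type u) [CommRing A] (M N : Type u)
    [AddCommGroup M] [Module A M] [Module.FinitePresentation A M] [AddCommGroup N] [Module A N]
    [DCoh.HasSheafHom (tilde (R := CommRingCat.of A) (ModuleCat.of A M))] :
    Nonempty ((DCoh.sheafHom (tilde (R := CommRingCat.of A) (ModuleCat.of A M))).obj
        (tilde (R := CommRingCat.of A) (ModuleCat.of A N)) ≅
      tilde (R := CommRingCat.of A) (ModuleCat.of A (M →ₗ[A] N))) := by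
  let R : CommRingCat.{u} := CommRingCat.of A
  let M' : ModuleCat.{u} R := ModuleCat.of A M
  let N' : ModuleCat.{u} R := ModuleCat.of A N
  haveI : Module.FinitePresentation R M' := inferInstanceAs (Module.FinitePresentation A M)
  let e : (M' ⟶ N') ≃ₗ[A] (M →ₗ[A] N) := ModuleCat.homLinearEquiv
  exact ⟨(dcohSheafHomIso (tilde M')).app (tilde N') ≪≫ sheafHomTildeTildeIso R M' N' ≪≫
    (tilde.functor R).mapIso e.toModuleIso⟩

end Groth.Agent.Lib.helper21.TildeHomFP
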