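import Mathlib
import Groth.Prelude.Def_CohCx
import Groth.Prelude.Def_CohSite
import Groth.Prelude.Def_ToposFin2
import Groth.Agent.Lib.Helper21.ToposCech6
import Groth.Agent.Lib.Helper27.RpushColim

/-!
Helper library (helper21): the free abelian sheaf on the sheaf associated to a representable
presheaf; higher direct images along a coherent morphism commute with filtered colimits.
-/

set_option autoImplicit false
set_option linter.unusedSectionVars false
set_option linter.unusedVariables false

universe u
open CategoryTheory Limits Opposite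

namespace Groth.Agent.Lib.Helper21.ToposCech

open Groth.Agent.Lib.helper27 Groth.Agent.Lib.Helper14.Topos ToposFin

variable {C : Type u} [SmallCategory C] (J : GrothendieckTopology C)

/-- first description of the left adjoint of "underlying presheaf of sets" -/
noncomputable def adjA : presheafToSheaf J (Type u) ⋙ G J ⊣ U J ⋙ sheafToPresheaf J (Type u) :=
  (sheafificationAdjunction J (Type u)).comp (TotAcyc.adj J)

/-- second description of the left adjoint of "underlying presheaf of sets" -/
noncomputable def adjB :
    (Functor.whiskeringRight Cᵒᵖ (Type u) AddCommGrpCat.{u}).obj AddCommGrpCat.free.{u} ⋙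
      presheafToSheaf J AddCommGrpCat.{u} ⊣
    sheafToPresheaf J AddCommGrpCat.{u} ⋙
      (Functor.whiskeringRight Cᵒᵖ AddCommGrpCat.{u} (Type u)).obj (forget AddCommGrpCat.{u}) :=
  (AddCommGrpCat.adj.{u}.whiskerRight Cᵒᵖ).comp (sheafificationAdjunction J AddCommGrpCat.{u})

/-- the free abelian sheaf on the sheafification of a presheaf of sets is the sheafification of
the free abelian presheaf -/
noncomputable def freeSheafifyIso :
    presheafToSheaf J (Type u) ⋙ G J ≅
      (Functor.whiskeringRight Cᵒᵖ (Type u) AddCommGrpCat.{u}).obj AddCommGrpCat.free.{u} ⋙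
        presheafToSheaf J AddCommGrpCat.{u} :=
  (adjA J).leftAdjointUniq (adjB J)

/-- the free abelian sheaf on `eps X` -/
noncomputable def freeEpsIso (X : C) :
    (G J).obj (eps J X) ≅
      (presheafToSheaf J AddCommGrpCat.{u}).obj (yoneda.obj X ⋙ AddCommGrpCat.free.{u}) :=
  (freeSheafifyIso J).app (yoneda.obj X)

variable {J}

/-- cohomology over an object of the site whose associated sheaf is coherent commutes with
filtered colimits, in an algebraic topos -/
theorem preservesColimit_cohomologyPresheaf (hE : IsAlgebraic J) (X : C)
    (hX : IsCoherent (eps J X)) {Λ : Type u} [SmallCategory Λ] [IsFiltered Λ] (p : ℕ)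
    (F : Λ ⥤ Sheaf J AddCommGrpCat.{u}) :
    PreservesColimit F ((Sheaf.cohomologyPresheafFunctor J p).flip.obj (op X)) := by
  have h1 : PreservesColimit F (Abelian.extFunctorObj.{u} ((G J).obj (eps J X)) p) :=
    preservesColimit_of_isCoherent hE hX p F
  have h2 : PreservesColimit F (Abelian.extFunctorObj.{u}
      ((presheafToSheaf J AddCommGrpCat.{u}).obj (yoneda.obj X ⋙ AddCommGrpCat.free.{u})) p) :=
    haveI : PreservesColimit F
      ((Abelian.extFunctor.{u} p).obj (op ((G J).obj (eps J X)))) := h1
    preservesColimit_of_natIso F ((Abelian.extFunctor.{u} p).mapIso (freeEpsIso J X).symm.op)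
  exact h2

/-- higher direct images along a continuous functor whose values have coherent associated sheaves
commute with filtered colimits -/
theorem preservesColimitsOfShape_Rpush {D : Type u} [SmallCategory D]
    (K : GrothendieckTopology D) (hE : IsAlgebraic J) (u : D ⥤ C) [u.IsContinuous K J]
    (hu : ∀ V : D, IsCoherent (eps J (u.obj V))) (Λ : Type u) [SmallCategory Λ] [IsFiltered Λ]
    (q : ℕ) : PreservesColimitsOfShape Λ (CohSite.Rpush J K u q) := by
  refine ⟨fun {F} => RpushColim.preservesColimit_Rpush J K u F q (fun V => ?_)⟩
  refine ⟨PUnit.{u + 1}, fun _ => V, fun _ => 𝟙 V, ?_, fun _ =>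
    preservesColimit_cohomologyPresheaf hE (u.obj V) (hu V) q F⟩
  refine K.superset_covering ?_ (K.top_mem V)
  intro W g _
  exact ⟨V, g, 𝟙 V, ⟨PUnit.unit⟩, Category.comp_id g⟩

end Groth.Agent.Lib.Helper21.ToposCech
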