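import Groth.Prelude.Def_SGA4c
import Mathlib

/-!
Toolkit for finiteness conditions in the topos `Sheaf J (Type u)` (helper21):
elementwise characterization of jointly epimorphic families, base change, composition.
-/

universe w' w u

open CategoryTheory CategoryTheory.Limits Opposite

namespace Groth.Agent.Lib.helper21
namespace ToposKit

variable {C : Type u} [SmallCategory C] {J : GrothendieckTopology C}

open ToposFin

instance (priority := 10000) hasColimitsOfShape_discrete {ι : Type w} [Small.{u} ι] :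
    HasColimitsOfShape (Discrete ι) (Sh J) :=
  Sheaf.instHasColimitsOfShape

/-- A family of morphisms of sheaves is jointly locally surjective. -/
def JLS {X : Sh J} {ι : Type w} {F : ι → Sh J} (π : ∀ i, F i ⟶ X) : Prop :=
  ∀ (U : C) (x : X.obj.obj (op U)), ∃ S ∈ J U, ∀ ⦃V : C⦄ (f : V ⟶ U), S f →
    ∃ (i : ι) (y : (F i).obj.obj (op V)), (π i).hom.app (op V) y = X.obj.map f.op x

/-- A family is jointly epimorphic (in the categorical sense). -/
def JE {X : Sh J} {ι : Type w} {F : ι → Sh J} (π : ∀ i, F i ⟶ X) : Prop :=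
  ∀ ⦃Z : Sh J⦄ (a b : X ⟶ Z), (∀ i, π i ≫ a = π i ≫ b) → a = b

lemma epi_sigmaDesc_iff_JE {X : Sh J} {ι : Type w} {F : ι → Sh J} [HasCoproduct F]
    (π : ∀ i, F i ⟶ X) : Epi (Limits.Sigma.desc π) ↔ JE π := by
  constructor
  · intro h Z a b hab
    rw [← cancel_epi (Limits.Sigma.desc π)]
    apply Limits.Sigma.hom_ext
    intro i
    rw [Limits.Sigma.ι_desc_assoc, Limits.Sigma.ι_desc_assoc]
    exact hab i
  · intro h
    constructor
    intro Z a b hab
    apply h
    intro i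
    have := congrArg (fun t => Limits.Sigma.ι F i ≫ t) hab
    simp only [Limits.Sigma.ι_desc_assoc] at this
    exact this

/-- the union of the images of a family, as a subfunctor -/
def imgSub {X : Sh J} {ι : Type w} {F : ι → Sh J} (π : ∀ i, F i ⟶ X) : Subfunctor X.obj where
  obj U := {x | ∃ (i : ι) (y : (F i).obj.obj U), (π i).hom.app U y = x}
  map := by
    rintro U V f x ⟨i, y, rfl⟩
    exact ⟨i, (F i).obj.map f y, NatTrans.naturality_apply (π i).hom f y⟩

lemma jls_iff_mem {X : Sh J} {ι : Type w} {F : ι → Sh J} (π : ∀ i, F i ⟶ X) :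
    JLS π ↔ ∀ (U : Cᵒᵖ) (x : X.obj.obj U), x ∈ ((imgSub π).sheafify J).obj U := by
  constructor
  · intro h U x
    obtain ⟨S, hS, hS'⟩ := h U.unop x
    refine J.superset_covering ?_ hS
    intro V f hf
    exact hS' f hf
  · intro h U x
    refine ⟨_, h (op U) x, ?_⟩
    intro V f hf
    exact hf

lemma JLS.je {X : Sh J} {ι : Type w} {F : ι → Sh J} {π : ∀ i, F i ⟶ X} (h : JLS π) : JE π := by
  intro Z a b hab
  apply Sheaf.hom_ext
  ext U x
  obtain ⟨S, hS, hS'⟩ := h U.unop x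
  have hZ : Presieve.IsSheaf J Z.obj := (isSheaf_iff_isSheaf_of_type _ _).1 Z.property
  refine ((hZ _ hS).isSeparatedFor).ext ?_
  intro V f hf
  obtain ⟨i, y, hy⟩ := hS' f hf
  have h1 : Z.obj.map f.op (a.hom.app U x) = a.hom.app (op V) (X.obj.map f.op x) :=
    (NatTrans.naturality_apply a.hom f.op x).symm
  have h2 : Z.obj.map f.op (b.hom.app U x) = b.hom.app (op V) (X.obj.map f.op x) :=
    (NatTrans.naturality_apply b.hom f.op x).symm
  show Z.obj.map f.op (a.hom.app U x) = Z.obj.map f.op (b.hom.app U x)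
  rw [h1, h2, ← hy]
  have := congrArg (fun t => t.hom.app (op V) y) (hab i)
  exact this

/-- the sheaf of sections which are locally in the union of the images -/
noncomputable def imgSh {X : Sh J} {ι : Type w} {F : ι → Sh J} (π : ∀ i, F i ⟶ X) : Sh J :=
  ⟨((imgSub π).sheafify J).toFunctor, (isSheaf_iff_isSheaf_of_type _ _).2
    ((imgSub π).sheafify_isSheaf ((isSheaf_iff_isSheaf_of_type _ _).1 X.property))⟩

/-- inclusion of `imgSh` -/
noncomputable def imgShι {X : Sh J} {ι : Type w} {F : ι → Sh J} (π : ∀ i, F i ⟶ X) :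
    imgSh π ⟶ X :=
  ObjectProperty.homMk ((imgSub π).sheafify J).ι

lemma range_le_imgSub {X : Sh J} {ι : Type w} {F : ι → Sh J} (π : ∀ i, F i ⟶ X) (i : ι) :
    Subfunctor.range (π i).hom ≤ (imgSub π).sheafify J := by
  refine le_trans ?_ ((imgSub π).le_sheafify J)
  rintro U x ⟨y, rfl⟩
  exact ⟨i, y, rfl⟩

/-- the members of the family factor through `imgSh` -/
noncomputable def toImgSh {X : Sh J} {ι : Type w} {F : ι → Sh J} (π : ∀ i, F i ⟶ X) (i : ι) :
    F i ⟶ imgSh π :=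
  ObjectProperty.homMk (Subfunctor.lift (π i).hom (range_le_imgSub π i))

lemma toImgSh_ι {X : Sh J} {ι : Type w} {F : ι → Sh J} (π : ∀ i, F i ⟶ X) (i : ι) :
    toImgSh π i ≫ imgShι π = π i := rfl

lemma JE.jls {X : Sh J} {ι : Type w} {F : ι → Sh J} {π : ∀ i, F i ⟶ X} (h : JE π) : JLS π := by
  have hepi : Epi (imgShι π) := by
    constructor
    intro Z a b hab
    apply h
    intro i
    rw [← toImgSh_ι π i, Category.assoc, Category.assoc, hab]
  have hls : Sheaf.IsLocallySurjective (imgShι π) := (Sheaf.isLocallySurjective_iff_epi _).2 hepi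
  rw [jls_iff_mem]
  intro U x
  have hX : Presieve.IsSheaf J X.obj := (isSheaf_iff_isSheaf_of_type _ _).1 X.property
  rw [← Subfunctor.sheafify_sheafify (imgSub π) hX]
  have h1 := Presheaf.imageSieve_mem J (imgShι π).hom x
  refine J.superset_covering ?_ h1
  rintro V f ⟨t, ht⟩
  show X.obj.map f.op x ∈ ((imgSub π).sheafify J).obj (op V)
  rw [← ht]
  exact t.2

lemma jls_iff_je {X : Sh J} {ι : Type w} {F : ι → Sh J} (π : ∀ i, F i ⟶ X) : JLS π ↔ JE π :=
  ⟨JLS.je, JE.jls⟩

lemma epi_sigmaDesc_iff_jls {X : Sh J} {ι : Type w} {F : ι → Sh J} [HasCoproduct F]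
    (π : ∀ i, F i ⟶ X) : Epi (Limits.Sigma.desc π) ↔ JLS π := by
  rw [epi_sigmaDesc_iff_JE, jls_iff_je]

/-- the sieve of arrows along which `x` lies in the union of the images -/
def secSieve {X : Sh J} {ι : Type w} {F : ι → Sh J} (π : ∀ i, F i ⟶ X) {U : C}
    (x : X.obj.obj (op U)) : Sieve U :=
  (imgSub π).sieveOfSection x

lemma secSieve_apply {X : Sh J} {ι : Type w} {F : ι → Sh J} (π : ∀ i, F i ⟶ X) {U : C}
    (x : X.obj.obj (op U)) {V : C} (f : V ⟶ U) :
    secSieve π x f ↔ ∃ (i : ι) (y : (F i).obj.obj (op V)),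
      (π i).hom.app (op V) y = X.obj.map f.op x := Iff.rfl

lemma jls_iff_secSieve {X : Sh J} {ι : Type w} {F : ι → Sh J} (π : ∀ i, F i ⟶ X) :
    JLS π ↔ ∀ (U : C) (x : X.obj.obj (op U)), secSieve π x ∈ J U := by
  rw [jls_iff_mem]
  constructor
  · intro h U x
    exact h (op U) x
  · intro h U x
    exact h U.unop x

/-- sections of a pullback square of sheaves -/
lemma exists_section_of_isPullback {P A B X : Sh J} {p : P ⟶ A} {q : P ⟶ B} {a : A ⟶ X}
    {b : B ⟶ X} (h : IsPullback p q a b) (U : Cᵒᵖ) (y : A.obj.obj U) (z : B.obj.obj U)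
    (hyz : a.hom.app U y = b.hom.app U z) :
    ∃ t : P.obj.obj U, p.hom.app U t = y ∧ q.hom.app U t = z := by
  have h1 : IsPullback (p.hom.app U) (q.hom.app U) (a.hom.app U) (b.hom.app U) :=
    h.map (sheafToPresheaf J (Type u) ⋙ (evaluation _ _).obj U)
  exact Limits.Types.exists_of_isPullback h1 y z hyz

lemma section_ext_of_isPullback {P A B X : Sh J} {p : P ⟶ A} {q : P ⟶ B} {a : A ⟶ X}
    {b : B ⟶ X} (h : IsPullback p q a b) (U : Cᵒᵖ) (t t' : P.obj.obj U)
    (h1 : p.hom.app U t = p.hom.app U t') (h2 : q.hom.app U t = q.hom.app U t') : t = t' := by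
  have h0 : IsPullback (p.hom.app U) (q.hom.app U) (a.hom.app U) (b.hom.app U) :=
    h.map (sheafToPresheaf J (Type u) ⋙ (evaluation _ _).obj U)
  exact Limits.Types.ext_of_isPullback h0 h1 h2

/-- base change of a jointly locally surjective family -/
lemma JLS.baseChange {X X' : Sh J} {ι : Type w} {F : ι → Sh J} {π : ∀ i, F i ⟶ X} (h : JLS π)
    (g : X' ⟶ X) {P : ι → Sh J} (p : ∀ i, P i ⟶ F i) (q : ∀ i, P i ⟶ X')
    (hpb : ∀ i, IsPullback (p i) (q i) (π i) g) : JLS q := by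
  intro U x'
  obtain ⟨S, hS, hS'⟩ := h U (g.hom.app (op U) x')
  refine ⟨S, hS, ?_⟩
  intro V f hf
  obtain ⟨i, y, hy⟩ := hS' f hf
  have h1 : (π i).hom.app (op V) y = g.hom.app (op V) (X'.obj.map f.op x') := by
    rw [hy]
    exact (NatTrans.naturality_apply g.hom f.op x').symm
  obtain ⟨t, -, ht⟩ := exists_section_of_isPullback (hpb i) (op V) y _ h1
  exact ⟨i, t, ht⟩

/-- composition of jointly locally surjective families -/
lemma JLS.comp {X : Sh J} {ι : Type w} {F : ι → Sh J} {π : ∀ i, F i ⟶ X} (h : JLS π)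
    {κ : ι → Type w'} {G : ∀ i, κ i → Sh J} (ρ : ∀ i (j : κ i), G i j ⟶ F i)
    (hρ : ∀ i, JLS (ρ i)) :
    JLS (fun (k : Σ i, κ i) => ρ k.1 k.2 ≫ π k.1) := by
  rw [jls_iff_secSieve] at h ⊢
  intro U x
  refine J.transitive (h U x) _ ?_
  rintro V f ⟨i, y, hy⟩
  have h2 := (jls_iff_secSieve (ρ i)).1 (hρ i) V y
  refine J.superset_covering ?_ h2
  rintro W e ⟨j, z, hz⟩
  refine ⟨⟨i, j⟩, z, ?_⟩
  show (π i).hom.app (op W) ((ρ i j).hom.app (op W) z) = X.obj.map (e ≫ f).op x
  rw [hz, op_comp, Functor.map_comp]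
  show _ = X.obj.map e.op (X.obj.map f.op x)
  rw [← hy]
  exact NatTrans.naturality_apply (π i).hom e.op y

/-- a family through which a jointly locally surjective family factors is jointly locally
surjective -/
lemma JLS.of_factor {X : Sh J} {ι : Type w} {F : ι → Sh J} {π : ∀ i, F i ⟶ X} (h : JLS π)
    {κ : Type*} {G : κ → Sh J} (ρ : ∀ k, G k ⟶ X)
    (hfac : ∀ i, ∃ (k : κ) (φ : F i ⟶ G k), φ ≫ ρ k = π i) : JLS ρ := by
  intro U x
  obtain ⟨S, hS, hS'⟩ := h U x
  refine ⟨S, hS, ?_⟩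
  intro V f hf
  obtain ⟨i, y, hy⟩ := hS' f hf
  obtain ⟨k, φ, hφ⟩ := hfac i
  refine ⟨k, φ.hom.app (op V) y, ?_⟩
  rw [← hy, ← hφ]
  rfl

lemma isQC_iff_jls (X : Sh J) :
    IsQC X ↔ ∀ (ι : Type u) (F : ι → Sh J) (π : ∀ i, F i ⟶ X), JLS π →
      ∃ s : Finset ι, JLS (fun i : s => π i) := by
  unfold IsQC
  simp only [epi_sigmaDesc_iff_jls]

/-- an object covered by finitely many quasi-compact objects is quasi-compact -/
theorem isQC_of_finite_jls {X : Sh J} {κ : Type w} [Finite κ] {F : κ → Sh J} (π : ∀ k, F k ⟶ X)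
    (hπ : JLS π) (hF : ∀ k, IsQC (F k)) : IsQC X := by
  rw [isQC_iff_jls]
  intro ι G ρ hρ
  have h1 : ∀ k, JLS (fun i => pullback.snd (ρ i) (π k)) := fun k =>
    hρ.baseChange (π k) (fun i => pullback.fst (ρ i) (π k)) (fun i => pullback.snd (ρ i) (π k))
      (fun i => IsPullback.of_hasPullback _ _)
  have h2 : ∀ k, ∃ s : Finset ι, JLS (fun i : s => pullback.snd (ρ i) (π k)) := fun k =>
    (isQC_iff_jls _).1 (hF k) ι _ _ (h1 k)
  choose s hs using h2
  classical
  haveI := Fintype.ofFinite κ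
  refine ⟨Finset.univ.biUnion s, ?_⟩
  have h3 := hπ.comp (κ := fun k => s k) (fun k (i : s k) => pullback.snd (ρ i) (π k)) hs
  refine h3.of_factor (fun i : (Finset.univ.biUnion s : Finset ι) => ρ i) ?_
  rintro ⟨k, i⟩
  refine ⟨⟨i.1, Finset.mem_biUnion.2 ⟨k, Finset.mem_univ k, i.2⟩⟩, pullback.fst (ρ i) (π k), ?_⟩
  exact pullback.condition

end ToposKit
end Groth.Agent.Lib.helper21
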