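import Groth.Agent.Lib.Helper21.ToposKit
import Groth.Agent.Lib.Helper23.QCHom

/-!
Toolkit for finiteness conditions in the topos `Sheaf J (Type u)`, part 2 (helper21):
quasi-compact morphisms and finite covers, generating families.
-/

universe w' w u

open CategoryTheory CategoryTheory.Limits Opposite

namespace Groth.Agent.Lib.helper21
namespace ToposKit

variable {C : Type u} [SmallCategory C] {J : GrothendieckTopology C}

open ToposFin Groth.Agent.Lib.helper23

/-- if `P` is covered by finitely many objects each of which is a pullback of a quasi-compact object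
along a quasi-compact morphism ..., general form: finite JLS family with QC sources. -/
theorem isQCHom_of_finite_jls {Y Z : Sh J} (g : Y ⟶ Z) {κ : Type w} [Finite κ] {X : κ → Sh J}
    (f : ∀ k, X k ⟶ Y) (hf : JLS f) (h : ∀ k, IsQCHom (f k ≫ g)) : IsQCHom g := by
  intro Z' t hZ'
  refine isQC_of_finite_jls (fun k => pullback.snd (f k) (pullback.fst g t)) ?_ ?_
  · exact hf.baseChange (pullback.fst g t) (fun k => pullback.fst _ _) _
      (fun k => IsPullback.of_hasPullback _ _)
  · intro k
    have hp : IsPullback (pullback.fst (f k) (pullback.fst g t))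
        (pullback.snd (f k) (pullback.fst g t) ≫ pullback.snd g t) (f k ≫ g) t :=
      (IsPullback.of_hasPullback _ _).paste_vert (IsPullback.of_hasPullback g t)
    exact QCHom.isQC_of_isPullback (h k) hp hZ'

/-- quasi-compactness of a pullback can be tested after covering the (quasi-compact) base -/
theorem isQC_pullback_of_jls {X Y Y' : Sh J} (f : X ⟶ Y) (t : Y' ⟶ Y) (hY' : IsQC Y')
    {ι : Type u} {Q : ι → Sh J} (π : ∀ i, Q i ⟶ Y') (hπ : JLS π)
    (h : ∀ i, IsQC (pullback f (π i ≫ t))) : IsQC (pullback f t) := by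
  obtain ⟨s, hs⟩ := (isQC_iff_jls Y').1 hY' ι Q π hπ
  refine isQC_of_finite_jls
    (fun i : s => pullback.snd (π i) (pullback.snd f t)) ?_ ?_
  · exact hs.baseChange (pullback.snd f t) (fun i => pullback.fst _ _) _
      (fun i => IsPullback.of_hasPullback _ _)
  · intro i
    have hp : IsPullback (pullback.snd (π i) (pullback.snd f t) ≫ pullback.fst f t)
        (pullback.fst (π i) (pullback.snd f t)) f (π i ≫ t) :=
      (IsPullback.of_hasPullback (π i) (pullback.snd f t)).flip.paste_horiz
        (IsPullback.of_hasPullback f t)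
    exact QCHom.isQC_of_iso hp.isoPullback.symm (h i)

/-- symmetric form -/
theorem isQC_pullback_of_jls' {X Y Y' : Sh J} (f : X ⟶ Y) (t : Y' ⟶ Y) (hY' : IsQC Y')
    {ι : Type u} {Q : ι → Sh J} (π : ∀ i, Q i ⟶ Y') (hπ : JLS π)
    (h : ∀ i, IsQC (pullback (π i ≫ t) f)) : IsQC (pullback t f) := by
  refine QCHom.isQC_of_iso (pullbackSymmetry f t) ?_
  refine isQC_pullback_of_jls f t hY' π hπ ?_
  intro i
  exact QCHom.isQC_of_iso (pullbackSymmetry _ _) (h i)

end ToposKit
end Groth.Agent.Lib.helper21
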