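import Groth.Agent.Lib.Helper21.ToposKit2

/-!
Toolkit for finiteness conditions in the topos `Sheaf J (Type u)`, part 3 (helper21):
locality of quasi-compact / quasi-separated morphisms on the target.
-/

universe w' w u

open CategoryTheory CategoryTheory.Limits Opposite

namespace Groth.Agent.Lib.helper21
namespace ToposKit

open ToposFin Groth.Agent.Lib.helper23

section general

variable {D : Type*} [Category D] [HasPullbacks D]

set_option backward.isDefEq.respectTransparency false in
/-- the diagonal of a base change is the base change of the diagonal -/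
theorem isPullback_diagonal {X X' Y Y' : D} {p : X' ⟶ X} {f' : X' ⟶ Y'} {f : X ⟶ Y} {g : Y' ⟶ Y}
    (sq : IsPullback p f' f g) :
    IsPullback p (pullback.diagonal f') (pullback.diagonal f)
      (pullback.map f' f' f f p p g sq.w.symm sq.w.symm) := by
  refine ⟨⟨?_⟩, ⟨PullbackCone.IsLimit.mk _ (fun c => c.snd ≫ pullback.fst f' f') ?_ ?_ ?_⟩⟩
  · apply pullback.hom_ext <;> simp [pullback.map]
  · intro c
    have := c.condition =≫ pullback.fst f f
    simpa [pullback.map] using this.symm
  · intro c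
    have h1 := c.condition =≫ pullback.fst f f
    have h2 := c.condition =≫ pullback.snd f f
    simp only [Category.assoc, pullback.diagonal_fst, pullback.diagonal_snd, Category.comp_id,
      pullback.lift_fst, pullback.lift_snd, pullback.map] at h1 h2
    apply pullback.hom_ext
    · simp
    · simp only [Category.assoc, pullback.diagonal_snd, Category.comp_id]
      apply sq.hom_ext
      · rw [Category.assoc, Category.assoc, ← h1, ← h2]
      · rw [Category.assoc, Category.assoc, pullback.condition]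
  · intro c m h1 h2
    have := h2 =≫ pullback.fst f' f'
    simpa using this

end general

variable {C : Type u} [SmallCategory C] {J : GrothendieckTopology C}

theorem isQC_pullback_congr {X Y Z : Sh J} {f : X ⟶ Y} {g g' : Z ⟶ Y} (hg : g = g')
    (h : IsQC (pullback f g)) : IsQC (pullback f g') := by
  subst hg; exact h

/-- refine a jointly surjective family by quasi-compact objects -/
theorem JLS.exists_qc_refinement (hE : HasQCGenerators J) {T : Sh J} {ι : Type u} {F : ι → Sh J}
    {π : ∀ i, F i ⟶ T} (h : JLS π) :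
    ∃ (κ : Type u) (Q : κ → Sh J) (c : ∀ k, Q k ⟶ T), (∀ k, IsQC (Q k)) ∧ JLS c ∧
      ∀ k, ∃ (i : ι) (φ : Q k ⟶ F i), φ ≫ π i = c k := by
  choose κ G ρ hG hρ using fun i => hE (F i)
  refine ⟨Σ i, κ i, fun k => G k.1 k.2, fun k => ρ k.1 k.2 ≫ π k.1, fun k => hG k.1 k.2, ?_, ?_⟩
  · exact h.comp ρ (fun i => (epi_sigmaDesc_iff_jls (ρ i)).1 (hρ i))
  · rintro ⟨i, j⟩
    exact ⟨i, ρ i j, rfl⟩

/-- a morphism is quasi-compact if it is so locally on the target (general form) -/
theorem isQCHom_of_local {A B : Sh J} (h : A ⟶ B) {ι : Type w} {Ai Bi : ι → Sh J}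
    (u : ∀ i, Ai i ⟶ A) (hi : ∀ i, Ai i ⟶ Bi i) (v : ∀ i, Bi i ⟶ B)
    (hpb : ∀ i, IsPullback (u i) (hi i) h (v i)) (hqc : ∀ i, IsQCHom (hi i))
    (hloc : ∀ (T : Sh J) (t : T ⟶ B), IsQC T → ∃ (κ : Type u) (Q : κ → Sh J) (c : ∀ k, Q k ⟶ T),
      (∀ k, IsQC (Q k)) ∧ JLS c ∧ ∀ k, ∃ (i : ι) (t' : Q k ⟶ Bi i), t' ≫ v i = c k ≫ t) :
    IsQCHom h := by
  intro T t hT
  obtain ⟨κ, Q, c, hQ, hc, hfac⟩ := hloc T t hT
  refine isQC_pullback_of_jls h t hT c hc ?_
  intro k
  obtain ⟨i, t', ht'⟩ := hfac k
  refine isQC_pullback_congr ht' ?_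
  have hp : IsPullback (pullback.fst (hi i) t' ≫ u i) (pullback.snd (hi i) t') h (t' ≫ v i) :=
    (IsPullback.of_hasPullback (hi i) t').paste_horiz (hpb i)
  exact QCHom.isQC_of_iso hp.isoPullback (hqc i _ t' (hQ k))

end ToposKit
end Groth.Agent.Lib.helper21
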