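import Mathlib
import Groth.Prelude.Def_Tors
import Groth.Agent.Lib.Helper21.ConstH1

/-!
# Torsors and `H¹`, part (a): if all torsors have sections then `H¹ = 0`
-/

open CategoryTheory CategoryTheory.Limits Opposite

namespace Groth.Agent.Lib.Helper21.TorsH1

universe u

open Groth.Agent.Lib.Helper21.ConstH1

variable {C : Type u} [SmallCategory C] {J : GrothendieckTopology C}

section FiberTorsor

variable {G I K : Sheaf J AddCommGrpCat.{u}} (ι : G ⟶ I) (p : I ⟶ K) (w : ι ≫ p = 0)
  (hS : (ShortComplex.mk ι p w).ShortExact) (k : ZX J ⟶ K)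

/-- the subfunctor of sections of `I` lifting `k` -/
def fiberSub : Subfunctor (I.obj ⋙ forget AddCommGrpCat.{u}) where
  obj U := {t : I.obj.obj U | p.hom.app U t = sec k U}
  map {U V} f t ht := by
    show p.hom.app V (I.obj.map f t) = sec k V
    have h := ConcreteCategory.congr_hom (p.hom.naturality f) t
    rw [ConcreteCategory.comp_apply, ConcreteCategory.comp_apply] at h
    rw [h]
    have ht' : p.hom.app U t = sec k U := ht
    rw [ht', sec_nat]

lemma fiberSub_isSheaf : Presheaf.IsSheaf J (fiberSub p k).toFunctor := by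
  rw [isSheaf_iff_isSheaf_of_type]
  have hsh : Presieve.IsSheaf J (I.obj ⋙ forget AddCommGrpCat.{u}) :=
    (isSheaf_iff_isSheaf_of_type J _).1
      ((Presheaf.isSheaf_iff_isSheaf_forget J I.obj (forget AddCommGrpCat.{u})).1 I.property)
  rw [Subfunctor.isSheaf_iff _ hsh]
  intro U s hs
  show p.hom.app U s = sec k U
  refine ext_local K (V := U.unop) _ _ _ hs ?_
  intro W f hf
  have hf' : p.hom.app (op W) (I.obj.map f.op s) = sec k (op W) := hf
  rw [← nat_apply, hf']
  exact (sec_nat k f.op).symm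

/-- the sheaf of lifts of `k` -/
def fiberSheaf : Sheaf J (Type u) := ⟨(fiberSub p k).toFunctor, fiberSub_isSheaf p k⟩

include w in
lemma p_ι' (U : Cᵒᵖ) (s : G.obj.obj U) :
    p.hom.app U (ι.hom.app U s) = 0 := by
  have h := congrArg (fun t : G ⟶ K => t.hom.app U s) w
  exact h

include hS in
lemma existsUnique_diff (U : Cᵒᵖ) (a a' : I.obj.obj U) (s : K.obj.obj U)
    (h1 : p.hom.app U a = s) (h2 : p.hom.app U a' = s) :
    ∃! g : G.obj.obj U, ι.hom.app U g + a = a' := by
  have hle := sections_left_exact _ hS U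
  have hd : p.hom.app U (a' - a) = 0 := by
    rw [map_sub, h1, h2, sub_self]
  obtain ⟨g, hg⟩ := hle.2 _ hd
  have hg' : ι.hom.app U g = a' - a := hg
  refine ⟨g, ?_, ?_⟩
  · show ι.hom.app U g + a = a'
    rw [hg']
    abel
  · intro g' hg''
    apply hle.1
    have h3 : ι.hom.app U g' + a = a' := hg''
    show ι.hom.app U g' = ι.hom.app U g
    rw [hg', ← h3]
    abel

/-- the torsor of lifts of `k` -/
noncomputable def fiberTorsor [Epi p] : Tors.Torsor G where
  P := fiberSheaf p k
  vadd {U} g t := ⟨(ι.hom.app U g + t.1 : I.obj.obj U), by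
    show p.hom.app U (ι.hom.app U g + t.1) = sec k U
    rw [map_add, p_ι' ι p w, zero_add]
    exact t.2⟩
  zero_vadd {U} t := by
    apply Subtype.ext
    show (ι.hom.app U 0 + t.1 : I.obj.obj U) = t.1
    rw [map_zero, zero_add]
  add_vadd {U} g h t := by
    apply Subtype.ext
    show (ι.hom.app U (g + h) + t.1 : I.obj.obj U) = ι.hom.app U g + (ι.hom.app U h + t.1)
    rw [map_add, add_assoc]
  map_vadd {U V} f g t := by
    apply Subtype.ext
    show I.obj.map f (ι.hom.app U g + t.1) = ι.hom.app V (G.obj.map f g) + I.obj.map f t.1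
    rw [map_add]
    congr 1
    have h := ConcreteCategory.congr_hom (ι.hom.naturality f) g
    rw [ConcreteCategory.comp_apply, ConcreteCategory.comp_apply] at h
    exact h.symm
  free_transitive {U} t t' := by
    obtain ⟨g, hg, hu⟩ := existsUnique_diff ι p w hS U t.1 t'.1 (sec k U) t.2 t'.2
    refine ⟨g, Subtype.ext hg, ?_⟩
    intro g' hg'
    exact hu g' (congrArg Subtype.val hg')
  locally_nonempty U := by
    haveI : Sheaf.IsLocallySurjective p :=
      (Sheaf.isLocallySurjective_iff_epi' (φ := p)).2 inferInstance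
    refine ⟨_, Presheaf.imageSieve_mem J p.hom (sec k (op U)), ?_⟩
    rintro V f ⟨t₀, ht₀⟩
    refine ⟨⟨t₀, ?_⟩⟩
    show p.hom.app (op V) t₀ = sec k (op V)
    rw [ht₀]
    exact sec_nat k f.op

end FiberTorsor

/-- a global section of a sheaf of sets gives a compatible family of sections -/
lemma exists_family_of_hasSection {G : Sheaf J AddCommGrpCat.{u}} (T : Tors.Torsor G)
    (h : T.HasSection) :
    ∃ s : ∀ U : Cᵒᵖ, T.P.obj.obj U, ∀ {U V : Cᵒᵖ} (f : U ⟶ V), T.P.obj.map f (s U) = s V := by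
  obtain ⟨t⟩ := h
  let Gs : Sheaf J (Type u) := (sheafCompose J (forget AddCommGrpCat.{u})).obj G
  let c : Gs ⟶ ⊤_ (Sheaf J (Type u)) := terminal.from Gs
  refine ⟨fun U => t.hom.app U (c.hom.app U (0 : G.obj.obj U)), ?_⟩
  intro U V f
  change T.P.obj.map f (t.hom.app U (c.hom.app U (0 : G.obj.obj U))) =
    t.hom.app V (c.hom.app V (0 : G.obj.obj V))
  rw [← NatTrans.naturality_apply t.hom f, ← NatTrans.naturality_apply c.hom f]
  change t.hom.app V (c.hom.app V ((G.obj.map f).hom (0 : G.obj.obj U))) = _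
  rw [map_zero]

/-- a compatible family of sections gives a global section -/
lemma hasSection_of_family {G : Sheaf J AddCommGrpCat.{u}} (T : Tors.Torsor G)
    (s : ∀ U : Cᵒᵖ, T.P.obj.obj U)
    (hs : ∀ {U V : Cᵒᵖ} (f : U ⟶ V), T.P.obj.map f (s U) = s V) : T.HasSection := by
  refine ⟨⟨{ app := fun U => TypeCat.ofHom fun _ => s U, naturality := ?_ }⟩⟩
  intro U V f
  ext x
  exact (hs f).symm

open CategoryTheory.Abelian in
theorem subsingleton_H1 (G : Sheaf J AddCommGrpCat.{u})
    (h : ∀ T : Tors.Torsor G, T.HasSection) : Subsingleton (Sheaf.H.{u} G 1) := by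
  suffices h0 : ∀ x : Ext (ZX J) G 1, x = 0 from ⟨fun x y => (h0 x).trans (h0 y).symm⟩
  intro x
  let ι := Injective.ι G
  let S : ShortComplex (Sheaf J AddCommGrpCat.{u}) :=
    ShortComplex.mk ι (cokernel.π ι) (cokernel.condition ι)
  have hS : S.ShortExact :=
    { exact := ShortComplex.exact_cokernel ι
      mono_f := (inferInstance : Mono ι)
      epi_g := (inferInstance : Epi (cokernel.π ι)) }
  have hx0 : x.comp (Ext.mk₀ S.f) (add_zero 1) = 0 := Ext.eq_zero_of_injective _
  obtain ⟨x₃, hx₃⟩ := Ext.covariant_sequence_exact₁ _ hS x hx0 (zero_add 1)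
  obtain ⟨k, rfl⟩ := (Ext.mk₀_bijective _ _).2 x₃
  haveI : Epi S.g := hS.epi_g
  obtain ⟨s, hs⟩ := exists_family_of_hasSection _ (h (fiberTorsor S.f S.g S.zero hS k))
  have hcomp : ∀ {U V : Cᵒᵖ} (f : U ⟶ V),
      S.X₂.obj.map f ((s U).1 : S.X₂.obj.obj U) = ((s V).1 : S.X₂.obj.obj V) := by
    intro U V f
    exact congrArg Subtype.val (hs f)
  let e : ZX J ⟶ S.X₂ := ofSec (fun U => ((s U).1 : S.X₂.obj.obj U)) hcomp
  have he : e ≫ S.g = k := by
    apply sec_ext
    intro U
    rw [sec_comp, sec_ofSec]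
    exact (s U).2
  rw [← hx₃, ← he, ← Ext.mk₀_comp_mk₀, Ext.comp_assoc_of_second_deg_zero, hS.comp_extClass,
    Ext.comp_zero]

end Groth.Agent.Lib.Helper21.TorsH1
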