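import Mathlib
import Groth.Prelude.Def_Tors
import Groth.Agent.Lib.Helper21.ConstH1

/-!
# Torsors and `H¹`, part (b): the abelian sheaf of maps from a sheaf of sets to an abelian sheaf
-/

open CategoryTheory CategoryTheory.Limits Opposite

namespace Groth.Agent.Lib.Helper21.TorsH1

universe u

variable {C : Type u} [SmallCategory C] {J : GrothendieckTopology C}

section HomPre

variable (F : Cᵒᵖ ⥤ Type u) (A : Cᵒᵖ ⥤ AddCommGrpCat.{u})

/-- sections of the presheaf of maps `F → A` -/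
abbrev HomSec (U : Cᵒᵖ) : Type u := (presheafHom F (A ⋙ forget AddCommGrpCat.{u})).obj U

variable {F A}

/-- evaluation of a map on a section -/
def ev {U : Cᵒᵖ} (φ : HomSec F A U) {V : C} (h : V ⟶ U.unop) (x : F.obj (op V)) : A.obj (op V) :=
  φ.app (op (Over.mk h)) x

lemma ev_nat {U : Cᵒᵖ} (φ : HomSec F A U) {V W : C} (h : V ⟶ U.unop) (k : W ⟶ V)
    (x : F.obj (op V)) : ev φ (k ≫ h) (F.map k.op x) = A.map k.op (ev φ h x) := by
  have := NatTrans.naturality_apply φ (Over.homMk k : Over.mk (k ≫ h) ⟶ Over.mk h).op x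
  exact this

lemma ev_map {U U' : Cᵒᵖ} (f : U ⟶ U') (φ : HomSec F A U) {V : C} (h : V ⟶ U'.unop)
    (x : F.obj (op V)) :
    ev ((presheafHom F (A ⋙ forget AddCommGrpCat.{u})).map f φ) h x = ev φ (h ≫ f.unop) x := by
  have := presheafHom_map_app (F := F) (G := A ⋙ forget AddCommGrpCat.{u}) h f.unop
    (h ≫ f.unop) rfl φ
  exact congrArg (fun t => t x) this

lemma ext_ev {U : Cᵒᵖ} (φ ψ : HomSec F A U)
    (h : ∀ {V : C} (h : V ⟶ U.unop) (x : F.obj (op V)), ev φ h x = ev ψ h x) : φ = ψ := by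
  apply NatTrans.ext
  funext Y
  ext x
  exact h Y.unop.hom x

/-- constructor -/
def mkHom (U : Cᵒᵖ) (a : ∀ {V : C} (_ : V ⟶ U.unop), F.obj (op V) → A.obj (op V))
    (nat : ∀ {V W : C} (h : V ⟶ U.unop) (k : W ⟶ V) (x : F.obj (op V)),
      a (k ≫ h) (F.map k.op x) = A.map k.op (a h x)) : HomSec F A U where
  app Y := TypeCat.ofHom (fun x => a Y.unop.hom x)
  naturality Y Y' g := by
    ext x
    have := nat Y.unop.hom g.unop.left x
    rw [Over.w g.unop] at this
    exact this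

@[simp]
lemma ev_mkHom (U : Cᵒᵖ) (a : ∀ {V : C} (_ : V ⟶ U.unop), F.obj (op V) → A.obj (op V))
    (nat : ∀ {V W : C} (h : V ⟶ U.unop) (k : W ⟶ V) (x : F.obj (op V)),
      a (k ≫ h) (F.map k.op x) = A.map k.op (a h x)) {V : C} (h : V ⟶ U.unop)
    (x : F.obj (op V)) : ev (mkHom U a nat) h x = a h x := rfl

instance (U : Cᵒᵖ) : Zero (HomSec F A U) :=
  ⟨mkHom U (fun _ _ => 0) (fun _ _ _ => (map_zero _).symm)⟩

instance (U : Cᵒᵖ) : Add (HomSec F A U) :=
  ⟨fun φ ψ => mkHom U (fun h x => ev φ h x + ev ψ h x) (fun h k x => by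
    rw [ev_nat, ev_nat, map_add])⟩

instance (U : Cᵒᵖ) : Neg (HomSec F A U) :=
  ⟨fun φ => mkHom U (fun h x => - ev φ h x) (fun h k x => by
    rw [ev_nat, map_neg])⟩

@[simp]
lemma ev_zero {U : Cᵒᵖ} {V : C} (h : V ⟶ U.unop) (x : F.obj (op V)) :
    ev (0 : HomSec F A U) h x = 0 := rfl

@[simp]
lemma ev_add {U : Cᵒᵖ} (φ ψ : HomSec F A U) {V : C} (h : V ⟶ U.unop) (x : F.obj (op V)) :
    ev (φ + ψ) h x = ev φ h x + ev ψ h x := rfl

@[simp]
lemma ev_neg {U : Cᵒᵖ} (φ : HomSec F A U) {V : C} (h : V ⟶ U.unop) (x : F.obj (op V)) :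
    ev (-φ) h x = - ev φ h x := rfl

instance (U : Cᵒᵖ) : AddCommGroup (HomSec F A U) :=
  { AddGroup.ofLeftAxioms (G := HomSec F A U)
      (fun a b c => ext_ev _ _ (fun h x => by simp only [ev_add, add_assoc]))
      (fun a => ext_ev _ _ (fun h x => by simp only [ev_add, ev_zero, zero_add]))
      (fun a => ext_ev _ _ (fun h x => by simp only [ev_add, ev_neg, ev_zero, neg_add_cancel])) with
    add_comm := fun a b => ext_ev _ _ (fun h x => by simp only [ev_add, add_comm]) }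

lemma ev_sub {U : Cᵒᵖ} (φ ψ : HomSec F A U) {V : C} (h : V ⟶ U.unop) (x : F.obj (op V)) :
    ev (φ - ψ) h x = ev φ h x - ev ψ h x := by
  rw [sub_eq_add_neg, sub_eq_add_neg]
  rfl

variable (F A)

/-- the presheaf of abelian groups of maps `F → A` -/
def homPre : Cᵒᵖ ⥤ AddCommGrpCat.{u} where
  obj U := AddCommGrpCat.of (HomSec F A U)
  map {U U'} f := AddCommGrpCat.ofHom
    { toFun := (presheafHom F (A ⋙ forget AddCommGrpCat.{u})).map f
      map_zero' := ext_ev _ _ (fun h x => by rw [ev_map]; rfl)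
      map_add' := fun φ ψ => ext_ev _ _ (fun h x => by
        rw [ev_map, ev_add, ev_add, ev_map, ev_map]) }
  map_id U := by
    ext φ
    exact congrArg (fun t => t φ) ((presheafHom F (A ⋙ forget AddCommGrpCat.{u})).map_id U)
  map_comp f g := by
    ext φ
    exact congrArg (fun t => t φ) ((presheafHom F (A ⋙ forget AddCommGrpCat.{u})).map_comp f g)

lemma homPre_isSheaf (hA : Presheaf.IsSheaf J A) : Presheaf.IsSheaf J (homPre F A) := by
  rw [Presheaf.isSheaf_iff_isSheaf_forget J _ (forget AddCommGrpCat.{u})]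
  have h := Presheaf.IsSheaf.hom (J := J) F (A ⋙ forget AddCommGrpCat.{u})
    ((Presheaf.isSheaf_iff_isSheaf_forget J A (forget AddCommGrpCat.{u})).1 hA)
  exact h

end HomPre

section Glue

/-- a subsheaf with at most one section over each object and locally nonempty has sections
everywhere -/
lemma glue_subsingleton {F : Cᵒᵖ ⥤ Type u} (hF : Presieve.IsSheaf J F) (G : Subfunctor F)
    (hloc : ∀ (U : Cᵒᵖ) (s : F.obj U), G.sieveOfSection s ∈ J (unop U) → s ∈ G.obj U)
    (huniq : ∀ (U : Cᵒᵖ) (x y : F.obj U), x ∈ G.obj U → y ∈ G.obj U → x = y)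
    (hex : ∀ U : C, ∃ S ∈ J U, ∀ ⦃V : C⦄ (f : V ⟶ U), S f → ∃ x, x ∈ G.obj (op V))
    (U : Cᵒᵖ) : ∃ x, x ∈ G.obj U := by
  obtain ⟨S, hS, hex'⟩ := hex U.unop
  let x : Presieve.FamilyOfElements F S.arrows := fun W g hg => (hex' g hg).choose
  have hxg : ∀ {W : C} (g : W ⟶ U.unop) (hg : S g), x g hg ∈ G.obj (op W) :=
    fun g hg => (hex' g hg).choose_spec
  have hx : x.Compatible := by
    intro Y₁ Y₂ Z g₁ g₂ f₁ f₂ h₁ h₂ _
    exact huniq _ _ _ (G.map g₁.op (hxg f₁ h₁)) (G.map g₂.op (hxg f₂ h₂))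
  refine ⟨(hF S hS).amalgamate x hx, hloc U _ ?_⟩
  refine J.superset_covering ?_ hS
  intro W g hg
  show F.map g.op ((hF S hS).amalgamate x hx) ∈ G.obj (op W)
  rw [(hF S hS).valid_glue hx g hg]
  exact hxg g hg

end Glue

section Diff

variable {G : Sheaf J AddCommGrpCat.{u}} (T : Tors.Torsor G)

/-- the difference of two sections of a torsor -/
noncomputable def diff {U : Cᵒᵖ} (p p₀ : T.P.obj.obj U) : G.obj.obj U :=
  (T.free_transitive p₀ p).exists.choose

lemma diff_vadd {U : Cᵒᵖ} (p p₀ : T.P.obj.obj U) : T.vadd (diff T p p₀) p₀ = p :=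
  (T.free_transitive p₀ p).exists.choose_spec

lemma diff_unique {U : Cᵒᵖ} (p p₀ : T.P.obj.obj U) (g : G.obj.obj U) (h : T.vadd g p₀ = p) :
    g = diff T p p₀ :=
  (T.free_transitive p₀ p).unique h (diff_vadd T p p₀)

lemma diff_map {U V : Cᵒᵖ} (f : U ⟶ V) (p p₀ : T.P.obj.obj U) :
    G.obj.map f (diff T p p₀) = diff T (T.P.obj.map f p) (T.P.obj.map f p₀) := by
  apply diff_unique
  rw [← T.map_vadd, diff_vadd]

lemma diff_vadd_left {U : Cᵒᵖ} (g : G.obj.obj U) (p p₀ : T.P.obj.obj U) :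
    diff T (T.vadd g p) p₀ = g + diff T p p₀ := by
  symm
  apply diff_unique
  rw [T.add_vadd, diff_vadd]

lemma diff_vadd_right {U : Cᵒᵖ} (g : G.obj.obj U) (p p₀ : T.P.obj.obj U) :
    diff T p (T.vadd g p₀) = diff T p p₀ - g := by
  symm
  apply diff_unique
  rw [← T.add_vadd, sub_add_cancel, diff_vadd]

lemma diff_self {U : Cᵒᵖ} (p : T.P.obj.obj U) : diff T p p = 0 := by
  symm
  apply diff_unique
  exact T.zero_vadd p

lemma P_isSheaf : Presieve.IsSheaf J T.P.obj :=
  (isSheaf_iff_isSheaf_of_type J _).1 T.P.property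

lemma P_ext {V : C} (x y : T.P.obj.obj (op V)) (S : Sieve V) (hS : S ∈ J V)
    (h : ∀ ⦃W : C⦄ (f : W ⟶ V), S f → T.P.obj.map f.op x = T.P.obj.map f.op y) : x = y :=
  (P_isSheaf T S hS).isSeparatedFor.ext (fun _ f hf => h f hf)

lemma P_map_comp {V W Z : C} (f : W ⟶ V) (g : Z ⟶ W) (x : T.P.obj.obj (op V)) :
    T.P.obj.map (g ≫ f).op x = T.P.obj.map g.op (T.P.obj.map f.op x) := by
  rw [op_comp, Functor.map_comp]
  rfl

lemma P_map_id {V : C} (x : T.P.obj.obj (op V)) : T.P.obj.map (𝟙 V).op x = x := by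
  rw [op_id, CategoryTheory.Functor.map_id]
  rfl

end Diff

section MSheaf

open Groth.Agent.Lib.Helper21.ConstH1

variable {G : Sheaf J AddCommGrpCat.{u}} (T : Tors.Torsor G)

/-- the abelian sheaf of maps from the torsor to the group -/
def M : Sheaf J AddCommGrpCat.{u} :=
  ⟨homPre T.P.obj G.obj, homPre_isSheaf _ _ G.property⟩

/-- constant maps -/
def constSec (U : Cᵒᵖ) (g : G.obj.obj U) : HomSec T.P.obj G.obj U :=
  mkHom U (fun h _ => G.obj.map h.op g) (fun h k _ => by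
    rw [op_comp, Functor.map_comp]
    rfl)

@[simp]
lemma ev_constSec (U : Cᵒᵖ) (g : G.obj.obj U) {V : C} (h : V ⟶ U.unop)
    (x : T.P.obj.obj (op V)) : ev (constSec T U g) h x = G.obj.map h.op g := rfl

lemma M_map_apply {U U' : Cᵒᵖ} (f : U ⟶ U') (φ : HomSec T.P.obj G.obj U) :
    (M T).obj.map f φ = (presheafHom T.P.obj (G.obj ⋙ forget AddCommGrpCat.{u})).map f φ := rfl

lemma ev_M_map {U U' : Cᵒᵖ} (f : U ⟶ U') (φ : HomSec T.P.obj G.obj U) {V : C}
    (h : V ⟶ U'.unop) (x : T.P.obj.obj (op V)) :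
    ev (F := T.P.obj) (A := G.obj) ((M T).obj.map f φ) h x = ev φ (h ≫ f.unop) x :=
  ev_map f φ h x

/-- the inclusion of constants -/
def cHom : G ⟶ M T :=
  ObjectProperty.homMk
    { app := fun U => AddCommGrpCat.ofHom
        { toFun := constSec T U
          map_zero' := ext_ev _ _ (fun h x => by
            rw [ev_constSec, map_zero]
            rfl)
          map_add' := fun g g' => ext_ev _ _ (fun h x => by
            rw [ev_add, ev_constSec, ev_constSec, ev_constSec, map_add]) }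
      naturality := fun U U' f => by
        ext g
        apply ext_ev
        intro V h x
        show ev (constSec T U' (G.obj.map f g)) h x = ev ((M T).obj.map f (constSec T U g)) h x
        rw [ev_M_map, ev_constSec, ev_constSec]
        have : (h ≫ f.unop).op = f ≫ h.op := rfl
        rw [this, Functor.map_comp]
        rfl }

lemma cHom_apply (U : Cᵒᵖ) (g : G.obj.obj U) : (cHom T).hom.app U g = constSec T U g := rfl

/-- the map `p ↦ p - p₀` -/
noncomputable def delta (U : Cᵒᵖ) (p₀ : T.P.obj.obj U) : HomSec T.P.obj G.obj U :=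
  mkHom U (fun h x => diff T x (T.P.obj.map h.op p₀)) (fun h k x => by
    rw [diff_map, op_comp, Functor.map_comp]
    rfl)

@[simp]
lemma ev_delta (U : Cᵒᵖ) (p₀ : T.P.obj.obj U) {V : C} (h : V ⟶ U.unop)
    (x : T.P.obj.obj (op V)) : ev (delta T U p₀) h x = diff T x (T.P.obj.map h.op p₀) := rfl

lemma delta_map {U U' : Cᵒᵖ} (f : U ⟶ U') (p₀ : T.P.obj.obj U) :
    (M T).obj.map f (delta T U p₀) = delta T U' (T.P.obj.map f p₀) := by
  apply ext_ev
  intro V h x
  rw [ev_M_map, ev_delta, ev_delta]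
  have : (h ≫ f.unop).op = f ≫ h.op := rfl
  rw [this, Functor.map_comp]
  rfl

lemma delta_vadd (U : Cᵒᵖ) (g : G.obj.obj U) (p₀ : T.P.obj.obj U) :
    delta T U (T.vadd g p₀) = delta T U p₀ - constSec T U g := by
  apply ext_ev
  intro V h x
  rw [ev_sub, ev_delta, ev_delta, ev_constSec, T.map_vadd, diff_vadd_right]

lemma cHom_injective (U : Cᵒᵖ) : Function.Injective ((cHom T).hom.app U) := by
  rw [injective_iff_map_eq_zero]
  intro g hg
  obtain ⟨S, hS, hne⟩ := T.locally_nonempty U.unop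
  refine ext_local G (V := U.unop) g 0 S hS ?_
  intro W f hf
  obtain ⟨x⟩ := hne f hf
  have h1 : ev (constSec T U g) f x = ev (0 : HomSec T.P.obj G.obj U) f x := by
    have hg' : constSec T U g = 0 := hg
    rw [hg']
  rw [ev_constSec, ev_zero] at h1
  rw [map_zero]
  exact h1

instance : Mono (cHom T) := by
  haveI : ∀ U, Mono ((cHom T).hom.app U) := fun U =>
    (AddCommGrpCat.mono_iff_injective _).2 (cHom_injective T U)
  haveI : Mono (cHom T).hom := NatTrans.mono_of_mono_app _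
  exact Sheaf.Hom.mono_of_presheaf_mono J _ _

/-- the quotient of maps by constants -/
noncomputable def Q : Sheaf J AddCommGrpCat.{u} := cokernel (cHom T)

/-- the projection -/
noncomputable def πQ : M T ⟶ Q T := cokernel.π (cHom T)

/-- the short complex `G → M → Q` -/
noncomputable def SQ : ShortComplex (Sheaf J AddCommGrpCat.{u}) :=
  ShortComplex.mk (cHom T) (πQ T) (cokernel.condition (cHom T))

lemma SQ_shortExact : (SQ T).ShortExact :=
  { exact := ShortComplex.exact_cokernel (cHom T)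
    mono_f := (inferInstance : Mono (cHom T))
    epi_g := (inferInstance : Epi (cokernel.π (cHom T))) }

lemma πQ_const (U : Cᵒᵖ) (g : G.obj.obj U) : (πQ T).hom.app U (constSec T U g) = 0 := by
  have h := congrArg (fun t : G ⟶ Q T => t.hom.app U g) (cokernel.condition (cHom T))
  exact h

lemma πQ_sub (U : Cᵒᵖ) (a b : HomSec T.P.obj G.obj U) :
    (πQ T).hom.app U (a - b) = (πQ T).hom.app U a - (πQ T).hom.app U b :=
  map_sub (ConcreteCategory.hom ((πQ T).hom.app U)) (a : (M T).obj.obj U) b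

lemma πQ_delta_eq (U : Cᵒᵖ) (p₀ p₁ : T.P.obj.obj U) :
    (πQ T).hom.app U (delta T U p₀) = (πQ T).hom.app U (delta T U p₁) := by
  have h : delta T U p₀ = delta T U p₁ - constSec T U (diff T p₀ p₁) := by
    rw [← delta_vadd, diff_vadd]
  rw [h, πQ_sub, πQ_const, sub_zero]

lemma πQ_delta_map {V W : C} (k : W ⟶ V) (p₀ : T.P.obj.obj (op V)) :
    (Q T).obj.map k.op ((πQ T).hom.app (op V) (delta T (op V) p₀)) =
      (πQ T).hom.app (op W) (delta T (op W) (T.P.obj.map k.op p₀)) := by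
  rw [← nat_apply, delta_map]

lemma Q_map_comp {V W Z : C} (f : W ⟶ V) (g : Z ⟶ W) (x : (Q T).obj.obj (op V)) :
    (Q T).obj.map (g ≫ f).op x = (Q T).obj.map g.op ((Q T).obj.map f.op x) :=
  map_comp_apply' (Q T) f g x

lemma Q_map_id {V : C} (x : (Q T).obj.obj (op V)) : (Q T).obj.map (𝟙 V).op x = x := by
  rw [op_id, CategoryTheory.Functor.map_id]
  rfl

/-- the subfunctor of `Q` consisting of the class of `p ↦ p - p₀` -/
noncomputable def kapSub : Subfunctor ((Q T).obj ⋙ forget AddCommGrpCat.{u}) where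
  obj U := {q : (Q T).obj.obj U | ∀ (V : C) (h : V ⟶ U.unop) (p₀ : T.P.obj.obj (op V)),
    (Q T).obj.map h.op q = (πQ T).hom.app (op V) (delta T (op V) p₀)}
  map {U U'} f q hq := by
    intro V h p₀
    have h1 := hq V (h ≫ f.unop) p₀
    have h2 : (h ≫ f.unop).op = f ≫ h.op := rfl
    rw [h2, Functor.map_comp] at h1
    exact h1

lemma kapSub_mem_of_delta {V : C} (p₁ : T.P.obj.obj (op V)) :
    ((πQ T).hom.app (op V) (delta T (op V) p₁) : (Q T).obj.obj (op V)) ∈
      (kapSub T).obj (op V) := by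
  intro W h p₀
  rw [πQ_delta_map]
  exact πQ_delta_eq T _ _ _

lemma kapSub_unique (U : Cᵒᵖ) (x y : (Q T).obj.obj U) (hx : x ∈ (kapSub T).obj U)
    (hy : y ∈ (kapSub T).obj U) : x = y := by
  obtain ⟨S, hS, hne⟩ := T.locally_nonempty U.unop
  refine ext_local (Q T) (V := U.unop) x y S hS ?_
  intro W f hf
  obtain ⟨p₀⟩ := hne f hf
  rw [hx W f p₀, hy W f p₀]

lemma kapSub_local (U : Cᵒᵖ) (q : (Q T).obj.obj U)
    (hq : (kapSub T).sieveOfSection q ∈ J (unop U)) : q ∈ (kapSub T).obj U := by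
  intro V h p₀
  refine ext_local (Q T) _ _ _ (J.pullback_stable h hq) ?_
  intro W k hk
  have hk' : (Q T).obj.map (k ≫ h).op q ∈ (kapSub T).obj (op W) := hk
  have h1 := hk' W (𝟙 W) (T.P.obj.map k.op p₀)
  rw [Q_map_id] at h1
  rw [← Q_map_comp, h1, πQ_delta_map]

lemma kapSub_exists (U : Cᵒᵖ) : ∃ q, q ∈ (kapSub T).obj U := by
  have hsh : Presieve.IsSheaf J ((Q T).obj ⋙ forget AddCommGrpCat.{u}) :=
    (isSheaf_iff_isSheaf_of_type J _).1
      ((Presheaf.isSheaf_iff_isSheaf_forget J (Q T).obj (forget AddCommGrpCat.{u})).1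
        (Q T).property)
  refine glue_subsingleton hsh (kapSub T) (kapSub_local T) (kapSub_unique T) ?_ U
  intro U'
  obtain ⟨S, hS, hne⟩ := T.locally_nonempty U'
  refine ⟨S, hS, ?_⟩
  intro V f hf
  obtain ⟨p₁⟩ := hne f hf
  exact ⟨_, kapSub_mem_of_delta T p₁⟩

/-- the global section of `Q` -/
noncomputable def kap (U : Cᵒᵖ) : (Q T).obj.obj U := (kapSub_exists T U).choose

lemma kap_mem (U : Cᵒᵖ) : kap T U ∈ (kapSub T).obj U := (kapSub_exists T U).choose_spec

lemma kap_nat {U V : Cᵒᵖ} (f : U ⟶ V) : (Q T).obj.map f (kap T U) = kap T V :=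
  kapSub_unique T V _ _ ((kapSub T).map f (kap_mem T U)) (kap_mem T V)

lemma kap_eq {V : C} (p₀ : T.P.obj.obj (op V)) :
    kap T (op V) = (πQ T).hom.app (op V) (delta T (op V) p₀) := by
  have h := kap_mem T (op V) V (𝟙 V) p₀
  rw [Q_map_id] at h
  exact h

end MSheaf

section Lift

open Groth.Agent.Lib.Helper21.ConstH1

variable {G : Sheaf J AddCommGrpCat.{u}} (T : Tors.Torsor G)
  (e : ZX J ⟶ M T) (he : e ≫ πQ T = ofSec (kap T) (kap_nat T))

/-- the lifted family of maps -/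
noncomputable def fsec (V : C) : HomSec T.P.obj G.obj (op V) := sec e (op V)

lemma fsec_nat {V W : C} (k : W ⟶ V) :
    fsec T e W = (M T).obj.map k.op (fsec T e V) := (sec_nat e k.op).symm

/-- the values of the lifted map -/
noncomputable def fv (V : C) (p : T.P.obj.obj (op V)) : G.obj.obj (op V) :=
  ev (fsec T e V) (𝟙 V) p

lemma fv_nat {V W : C} (k : W ⟶ V) (p : T.P.obj.obj (op V)) :
    fv T e W (T.P.obj.map k.op p) = G.obj.map k.op (fv T e V p) := by
  have h2 : ev (fsec T e W) (𝟙 W) (T.P.obj.map k.op p) =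
      ev (fsec T e V) (𝟙 W ≫ k) (T.P.obj.map k.op p) := by
    rw [fsec_nat T e k]
    exact ev_M_map T k.op (fsec T e V) (𝟙 W) _
  have h3 : 𝟙 W ≫ k = k ≫ 𝟙 V := by simp
  have h4 := ev_nat (fsec T e V) (𝟙 V) k p
  unfold fv
  rw [h2, h3]
  exact h4

include he in
lemma fv_slope (V : C) (p p' : T.P.obj.obj (op V)) :
    fv T e V p = fv T e V p' + diff T p p' := by
  have h1 : (πQ T).hom.app (op V) (fsec T e V) = kap T (op V) := by
    show (πQ T).hom.app (op V) (sec e (op V)) = kap T (op V)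
    rw [← sec_comp, he, sec_ofSec]
  rw [kap_eq T p'] at h1
  have h2 : (πQ T).hom.app (op V) (fsec T e V - delta T (op V) p') = 0 := by
    rw [πQ_sub, h1, sub_self]
  obtain ⟨g, hg⟩ : ∃ g : G.obj.obj (op V),
      (cHom T).hom.app (op V) g = fsec T e V - delta T (op V) p' :=
    (sections_left_exact _ (SQ_shortExact T) (op V)).2 _ h2
  have hg' : constSec T (op V) g = fsec T e V - delta T (op V) p' := hg
  have h3 : ∀ x : T.P.obj.obj (op V), fv T e V x = diff T x p' + g := by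
    intro x
    have h4 := congrArg (fun t : HomSec T.P.obj G.obj (op V) => ev t (𝟙 V) x) hg'
    simp only [ev_constSec, ev_sub, ev_delta] at h4
    rw [P_map_id] at h4
    have h5 : G.obj.map (𝟙 V).op g = g := by
      rw [op_id, CategoryTheory.Functor.map_id]
      rfl
    rw [h5] at h4
    unfold fv
    rw [h4]
    abel
  rw [h3 p, h3 p', diff_self]
  abel

/-- the candidate section -/
noncomputable def sig (V : C) (p : T.P.obj.obj (op V)) : T.P.obj.obj (op V) :=
  T.vadd (- fv T e V p) p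

include he in
lemma sig_indep (V : C) (p p' : T.P.obj.obj (op V)) : sig T e V p = sig T e V p' := by
  unfold sig
  rw [fv_slope T e he V p p']
  have h1 : T.vadd (-(fv T e V p' + diff T p p')) (T.vadd (diff T p p') p') =
      T.vadd (- fv T e V p') p' := by
    rw [← T.add_vadd]
    congr 1
    abel
  rw [diff_vadd] at h1
  exact h1

lemma sig_nat {V W : C} (k : W ⟶ V) (p : T.P.obj.obj (op V)) :
    T.P.obj.map k.op (sig T e V p) = sig T e W (T.P.obj.map k.op p) := by
  unfold sig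
  rw [T.map_vadd, map_neg, fv_nat]

/-- the subfunctor of the torsor cut out by the lifted map -/
noncomputable def sigSub : Subfunctor T.P.obj where
  obj U := {s : T.P.obj.obj U | ∀ (V : C) (h : V ⟶ U.unop) (p : T.P.obj.obj (op V)),
    T.P.obj.map h.op s = sig T e V p}
  map {U U'} f s hs := by
    intro V h p
    have h1 := hs V (h ≫ f.unop) p
    have h2 : (h ≫ f.unop).op = f ≫ h.op := rfl
    rw [h2, Functor.map_comp] at h1
    exact h1

include he in
lemma sigSub_mem_of_sig {V : C} (p₁ : T.P.obj.obj (op V)) :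
    sig T e V p₁ ∈ (sigSub T e).obj (op V) := by
  intro W h p
  rw [sig_nat]
  exact sig_indep T e he W _ _

lemma sigSub_unique (U : Cᵒᵖ) (x y : T.P.obj.obj U) (hx : x ∈ (sigSub T e).obj U)
    (hy : y ∈ (sigSub T e).obj U) : x = y := by
  obtain ⟨S, hS, hne⟩ := T.locally_nonempty U.unop
  refine P_ext T (V := U.unop) x y S hS ?_
  intro W f hf
  obtain ⟨p₀⟩ := hne f hf
  rw [hx W f p₀, hy W f p₀]

lemma sigSub_local (U : Cᵒᵖ) (s : T.P.obj.obj U)
    (hs : (sigSub T e).sieveOfSection s ∈ J (unop U)) : s ∈ (sigSub T e).obj U := by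
  intro V h p
  refine P_ext T _ _ _ (J.pullback_stable h hs) ?_
  intro W k hk
  have hk' : T.P.obj.map (k ≫ h).op s ∈ (sigSub T e).obj (op W) := hk
  have h1 := hk' W (𝟙 W) (T.P.obj.map k.op p)
  rw [P_map_id] at h1
  rw [← P_map_comp, h1, sig_nat]

include he in
lemma sigSub_exists (U : Cᵒᵖ) : ∃ s, s ∈ (sigSub T e).obj U := by
  refine glue_subsingleton (P_isSheaf T) (sigSub T e) (sigSub_local T e) (sigSub_unique T e) ?_ U
  intro U'
  obtain ⟨S, hS, hne⟩ := T.locally_nonempty U'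
  refine ⟨S, hS, ?_⟩
  intro V f hf
  obtain ⟨p₁⟩ := hne f hf
  exact ⟨_, sigSub_mem_of_sig T e he p₁⟩

include he in
lemma exists_family :
    ∃ s : ∀ U : Cᵒᵖ, T.P.obj.obj U, ∀ {U V : Cᵒᵖ} (f : U ⟶ V), T.P.obj.map f (s U) = s V := by
  refine ⟨fun U => (sigSub_exists T e he U).choose, ?_⟩
  intro U V f
  exact sigSub_unique T e V _ _ ((sigSub T e).map f (sigSub_exists T e he U).choose_spec)
    (sigSub_exists T e he V).choose_spec

end Lift

open Groth.Agent.Lib.Helper21.ConstH1 in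
open CategoryTheory.Abelian in
/-- if `H¹(G)` vanishes, every `G`-torsor has a compatible family of sections -/
theorem exists_family_of_subsingleton_H1 {G : Sheaf J AddCommGrpCat.{u}}
    (hG : Subsingleton (Sheaf.H.{u} G 1)) (T : Tors.Torsor G) :
    ∃ s : ∀ U : Cᵒᵖ, T.P.obj.obj U, ∀ {U V : Cᵒᵖ} (f : U ⟶ V), T.P.obj.map f (s U) = s V := by
  have hS := SQ_shortExact T
  have h1 : (Ext.mk₀ (ofSec (kap T) (kap_nat T))).comp hS.extClass (zero_add 1) = 0 :=
    hG.elim (α := Ext (ZX J) G 1) _ _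
  obtain ⟨x₂, hx₂⟩ := Ext.covariant_sequence_exact₃ _ hS
    (Ext.mk₀ (ofSec (kap T) (kap_nat T))) (zero_add 1) h1
  obtain ⟨e, rfl⟩ := (Ext.mk₀_bijective _ _).2 x₂
  rw [Ext.mk₀_comp_mk₀] at hx₂
  have he : e ≫ πQ T = ofSec (kap T) (kap_nat T) := (Ext.mk₀_bijective _ _).1 hx₂
  exact exists_family T e he

end Groth.Agent.Lib.Helper21.TorsH1
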