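import Mathlib
import Groth.Agent.S7744
import Groth.Agent.S0651
import Groth.Agent.Lib.Helper18.JCont
import Groth.Agent.Lib.Helper27.DeltaF

/-!
# Uniquely divisible étale sheaves, part 1 (helper21)

General lemmas on the long exact cohomology sequence in low degrees, the predicate `UD`
("multiplication by every positive integer is an isomorphism") and its permanence properties.
-/

set_option autoImplicit false
set_option linter.style.haveILetI false

open CategoryTheory CategoryTheory.Limits Opposite AlgebraicGeometry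

namespace Groth.Agent.Lib.helper21.UDiv

universe u

open Groth.Agent.S7743 Abelian

variable {X : Scheme.{u}}

/-- maps `ℤ_X ⟶ Q` lift along a morphism which is surjective on global sections -/
lemma exists_lift_of_surjective {A Q : EtCoh.Ab X} (g : A ⟶ Q)
    (hs : Function.Surjective (g.hom.app (op (EtCoh.top X)))) (y : ZZ X ⟶ Q) :
    ∃ z : ZZ X ⟶ A, z ≫ g = y := by
  let φ : M₀ ⟶ (EtCore.gsec X).obj Q := (EtCore.constAdj X).homEquiv M₀ Q y
  obtain ⟨a, ha⟩ := hs (φ one)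
  refine ⟨((EtCore.constAdj X).homEquiv M₀ A).symm
    (homOfElem (B := (EtCore.gsec X).obj A) a), ?_⟩
  apply ((EtCore.constAdj X).homEquiv _ _).injective
  rw [Adjunction.homEquiv_naturality_right, Equiv.apply_symm_apply]
  apply hom_ext_one
  rw [ConcreteCategory.comp_apply, homOfElem_one]
  exact ha

/-- if all maps `ℤ_X ⟶ Q` lift then `g` is surjective on global sections -/
lemma surjective_of_exists_lift {A Q : EtCoh.Ab X} (g : A ⟶ Q)
    (h : ∀ y : ZZ X ⟶ Q, ∃ z : ZZ X ⟶ A, z ≫ g = y) :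
    Function.Surjective (g.hom.app (op (EtCoh.top X))) := by
  intro t
  obtain ⟨z, hz⟩ := h (((EtCore.constAdj X).homEquiv M₀ Q).symm
    (homOfElem (B := (EtCore.gsec X).obj Q) t))
  refine ⟨((EtCore.constAdj X).homEquiv M₀ A z) one, ?_⟩
  have h1 := congrArg ((EtCore.constAdj X).homEquiv M₀ Q) hz
  rw [Adjunction.homEquiv_naturality_right, Equiv.apply_symm_apply] at h1
  have h2 := congrArg (fun m => (ConcreteCategory.hom m) one) h1
  simp only [ConcreteCategory.comp_apply] at h2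
  exact h2.trans (homOfElem_one _)

/-- `H¹(X, S.X₁) = 0` implies that `S.g` is surjective on global sections -/
lemma surjective_top_of_H1 (S : ShortComplex (EtCoh.Ab X)) (hS : S.ShortExact)
    (h1 : Subsingleton (EtCoh.H X S.X₁ 1)) :
    Function.Surjective (S.g.hom.app (op (EtCoh.top X))) := by
  apply surjective_of_exists_lift
  intro y
  have h0 : (Ext.mk₀ y).comp hS.extClass (zero_add 1) = 0 :=
    Subsingleton.elim (α := EtCoh.H X S.X₁ 1) _ _
  obtain ⟨x₂, hx₂⟩ := Ext.covariant_sequence_exact₃ _ hS (Ext.mk₀ y) rfl h0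
  obtain ⟨z, rfl⟩ := (Ext.mk₀_bijective _ _).2 x₂
  refine ⟨z, ?_⟩
  rw [Ext.mk₀_comp_mk₀] at hx₂
  exact (Ext.mk₀_bijective _ _).1 hx₂

/-- dimension shifting -/
lemma H_succ_subsingleton (S : ShortComplex (EtCoh.Ab X)) (hS : S.ShortExact) (i : ℕ)
    (h3 : Subsingleton (EtCoh.H X S.X₃ i)) (h2 : Subsingleton (EtCoh.H X S.X₂ (i + 1))) :
    Subsingleton (EtCoh.H X S.X₁ (i + 1)) := by
  constructor
  intro x y
  suffices h : ∀ z : EtCoh.H X S.X₁ (i + 1), z = 0 by rw [h x, h y]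
  intro x
  have hx' : (x : Ext (ZZ X) S.X₁ (i + 1)).comp (Ext.mk₀ S.f) (add_zero (i + 1)) = 0 :=
    Subsingleton.elim (α := EtCoh.H X S.X₂ (i + 1)) _ _
  obtain ⟨y, hy⟩ := Ext.covariant_sequence_exact₁ _ hS x hx' rfl
  have hy0 : y = 0 := Subsingleton.elim (α := EtCoh.H X S.X₃ i) _ _
  rw [← hy, hy0, Ext.zero_comp]

/-- dimension shifting in degree one -/
lemma H_one_subsingleton (S : ShortComplex (EtCoh.Ab X)) (hS : S.ShortExact)
    (hs : Function.Surjective (S.g.hom.app (op (EtCoh.top X))))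
    (h2 : Subsingleton (EtCoh.H X S.X₂ 1)) :
    Subsingleton (EtCoh.H X S.X₁ 1) := by
  constructor
  intro x y
  suffices h : ∀ z : EtCoh.H X S.X₁ 1, z = 0 by rw [h x, h y]
  intro x
  have hx' : (x : Ext (ZZ X) S.X₁ 1).comp (Ext.mk₀ S.f) (add_zero 1) = 0 :=
    Subsingleton.elim (α := EtCoh.H X S.X₂ 1) _ _
  obtain ⟨y, hy⟩ := Ext.covariant_sequence_exact₁ _ hS x hx' (zero_add 1)
  obtain ⟨y₀, rfl⟩ := (Ext.mk₀_bijective _ _).2 y
  obtain ⟨z, hz⟩ := exists_lift_of_surjective S.g hs y₀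
  subst hz
  rw [← hy]
  have h0 : (Ext.mk₀ S.g).comp hS.extClass (zero_add 1) = 0 := hS.comp_extClass
  have e1 := Ext.mk₀_comp_mk₀_assoc z S.g hS.extClass
  rw [h0, Ext.comp_zero] at e1
  exact e1.symm

/-! ### Uniquely divisible sheaves -/

/-- multiplication by every positive integer is an isomorphism -/
def UD (F : EtCoh.Ab X) : Prop := ∀ n : ℕ, 0 < n → IsIso (n • 𝟙 F)

lemma UD.map {Y : Scheme.{u}} (G : EtCoh.Ab X ⥤ EtCoh.Ab Y) [G.Additive] {F : EtCoh.Ab X}
    (h : UD F) : UD (G.obj F) := by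
  intro n hn
  haveI := h n hn
  have e : n • 𝟙 (G.obj F) = G.map (n • 𝟙 F) := by
    rw [Functor.map_nsmul, CategoryTheory.Functor.map_id]
  rw [e]
  infer_instance

lemma UD.of_iso {F F' : EtCoh.Ab X} (e : F ≅ F') (h : UD F) : UD F' := by
  intro n hn
  haveI := h n hn
  have e' : n • 𝟙 F' = e.inv ≫ (n • 𝟙 F) ≫ e.hom := by
    rw [Preadditive.nsmul_comp, Preadditive.comp_nsmul, Category.id_comp, Iso.inv_hom_id]
  rw [e']
  infer_instance

lemma UD.X₃ (S : ShortComplex (EtCoh.Ab X)) (hS : S.ShortExact) (h1 : UD S.X₁) (h2 : UD S.X₂) :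
    UD S.X₃ := by
  intro n hn
  haveI := h1 n hn
  haveI := h2 n hn
  haveI := hS.epi_g
  have hz : S.f ≫ inv (n • 𝟙 S.X₂) ≫ S.g = 0 := by
    have h : S.f ≫ inv (n • 𝟙 S.X₂) = inv (n • 𝟙 S.X₁) ≫ S.f := by
      rw [IsIso.eq_inv_comp, ← Category.assoc, IsIso.comp_inv_eq, Preadditive.nsmul_comp,
        Preadditive.comp_nsmul, Category.id_comp, Category.comp_id]
    rw [← Category.assoc, h, Category.assoc, S.zero, comp_zero]
  let ψ : S.X₃ ⟶ S.X₃ := hS.gIsCokernel.desc (CokernelCofork.ofπ (inv (n • 𝟙 S.X₂) ≫ S.g) hz)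
  have hψ : S.g ≫ ψ = inv (n • 𝟙 S.X₂) ≫ S.g :=
    hS.gIsCokernel.fac (CokernelCofork.ofπ (inv (n • 𝟙 S.X₂) ≫ S.g) hz) WalkingParallelPair.one
  have hcomm : S.g ≫ (n • 𝟙 S.X₃) = (n • 𝟙 S.X₂) ≫ S.g := by
    rw [Preadditive.nsmul_comp, Preadditive.comp_nsmul, Category.id_comp, Category.comp_id]
  refine ⟨ψ, ?_, ?_⟩
  · rw [← cancel_epi S.g, ← Category.assoc, hcomm, Category.assoc, hψ, IsIso.hom_inv_id_assoc,
      Category.comp_id]
  · rw [← cancel_epi S.g, ← Category.assoc, hψ, Category.assoc, hcomm, IsIso.inv_hom_id_assoc,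
      Category.comp_id]

end Groth.Agent.Lib.helper21.UDiv
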