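import Mathlib
import Groth.Agent.S0658
import Groth.Agent.Lib.Helper21.UDiv1
import Groth.Agent.Lib.Helper21.EtGalois
import Groth.Agent.Lib.Helper21.GalCohTrace
import Groth.Agent.Lib.Helper21.ConstVal
import Groth.Agent.Lib.Helper1.ExtZeroC

/-!
# Uniquely divisible étale sheaves, part 2 (helper21)

Over the spectrum of a field, an epimorphism of abelian sheaves with uniquely divisible kernel is
surjective on the sections over every étale scheme.
-/

set_option autoImplicit false
set_option linter.style.haveILetI false

open CategoryTheory CategoryTheory.Limits Opposite AlgebraicGeometry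

namespace Groth.Agent.Lib.helper21.UDiv

universe u

open Groth.Agent.S7743 Abelian Groth.Agent.Lib.helper21.GalCohTrace

section Field

variable (k : Type u) [Field k]

/-- surjectivity on global sections over a field -/
lemma surjective_top_field (S : ShortComplex (EtCoh.Ab (Spec (CommRingCat.of k))))
    (hS : S.ShortExact) (h1 : UD S.X₁) :
    Function.Surjective (S.g.hom.app (op (EtCoh.top (Spec (CommRingCat.of k))))) :=
  surjective_top_of_H1 S hS (Groth.Agent.S7744.result k S.X₁ h1 1 Nat.one_pos)

instance preservesFiniteLimits_restrAlong {U X : Scheme.{u}} (j : U ⟶ X) [Etale j] :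
    PreservesFiniteLimits (EtShriek.restrAlong j) := by
  haveI : PreservesLimitsOfSize.{0, 0} (EtShriek.restrAlong j) :=
    (EtShriek.extZeroAdj j).rightAdjoint_preservesLimits
  exact PreservesLimitsOfSize.preservesFiniteLimits _

instance preservesFiniteColimits_restrAlong {U X : Scheme.{u}} (j : U ⟶ X) [Etale j] :
    PreservesFiniteColimits (EtShriek.restrAlong j) := by
  haveI : PreservesColimitsOfSize.{0, 0} (EtShriek.restrAlong j) :=
    (Groth.Agent.S0651.adj3 j).leftAdjoint_preservesColimits
  exact PreservesColimitsOfSize.preservesFiniteColimits _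

/-- surjectivity on sections over a finite separable extension -/
lemma surjective_ext (K : Type u) [Field K] [Algebra k K] [FiniteDimensional k K]
    [Algebra.IsSeparable k K] (S : ShortComplex (EtCoh.Ab (Spec (CommRingCat.of k))))
    (hS : S.ShortExact) (h1 : UD S.X₁) :
    Function.Surjective (S.g.hom.app (op ((EtShriek.compEtale (pi k K)).obj
      (EtCoh.top (Spec (CommRingCat.of K)))))) := by
  have hS' : (S.map (EtShriek.restrAlong (pi k K))).ShortExact :=
    hS.map_of_exact (EtShriek.restrAlong (pi k K))
  exact surjective_top_field K (S.map (EtShriek.restrAlong (pi k K))) hS'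
    (UD.map (EtShriek.restrAlong (pi k K)) h1)

open Groth.Agent.Lib.helper21.ConstVal Groth.Agent.Lib.Helper21.EtGalois in
/-- **surjectivity on all sections** for an epimorphism with uniquely divisible kernel over a
field -/
theorem surjective_sections (S : ShortComplex (EtCoh.Ab (Spec (CommRingCat.of k))))
    (hS : S.ShortExact) (h1 : UD S.X₁) (T : (Spec (CommRingCat.of k)).Etale) :
    Function.Surjective (S.g.hom.app (op T)) := by
  obtain ⟨ι, K, _, _, _, _, e, he⟩ := (Groth.Agent.S0658.result k T.left T.hom).1 T.prop
  let Y : ι → (Spec (CommRingCat.of k)).Etale := fun i =>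
    (EtShriek.compEtale (pi k (K i))).obj (EtCoh.top (Spec (CommRingCat.of (K i))))
  let π : ∀ i, Y i ⟶ T := fun i =>
    MorphismProperty.Over.homMk (Sigma.ι (fun i => Spec (CommRingCat.of (K i))) i ≫ e.hom)
      ((Category.assoc _ _ _).trans ((he i).trans (Category.id_comp _).symm)) trivial
  have hleft : ∀ i, (π i).left = Sigma.ι (fun i => Spec (CommRingCat.of (K i))) i ≫ e.hom :=
    fun i => rfl
  have hsurj : ∀ b : T.left, ∃ (i : ι) (y : (Y i).left), (π i).left.base y = b := by
    intro b
    obtain ⟨⟨i, y⟩, hy⟩ := (sigmaMk (fun i => Spec (CommRingCat.of (K i)))).surjective (e.inv.base b)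
    refine ⟨i, y, ?_⟩
    rw [sigmaMk_mk] at hy
    have h2 : (e.inv ≫ e.hom).base b = b := by
      rw [Iso.inv_hom_id]
      rfl
    have h3 : e.hom.base ((Sigma.ι (fun i => Spec (CommRingCat.of (K i))) i).base y) =
        e.hom.base (e.inv.base b) := congrArg e.hom.base hy
    exact h3.trans h2
  intro q
  have hlift : ∀ i, ∃ a : S.X₂.obj.obj (op (Y i)),
      S.g.hom.app (op (Y i)) a = S.X₃.obj.map (π i).op q :=
    fun i => surjective_ext k (K i) S hS h1 _
  choose a ha using hlift
  have hcompat : ∀ (i j : ι) (Z : (Spec (CommRingCat.of k)).Etale) (gi : Z ⟶ Y i) (gj : Z ⟶ Y j),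
      gi ≫ π i = gj ≫ π j → S.X₂.obj.map gi.op (a i) = S.X₂.obj.map gj.op (a j) := by
    intro i j Z gi gj hg
    have hgl : gi.left ≫ (π i).left = gj.left ≫ (π j).left :=
      congrArg (fun m => m.left) hg
    by_cases hij : i = j
    · subst hij
      have : gi = gj := by
        apply MorphismProperty.Over.Hom.ext
        haveI : IsOpenImmersion (Sigma.ι (fun i => Spec (CommRingCat.of (K i))) i) := inferInstance
        haveI : Mono (Sigma.ι (fun i => Spec (CommRingCat.of (K i))) i ≫ e.hom) := inferInstance
        exact (cancel_mono (Sigma.ι (fun i => Spec (CommRingCat.of (K i))) i ≫ e.hom)).1 hgl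
      rw [this]
    · haveI : IsEmpty Z.left := by
        refine isEmpty_of_commSq_sigmaι_of_ne (g := fun i => Spec (CommRingCat.of (K i)))
          (a := gi.left) (b := gj.left) ⟨?_⟩ hij
        exact (cancel_mono e.hom).1
          ((Category.assoc _ _ _).trans (hgl.trans (Category.assoc _ _ _).symm))
      have hbot : ⊥ ∈ (Spec (CommRingCat.of k)).smallEtaleTopology Z :=
        mem_of_pointwise Z ⊥ (fun x => isEmptyElim x)
      haveI := Groth.Agent.H1.ExtZero.subsingleton_of_bot_mem _ S.X₂ Z hbot
      exact Subsingleton.elim _ _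
  obtain ⟨t, ht, -⟩ := glue_arrows' S.X₂ Y π hsurj a hcompat
  refine ⟨t, ?_⟩
  apply sep_arrows S.X₃ Y π hsurj
  intro i
  have nat := NatTrans.naturality_apply S.g.hom (π i).op t
  rw [← nat, ht i, ha i]

end Field

end Groth.Agent.Lib.helper21.UDiv
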