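import Mathlib
import Groth.Agent.S19130
import Groth.Agent.Lib.Helper21.UDiv2
import Groth.Agent.Lib.Helper1.PullConserv

/-!
# Uniquely divisible étale sheaves, part 3 (helper21)

* `push_shortExact`: the direct image from the spectrum of a field preserves short exact sequences
  with uniquely divisible kernel.
* `mono_unit_of_surjective`: the unit `F ⟶ f_* f^* F` is a monomorphism for surjective `f`.
* `H_push_subsingleton_of_UD`: `H^i(X, g_* F) = 0` for `i > 0`, `g : Spec k ⟶ X` and `F` uniquely
  divisible.
-/

set_option autoImplicit false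
set_option linter.style.haveILetI false

open CategoryTheory CategoryTheory.Limits Opposite AlgebraicGeometry

namespace Groth.Agent.Lib.helper21.UDiv

universe u

open Abelian

/-- transport of vanishing of cohomology along an isomorphism -/
lemma subsingleton_H_of_iso {X : Scheme.{u}} {F F' : EtCoh.Ab X} (e : F ≅ F') (i : ℕ)
    (h : Subsingleton (EtCoh.H X F i)) : Subsingleton (EtCoh.H X F' i) := by
  have e' := (EtCoh.HF X i).mapIso e
  have hb : Function.Bijective (ConcreteCategory.hom e'.inv) :=
    (ConcreteCategory.isIso_iff_bijective _).mp inferInstance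
  haveI : Subsingleton ↑((EtCoh.HF X i).obj F) := h
  exact hb.1.subsingleton

/-- the unit `F ⟶ f_* f^* F` is a monomorphism for surjective `f` -/
lemma mono_unit_of_surjective {X Y : Scheme.{u}} (f : X ⟶ Y) [Surjective f] (F : EtCoh.Ab Y) :
    Mono ((EtCoh.pullPushAdj f).unit.app F) := by
  apply Preadditive.mono_of_cancel_zero
  intro P a ha
  apply Groth.Agent.H1.PullConserv.eq_zero_of_pull_eq_zero f
  have h1 : (EtCoh.pull f).map a ≫ (EtCoh.pull f).map ((EtCoh.pullPushAdj f).unit.app F) = 0 := by
    rw [← Functor.map_comp, ha, Functor.map_zero]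
  have h2 := (EtCoh.pullPushAdj f).left_triangle_components F
  calc (EtCoh.pull f).map a
      = (EtCoh.pull f).map a ≫ (EtCoh.pull f).map ((EtCoh.pullPushAdj f).unit.app F) ≫
          (EtCoh.pullPushAdj f).counit.app ((EtCoh.pull f).obj F) := by
        rw [h2]
        exact (Category.comp_id _).symm
    _ = 0 := by rw [← Category.assoc, h1, zero_comp]

section Field

variable {k : Type u} [Field k] {X : Scheme.{u}} (g : Spec (CommRingCat.of k) ⟶ X)

/-- the direct image from the spectrum of a field preserves short exact sequences with uniquely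
divisible kernel -/
theorem push_shortExact (S : ShortComplex (EtCoh.Ab (Spec (CommRingCat.of k))))
    (hS : S.ShortExact) (h1 : UD S.X₁) : (S.map (EtCoh.push g)).ShortExact := by
  haveI := hS.mono_f
  haveI : PreservesLimitsOfSize.{0, 0} (EtCoh.push g) :=
    (EtCoh.pullPushAdj g).rightAdjoint_preservesLimits
  have hex : (S.map (EtCoh.push g)).Exact :=
    hS.exact.map_of_mono_of_preservesKernel _ inferInstance inferInstance
  haveI : Mono (S.map (EtCoh.push g)).f := by
    show Mono ((EtCoh.push g).map S.f)
    infer_instance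
  haveI : Epi (S.map (EtCoh.push g)).g := by
    show Epi ((EtCoh.push g).map S.g)
    refine (Sheaf.isLocallySurjective_iff_epi' (A := AddCommGrpCat.{u + 1})
      ((EtCoh.push g).map S.g)).1 ?_
    exact Presheaf.isLocallySurjective_of_surjective _ _
      (fun U => surjective_sections k S hS h1 ((EtCoh.bc g).obj U.unop))
  exact ShortComplex.ShortExact.mk hex

/-- a resolution step: a uniquely divisible sheaf embeds into a uniquely divisible sheaf whose
direct image has no higher cohomology, with uniquely divisible cokernel -/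
lemma exists_resolution (F : EtCoh.Ab (Spec (CommRingCat.of k))) (hF : UD F) :
    ∃ (A Q : EtCoh.Ab (Spec (CommRingCat.of k))) (f : F ⟶ A) (p : A ⟶ Q) (w : f ≫ p = 0),
      (ShortComplex.mk f p w).ShortExact ∧ UD Q ∧
        ∀ j : ℕ, 1 ≤ j → Subsingleton (EtCoh.H X ((EtCoh.push g).obj A) j) := by
  let Ω := SeparableClosure k
  let h : Spec (CommRingCat.of Ω) ⟶ Spec (CommRingCat.of k) :=
    Spec.map (CommRingCat.ofHom (algebraMap k Ω))
  haveI : Surjective h :=
    ⟨fun x => ⟨default, Subsingleton.elim (α := ↥(Spec (CommRingCat.of k))) _ _⟩⟩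
  let η := (EtCoh.pullPushAdj h).unit.app F
  haveI : Mono η := mono_unit_of_surjective h F
  have hS := Groth.Agent.Lib.helper27.cokerSES_shortExact η
  have hA : UD ((EtCoh.push h).obj ((EtCoh.pull h).obj F)) :=
    UD.map (EtCoh.pull h ⋙ EtCoh.push h) hF
  refine ⟨_, _, η, cokernel.π η, cokernel.condition η, hS, UD.X₃ _ hS hF hA, ?_⟩
  intro j hj
  have h0 := Groth.Agent.S19130.H_push_subsingleton Ω (h ≫ g) ((EtCoh.pull h).obj F) j hj
  exact subsingleton_H_of_iso ((EtCoh.pushComp g h).app ((EtCoh.pull h).obj F)).symm j h0

/-- **vanishing of the cohomology of the direct image of a uniquely divisible sheaf on the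
spectrum of a field** -/
theorem H_push_subsingleton_of_UD (i : ℕ) :
    ∀ F : EtCoh.Ab (Spec (CommRingCat.of k)), UD F →
      Subsingleton (EtCoh.H X ((EtCoh.push g).obj F) (i + 1)) := by
  induction i with
  | zero =>
    intro F hF
    obtain ⟨A, Q, f, p, w, hS, -, hA⟩ := exists_resolution g F hF
    have hS' := push_shortExact g (ShortComplex.mk f p w) hS hF
    refine H_one_subsingleton _ hS' ?_ (hA 1 le_rfl)
    exact surjective_sections k (ShortComplex.mk f p w) hS hF ((EtCoh.bc g).obj (EtCoh.top X))
  | succ i ih =>
    intro F hF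
    obtain ⟨A, Q, f, p, w, hS, hQ, hA⟩ := exists_resolution g F hF
    have hS' := push_shortExact g (ShortComplex.mk f p w) hS hF
    exact H_succ_subsingleton _ hS' (i + 1) (ih Q hQ) (hA (i + 1 + 1) (by omega))

end Field

end Groth.Agent.Lib.helper21.UDiv
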