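import Mathlib
import Groth.Agent.Lib.Helper21.UDiv3
import Groth.Agent.S0124

/-!
# Torsion of the cohomology of direct images from a point, part 1 (helper21)

Over the spectrum of a field, for an epimorphism `A ⟶ Q` of abelian sheaves, a multiple of every
section of `Q` over a quasi-compact étale scheme lifts to `A`.
-/

set_option autoImplicit false
set_option linter.style.haveILetI false

open CategoryTheory CategoryTheory.Limits Opposite AlgebraicGeometry

namespace Groth.Agent.Lib.helper21.TorsPush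

universe u

open Groth.Agent.S7743 Abelian Groth.Agent.Lib.helper21.GalCohTrace Groth.Agent.Lib.helper21.UDiv

section General

variable {X : Scheme.{u}}

/-- if `H¹(X, S.X₁)` is torsion then a multiple of every map `ℤ_X ⟶ S.X₃` lifts to `S.X₂` -/
lemma exists_nsmul_lift (S : ShortComplex (EtCoh.Ab X)) (hS : S.ShortExact)
    (h1 : ∀ x : EtCoh.H X S.X₁ 1, IsOfFinAddOrder x) (y : ZZ X ⟶ S.X₃) :
    ∃ n : ℕ, 0 < n ∧ ∃ z : ZZ X ⟶ S.X₂, z ≫ S.g = n • y := by
  let ψ : (ZZ X ⟶ S.X₃) →+ Ext (ZZ X) S.X₁ 1 :=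
    AddMonoidHom.mk' (fun f => (Ext.mk₀ f).comp hS.extClass (zero_add 1)) (by
      intro f g
      rw [Ext.mk₀_add, Ext.add_comp])
  obtain ⟨n, hn, hz⟩ := isOfFinAddOrder_iff_nsmul_eq_zero.1 (h1 (ψ y))
  refine ⟨n, hn, ?_⟩
  have h0 : (Ext.mk₀ (n • y)).comp hS.extClass (zero_add 1) = 0 := by
    have := map_nsmul ψ n y
    rw [hz] at this
    exact this
  obtain ⟨x₂, hx₂⟩ := Ext.covariant_sequence_exact₃ _ hS (Ext.mk₀ (n • y)) rfl h0
  obtain ⟨z, rfl⟩ := (Ext.mk₀_bijective _ _).2 x₂
  refine ⟨z, ?_⟩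
  rw [Ext.mk₀_comp_mk₀] at hx₂
  exact (Ext.mk₀_bijective _ _).1 hx₂

/-- section version of `exists_nsmul_lift` -/
lemma exists_nsmul_lift_top (S : ShortComplex (EtCoh.Ab X)) (hS : S.ShortExact)
    (h1 : ∀ x : EtCoh.H X S.X₁ 1, IsOfFinAddOrder x) (t : S.X₃.obj.obj (op (EtCoh.top X))) :
    ∃ n : ℕ, 0 < n ∧ ∃ a : S.X₂.obj.obj (op (EtCoh.top X)),
      S.g.hom.app (op (EtCoh.top X)) a = n • t := by
  let y : ZZ X ⟶ S.X₃ := ((EtCore.constAdj X).homEquiv M₀ S.X₃).symm
    (homOfElem (B := (EtCore.gsec X).obj S.X₃) t)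
  obtain ⟨n, hn, z, hz⟩ := exists_nsmul_lift S hS h1 y
  refine ⟨n, hn, ((EtCore.constAdj X).homEquiv M₀ S.X₂ z) one, ?_⟩
  have h1 := congrArg ((EtCore.constAdj X).homEquiv M₀ S.X₃) hz
  rw [Adjunction.homEquiv_naturality_right] at h1
  have h2 : (EtCore.constAdj X).homEquiv M₀ S.X₃ (n • y) =
      n • homOfElem (B := (EtCore.gsec X).obj S.X₃) t := by
    have := map_nsmul ((EtCore.constAdj X).homAddEquiv M₀ S.X₃) n y
    rw [Adjunction.homAddEquiv_apply, Adjunction.homAddEquiv_apply] at this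
    rw [this]
    congr 1
    exact Equiv.apply_symm_apply _ _
  rw [h2] at h1
  have h3 := congrArg (fun m => (ConcreteCategory.hom m) one) h1
  simp only [ConcreteCategory.comp_apply] at h3
  refine h3.trans ?_
  show (n • homOfElem (B := (EtCore.gsec X).obj S.X₃) t).hom one = n • t
  rw [AddCommGrpCat.hom_nsmul, AddMonoidHom.nsmul_apply]
  congr 1
  exact homOfElem_one _

end General

section Field

variable (k : Type u) [Field k]

/-- over a field, a multiple of every global section of `S.X₃` lifts -/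
lemma exists_nsmul_lift_field (S : ShortComplex (EtCoh.Ab (Spec (CommRingCat.of k))))
    (hS : S.ShortExact) (t : S.X₃.obj.obj (op (EtCoh.top (Spec (CommRingCat.of k))))) :
    ∃ n : ℕ, 0 < n ∧ ∃ a : S.X₂.obj.obj (op (EtCoh.top (Spec (CommRingCat.of k)))),
      S.g.hom.app (op (EtCoh.top (Spec (CommRingCat.of k)))) a = n • t :=
  exists_nsmul_lift_top S hS (fun x => Groth.Agent.S7743.result k S.X₁ 1 Nat.one_pos x) t

/-- the same over a finite separable extension -/
lemma exists_nsmul_lift_ext (K : Type u) [Field K] [Algebra k K] [FiniteDimensional k K]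
    [Algebra.IsSeparable k K] (S : ShortComplex (EtCoh.Ab (Spec (CommRingCat.of k))))
    (hS : S.ShortExact)
    (t : S.X₃.obj.obj (op ((EtShriek.compEtale (pi k K)).obj
      (EtCoh.top (Spec (CommRingCat.of K)))))) :
    ∃ n : ℕ, 0 < n ∧ ∃ a : S.X₂.obj.obj (op ((EtShriek.compEtale (pi k K)).obj
      (EtCoh.top (Spec (CommRingCat.of K))))),
      S.g.hom.app (op ((EtShriek.compEtale (pi k K)).obj
        (EtCoh.top (Spec (CommRingCat.of K))))) a = n • t := by
  have hS' : (S.map (EtShriek.restrAlong (pi k K))).ShortExact :=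
    hS.map_of_exact (EtShriek.restrAlong (pi k K))
  exact exists_nsmul_lift_field K (S.map (EtShriek.restrAlong (pi k K))) hS' t

open Groth.Agent.Lib.helper21.ConstVal Groth.Agent.Lib.Helper21.EtGalois in
/-- **a multiple of every section over a quasi-compact étale scheme lifts** -/
theorem exists_nsmul_lift_sections (S : ShortComplex (EtCoh.Ab (Spec (CommRingCat.of k))))
    (hS : S.ShortExact) (T : (Spec (CommRingCat.of k)).Etale) [CompactSpace T.left]
    (q : S.X₃.obj.obj (op T)) :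
    ∃ n : ℕ, 0 < n ∧ ∃ a : S.X₂.obj.obj (op T), S.g.hom.app (op T) a = n • q := by
  obtain ⟨ι, K, _, _, _, _, e, he⟩ := (Groth.Agent.S0658.result k T.left T.hom).1 T.prop
  let Y : ι → (Spec (CommRingCat.of k)).Etale := fun i =>
    (EtShriek.compEtale (pi k (K i))).obj (EtCoh.top (Spec (CommRingCat.of (K i))))
  let π : ∀ i, Y i ⟶ T := fun i =>
    MorphismProperty.Over.homMk (Sigma.ι (fun i => Spec (CommRingCat.of (K i))) i ≫ e.hom)
      ((Category.assoc _ _ _).trans ((he i).trans (Category.id_comp _).symm)) trivial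
  have hleft : ∀ i, (π i).left = Sigma.ι (fun i => Spec (CommRingCat.of (K i))) i ≫ e.hom :=
    fun i => rfl
  have hsurj : ∀ b : T.left, ∃ (i : ι) (y : (Y i).left), (π i).left.base y = b := by
    intro b
    obtain ⟨⟨i, y⟩, hy⟩ := (sigmaMk (fun i => Spec (CommRingCat.of (K i)))).surjective (e.inv.base b)
    refine ⟨i, y, ?_⟩
    rw [sigmaMk_mk] at hy
    have h2 : (e.inv ≫ e.hom).base b = b := by
      rw [Iso.inv_hom_id]
      rfl
    have h3 : e.hom.base ((Sigma.ι (fun i => Spec (CommRingCat.of (K i))) i).base y) =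
        e.hom.base (e.inv.base b) := congrArg e.hom.base hy
    exact h3.trans h2
  -- finiteness of the index set
  haveI : CompactSpace ↥(∐ fun i => Spec (CommRingCat.of (K i))) :=
    (TopCat.homeoOfIso (Scheme.forgetToTop.mapIso e)).symm.compactSpace
  obtain ⟨s, hs⟩ := isCompact_univ.elim_finite_subcover
    (fun i => ((Sigma.ι (fun i => Spec (CommRingCat.of (K i))) i).opensRange :
      Set ↥(∐ fun i => Spec (CommRingCat.of (K i)))))
    (fun i => (Sigma.ι (fun i => Spec (CommRingCat.of (K i))) i).opensRange.isOpen)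
    (by
      intro p _
      obtain ⟨⟨i, y⟩, hy⟩ := (sigmaMk (fun i => Spec (CommRingCat.of (K i)))).surjective p
      rw [sigmaMk_mk] at hy
      exact Set.mem_iUnion.2 ⟨i, ⟨y, hy⟩⟩)
  have hmem : ∀ i, i ∈ s := by
    intro i
    have hp := hs (Set.mem_univ
      ((Sigma.ι (fun i => Spec (CommRingCat.of (K i))) i).base (default : ↥(Spec (CommRingCat.of (K i))))))
    simp only [Set.mem_iUnion] at hp
    obtain ⟨j, hj, y, hy⟩ := hp
    obtain ⟨rfl⟩ := (sigmaι_eq_iff _ _ _ _ _).mp hy
    exact hj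
  have hlift : ∀ i, ∃ n : ℕ, 0 < n ∧ ∃ a : S.X₂.obj.obj (op (Y i)),
      S.g.hom.app (op (Y i)) a = n • S.X₃.obj.map (π i).op q :=
    fun i => exists_nsmul_lift_ext k (K i) S hS _
  choose n hn a ha using hlift
  let N : ℕ := s.prod n
  have hN : 0 < N := Finset.prod_pos (fun i _ => hn i)
  have hdvd : ∀ i, n i ∣ N := fun i => Finset.dvd_prod_of_mem n (hmem i)
  let a' : ∀ i, S.X₂.obj.obj (op (Y i)) := fun i => (N / n i) • a i
  have ha' : ∀ i, S.g.hom.app (op (Y i)) (a' i) = N • S.X₃.obj.map (π i).op q := by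
    intro i
    show S.g.hom.app (op (Y i)) ((N / n i) • a i) = _
    rw [map_nsmul, ha i, ← mul_nsmul', Nat.div_mul_cancel (hdvd i)]
  have hcompat : ∀ (i j : ι) (Z : (Spec (CommRingCat.of k)).Etale) (gi : Z ⟶ Y i) (gj : Z ⟶ Y j),
      gi ≫ π i = gj ≫ π j → S.X₂.obj.map gi.op (a' i) = S.X₂.obj.map gj.op (a' j) := by
    intro i j Z gi gj hg
    have hgl : gi.left ≫ (π i).left = gj.left ≫ (π j).left :=
      congrArg (fun m => m.left) hg
    by_cases hij : i = j
    · subst hij
      have : gi = gj := by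
        apply MorphismProperty.Over.Hom.ext
        haveI : IsOpenImmersion (Sigma.ι (fun i => Spec (CommRingCat.of (K i))) i) := inferInstance
        haveI : Mono (Sigma.ι (fun i => Spec (CommRingCat.of (K i))) i ≫ e.hom) := inferInstance
        exact (cancel_mono (Sigma.ι (fun i => Spec (CommRingCat.of (K i))) i ≫ e.hom)).1 hgl
      rw [this]
    · haveI : IsEmpty Z.left := by
        refine isEmpty_of_commSq_sigmaι_of_ne (g := fun i => Spec (CommRingCat.of (K i)))
          (a := gi.left) (b := gj.left) ⟨?_⟩ hij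
        exact (cancel_mono e.hom).1
          ((Category.assoc _ _ _).trans (hgl.trans (Category.assoc _ _ _).symm))
      have hbot : ⊥ ∈ (Spec (CommRingCat.of k)).smallEtaleTopology Z :=
        mem_of_pointwise Z ⊥ (fun x => isEmptyElim x)
      haveI := Groth.Agent.H1.ExtZero.subsingleton_of_bot_mem _ S.X₂ Z hbot
      exact Subsingleton.elim _ _
  obtain ⟨t, ht, -⟩ := glue_arrows' S.X₂ Y π hsurj a' hcompat
  refine ⟨N, hN, t, ?_⟩
  apply sep_arrows S.X₃ Y π hsurj
  intro i
  have nat := NatTrans.naturality_apply S.g.hom (π i).op t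
  rw [← nat, ht i, ha' i, map_nsmul]

end Field

end Groth.Agent.Lib.helper21.TorsPush
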