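import Mathlib
import Groth.Agent.Lib.Helper21.TorsPush1
import Groth.Agent.Lib.Helper21.SepClosedPush
import Groth.Agent.Lib.Helper27.Horseshoe5

/-!
# Torsion of the cohomology of direct images from a point, part 2 (helper21)

* `isTorsion_of_epi`: an epimorphic image of a torsion sheaf is torsion.
* `isTorsion_of_epi_of_nsmul_lift`: a criterion for a quotient to be torsion.
* `isTorsion_Rpush`: `R^q g_* F` is torsion for `q ≥ 1` and `g : Spec k ⟶ X`, `X` quasi-separated.
-/

set_option autoImplicit false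
set_option linter.style.haveILetI false

open CategoryTheory CategoryTheory.Limits Opposite AlgebraicGeometry

namespace Groth.Agent.Lib.helper21.TorsPush

universe u

open Groth.Agent.S7743 Abelian Groth.Agent.Lib.helper21.UDiv Groth.Agent.Lib.helper21.ConstVal
  Groth.Agent.H1.EtGerm

section General

variable {X : Scheme.{u}}

/-- local lifting of sections along an epimorphism -/
lemma exists_local_lift {F G : EtCoh.Ab X} (φ : F ⟶ G) [Epi φ] (U : X.Etale)
    (s : G.obj.obj (op U)) (x : U.left) :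
    ∃ (V : X.Etale) (j : V ⟶ U) (v : V.left) (t : F.obj.obj (op V)),
      j.left.base v = x ∧ φ.hom.app (op V) t = G.obj.map j.op s := by
  haveI : Sheaf.IsLocallySurjective φ :=
    (Sheaf.isLocallySurjective_iff_epi' (A := AddCommGrpCat.{u + 1}) φ).2 inferInstance
  have hcov := Presheaf.imageSieve_mem X.smallEtaleTopology φ.hom s
  obtain ⟨V, j, v, ⟨t, ht⟩, hv⟩ := pointwise_of_mem U _ hcov x
  exact ⟨V, j, v, t, hv, ht⟩

/-- refinement by an affine neighbourhood -/
lemma exists_affine_refine (V : X.Etale) (v : V.left) :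
    ∃ (V' : X.Etale) (j : V' ⟶ V) (v' : V'.left), j.left.base v' = v ∧ IsAffine V'.left := by
  obtain ⟨W, hW, hvW, -⟩ := exists_isAffineOpen_mem_and_subset (x := v) (U := ⊤) trivial
  exact ⟨restrictOpen V W, restrictOpenι V W, ⟨v, hvW⟩, rfl, hW⟩

/-- an epimorphic image of a torsion sheaf is torsion -/
lemma isTorsion_of_epi {F G : EtCoh.Ab X} (φ : F ⟶ G) [Epi φ] (hF : EtCoh.IsTorsion F) :
    EtCoh.IsTorsion G := by
  intro U s x
  obtain ⟨V, j, v, t, hv, ht⟩ := exists_local_lift φ U s x
  obtain ⟨W, l, ⟨w, hw⟩, hfin⟩ := hF V t v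
  refine ⟨W, l ≫ j, ⟨w, ?_⟩, ?_⟩
  · show j.left.base (l.left.base w) = x
    rw [hw, hv]
  · have h1 : G.obj.map (l ≫ j).op s = φ.hom.app (op W) (F.obj.map l.op t) := by
      have nat := NatTrans.naturality_apply φ.hom l.op t
      rw [nat, ht, op_comp, Functor.map_comp]
      rfl
    rw [h1]
    exact AddMonoidHom.isOfFinAddOrder (φ.hom.app (op W)).hom hfin

/-- **criterion for a quotient to be torsion** -/
lemma isTorsion_of_epi_of_nsmul_lift {A B C : EtCoh.Ab X} (p : A ⟶ B) (π : B ⟶ C) [Epi π]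
    (w : p ≫ π = 0)
    (h : ∀ V : X.Etale, IsAffine V.left → ∀ t : B.obj.obj (op V),
      ∃ n : ℕ, 0 < n ∧ ∃ a : A.obj.obj (op V), p.hom.app (op V) a = n • t) :
    EtCoh.IsTorsion C := by
  intro U s x
  obtain ⟨V, j, v, t, hv, ht⟩ := exists_local_lift π U s x
  obtain ⟨V', j', v', hv', hV'⟩ := exists_affine_refine V v
  refine ⟨V', j' ≫ j, ⟨v', ?_⟩, ?_⟩
  · show j.left.base (j'.left.base v') = x
    rw [hv', hv]
  · obtain ⟨n, hn, a, ha⟩ := h V' hV' (B.obj.map j'.op t)
    rw [isOfFinAddOrder_iff_nsmul_eq_zero]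
    refine ⟨n, hn, ?_⟩
    have h1 : C.obj.map (j' ≫ j).op s = π.hom.app (op V') (B.obj.map j'.op t) := by
      have nat := NatTrans.naturality_apply π.hom j'.op t
      rw [nat, ht, op_comp, Functor.map_comp]
      rfl
    rw [h1, ← map_nsmul, ← ha]
    have h2 := congrArg (fun m => m.hom.app (op V') a) w
    exact h2

end General

section Field

variable {k : Type u} [Field k] {X : Scheme.{u}} (g : Spec (CommRingCat.of k) ⟶ X)

/-- a resolution step: every sheaf on the spectrum of a field embeds into a sheaf which is acyclic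
for `g_*` and whose direct image has no higher cohomology -/
lemma exists_resolution' (F : EtCoh.Ab (Spec (CommRingCat.of k))) :
    ∃ (A Q : EtCoh.Ab (Spec (CommRingCat.of k))) (f : F ⟶ A) (p : A ⟶ Q) (w : f ≫ p = 0),
      (ShortComplex.mk f p w).ShortExact ∧
        (∀ q : ℕ, IsZero ((EtCoh.Rpush g (q + 1)).obj A)) ∧
        ∀ j : ℕ, 1 ≤ j → Subsingleton (EtCoh.H X ((EtCoh.push g).obj A) j) := by
  let Ω := SeparableClosure k
  let h : Spec (CommRingCat.of Ω) ⟶ Spec (CommRingCat.of k) :=
    Spec.map (CommRingCat.ofHom (algebraMap k Ω))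
  haveI : Surjective h :=
    ⟨fun x => ⟨default, Subsingleton.elim (α := ↥(Spec (CommRingCat.of k))) _ _⟩⟩
  let η := (EtCoh.pullPushAdj h).unit.app F
  haveI : Mono η := mono_unit_of_surjective h F
  have hS := Groth.Agent.Lib.helper27.cokerSES_shortExact η
  refine ⟨_, _, η, cokernel.π η, cokernel.condition η, hS, ?_, ?_⟩
  · intro q
    exact Groth.Agent.Lib.helper21.SepClosedPush.isZero_Rpush_push g h ((EtCoh.pull h).obj F) q
  · intro j hj
    have h0 := Groth.Agent.S19130.H_push_subsingleton Ω (h ≫ g) ((EtCoh.pull h).obj F) j hj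
    exact subsingleton_H_of_iso ((EtCoh.pushComp g h).app ((EtCoh.pull h).obj F)).symm j h0

instance compactSpace_bc [QuasiSeparatedSpace X] (V : X.Etale) [CompactSpace V.left] :
    CompactSpace ((EtCoh.bc g).obj V).left := by
  have hqc : QuasiCompact (V.hom : V.left ⟶ X) :=
    @quasiCompact_of_compactSpace V.left X V.hom ‹_› ‹_›
  exact @QuasiCompact.compactSpace_of_compactSpace _ _
    (pullback.snd (V.hom : V.left ⟶ X) g) (MorphismProperty.pullback_snd _ _ hqc) inferInstance

open Groth.Agent.Lib.helper27 in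
/-- **the higher direct images of a sheaf on a point are torsion** -/
theorem isTorsion_Rpush [QuasiSeparatedSpace X] (q : ℕ) :
    ∀ F : EtCoh.Ab (Spec (CommRingCat.of k)),
      EtCoh.IsTorsion ((EtCoh.Rpush g (q + 1)).obj F) := by
  haveI : PreservesFiniteLimits (EtCoh.push g) := by
    haveI : PreservesLimitsOfSize.{0, 0} (EtCoh.push g) :=
      (EtCoh.pullPushAdj g).rightAdjoint_preservesLimits
    exact PreservesLimitsOfSize.preservesFiniteLimits _
  induction q with
  | zero =>
    intro F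
    obtain ⟨A, Q, f, p, w, hS, hA, -⟩ := exists_resolution' g F
    have hex := (Horseshoe.derivedLES (EtCoh.push g)).exact₁ (ShortComplex.mk f p w) hS 0 1 rfl
    haveI : Epi ((Horseshoe.derivedLES (EtCoh.push g)).δ (ShortComplex.mk f p w) hS 0 1 rfl) :=
      hex.epi_f ((hA 0).eq_of_tgt _ _)
    let e := (EtCoh.push g).rightDerivedZeroIsoSelf
    refine isTorsion_of_epi_of_nsmul_lift (((EtCoh.push g).rightDerived 0).map p)
      ((Horseshoe.derivedLES (EtCoh.push g)).δ (ShortComplex.mk f p w) hS 0 1 rfl)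
      ((Horseshoe.derivedLES (EtCoh.push g)).comp_δ (ShortComplex.mk f p w) hS 0 1 rfl) ?_
    intro V hV t
    haveI : CompactSpace V.left := inferInstance
    obtain ⟨n, hn, a, ha⟩ := exists_nsmul_lift_sections k (ShortComplex.mk f p w) hS
      ((EtCoh.bc g).obj V) ((e.hom.app Q).hom.app (op V) t)
    refine ⟨n, hn, (e.inv.app A).hom.app (op V) a, ?_⟩
    have nat := e.inv.naturality p
    have h1 := congrArg (fun m => m.hom.app (op V) a) nat
    have h2 : ((e.inv.app A) ≫ ((EtCoh.push g).rightDerived 0).map p).hom.app (op V) a =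
        (((EtCoh.push g).rightDerived 0).map p).hom.app (op V)
          ((e.inv.app A).hom.app (op V) a) := rfl
    rw [← h2, ← h1]
    show (e.inv.app Q).hom.app (op V) (p.hom.app (op ((EtCoh.bc g).obj V)) a) = n • t
    have ha' : p.hom.app (op ((EtCoh.bc g).obj V)) a = n • (e.hom.app Q).hom.app (op V) t := ha
    rw [ha', map_nsmul]
    congr 1
    have h3 := congrArg (fun m => m.hom.app (op V) t) (e.hom_inv_id_app Q)
    exact h3
  | succ q ih =>
    intro F
    obtain ⟨A, Q, f, p, w, hS, hA, -⟩ := exists_resolution' g F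
    have hex := (Horseshoe.derivedLES (EtCoh.push g)).exact₁ (ShortComplex.mk f p w) hS
      (q + 1) (q + 1 + 1) rfl
    haveI : Epi ((Horseshoe.derivedLES (EtCoh.push g)).δ (ShortComplex.mk f p w) hS
        (q + 1) (q + 1 + 1) rfl) :=
      hex.epi_f ((hA (q + 1)).eq_of_tgt _ _)
    exact isTorsion_of_epi ((Horseshoe.derivedLES (EtCoh.push g)).δ (ShortComplex.mk f p w) hS
      (q + 1) (q + 1 + 1) rfl) (ih Q)

end Field

end Groth.Agent.Lib.helper21.TorsPush
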