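import Mathlib
import Groth.Agent.Lib.Helper21.TorsPush2

/-!
# Torsion of the cohomology of direct images from a point, part 3 (helper21)

`isAddTorsion_H_push`: for `X` quasi-compact and quasi-separated, `g : Spec k ⟶ X` and any abelian
sheaf `F` on `Spec k`, the groups `H^q(X, g_* F)`, `q ≥ 1`, are torsion.
-/

set_option autoImplicit false
set_option linter.style.haveILetI false

open CategoryTheory CategoryTheory.Limits Opposite AlgebraicGeometry

namespace Groth.Agent.Lib.helper21.TorsPush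

universe u

open Groth.Agent.S7743 Abelian Groth.Agent.Lib.helper21.UDiv Groth.Agent.Lib.helper21.ConstVal
  Groth.Agent.H1.EtGerm Groth.Agent.Lib.helper27

section General

variable {X : Scheme.{u}}

/-- from sections to maps out of `ℤ_X` -/
lemma exists_nsmul_lift_of_sections {A Q : EtCoh.Ab X} (p : A ⟶ Q)
    (h : ∀ t : Q.obj.obj (op (EtCoh.top X)), ∃ n : ℕ, 0 < n ∧
      ∃ a : A.obj.obj (op (EtCoh.top X)), p.hom.app (op (EtCoh.top X)) a = n • t)
    (y : ZZ X ⟶ Q) : ∃ n : ℕ, 0 < n ∧ ∃ z : ZZ X ⟶ A, z ≫ p = n • y := by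
  obtain ⟨n, hn, a, ha⟩ := h (((EtCore.constAdj X).homEquiv M₀ Q y) one)
  refine ⟨n, hn, ((EtCore.constAdj X).homEquiv M₀ A).symm
    (homOfElem (B := (EtCore.gsec X).obj A) a), ?_⟩
  apply ((EtCore.constAdj X).homEquiv _ _).injective
  rw [Adjunction.homEquiv_naturality_right, Equiv.apply_symm_apply]
  have h2 : (EtCore.constAdj X).homEquiv M₀ Q (n • y) =
      n • (EtCore.constAdj X).homEquiv M₀ Q y := by
    have := map_nsmul ((EtCore.constAdj X).homAddEquiv M₀ Q) n y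
    rw [Adjunction.homAddEquiv_apply, Adjunction.homAddEquiv_apply] at this
    exact this
  rw [h2]
  apply hom_ext_one
  rw [ConcreteCategory.comp_apply, homOfElem_one]
  refine ha.trans ?_
  show n • _ = (n • (EtCore.constAdj X).homEquiv M₀ Q y).hom one
  rw [AddCommGrpCat.hom_nsmul, AddMonoidHom.nsmul_apply]

/-- an extension of torsion by torsion in the middle of an exact sequence -/
lemma isOfFinAddOrder_of_exact (S : ShortComplex (EtCoh.Ab X)) (hS : S.ShortExact) (i : ℕ)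
    (h3 : ∀ w : EtCoh.H X S.X₃ i, IsOfFinAddOrder w)
    (h2 : ∀ w : EtCoh.H X S.X₂ (i + 1), IsOfFinAddOrder w)
    (y : EtCoh.H X S.X₁ (i + 1)) : IsOfFinAddOrder y := by
  obtain ⟨m, hm, hy⟩ := isOfFinAddOrder_iff_nsmul_eq_zero.1
    (h2 ((y : Ext (ZZ X) S.X₁ (i + 1)).comp (Ext.mk₀ S.f) (add_zero (i + 1))))
  have hy' : ((m • y : EtCoh.H X S.X₁ (i + 1)) : Ext (ZZ X) S.X₁ (i + 1)).comp (Ext.mk₀ S.f)
      (add_zero (i + 1)) = 0 := by
    let ψ : Ext (ZZ X) S.X₁ (i + 1) →+ Ext (ZZ X) S.X₂ (i + 1) :=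
      AddMonoidHom.mk' (fun f => f.comp (Ext.mk₀ S.f) (add_zero (i + 1))) (by
        intro f g
        exact Ext.add_comp _ _ _ _)
    have := map_nsmul ψ m y
    exact this.trans hy
  obtain ⟨w, hw⟩ := Ext.covariant_sequence_exact₁ _ hS (m • y) hy' rfl
  obtain ⟨m', hm', hw0⟩ := isOfFinAddOrder_iff_nsmul_eq_zero.1 (h3 w)
  rw [isOfFinAddOrder_iff_nsmul_eq_zero]
  refine ⟨m' * m, Nat.mul_pos hm' hm, ?_⟩
  rw [mul_nsmul', ← hw]
  let ψ' : Ext (ZZ X) S.X₃ i →+ Ext (ZZ X) S.X₁ (i + 1) :=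
    AddMonoidHom.mk' (fun f => f.comp hS.extClass rfl) (by
      intro f g
      exact Ext.add_comp _ _ _ _)
  have h4 := map_nsmul ψ' m' w
  have h5 : ψ' (m' • w) = 0 := by
    have : (m' • w : Ext (ZZ X) S.X₃ i) = 0 := hw0
    rw [this, map_zero]
  exact h4.symm.trans h5

end General

section Field

variable {k : Type u} [Field k] {X : Scheme.{u}} (g : Spec (CommRingCat.of k) ⟶ X)

/-- the two short exact sequences on `X` attached to a resolution step on `Spec k` -/
lemma exists_push_sequences [CompactSpace X] [QuasiSeparatedSpace X] (F : EtCoh.Ab (Spec (CommRingCat.of k))) :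
    ∃ (Q : EtCoh.Ab (Spec (CommRingCat.of k))) (B Q' C : EtCoh.Ab X)
      (f₁ : (EtCoh.push g).obj F ⟶ B) (π' : B ⟶ Q') (ι : Q' ⟶ (EtCoh.push g).obj Q)
      (πC : (EtCoh.push g).obj Q ⟶ C) (w₁ : f₁ ≫ π' = 0) (w₂ : ι ≫ πC = 0),
      (ShortComplex.mk f₁ π' w₁).ShortExact ∧ (ShortComplex.mk ι πC w₂).ShortExact ∧
        EtCoh.IsTorsion C ∧ (∀ j : ℕ, 1 ≤ j → Subsingleton (EtCoh.H X B j)) ∧
        ∀ y : ZZ X ⟶ Q', ∃ n : ℕ, 0 < n ∧ ∃ z : ZZ X ⟶ B, z ≫ π' = n • y := by
  obtain ⟨A, Q, f, p, w, hS, -, hA⟩ := exists_resolution' g F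
  haveI := hS.mono_f
  haveI : PreservesLimitsOfSize.{0, 0} (EtCoh.push g) :=
    (EtCoh.pullPushAdj g).rightAdjoint_preservesLimits
  have hex : ((ShortComplex.mk f p w).map (EtCoh.push g)).Exact :=
    hS.exact.map_of_mono_of_preservesKernel _ inferInstance inferInstance
  let f' : (EtCoh.push g).obj F ⟶ (EtCoh.push g).obj A := (EtCoh.push g).map f
  let p' : (EtCoh.push g).obj A ⟶ (EtCoh.push g).obj Q := (EtCoh.push g).map p
  have w' : f' ≫ p' = 0 := by
    show (EtCoh.push g).map f ≫ (EtCoh.push g).map p = 0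
    rw [← Functor.map_comp, w, Functor.map_zero]
  haveI : Mono f' := by
    show Mono ((EtCoh.push g).map f)
    infer_instance
  let ι : cokernel f' ⟶ (EtCoh.push g).obj Q := cokernel.desc f' p' w'
  haveI : Mono ι := hex.mono_cokernelDesc
  have hι : cokernel.π f' ≫ ι = p' := cokernel.π_desc f' p' w'
  have hS₁ := cokerSES_shortExact f'
  have hS₂ := cokerSES_shortExact ι
  have hlift : ∀ (V : X.Etale), CompactSpace V.left → ∀ t : ((EtCoh.push g).obj Q).obj.obj (op V),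
      ∃ n : ℕ, 0 < n ∧ ∃ a : ((EtCoh.push g).obj A).obj.obj (op V),
        p'.hom.app (op V) a = n • t := by
    intro V hV t
    exact exists_nsmul_lift_sections k (ShortComplex.mk f p w) hS ((EtCoh.bc g).obj V) t
  refine ⟨Q, (EtCoh.push g).obj A, cokernel f', cokernel ι, f', cokernel.π f', ι, cokernel.π ι,
    cokernel.condition f', cokernel.condition ι, hS₁, hS₂, ?_, hA, ?_⟩
  · refine isTorsion_of_epi_of_nsmul_lift p' (cokernel.π ι) ?_ ?_
    · rw [← hι, Category.assoc, cokernel.condition, comp_zero]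
    · intro V hV t
      haveI : CompactSpace V.left := inferInstance
      exact hlift V inferInstance t
  · intro y
    haveI : CompactSpace (EtCoh.top X).left := inferInstanceAs (CompactSpace X)
    obtain ⟨n, hn, z, hz⟩ := exists_nsmul_lift_of_sections p'
      (fun t => hlift (EtCoh.top X) inferInstance t) (y ≫ ι)
    refine ⟨n, hn, z, ?_⟩
    rw [← cancel_mono ι, Category.assoc, hι, hz, Preadditive.nsmul_comp]

/-- **the cohomology of the direct image of a sheaf on a point is torsion in positive degrees** -/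
theorem isAddTorsion_H_push [CompactSpace X] [QuasiSeparatedSpace X] (q : ℕ) :
    ∀ (F : EtCoh.Ab (Spec (CommRingCat.of k)))
      (x : EtCoh.H X ((EtCoh.push g).obj F) (q + 1)), IsOfFinAddOrder x := by
  induction q with
  | zero =>
    intro F x
    obtain ⟨Q, B, Q', C, f₁, π', ι, πC, w₁, w₂, hS₁, hS₂, hC, hB, hl⟩ := exists_push_sequences g F
    have hx' : (x : Ext (ZZ X) ((EtCoh.push g).obj F) 1).comp (Ext.mk₀ f₁) (add_zero 1) = 0 :=
      @Subsingleton.elim (EtCoh.H X B 1) (hB 1 le_rfl) _ _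
    obtain ⟨y, hy⟩ := Ext.covariant_sequence_exact₁ _ hS₁ x hx' (zero_add 1)
    obtain ⟨y₀, rfl⟩ := (Ext.mk₀_bijective _ _).2 y
    obtain ⟨n, hn, z, hz⟩ := hl y₀
    rw [isOfFinAddOrder_iff_nsmul_eq_zero]
    refine ⟨n, hn, ?_⟩
    let ψ : (ZZ X ⟶ Q') →+ Ext (ZZ X) ((EtCoh.push g).obj F) 1 :=
      AddMonoidHom.mk' (fun f => (Ext.mk₀ f).comp hS₁.extClass (zero_add 1)) (by
        intro f g
        rw [Ext.mk₀_add, Ext.add_comp])
    have h1 : n • x = ψ (n • y₀) := by
      rw [map_nsmul]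
      congr 1
      exact hy.symm
    rw [h1, ← hz]
    show (Ext.mk₀ (z ≫ π')).comp hS₁.extClass (zero_add 1) = 0
    have h0 : (Ext.mk₀ π').comp hS₁.extClass (zero_add 1) = 0 := hS₁.comp_extClass
    have e1 := Ext.mk₀_comp_mk₀_assoc z π' hS₁.extClass
    rw [h0, Ext.comp_zero] at e1
    exact e1.symm
  | succ q ih =>
    intro F x
    obtain ⟨Q, B, Q', C, f₁, π', ι, πC, w₁, w₂, hS₁, hS₂, hC, hB, -⟩ := exists_push_sequences g F
    have hx' : (x : Ext (ZZ X) ((EtCoh.push g).obj F) (q + 1 + 1)).comp (Ext.mk₀ f₁)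
        (add_zero (q + 1 + 1)) = 0 :=
      @Subsingleton.elim (EtCoh.H X B (q + 1 + 1)) (hB (q + 1 + 1) (by omega)) _ _
    obtain ⟨y, hy⟩ := Ext.covariant_sequence_exact₁ _ hS₁ x hx' rfl
    have hyfin : IsOfFinAddOrder y :=
      isOfFinAddOrder_of_exact (ShortComplex.mk ι πC w₂) hS₂ q
        (Groth.Agent.S0124.result X C hC q) (ih Q) y
    obtain ⟨m, hm, hm0⟩ := isOfFinAddOrder_iff_nsmul_eq_zero.1 hyfin
    rw [isOfFinAddOrder_iff_nsmul_eq_zero]
    refine ⟨m, hm, ?_⟩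
    let ψ : Ext (ZZ X) Q' (q + 1) →+ Ext (ZZ X) ((EtCoh.push g).obj F) (q + 1 + 1) :=
      AddMonoidHom.mk' (fun f => f.comp hS₁.extClass rfl) (by
        intro f g
        exact Ext.add_comp _ _ _ _)
    have h1 : m • x = ψ (m • y) := by
      rw [map_nsmul]
      congr 1
      exact hy.symm
    rw [h1, hm0, map_zero]

end Field

end Groth.Agent.Lib.helper21.TorsPush
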