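import Mathlib
import Groth.Prelude.Def_ModSite
import Groth.Agent.Lib.Helper1.QcSections
import Groth.Agent.Lib.Helper21.PresColim

/-!
# Every module on a ringed site with a basis of quasi-compact objects is a filtered colimit of modules of
type A (helper21, S9114)
-/

set_option autoImplicit false
universe u

open CategoryTheory CategoryTheory.Limits Opposite

namespace Groth.Agent.Lib.helper21.TypeAColim

open Groth.Agent.H1.QcSections Groth.Agent.H1.FreeOnLoc Groth.Agent.Lib.helper21.PresColim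

variable {C : Type u} [SmallCategory C] {J : GrothendieckTopology C} (O : Sheaf J CommRingCat.{u})
  (B : Set C)

/-- index type for the canonical generators -/
def GenIdx (M : ModSite.Mod O) : Type u := Σ U : {U : C // U ∈ B}, (ModSite.freeOn O U.1 ⟶ M)

/-- the canonical generators -/
noncomputable abbrev genObj (M : ModSite.Mod O) (i : GenIdx O B M) : ModSite.Mod O :=
  ModSite.freeOn O i.1.1

/-- the canonical map from the generators -/
noncomputable def genMap (M : ModSite.Mod O) : (∐ genObj O B M) ⟶ M := Sigma.desc fun i => i.2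

lemma epi_genMap
    (hB₁ : ∀ X : C, ∃ (κ : Type u) (Y : κ → C) (g : ∀ k, Y k ⟶ X), Sieve.ofArrows Y g ∈ J X ∧ ∀ k, Y k ∈ B)
    (M : ModSite.Mod O) : Epi (genMap O B M) := by
  apply epi_of_local_sections
  intro X s
  obtain ⟨κ, Y', g, hcov, hY⟩ := hB₁ X
  refine ⟨Sieve.ofArrows Y' g, hcov, ?_⟩
  rintro W _ ⟨W', a, _, ⟨k⟩, rfl⟩
  refine ⟨fmap O a ≫ Sigma.ι (genObj O B M) ⟨⟨Y' k, hY k⟩, fmap O (g k) ≫ s⟩, ?_⟩
  rw [Category.assoc]
  unfold genMap
  rw [Sigma.ι_desc, fmap_comp, Category.assoc]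

theorem main
    (hB₁ : ∀ X : C, ∃ (κ : Type u) (Y : κ → C) (g : ∀ k, Y k ⟶ X), Sieve.ofArrows Y g ∈ J X ∧ ∀ k, Y k ∈ B)
    (hB₂ : ∀ U ∈ B, CohCx.IsQcObject ((presheafToSheaf J (Type u)).obj (yoneda.obj U))) (F : ModSite.Mod O) :
    ∃ (Λ : Type u) (_ : SmallCategory Λ) (_ : IsFiltered Λ) (D : Λ ⥤ ModSite.Mod O)
      (ι : D ⟶ (Functor.const Λ).obj F),
      (∀ l, (∃ (m' n' : ℕ) (V' : Fin m' → C) (U' : Fin n' → C)
        (ψ : (∐ fun j => ModSite.freeOn O (V' j)) ⟶ ∐ fun i => ModSite.freeOn O (U' i)),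
        (∀ j, V' j ∈ B) ∧ (∀ i, U' i ∈ B) ∧ Nonempty (D.obj l ≅ cokernel ψ))) ∧
      Nonempty (IsColimit (Cocone.mk F ι)) := by
  classical
  let π := genMap O B F
  haveI : Epi π := epi_genMap O B hB₁ F
  let K := kernel π
  let π' := genMap O B K
  haveI : Epi π' := epi_genMap O B hB₁ K
  let ψ : (∐ genObj O B K) ⟶ ∐ genObj O B F := π' ≫ kernel.ι π
  have w : ψ ≫ π = 0 := by
    simp only [ψ]
    rw [Category.assoc, kernel.condition, comp_zero]
  have hπ : IsColimit (CokernelCofork.ofπ π w) :=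
    isCokernelEpiComp (Abelian.epiIsCokernelOfKernel (KernelFork.ofι (kernel.ι π) (kernel.condition π))
      (kernelIsKernel π)) π' rfl
  have hcpt : ∀ j, ∃ S : Finset (GenIdx O B F),
      (Sigma.ι (genObj O B K) j ≫ ψ) ≫ e (genObj O B F) S = Sigma.ι (genObj O B K) j ≫ ψ := by
    intro j
    obtain ⟨S, hS⟩ := exists_eS_of_isQcObject O (genObj O B F) j.1.1 (hB₂ _ j.1.2)
      (Sigma.ι (genObj O B K) j ≫ ψ)
    obtain ⟨S', σ, hσ⟩ := exists_decomp_of_eS (genObj O B F) _ S hS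
    refine ⟨S', ?_⟩
    rw [hσ]
    exact sum_comp_e (genObj O B F) S' σ
  refine ⟨Idx (genObj O B F) (genObj O B K) ψ, inferInstance, inferInstance,
    PresColim.D (genObj O B F) (genObj O B K) ψ, (cocone π w).ι, ?_, ⟨isColimit π w hπ hcpt⟩⟩
  intro a
  let εT : Fin a.T.card ≃ a.T := a.T.equivFin.symm
  let εS : Fin a.S.card ≃ a.S := a.S.equivFin.symm
  let rT := Sigma.reindex εT (fun j : a.T => genObj O B K j.1)
  let rS := Sigma.reindex εS (fun i : a.S => genObj O B F i.1)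
  refine ⟨a.T.card, a.S.card, fun k => (εT k).1.1.1, fun k => (εS k).1.1.1,
    rT.hom ≫ a.ψ' ≫ rS.inv, fun k => (εT k).1.1.2, fun k => (εS k).1.1.2, ⟨?_⟩⟩
  exact (cokernel.mapIso (rT.hom ≫ a.ψ' ≫ rS.inv) a.ψ' rT rS (by
    rw [Category.assoc, Category.assoc, Iso.inv_hom_id, Category.comp_id])).symm

end Groth.Agent.Lib.helper21.TypeAColim
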