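import Mathlib
import Groth.Agent.S3054
import Groth.Agent.S0101
import Groth.Agent.Lib.Helper21.UDiv3
import Groth.Agent.Lib.Helper21.NormalConst
import Groth.Agent.Lib.Helper1.FinEtPushA
import Groth.Agent.Lib.Helper1.EtStalkPull

/-!
# Uniquely divisible étale sheaves, part 4 (helper21)

* `ud_const`: constant sheaves with uniquely divisible value group are uniquely divisible.
* `H_const_subsingleton_of_integral`: `H^i(X, M_X) = 0` (`i > 0`) for `X` integral normal and `M`
  uniquely divisible.
* `subsingleton_H_of_isEmpty`: cohomology of the empty scheme.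
* `H_subsingleton_of_clopen_cover`: cohomology and decompositions into two clopen pieces.
-/

set_option autoImplicit false
set_option linter.style.haveILetI false

open CategoryTheory CategoryTheory.Limits Opposite AlgebraicGeometry

namespace Groth.Agent.Lib.helper21.UDiv

universe u

open Abelian

/-- constant sheaves with uniquely divisible value group are uniquely divisible -/
lemma ud_const (X : Scheme.{u}) (M : Type) [AddCommGroup M]
    (hM : ∀ n : ℕ, 0 < n → Function.Bijective (fun x : M => n • x)) : UD (EtCoh.const X M) := by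
  intro n hn
  have h1 : IsIso (n • 𝟙 (AddCommGrpCat.of (ULift.{u + 1} M))) := by
    rw [ConcreteCategory.isIso_iff_bijective]
    have hb := hM n hn
    constructor
    · intro x y hxy
      apply ULift.ext
      apply hb.1
      exact congrArg ULift.down hxy
    · intro y
      obtain ⟨x, hx⟩ := hb.2 y.down
      exact ⟨ULift.up x, ULift.ext _ _ hx⟩
  have e : n • 𝟙 (EtCoh.const X M) =
      (constantSheaf X.smallEtaleTopology AddCommGrpCat.{u + 1}).map
        (n • 𝟙 (AddCommGrpCat.of (ULift.{u + 1} M))) := by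
    rw [Functor.map_nsmul, CategoryTheory.Functor.map_id]
  rw [e]
  infer_instance

/-- `H^i(X, M_X) = 0` for `X` integral normal and `M` uniquely divisible -/
theorem H_const_subsingleton_of_integral (X : Scheme.{u}) [IsIntegral X]
    (hX : Pi1.IsNormalScheme X) (M : Type) [AddCommGroup M]
    (hM : ∀ n : ℕ, 0 < n → Function.Bijective (fun x : M => n • x)) (i : ℕ) (hi : 0 < i) :
    Subsingleton (EtCoh.H X (EtCoh.const X M) i) := by
  obtain ⟨i, rfl⟩ : ∃ j, i = j + 1 := ⟨i - 1, by omega⟩
  haveI := Groth.Agent.Lib.helper21.NormalConst.isIso_unit_fromSpecStalk X hX M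
  let g : Spec (CommRingCat.of X.functionField) ⟶ X := X.fromSpecStalk (genericPoint X)
  have e : EtCoh.const X M ≅ (EtCoh.push g).obj ((EtCoh.pull g).obj (EtCoh.const X M)) :=
    asIso ((EtCoh.pullPushAdj (X.fromSpecStalk (genericPoint X))).unit.app (EtCoh.const X M))
  have h0 := H_push_subsingleton_of_UD g i ((EtCoh.pull g).obj (EtCoh.const X M))
    (UD.map (EtCoh.pull g) (ud_const X M hM))
  exact subsingleton_H_of_iso e.symm (i + 1) h0

/-- the cohomology of the empty scheme vanishes -/
lemma subsingleton_H_of_isEmpty (Y : Scheme.{u}) [IsEmpty Y] (F : EtCoh.Ab Y) (i : ℕ) :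
    Subsingleton (EtCoh.H Y F i) := by
  have hsub : ∀ V : Y.Etale, Subsingleton (F.obj.obj (op V)) := by
    intro V
    haveI : IsEmpty V.left := ⟨fun v => isEmptyElim (α := Y) (V.hom.base v)⟩
    have hbot : ⊥ ∈ Y.smallEtaleTopology V :=
      Groth.Agent.Lib.helper21.ConstVal.mem_of_pointwise V ⊥ (fun x => isEmptyElim x)
    exact Groth.Agent.H1.ExtZero.subsingleton_of_bot_mem _ F V hbot
  have hid : 𝟙 F = 0 := by
    apply Sheaf.hom_ext
    ext V x
    haveI := hsub V.unop
    exact Subsingleton.elim _ _
  constructor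
  intro x y
  suffices h : ∀ z : EtCoh.H Y F i, z = 0 by rw [h x, h y]
  intro z
  have h1 := Ext.comp_mk₀_id (z : Ext _ F i)
  rw [hid, Ext.mk₀_zero, Ext.comp_zero] at h1
  exact h1.symm

/-- cohomology of a biproduct -/
lemma subsingleton_H_biprod {X : Scheme.{u}} (P Q : EtCoh.Ab X) (i : ℕ)
    (hP : Subsingleton (EtCoh.H X P i)) (hQ : Subsingleton (EtCoh.H X Q i)) :
    Subsingleton (EtCoh.H X (P ⊞ Q) i) := by
  constructor
  intro x y
  suffices h : ∀ z : EtCoh.H X (P ⊞ Q) i, z = 0 by rw [h x, h y]
  intro z
  have h1 := Ext.comp_mk₀_id (z : Ext _ (P ⊞ Q) i)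
  rw [← biprod.total, Ext.mk₀_add, Ext.comp_add, ← Ext.mk₀_comp_mk₀, ← Ext.mk₀_comp_mk₀,
    ← Ext.comp_assoc_of_second_deg_zero, ← Ext.comp_assoc_of_second_deg_zero] at h1
  have hz1 : (z : Ext _ (P ⊞ Q) i).comp (Ext.mk₀ biprod.fst) (add_zero i) = 0 :=
    Subsingleton.elim (α := EtCoh.H X P i) _ _
  have hz2 : (z : Ext _ (P ⊞ Q) i).comp (Ext.mk₀ biprod.snd) (add_zero i) = 0 :=
    Subsingleton.elim (α := EtCoh.H X Q i) _ _
  rw [hz1, hz2, Ext.zero_comp, Ext.zero_comp, add_zero] at h1
  exact h1.symm

section Clopen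

variable {Z A B : Scheme.{u}} (a : A ⟶ Z) (b : B ⟶ Z) [IsOpenImmersion a] [IsOpenImmersion b]

/-- the cohomology of the direct image along a clopen immersion -/
lemma subsingleton_H_push_of_isClosed (ha : IsClosed (Set.range a.base)) (F : EtCoh.Ab A) (i : ℕ)
    (h : Subsingleton (EtCoh.H A F i)) : Subsingleton (EtCoh.H Z ((EtCoh.push a).obj F) i) := by
  haveI : IsClosedImmersion a := IsClosedImmersion.of_isPreimmersion a ha
  haveI : PreservesFiniteLimits (EtCoh.pull a) := Groth.Agent.S0101.result a
  have hb := Groth.Agent.S14451.result a F (fun q hq => Groth.Agent.S3054.result a F q hq) i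
  exact hb.1.subsingleton

/-- **cohomology and clopen decompositions** -/
theorem H_subsingleton_of_clopen_cover
    (hdisj : Disjoint (Set.range a.base) (Set.range b.base))
    (hcov : Set.range a.base ∪ Set.range b.base = Set.univ) (G : EtCoh.Ab Z) (i : ℕ)
    (hA : Subsingleton (EtCoh.H A ((EtShriek.restrAlong a).obj G) i))
    (hB : Subsingleton (EtCoh.H B ((EtShriek.restrAlong b).obj G) i)) :
    Subsingleton (EtCoh.H Z G i) := by
  have hcompl : (Set.range a.base)ᶜ = Set.range b.base := by
    ext z
    constructor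
    · intro hz
      have : z ∈ Set.range a.base ∪ Set.range b.base := hcov ▸ Set.mem_univ z
      exact this.resolve_left hz
    · intro hz hz'
      exact Set.disjoint_left.1 hdisj hz' hz
  have ha : IsClosed (Set.range a.base) := by
    rw [← isOpen_compl_iff, hcompl]
    exact b.isOpenEmbedding.isOpen_range
  have hb : IsClosed (Set.range b.base) := by
    rw [← hcompl, isClosed_compl_iff]
    exact a.isOpenEmbedding.isOpen_range
  haveI := Groth.Agent.H1.FinEtPush.isIso_decompMap a b G hdisj hcov
  have e := asIso (Groth.Agent.H1.FinEtPush.decompMap a b G)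
  refine subsingleton_H_of_iso e.symm i (subsingleton_H_biprod _ _ i ?_ ?_)
  · exact subsingleton_H_push_of_isClosed a ha _ i hA
  · exact subsingleton_H_push_of_isClosed b hb _ i hB

/-- restriction of a constant sheaf along an étale morphism -/
noncomputable def restrConstIso {U X : Scheme.{u}} (j : U ⟶ X) [Etale j] (M : Type)
    [AddCommGroup M] : (EtShriek.restrAlong j).obj (EtCoh.const X M) ≅ EtCoh.const U M :=
  (Groth.Agent.H1.EtStalkPull.restrIsoPull j).app (EtCoh.const X M) ≪≫ EtCore.pullConst j M

/-- **cohomology of constant sheaves and clopen decompositions** -/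
theorem H_const_subsingleton_of_clopen_cover
    (hdisj : Disjoint (Set.range a.base) (Set.range b.base))
    (hcov : Set.range a.base ∪ Set.range b.base = Set.univ) (M : Type) [AddCommGroup M] (i : ℕ)
    (hA : Subsingleton (EtCoh.H A (EtCoh.const A M) i))
    (hB : Subsingleton (EtCoh.H B (EtCoh.const B M) i)) :
    Subsingleton (EtCoh.H Z (EtCoh.const Z M) i) :=
  H_subsingleton_of_clopen_cover a b hdisj hcov _ i
    (subsingleton_H_of_iso (restrConstIso a M).symm i hA)
    (subsingleton_H_of_iso (restrConstIso b M).symm i hB)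

end Clopen

end Groth.Agent.Lib.helper21.UDiv
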