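import Mathlib
import Groth.Prelude.Def_BlowUp2
import Groth.Agent.Lib.Helper21.UfdExt1
import Groth.Agent.Lib.Helper21.UfdExt2
import Groth.Agent.Lib.Helper16.QCohAss
import Groth.Agent.S17386
import Groth.Agent.S1570

/-!
# Effective Cartier divisors extend across points with factorial local rings (helper21)

* `effCartier_map_of_ufd`: `X` locally Noetherian, `U` open, `D` effective Cartier on `U`, all local rings of `X`
  outside `U` factorial domains: then the scheme-theoretic closure `D.map U.ι` is effective Cartier.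
-/

set_option autoImplicit false
universe u
open CategoryTheory CategoryTheory.Limits AlgebraicGeometry TopologicalSpace Opposite

namespace Groth.Agent.Lib.helper21.UfdExt

open Groth.Agent.Lib.helper16.QCohAss Groth.Agent.S17386

theorem effCartier_map_of_ufd (X : Scheme.{u}) [IsLocallyNoetherian X] (U : X.Opens)
    (D : (U : Scheme.{u}).IdealSheafData) (hD : BlowUp.IsEffCartierIdeal D)
    (hufd : ∀ x : X, x ∉ U →
      IsDomain (X.presheaf.stalk x) ∧ UniqueFactorizationMonoid (X.presheaf.stalk x)) :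
    BlowUp.IsEffCartierIdeal (D.map U.ι) := by
  classical
  apply Groth.Agent.S1570.main
  intro x _ W hxW
  by_cases hxU : x ∈ U
  · exact exists_generator_at U D hD W x hxW hxU
  · obtain ⟨hdom, hufm⟩ := hufd x hxU
    haveI : IsNoetherianRing Γ(X, W.1) := IsLocallyNoetherian.component_noetherian W
    set p := W.2.primeIdealOf ⟨x, hxW⟩ with hp
    letI algAR := TopCat.Presheaf.algebra_section_stalk X.presheaf (⟨x, hxW⟩ : W.1)
    haveI hloc : IsLocalization.AtPrime (X.presheaf.stalk x) p.asIdeal :=
      W.2.isLocalization_stalk ⟨x, hxW⟩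
    set S : Set Γ(X, W.1) := {k | X.basicOpen k ≤ U} with hS
    obtain ⟨S0, hS0sub, hS0span⟩ := (Submodule.fg_span_iff_fg_span_finset_subset S).mp
      (IsNoetherian.noetherian (Ideal.span S))
    have hcover : ∀ z ∈ W.1, z ∈ U → ∃ k ∈ (S0 : Set Γ(X, W.1)), z ∈ X.basicOpen k := by
      intro z hzW hzU
      obtain ⟨k, hkU, hzk⟩ := W.2.exists_basicOpen_le (V := U) ⟨z, hzU⟩ hzW
      by_contra hcon
      push_neg at hcon
      have h1 : Ideal.span (S0 : Set Γ(X, W.1)) ≤ (W.2.primeIdealOf ⟨z, hzW⟩).asIdeal := by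
        rw [Ideal.span_le]
        intro k' hk'
        by_contra h
        exact hcon k' hk' ((mem_basicOpen_iff_notMem_primeIdealOf W.2 z hzW k').2 h)
      have h2 : k ∈ Ideal.span S := Ideal.subset_span hkU
      have h3 : k ∈ Ideal.span (S0 : Set Γ(X, W.1)) := by
        have := hS0span
        change Ideal.span S = Ideal.span (S0 : Set Γ(X, W.1)) at this
        rwa [this] at h2
      exact ((mem_basicOpen_iff_notMem_primeIdealOf W.2 z hzW k).1 hzk) (h1 h3)
    have hsatA : ∀ a : Γ(X, W.1), (∀ k ∈ S0, ∃ n : ℕ, k ^ n * a ∈ (D.map U.ι).ideal W) →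
        a ∈ (D.map U.ι).ideal W :=
      fun a ha => mem_map_ideal_of_cover U D W (S0 : Set _) hcover a ha
    suffices H : (∀ (q' : Ideal (X.presheaf.stalk x)) [q'.IsPrime],
        (∃ κ ∈ (algebraMap Γ(X, W.1) (X.presheaf.stalk x)) '' (S0 : Set Γ(X, W.1)), κ ∉ q') →
        ∃ (T : Type u) (_ : CommRing T) (_ : Algebra (X.presheaf.stalk x) T)
          (_ : IsLocalization.AtPrime T q') (d : T), d ≠ 0 ∧
          (((D.map U.ι).ideal W).map (algebraMap Γ(X, W.1) (X.presheaf.stalk x))).map
            (algebraMap (X.presheaf.stalk x) T) = Ideal.span {d}) by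
      obtain ⟨g, hg0, hJg⟩ := principal_of_saturated (R := X.presheaf.stalk x)
        (((D.map U.ι).ideal W).map (algebraMap Γ(X, W.1) (X.presheaf.stalk x)))
        ((algebraMap Γ(X, W.1) (X.presheaf.stalk x)) '' (S0 : Set Γ(X, W.1))) H
        (by
          intro r hr
          apply saturated_localization p.asIdeal _ S0 hsatA r
          intro k hk
          exact hr _ ⟨k, hk, rfl⟩)
      exact ⟨g, mem_nonZeroDivisors_of_ne_zero hg0, hJg⟩
    · rintro q' hq' ⟨_, ⟨k, hk, rfl⟩, hkq'⟩
      set Q : PrimeSpectrum Γ(X, W.1) :=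
        ⟨q'.comap (algebraMap Γ(X, W.1) (X.presheaf.stalk x)), inferInstance⟩ with hQ
      have hyW : W.2.fromSpec Q ∈ W.1 := fromSpec_mem W.2 Q
      have hprime : W.2.primeIdealOf ⟨W.2.fromSpec Q, hyW⟩ = Q := primeIdealOf_fromSpec W.2 Q
      obtain ⟨y, hy⟩ : ∃ y : X, y = W.2.fromSpec Q := ⟨_, rfl⟩
      rw [← hy] at hyW
      have hprime' : W.2.primeIdealOf ⟨y, hyW⟩ = Q := by subst hy; exact hprime
      have hqp : Q.asIdeal ≤ p.asIdeal := by
        intro a ha
        by_contra hap
        have hu : IsUnit (algebraMap Γ(X, W.1) (X.presheaf.stalk x) a) :=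
          IsLocalization.map_units (X.presheaf.stalk x) (⟨a, hap⟩ : p.asIdeal.primeCompl)
        exact hq'.ne_top (Ideal.eq_top_of_isUnit_mem _ ha hu)
      have hspec : y ⤳ x := specializes_of_le W.2 x y hxW hyW (by rw [hprime']; exact hqp)
      have hyk : y ∈ X.basicOpen k := by
        rw [mem_basicOpen_iff_notMem_primeIdealOf W.2 y hyW k, hprime']
        exact hkq'
      have hyU : y ∈ U := hS0sub hk hyk
      obtain ⟨d, hd, hJd⟩ := exists_generator_at U D hD W y hyW hyU
      letI algAT := TopCat.Presheaf.algebra_section_stalk X.presheaf (⟨y, hyW⟩ : W.1)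
      letI algRT : Algebra (X.presheaf.stalk x) (X.presheaf.stalk y) :=
        (X.presheaf.stalkSpecializes hspec).hom.toAlgebra
      haveI : IsScalarTower Γ(X, W.1) (X.presheaf.stalk x) (X.presheaf.stalk y) := by
        refine IsScalarTower.of_algebraMap_eq (fun a => ?_)
        have := TopCat.Presheaf.germ_stalkSpecializes X.presheaf hxW hspec
        exact (congrArg (fun φ => φ.hom a) this).symm
      haveI hlocy : IsLocalization.AtPrime (X.presheaf.stalk y)
          (W.2.primeIdealOf ⟨y, hyW⟩).asIdeal := W.2.isLocalization_stalk ⟨y, hyW⟩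
      have hlocT : IsLocalization.AtPrime (X.presheaf.stalk y) q' :=
        isLocalization_atPrime_of_tower p.asIdeal q' (W.2.primeIdealOf ⟨y, hyW⟩).asIdeal
          (by rw [hprime'])
      refine ⟨X.presheaf.stalk y, inferInstance, algRT, hlocT, d, nonZeroDivisors.ne_zero hd, ?_⟩
      rw [Ideal.map_map, ← IsScalarTower.algebraMap_eq]
      exact hJd

end Groth.Agent.Lib.helper21.UfdExt
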