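import Mathlib
import Groth.Prelude.Def_EtBase
import Groth.Prelude.Def_EtCore
import Groth.Prelude.Def_Hensel
import Groth.Agent.Lib.Helper21.TopCore
import Groth.Agent.Lib.Helper21.ConstUnit
import Groth.Agent.Lib.Helper21.NormalConst
import Groth.Agent.Lib.Helper1.EssEtStalk
import Groth.Agent.Lib.Helper9.GeomBranchCount1
import Groth.Agent.S0537
import Groth.Agent.S0539

/-!
# The constant sheaf on an irreducible geometrically unibranch scheme (helper21)

* `exists_nhds_const_of_generic`: `TopCore.exists_nhds_const` with the hypothesis "the local ring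
  at `v` is a domain" weakened to "the generizations of `v` have a least element".
* `irreducibleSpace_stalk_of_etale`: if all strict henselizations of the local rings of `X` have
  irreducible spectrum, then the local rings of every étale `X`-scheme have irreducible spectrum.
* `isIso_unit_fromSpecResidueField`: for `X` irreducible and geometrically unibranch the constant
  sheaf `M_X` is the direct image of the constant sheaf on the generic point.
-/

set_option autoImplicit false
set_option linter.style.haveILetI false

open CategoryTheory CategoryTheory.Limits Opposite AlgebraicGeometry Topology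

namespace Groth.Agent.Lib.helper21.UnibranchConst

universe u

/-- **Local constancy near a point whose generizations have a least element.** -/
theorem exists_nhds_const_of_generic {Y T : Scheme.{u}} (q : T ⟶ Y) [QuasiCompact q]
    (hq : IsEmbedding q.base) (hgen : StableUnderGeneralization (Set.range q.base))
    (v ξ : Y) (hξ : ∀ y : Y, y ⤳ v → ξ ⤳ y) {M : Type*} [Nonempty M] (φ : T → M)
    (hφ : IsLocallyConstant φ) :
    ∃ N : Y.Opens, v ∈ N ∧ ∃ a : M, ∀ z : T, q.base z ∈ N → φ z = a := by
  have hconst : ∀ z z' : T, q.base z ⤳ v → q.base z' ⤳ v → φ z = φ z' := by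
    intro z z' hz hz'
    have h1 : ξ ∈ Set.range q.base := hgen (hξ _ hz) ⟨z, rfl⟩
    obtain ⟨ξ', hξ'⟩ := h1
    have key : ∀ z₁ : T, q.base z₁ ⤳ v → φ z₁ = φ ξ' := by
      intro z₁ hz₁
      have h2 : ξ' ⤳ z₁ := by
        rw [← hq.toIsInducing.specializes_iff, hξ']
        exact hξ _ hz₁
      have h3 : ξ' ∈ φ ⁻¹' {φ z₁} := h2.mem_open (hφ _) rfl
      exact h3.symm
    rw [key z hz, key z' hz']
  obtain ⟨a, ha⟩ : ∃ a : M, ∀ z : T, q.base z ⤳ v → φ z = a := by
    by_cases h : ∃ z : T, q.base z ⤳ v
    · obtain ⟨z₀, hz₀⟩ := h
      exact ⟨φ z₀, fun z hz => hconst z z₀ hz hz₀⟩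
    · exact ⟨Classical.arbitrary M, fun z hz => (h ⟨z, hz⟩).elim⟩
  set Z : Set T := φ ⁻¹' {a}ᶜ with hZ
  have hZo : IsOpen Z := hφ _
  have hZc : IsClosed Z := by
    rw [hZ, Set.preimage_compl]
    exact (hφ {a}).isClosed_compl
  have hv : v ∉ closure (q.base '' Z) := by
    intro hv
    obtain ⟨z, hz, hzv⟩ := TopCore.exists_specializes_of_mem_closure_image q hZo hZc hv
    exact hz (ha z hzv)
  refine ⟨⟨(closure (q.base '' Z))ᶜ, isClosed_closure.isOpen_compl⟩, hv, a, ?_⟩
  intro z hz
  by_contra hne
  exact hz (subset_closure ⟨z, hne, rfl⟩)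

/-- if the spectrum of the local ring at `v` is irreducible, the generizations of `v` have a least
element -/
theorem exists_generic_of_irreducible_stalk (Y : Scheme.{u}) (v : Y)
    [IrreducibleSpace (PrimeSpectrum (Y.presheaf.stalk v))] :
    ∃ ξ : Y, ∀ y : Y, y ⤳ v → ξ ⤳ y := by
  let η₀ : PrimeSpectrum (Y.presheaf.stalk v) :=
    genericPoint (PrimeSpectrum (Y.presheaf.stalk v))
  refine ⟨(Y.fromSpecStalk v).base η₀, ?_⟩
  intro y hy
  have hy' : y ∈ Set.range (Y.fromSpecStalk v) := by
    rw [Scheme.range_fromSpecStalk]
    exact hy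
  obtain ⟨𝔭, rfl⟩ := hy'
  have h1 : η₀ ⤳ (𝔭 : PrimeSpectrum (Y.presheaf.stalk v)) :=
    genericPoint_specializes (α := PrimeSpectrum (Y.presheaf.stalk v)) 𝔭
  exact h1.map (Y.fromSpecStalk v).base.hom.continuous

/-- the hypothesis "geometrically unibranch" in terms of strict henselizations -/
def GU (X : Scheme.{u}) : Prop :=
  ∀ (x : X) (R : Type u) [CommRing R] [IsLocalRing R] [Algebra (X.presheaf.stalk x) R]
    [IsLocalHom (algebraMap (X.presheaf.stalk x) R)]
    [Hensel.IsStrictHenselization (X.presheaf.stalk x) R], IrreducibleSpace (PrimeSpectrum R)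

/-- local rings of étale schemes over a geometrically unibranch scheme have irreducible
spectrum -/
theorem irreducibleSpace_stalk_of_etale {V X : Scheme.{u}} (φ : V ⟶ X) [Etale φ] (hX : GU X)
    (v : V) : IrreducibleSpace (PrimeSpectrum (V.presheaf.stalk v)) := by
  letI := (φ.stalkMap v).hom.toAlgebra
  have hess := Groth.Agent.H1.EssEtStalk.isEssentiallyEtale_stalkMap φ v
  haveI : IsLocalHom (algebraMap (X.presheaf.stalk (φ v)) (V.presheaf.stalk v)) :=
    (inferInstance : IsLocalHom (φ.stalkMap v).hom)
  obtain ⟨R, _, _, _, _, hR⟩ := Groth.Agent.S0537.result (V.presheaf.stalk v)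
  obtain ⟨hloc, hR'⟩ := Groth.Agent.Lib.helper9.GeomBranchCount.isStrictHenselization_of_essEtale
    (X.presheaf.stalk (φ v)) (V.presheaf.stalk v) R hess
  letI : Algebra (X.presheaf.stalk (φ v)) R :=
    ((algebraMap (V.presheaf.stalk v) R).comp
      (algebraMap (X.presheaf.stalk (φ v)) (V.presheaf.stalk v))).toAlgebra
  haveI := hloc
  haveI := hR'
  have hirr : IrreducibleSpace (PrimeSpectrum R) := hX (φ v) R
  have hff := Groth.Agent.S0539.result (V.presheaf.stalk v) R
  have hsurj : Function.Surjective (PrimeSpectrum.comap (algebraMap (V.presheaf.stalk v) R)) :=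
    PrimeSpectrum.comap_surjective_of_faithfullyFlat
  rw [irreducibleSpace_def]
  have h1 := (IrreducibleSpace.isIrreducible_univ (PrimeSpectrum R)).image
    (PrimeSpectrum.comap (algebraMap (V.presheaf.stalk v) R))
    (PrimeSpectrum.continuous_comap (algebraMap (V.presheaf.stalk v) R)).continuousOn
  rw [Set.image_univ_of_surjective hsurj] at h1
  exact h1

/-- local constancy for a quasi-compact preimmersion with generization-stable range into a
geometrically unibranch scheme -/
theorem hloc_of_GU {X W : Scheme.{u}} (f : W ⟶ X) [QuasiCompact f] [IsPreimmersion f]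
    (hgen : StableUnderGeneralization (Set.range f.base)) (hX : GU X)
    {M : Type*} [Nonempty M] (V : X.Etale) (φ : ((EtCoh.bc f).obj V).left → M)
    (hφ : IsLocallyConstant φ) (v : V.left) :
    ∃ N : V.left.Opens, v ∈ N ∧ ∃ a : M, ∀ z : ((EtCoh.bc f).obj V).left,
      (pullback.fst V.hom f : ((EtCoh.bc f).obj V).left ⟶ V.left).base z ∈ N → φ z = a := by
  haveI : Etale V.hom := V.prop
  obtain ⟨ξ, hξ⟩ := @exists_generic_of_irreducible_stalk V.left v
    (irreducibleSpace_stalk_of_etale V.hom hX v)
  refine exists_nhds_const_of_generic (pullback.fst V.hom f) ?_ ?_ v ξ hξ φ hφ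
  · exact (pullback.fst V.hom f).isEmbedding
  · have : Set.range (pullback.fst V.hom f).base = V.hom.base ⁻¹' Set.range f.base :=
      Scheme.Pullback.range_fst V.hom f
    rw [this]
    exact hgen.preimage V.hom.continuous

section Generic

variable (X : Scheme.{u}) [IrreducibleSpace X]

lemma eq_genericPoint_of_specializes {y : X} (h : y ⤳ genericPoint X) : y = genericPoint X :=
  (h.antisymm (genericPoint_specializes y)).eq

lemma stableUnderGeneralization_singleton_genericPoint :
    StableUnderGeneralization ({genericPoint X} : Set X) := by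
  intro x y hyx hx
  rw [Set.mem_singleton_iff] at hx ⊢
  subst hx
  exact eq_genericPoint_of_specializes X hyx

lemma dense_singleton_genericPoint : Dense ({genericPoint X} : Set X) := by
  rw [dense_iff_closure_eq]
  exact (genericPoint_spec X).def

lemma range_fromSpecResidueField_genericPoint :
    Set.range (X.fromSpecResidueField (genericPoint X)).base = {genericPoint X} :=
  Scheme.range_fromSpecResidueField (genericPoint X)

lemma quasiCompact_fromSpecResidueField_genericPoint :
    QuasiCompact (X.fromSpecResidueField (genericPoint X)) :=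
  NormalConst.quasiCompact_of_subsingleton_range _
    (X.fromSpecResidueField (genericPoint X)).isEmbedding.injective
    (by rw [range_fromSpecResidueField_genericPoint]; exact Set.subsingleton_singleton)

/-- the constant sheaf on an irreducible geometrically unibranch scheme is the direct image of the
constant sheaf on the spectrum of the residue field of the generic point -/
theorem isIso_unit_fromSpecResidueField (hX : GU X) (M : Type) [AddCommGroup M] :
    IsIso ((EtCoh.pullPushAdj (X.fromSpecResidueField (genericPoint X))).unit.app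
      (EtCoh.const X M)) := by
  haveI := quasiCompact_fromSpecResidueField_genericPoint X
  refine ConstUnit.isIso_unit_const (X.fromSpecResidueField (genericPoint X)) M ?_
    (fun V φ hφ v => hloc_of_GU (X.fromSpecResidueField (genericPoint X)) ?_ hX V φ hφ v)
  · show Dense (Set.range (X.fromSpecResidueField (genericPoint X)).base)
    rw [range_fromSpecResidueField_genericPoint]
    exact dense_singleton_genericPoint X
  · rw [range_fromSpecResidueField_genericPoint]
    exact stableUnderGeneralization_singleton_genericPoint X

end Generic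

end Groth.Agent.Lib.helper21.UnibranchConst
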