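import Mathlib.RingTheory.WittVector.Truncated
import Mathlib.RingTheory.WittVector.Teichmuller
import Mathlib.RingTheory.WittVector.Verschiebung
import Mathlib.RingTheory.WittVector.Frobenius
import Mathlib.RingTheory.WittVector.Identities

/-!
# Multiplication of a Witt vector by a Teichmüller representative

`(x * [v])_n = x_n * v ^ (p ^ n)`, for any commutative ring.
-/

set_option autoImplicit false

namespace Groth.Agent.Lib.helper21

open WittVector

variable (p : ℕ) [hp : Fact p.Prime]

/-- The Witt vector with coordinates `x_n * v ^ (p ^ n)`. -/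
def scaleTeich {R : Type*} [CommRing R] (x : WittVector p R) (v : R) : WittVector p R :=
  WittVector.mk p (fun n => x.coeff n * v ^ p ^ n)

theorem scaleTeich_coeff {R : Type*} [CommRing R] (x : WittVector p R) (v : R) (n : ℕ) :
    (scaleTeich p x v).coeff n = x.coeff n * v ^ p ^ n := rfl

theorem ghostComponent_scaleTeich {R : Type*} [CommRing R] (x : WittVector p R) (v : R) (n : ℕ) :
    ghostComponent n (scaleTeich p x v) = ghostComponent n x * v ^ p ^ n := by
  rw [ghostComponent_apply, ghostComponent_apply, aeval_wittPolynomial, aeval_wittPolynomial,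
    Finset.sum_mul]
  refine Finset.sum_congr rfl fun i hi => ?_
  have hi' : i ≤ n := Nat.lt_succ_iff.mp (Finset.mem_range.mp hi)
  rw [scaleTeich_coeff, mul_pow, ← pow_mul, ← pow_add, Nat.add_sub_of_le hi', mul_assoc]

theorem map_scaleTeich {R S : Type*} [CommRing R] [CommRing S] (f : R →+* S)
    (x : WittVector p R) (v : R) :
    WittVector.map f (scaleTeich p x v) = scaleTeich p (WittVector.map f x) (f v) := by
  ext n
  simp [scaleTeich_coeff, map_coeff]

theorem scaleTeich_eq_aux₁ {σ : Type*} (x : WittVector p (MvPolynomial σ ℚ))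
    (v : MvPolynomial σ ℚ) : scaleTeich p x v = x * teichmuller p v := by
  apply (ghostMap.bijective_of_invertible p (MvPolynomial σ ℚ)).1
  rw [map_mul]
  ext1 n
  simp only [Pi.mul_apply, ghostMap_apply, ghostComponent_scaleTeich, ghostComponent_teichmuller]

theorem scaleTeich_eq_aux₂ {σ : Type*} (x : WittVector p (MvPolynomial σ ℤ))
    (v : MvPolynomial σ ℤ) : scaleTeich p x v = x * teichmuller p v := by
  refine map_injective (MvPolynomial.map (Int.castRingHom ℚ))
    (MvPolynomial.map_injective _ Int.cast_injective) ?_
  simp only [map_scaleTeich, scaleTeich_eq_aux₁, map_mul, map_teichmuller]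

theorem scaleTeich_eq {R : Type*} [CommRing R] (x : WittVector p R) (v : R) :
    scaleTeich p x v = x * teichmuller p v := by
  obtain ⟨x, rfl⟩ := map_surjective (MvPolynomial.counit R) (MvPolynomial.counit_surjective R) x
  obtain ⟨v, rfl⟩ := MvPolynomial.counit_surjective R v
  rw [← map_scaleTeich, scaleTeich_eq_aux₂, map_mul, map_teichmuller]

/-- The coefficients of the product with a Teichmüller representative. -/
theorem coeff_mul_teichmuller {R : Type*} [CommRing R] (x : WittVector p R) (v : R) (n : ℕ) :
    (x * teichmuller p v).coeff n = x.coeff n * v ^ p ^ n := by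
  rw [← scaleTeich_eq, scaleTeich_coeff]

theorem coeff_teichmuller_mul {R : Type*} [CommRing R] (x : WittVector p R) (v : R) (n : ℕ) :
    (teichmuller p v * x).coeff n = v ^ p ^ n * x.coeff n := by
  rw [mul_comm, coeff_mul_teichmuller, mul_comm]

/-- Truncated version. -/
theorem coeff_truncate_mul_teichmuller {R : Type*} [CommRing R] (m : ℕ)
    (a : TruncatedWittVector p m R) (v : R) (j : Fin m) :
    TruncatedWittVector.coeff j (a * WittVector.truncate m (teichmuller p v)) =
      TruncatedWittVector.coeff j a * v ^ p ^ (j : ℕ) := by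
  obtain ⟨x, rfl⟩ := WittVector.truncate_surjective (p := p) m R a
  rw [← map_mul, WittVector.coeff_truncate, WittVector.coeff_truncate, coeff_mul_teichmuller]

theorem coeff_truncate_teichmuller_mul {R : Type*} [CommRing R] (m : ℕ)
    (a : TruncatedWittVector p m R) (v : R) (j : Fin m) :
    TruncatedWittVector.coeff j (WittVector.truncate m (teichmuller p v) * a) =
      v ^ p ^ (j : ℕ) * TruncatedWittVector.coeff j a := by
  rw [mul_comm, coeff_truncate_mul_teichmuller, mul_comm]

end Groth.Agent.Lib.helper21
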