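import Groth.Prelude.Def_W4c6katofiltaWFil
import Groth.Agent.Lib.Helper21.WittTeich
import Mathlib

/-!
# Filtered pieces of truncated Witt vectors over a localisation of a UFD

Helper lemmas for the `WittFil` statements.
-/

set_option autoImplicit false

namespace Groth.Agent.Lib.helper21

open WittVector

section UFD

variable {A B : Type*} [CommRing A] [IsDomain A] [UniqueFactorizationMonoid A]
  [CommRing B] [Algebra A B] {r : ℕ} (x : Fin r → A)
  (hx : ∀ i, Prime (x i)) (hxa : ∀ i j, Associated (x i) (x j) → i = j)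
  [IsLocalization.Away (∏ i, x i) B] (u : Fin r → Bˣ)
  (hu : ∀ i, (u i : B) = algebraMap A B (x i))

include hx in
theorem prod_ne_zero : (∏ i, x i) ≠ 0 :=
  Finset.prod_ne_zero_iff.mpr fun i _ => (hx i).ne_zero

include hx in
theorem algebraMap_injective_away : Function.Injective (algebraMap A B) := by
  refine IsLocalization.injective B (M := Submonoid.powers (∏ i, x i)) ?_
  exact powers_le_nonZeroDivisors_of_noZeroDivisors (prod_ne_zero x hx)

include hx hxa in
theorem isRelPrime_of_ne {i j : Fin r} (h : i ≠ j) : IsRelPrime (x i) (x j) := by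
  refine (hx i).irreducible.isRelPrime_iff_not_dvd.mpr fun hd => h ?_
  exact hxa i j (((hx i).dvd_prime_iff_associated (hx j)).mp hd)

include hx hxa in
/-- If every `x k` divides `a` then so does their product. -/
theorem prod_dvd_of_forall_dvd (a : A) (h : ∀ k, x k ∣ a) : (∏ i, x i) ∣ a := by
  refine Fintype.prod_dvd_of_isRelPrime ?_ h
  intro i j hij
  exact isRelPrime_of_ne x hx hxa hij

include hx hxa in
/-- Key divisibility step. -/
theorem dvd_of_pow_mul_prod_eq (a a' : A) (q N : ℕ) (s : Fin r → ℕ) (hs : ∀ k, s k < q)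
    (h : a ^ q * ∏ k, x k ^ s k = a' * (∏ i, x i) ^ ((N + 1) * q)) (k : Fin r) : x k ∣ a := by
  classical
  have hq : 0 < q := lt_of_le_of_lt (Nat.zero_le _) (hs k)
  -- `x k ^ (s k + 1)` divides the right hand side
  have h1 : x k ^ (s k + 1) ∣ a ^ q * ∏ i, x i ^ s i := by
    rw [h]
    refine Dvd.dvd.mul_left ?_ _
    have h2 : x k ^ (s k + 1) ∣ x k ^ ((N + 1) * q) := by
      apply pow_dvd_pow
      have := hs k
      nlinarith
    exact h2.trans (pow_dvd_pow_of_dvd (Finset.dvd_prod_of_mem _ (Finset.mem_univ k)) _)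
  rw [← Finset.mul_prod_erase Finset.univ (fun i => x i ^ s i) (Finset.mem_univ k), pow_succ] at h1
  have h3 : x k ^ s k * x k ∣ x k ^ s k * (a ^ q * ∏ i ∈ Finset.univ.erase k, x i ^ s i) := by
    convert h1 using 1
    ring
  have h4 : x k ∣ a ^ q * ∏ i ∈ Finset.univ.erase k, x i ^ s i :=
    (mul_dvd_mul_iff_left (pow_ne_zero _ (hx k).ne_zero)).mp h3
  rcases (hx k).dvd_or_dvd h4 with h5 | h5
  · exact (hx k).dvd_of_dvd_pow h5
  · exfalso
    obtain ⟨i, hi, hki⟩ := (hx k).exists_mem_finset_dvd h5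
    have hik : i ≠ k := (Finset.mem_erase.mp hi).1
    have := (hx k).dvd_of_dvd_pow hki
    exact hik (hxa k i (((hx k).dvd_prime_iff_associated (hx i)).mp this)).symm

include hx hxa hu in
/-- Lemma K: if `z ^ q * ∏ u_k ^ s_k` lies in `A` with all `s_k < q` then `z` lies in `A`. -/
theorem mem_range_of_pow_mul_prod_mem (z : B) (q : ℕ) (s : Fin r → ℕ) (hs : ∀ k, s k < q)
    (h : z ^ q * ∏ k, (u k : B) ^ s k ∈ (algebraMap A B).range) :
    z ∈ (algebraMap A B).range := by
  obtain ⟨a', ha'⟩ := h
  obtain ⟨⟨a, ⟨_, N, rfl⟩⟩, hz⟩ := IsLocalization.surj (Submonoid.powers (∏ i, x i)) z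
  simp only at hz
  induction N generalizing a with
  | zero =>
    refine ⟨a, ?_⟩
    rw [← hz]; simp
  | succ N ih =>
    have hinj := algebraMap_injective_away (B := B) x hx
    -- the identity in `A`
    have hA : a ^ q * ∏ k, x k ^ s k = a' * (∏ i, x i) ^ ((N + 1) * q) := by
      apply hinj
      rw [map_mul, map_mul, map_pow, map_prod, map_pow, ha', ← hz]
      simp only [map_pow, ← hu]
      ring
    have hdvd : (∏ i, x i) ∣ a :=
      prod_dvd_of_forall_dvd x hx hxa a (dvd_of_pow_mul_prod_eq x hx hxa a a' q N s hs hA)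
    obtain ⟨a₁, rfl⟩ := hdvd
    apply ih a₁
    have hunit : IsUnit (algebraMap A B (∏ i, x i)) :=
      IsLocalization.map_units B (⟨_, Submonoid.mem_powers _⟩ : Submonoid.powers (∏ i, x i))
    apply hunit.mul_right_cancel
    rw [map_mul, mul_comm (algebraMap A B (∏ i, x i))] at hz
    rw [← hz, map_pow, map_pow, pow_succ]
    ring

include hx hxa hu in
/-- Lemma I: `A` is "root closed" in `B`. -/
theorem mem_range_of_pow_mem (z : B) (q : ℕ) (hq : 0 < q)
    (h : z ^ q ∈ (algebraMap A B).range) : z ∈ (algebraMap A B).range := by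
  apply mem_range_of_pow_mul_prod_mem x hx hxa u hu z q (fun _ => 0) (fun _ => hq)
  simpa using h

end UFD

section zmon

variable {B : Type*} [CommRing B] {r : ℕ} (u : Fin r → Bˣ)

theorem zmon_add (n n' : Fin r → ℤ) :
    WittFil.zmon u (n + n') = WittFil.zmon u n * WittFil.zmon u n' := by
  unfold WittFil.zmon
  rw [← Units.val_mul, ← Finset.prod_mul_distrib]
  congr 2
  ext i
  simp [zpow_add]

theorem zmon_eq_pow_mul (p : ℕ) (hp : 0 < p) (n : Fin r → ℤ) :
    WittFil.zmon u n = (WittFil.zmon u (fun i => n i / (p : ℤ))) ^ p *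
      ∏ k, (u k : B) ^ (n k % (p : ℤ)).toNat := by
  unfold WittFil.zmon
  have e : (∏ k, (u k : B) ^ (n k % (p : ℤ)).toNat) =
      ((∏ k, (u k) ^ (n k % (p : ℤ)).toNat : Bˣ) : B) := by
    push_cast; rfl
  rw [e, ← Units.val_pow_eq_pow_val, ← Units.val_mul, ← Finset.prod_pow,
    ← Finset.prod_mul_distrib]
  congr 2
  ext i
  have hnn : 0 ≤ n i % (p : ℤ) := Int.emod_nonneg _ (by exact_mod_cast hp.ne')
  have e2 : (u i) ^ (n i % (p : ℤ)).toNat = (u i) ^ (n i % (p : ℤ)) := by
    rw [← zpow_natCast, Int.toNat_of_nonneg hnn]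
  rw [e2, ← zpow_natCast (u i ^ (n i / (p : ℤ))), ← zpow_mul, ← zpow_add,
    Int.ediv_mul_add_emod]

end zmon

section WittRange

variable (p : ℕ) [hp : Fact p.Prime] (A B : Type*) [CommRing A] [CommRing B] [Algebra A B]

/-- The subring of truncated Witt vectors over `B` whose coordinates come from `A`. -/
noncomputable def rangeW (m : ℕ) : Subring (TruncatedWittVector p m B) :=
  ((WittVector.truncate m).comp (WittVector.map (algebraMap A B))).range

theorem mem_rangeW_iff (m : ℕ) (y : TruncatedWittVector p m B) :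
    y ∈ rangeW p A B m ↔ ∀ j : Fin m, TruncatedWittVector.coeff j y ∈ (algebraMap A B).range := by
  constructor
  · rintro ⟨w, rfl⟩ j
    exact ⟨w.coeff j, by simp [WittVector.coeff_truncate, WittVector.map_coeff]⟩
  · intro h
    choose f hf using h
    refine ⟨WittVector.mk p (fun i => if h : i < m then f ⟨i, h⟩ else 0), ?_⟩
    ext j
    simp [WittVector.coeff_truncate, WittVector.map_coeff, hf]

end WittRange

section Main

variable (p : ℕ) [hp : Fact p.Prime] {A B : Type*} [CommRing A] [IsDomain A]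
  [UniqueFactorizationMonoid A] [CharP A p]
  [CommRing B] [Algebra A B] {r : ℕ} (x : Fin r → A)
  (hx : ∀ i, Prime (x i)) (hxa : ∀ i j, Associated (x i) (x j) → i = j)
  [IsLocalization.Away (∏ i, x i) B] (u : Fin r → Bˣ)
  (hu : ∀ i, (u i : B) = algebraMap A B (x i))

include hx in
theorem charP_away : CharP B p :=
  charP_of_injective_algebraMap (algebraMap_injective_away (B := B) x hx) p

include hx hxa hu in
/-- Lemma M: membership in the filtered piece in terms of Frobenius and Teichmüller. -/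
theorem mem_fil_iff (c : B) (m : ℕ) (w : WittVector p B) :
    WittVector.truncate m w ∈ WittFil.fil p m (A := A) c ↔
      WittVector.truncate m (WittVector.frobenius^[m - 1] w * teichmuller p c) ∈
        rangeW p A B m := by
  haveI : CharP B p := charP_away p x hx
  rw [mem_rangeW_iff]
  unfold WittFil.fil
  simp only [Set.mem_setOf_eq]
  refine forall_congr' fun j => ?_
  rw [WittVector.coeff_truncate, WittVector.coeff_truncate, coeff_mul_teichmuller,
    WittVector.iterate_frobenius_coeff]
  have hexp : p ^ (m - 1 - (j : ℕ)) * p ^ (j : ℕ) = p ^ (m - 1) := by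
    rw [← pow_add]
    congr 1
    have := j.2
    omega
  have e : (w.coeff j ^ p ^ (m - 1 - (j : ℕ)) * c) ^ p ^ (j : ℕ) =
      w.coeff j ^ p ^ (m - 1) * c ^ p ^ (j : ℕ) := by
    rw [mul_pow, ← pow_mul, hexp]
  constructor
  · intro h
    rw [← e]
    exact Subring.pow_mem _ h _
  · intro h
    rw [← e] at h
    exact mem_range_of_pow_mem x hx hxa u hu _ _ (pow_pos hp.out.pos _) h

end Main

end Groth.Agent.Lib.helper21
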