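import Mathlib
import Groth.Agent.Lib.Helper11.TwistH1
import Groth.Agent.Lib.Helper7.QCohExt
import Groth.Agent.Lib.Helper27.SerreVan
import Groth.Agent.Lib.Helper27.CechLeray

/-!
# Connectedness of the non-isomorphism locus of a monomorphism `K ⟶ O_X` with `H¹(X, K) = 0`
(helper21)

`isPreconnected_compl_isoLocus`: if `φ : K ⟶ O_X` is a monomorphism, `H¹(X, K) = 0` and every
global function on `X` is a unit or nilpotent, then the closed set where `φ` is not an isomorphism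
is preconnected.  (Enriques–Severi–Zariski; applied to `K = L^{-n}` for an ample `L`.)
-/

set_option autoImplicit false
universe u
open CategoryTheory CategoryTheory.Limits AlgebraicGeometry TopologicalSpace Opposite
open Scheme.Modules
open Groth.Agent.Lib.helper11.IsoLocus Groth.Agent.Lib.helper11.TwistH1
open Groth.Agent.Lib.helper2.ModSec Groth.Agent.Lib.helper7

namespace Groth.Agent.Lib.helper21.ZeroConn

variable {X : Scheme.{u}}

/-- global sections of a short exact sequence are surjective when `H^1` of the kernel vanishes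
(as in helper11 `Thick4`, with lighter imports) -/
theorem sections_surjective_of_subsingleton_HH (S : ShortComplex X.Modules)
    (hS : S.ShortExact) (h1 : Subsingleton (Coh.HH X S.X₁ 1)) :
    Function.Surjective (S.g.val.app (op ⊤)).hom := by
  have hS' := Groth.Agent.Lib.helper7.QCohExt.toSheaf_shortExact_general X.ringCatSheaf S hS
  have hvan : Subsingleton (CohTop.HU (Coh.toAb S.X₁) 1 ⊤) :=
    (Groth.Agent.Lib.helper27.SerreVan.HEquivHU (Coh.toAb S.X₁) 1).toEquiv.subsingleton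
  have := Groth.Agent.Lib.helper27.CechLeray.surjective_of_ext_one
    (Opens.grothendieckTopology X) _ hS' ⊤ hvan
  exact this

/-- if the function `φ(a)` is invertible at `x` then `φ : K ⟶ O` (a monomorphism) is an isomorphism
near `x` -/
theorem mem_isoLocus_of_mem_basicOpen {K : X.Modules} (φ : K ⟶ Coh.structureModule X) [hφ : Mono φ]
    {V : X.Opens} (a : Γ(K, V)) {x : X}
    (hx : x ∈ X.basicOpen (show Γ(X, V) from (φ.app V).hom a)) : x ∈ isoLocus φ := by
  set g : Γ(X, V) := (φ.app V).hom a with hg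
  suffices h : X.basicOpen g ≤ isoLocus φ from h hx
  rw [le_isoLocus_iff, isIso_restrict_iff_app]
  intro D hD
  rw [ConcreteCategory.isIso_iff_bijective]
  refine ⟨(mono_iff_injective_app φ).mp hφ D, fun b => ?_⟩
  have hDV : D ≤ V := hD.trans (X.basicOpen_le g)
  have hu0 : IsUnit (X.presheaf.map (homOfLE hD).op
      (X.presheaf.map (homOfLE (X.basicOpen_le g)).op g)) :=
    (RingedSpace.isUnit_res_basicOpen X.toRingedSpace g).map _
  have hres : X.presheaf.map (homOfLE hD).op (X.presheaf.map (homOfLE (X.basicOpen_le g)).op g) =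
      X.presheaf.map (homOfLE hDV).op g := by
    rw [← ConcreteCategory.comp_apply, ← Functor.map_comp]
    rfl
  rw [hres] at hu0
  obtain ⟨u, hu⟩ := hu0
  have h1 : (φ.app D).hom (K.presheaf.map (homOfLE hDV).op a) =
      (X.presheaf.map (homOfLE hDV).op g : Γ(Coh.structureModule X, D)) :=
    (map_app_apply φ (homOfLE hDV) a).symm
  refine ⟨((show Γ(X, D) from b) * (↑u⁻¹ : Γ(X, D))) • K.presheaf.map (homOfLE hDV).op a, ?_⟩
  have h2 := Hom.app_smul φ ((show Γ(X, D) from b) * (↑u⁻¹ : Γ(X, D)))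
    (K.presheaf.map (homOfLE hDV).op a)
  refine h2.trans ?_
  have h3 : (φ.app D) (K.presheaf.map (homOfLE hDV).op a) =
      (X.presheaf.map (homOfLE hDV).op g : Γ(Coh.structureModule X, D)) := h1
  rw [h3, ← hu]
  change (show Γ(X, D) from b) * (↑u⁻¹ : Γ(X, D)) * (↑u : Γ(X, D)) = (show Γ(X, D) from b)
  rw [mul_assoc, Units.inv_mul, mul_one]

/-- restriction of a restriction -/
theorem res_res (M : X.Modules) {U V W : X.Opens} (h₁ : V ≤ U) (h₂ : W ≤ V) (m : Γ(M, U)) :
    M.presheaf.map (homOfLE h₂).op (M.presheaf.map (homOfLE h₁).op m) =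
      M.presheaf.map (homOfLE (h₂.trans h₁)).op m := by
  rw [← ConcreteCategory.comp_apply, ← Functor.map_comp]
  rfl

/-- the key construction: a global function which is `≡ 1` modulo the image of `φ` on `U₁` and
`≡ 0` on `U₂` -/
theorem exists_function_of_cover {K : X.Modules} (φ : K ⟶ Coh.structureModule X) [hφ : Mono φ]
    (h1 : Subsingleton (Coh.HH X K 1)) (U₁ U₂ : X.Opens) (hcov : ⊤ ≤ U₁ ⊔ U₂)
    (hint : U₁ ⊓ U₂ ≤ isoLocus φ) :
    ∃ (f : Γ(X, ⊤)) (a₁ : Γ(K, U₁)) (a₂ : Γ(K, U₂)),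
      (show Γ(X, U₁) from (φ.app U₁).hom a₁) = X.presheaf.map (homOfLE le_top).op f - 1 ∧
      (show Γ(X, U₂) from (φ.app U₂).hom a₂) = X.presheaf.map (homOfLE le_top).op f := by
  let C := cokernel φ
  let π : Coh.structureModule X ⟶ C := cokernel.π φ
  let S : ShortComplex X.Modules := ShortComplex.mk φ π (cokernel.condition φ)
  have hS : S.ShortExact :=
    { exact := ShortComplex.exact_of_g_is_cokernel _ (cokernelIsCokernel φ)
      mono_f := hφ
      epi_g := inferInstanceAs (Epi (cokernel.π φ)) }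
  let one₁ : Γ(Coh.structureModule X, U₁) := (1 : Γ(X, U₁))
  let t₁ : Γ(C, U₁) := (π.app U₁).hom one₁
  obtain ⟨e, he₁, he₂⟩ := Groth.Agent.Lib.helper2.ModSec.glue₂ C t₁ (0 : Γ(C, U₂)) (by
    rw [eq_zero_of_le_isoLocus φ hint (C.presheaf.map _ t₁),
      eq_zero_of_le_isoLocus φ hint (C.presheaf.map _ (0 : Γ(C, U₂)))])
  let e' : Γ(C, ⊤) := C.presheaf.map (homOfLE hcov).op e
  have he'₁ : C.presheaf.map (homOfLE (le_top : U₁ ≤ ⊤)).op e' = t₁ := by
    rw [res_res C hcov le_top e]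
    exact he₁
  have he'₂ : C.presheaf.map (homOfLE (le_top : U₂ ≤ ⊤)).op e' = 0 := by
    rw [res_res C hcov le_top e]
    exact he₂
  obtain ⟨f, hf⟩ := sections_surjective_of_subsingleton_HH S hS h1 e'
  have hf' : (π.app ⊤).hom f = e' := hf
  have hπ₁ : (π.app U₁).hom
      ((Coh.structureModule X).presheaf.map (homOfLE (le_top : U₁ ≤ ⊤)).op f - one₁) = 0 := by
    rw [map_sub, ← map_app_apply π (homOfLE (le_top : U₁ ≤ ⊤)) f]
    have : (π.app ⊤) f = e' := hf'
    rw [this, he'₁]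
    exact sub_self _
  have hπ₂ : (π.app U₂).hom
      ((Coh.structureModule X).presheaf.map (homOfLE (le_top : U₂ ≤ ⊤)).op f) = 0 := by
    have h := map_app_apply π (homOfLE (le_top : U₂ ≤ ⊤)) f
    have : (π.app ⊤) f = e' := hf'
    rw [this, he'₂] at h
    exact h.symm
  obtain ⟨a₁, ha₁⟩ := exists_preimage_of_cokernel_π_eq_zero φ U₁ _ hπ₁
  obtain ⟨a₂, ha₂⟩ := exists_preimage_of_cokernel_π_eq_zero φ U₂ _ hπ₂
  exact ⟨f, a₁, a₂, ha₁, ha₂⟩

/-- **connectedness of the non-isomorphism locus**: `φ : K ⟶ O_X` a monomorphism with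
`H¹(X, K) = 0`, on a scheme all of whose global functions are units or nilpotent. -/
theorem isPreconnected_compl_isoLocus {K : X.Modules} (φ : K ⟶ Coh.structureModule X) [hφ : Mono φ]
    (h1 : Subsingleton (Coh.HH X K 1))
    (hUN : ∀ f : Γ(X, ⊤), IsUnit f ∨ IsNilpotent f) :
    IsPreconnected ((isoLocus φ : Set X)ᶜ) := by
  rw [isPreconnected_closed_iff]
  rintro t t' ht ht' hsub ⟨x₁, hx₁Z, hx₁t⟩ ⟨x₂, hx₂Z, hx₂t'⟩
  by_contra hne
  have hZcl : IsClosed ((isoLocus φ : Set X)ᶜ) := (isoLocus φ).isOpen.isClosed_compl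
  let U₁ : X.Opens := ⟨((isoLocus φ : Set X)ᶜ ∩ t')ᶜ, (hZcl.inter ht').isOpen_compl⟩
  let U₂ : X.Opens := ⟨((isoLocus φ : Set X)ᶜ ∩ t)ᶜ, (hZcl.inter ht).isOpen_compl⟩
  have hcov : ⊤ ≤ U₁ ⊔ U₂ := by
    intro y _
    by_contra hy
    have hy₁ : y ∈ (isoLocus φ : Set X)ᶜ ∩ t' := by
      by_contra h
      exact hy (Or.inl h)
    have hy₂ : y ∈ (isoLocus φ : Set X)ᶜ ∩ t := by
      by_contra h
      exact hy (Or.inr h)
    exact hne ⟨y, hy₁.1, hy₂.2, hy₁.2⟩
  have hint : U₁ ⊓ U₂ ≤ isoLocus φ := by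
    rintro y ⟨hy₁, hy₂⟩
    by_contra hy
    rcases hsub hy with h | h
    · exact hy₂ ⟨hy, h⟩
    · exact hy₁ ⟨hy, h⟩
  have hx₁U : x₁ ∈ U₁ := fun h => hne ⟨x₁, hx₁Z, hx₁t, h.2⟩
  have hx₂U : x₂ ∈ U₂ := fun h => hne ⟨x₂, hx₂Z, h.2, hx₂t'⟩
  obtain ⟨f, a₁, a₂, ha₁, ha₂⟩ := exists_function_of_cover φ h1 U₁ U₂ hcov hint
  rcases hUN f with hf | hf
  · have hu : IsUnit (X.presheaf.map (homOfLE (le_top : U₂ ≤ ⊤)).op f) := hf.map _
    have hb := X.basicOpen_of_isUnit hu
    refine hx₂Z (mem_isoLocus_of_mem_basicOpen φ a₂ ?_)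
    rw [ha₂, hb]
    exact hx₂U
  · have hn : IsNilpotent (X.presheaf.map (homOfLE (le_top : U₁ ≤ ⊤)).op f) := hf.map _
    have hb := X.basicOpen_of_isUnit hn.isUnit_sub_one
    refine hx₁Z (mem_isoLocus_of_mem_basicOpen φ a₁ ?_)
    rw [ha₁, hb]
    exact hx₁U

end Groth.Agent.Lib.helper21.ZeroConn
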